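import Cfsg.Agent.Char.Brauer

/-!
# Peterfalvi, Section 1 (remaining results), small norm virtual characters, (4.1)
-/

set_option autoImplicit false

open scoped ComplexConjugate
open Cfsg

namespace CA.Chr

variable {G : Type*} [Group G] [Finite G]

/-! ### small norms -/

theorem ZIrr.zdot_sq_le {θ x : G → ℂ} (hθ : θ ∈ ZIrr G) (hx : Dirr x) :
    ((zdot θ x : ℝ)) ^ 2 ≤ nrm θ := by
  have := bessel_le {x} (fun y => y) (by simpa using hx.dot_self) (by simp) θ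
  rwa [Finset.sum_singleton, ← ZIrr.coe_zdot hθ hx.mem_ZIrr, Complex.norm_intCast, sq_abs] at this

theorem nrm_sub_proj {θ x : G → ℂ} (hx : ⟪x, x⟫ = 1) :
    nrm (θ - ⟪θ, x⟫ • x) = nrm θ - ‖⟪θ, x⟫‖ ^ 2 := by
  have := bessel {x} (fun y => y) (by simpa using hx) (by simp) θ
  simp only [Finset.sum_singleton] at this
  linarith

theorem nrm_sub_of_dot_one {θ x : G → ℂ} (hx : ⟪x, x⟫ = 1) (h : ⟪θ, x⟫ = 1) :
    nrm (θ - x) = nrm θ - 1 := by
  have := nrm_sub_proj (θ := θ) hx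
  simpa [h] using this

theorem ZIrr.dot_cases_of_nrm_lt_four {θ x : G → ℂ} (hθ : θ ∈ ZIrr G) (hn : nrm θ < 4)
    (hx : Dirr x) : ⟪θ, x⟫ = -1 ∨ ⟪θ, x⟫ = 0 ∨ ⟪θ, x⟫ = 1 := by
  have h1 := (ZIrr.zdot_sq_le hθ hx).trans_lt hn
  have h2 : (zdot θ x) ^ 2 < 4 := by exact_mod_cast h1
  rw [← ZIrr.coe_zdot hθ hx.mem_ZIrr]
  have h3 : zdot θ x < 2 := by nlinarith
  have h4 : -2 < zdot θ x := by nlinarith
  have : zdot θ x = -1 ∨ zdot θ x = 0 ∨ zdot θ x = 1 := by omega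
  rcases this with h | h | h <;> simp [h]

theorem ZIrr.exists_point {θ : G → ℂ} (hθ : θ ∈ ZIrr G) (h0 : θ ≠ 0) (hn : nrm θ < 4) :
    ∃ x, Dirr x ∧ ⟪θ, x⟫ = 1 := by
  obtain ⟨x, hx, h⟩ := CF_exists_constt (ZIrr.mem_CF hθ) h0
  rcases ZIrr.dot_cases_of_nrm_lt_four hθ hn (IsIrr.dirr hx) with e | e | e
  · exact ⟨-x, (IsIrr.dirr hx).neg, by rw [dot_neg_right, e, neg_neg]⟩
  · exact absurd e h
  · exact ⟨x, IsIrr.dirr hx, e⟩

theorem ZIrr.exists_of_nrm_two {θ : G → ℂ} (hθ : θ ∈ ZIrr G) (hn : nrm θ = 2) :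
    ∃ x y, Dirr x ∧ Dirr y ∧ ⟪x, y⟫ = 0 ∧ θ = x + y := by
  obtain ⟨x, hx, h⟩ := ZIrr.exists_point hθ (by rintro rfl; simp at hn) (by rw [hn]; norm_num)
  refine ⟨x, θ - x, hx, ZIrr.dirr_of_nrm_one (sub_mem hθ hx.mem_ZIrr) ?_, ?_, by abel⟩
  · rw [nrm_sub_of_dot_one hx.dot_self h, hn]; norm_num
  · apply dot_comm_zero
    rw [dot_sub_left, h, hx.dot_self, sub_self]

/-- two distinct points of the same virtual character are orthogonal -/
theorem Dirr.dot_eq_zero_of_points {θ x y : G → ℂ} (hx : Dirr x) (hy : Dirr y) (h : ⟪θ, x⟫ = 1)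
    (h' : ⟪θ, y⟫ = 1) (hne : x ≠ y) : ⟪x, y⟫ = 0 := by
  apply hx.dot_eq_zero hy hne
  rintro rfl
  rw [dot_neg_right, h'] at h
  norm_num at h

theorem Dirr.deg_int {G : Type*} [Group G] {x : G → ℂ} (hx : Dirr x) :
    ∃ n : ℤ, n ≠ 0 ∧ x 1 = n := by
  obtain ⟨n, hn⟩ := ZIrr.deg_int hx.mem_ZIrr
  exact ⟨n, by rintro rfl; exact hx.deg_ne_zero (by simpa using hn), hn⟩

theorem Dirr.exists_sign_of_deg_eq {G : Type*} [Group G] {x : G → ℂ} (hx : Dirr x) :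
    ∃ ε : ℤ, (ε = 1 ∨ ε = -1) ∧ ∀ y : G → ℂ, Dirr y → y 1 = x 1 →
      IsIrrCharacter G ((ε : ℂ) • y) := by
  obtain ⟨n, hn0, hn⟩ := hx.deg_int
  rcases lt_or_gt_of_ne hn0 with h | h
  · refine ⟨-1, Or.inr rfl, fun y hy e => ?_⟩
    have : Dirr (((-1 : ℤ) : ℂ) • y) := by simpa using hy.neg
    apply this.irr_of_deg_pos
    simpa [e, hn] using h
  · refine ⟨1, Or.inl rfl, fun y hy e => ?_⟩
    have : Dirr (((1 : ℤ) : ℂ) • y) := by simpa using hy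
    apply this.irr_of_deg_pos
    simpa [e, hn] using h

theorem ZIrr.exists_of_nrm_two_deg_zero {θ : G → ℂ} (hθ : θ ∈ ZIrr G) (hn : nrm θ = 2)
    (h1 : θ 1 = 0) : ∃ x y, IsIrrCharacter G x ∧ IsIrrCharacter G y ∧ x ≠ y ∧ θ = x - y := by
  obtain ⟨x, y, hx, hy, hxy, rfl⟩ := ZIrr.exists_of_nrm_two hθ hn
  have hd : (-y) 1 = x 1 := by
    rw [Pi.add_apply] at h1
    rw [Pi.neg_apply]; linear_combination -h1
  have hne : x ≠ -y := by
    rintro rfl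
    rw [dot_neg_left, hy.dot_self] at hxy
    norm_num at hxy
  obtain ⟨ε, hε, h⟩ := hx.exists_sign_of_deg_eq
  rcases hε with rfl | rfl
  · exact ⟨x, -y, by simpa using h x hx rfl, by simpa using h _ hy.neg hd, hne, by abel⟩
  · exact ⟨y, -x, by simpa using h _ hy.neg hd, by simpa using h x hx rfl,
      fun e => hne (by rw [e, neg_neg]), by abel⟩

/-- a virtual character of norm `4` and degree `0` has no multiple constituent -/
theorem ZIrr.dot_cases_of_nrm_le_four {θ x : G → ℂ} (hθ : θ ∈ ZIrr G) (hn : nrm θ ≤ 4)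
    (h1 : θ 1 = 0) (hx : Dirr x) : ⟪θ, x⟫ = -1 ∨ ⟪θ, x⟫ = 0 ∨ ⟪θ, x⟫ = 1 := by
  have h2 : (zdot θ x) ^ 2 ≤ 4 := by exact_mod_cast (ZIrr.zdot_sq_le hθ hx).trans hn
  have h3 : (zdot θ x) ^ 2 ≠ 4 := by
    intro e
    have h4 := nrm_sub_proj (θ := θ) hx.dot_self
    rw [← ZIrr.coe_zdot hθ hx.mem_ZIrr, Complex.norm_intCast, sq_abs] at h4
    have h5 : ((zdot θ x : ℝ)) ^ 2 = 4 := by exact_mod_cast e
    have h6 := nrm_nonneg (θ - (zdot θ x : ℂ) • x)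
    have h7 : nrm (θ - (zdot θ x : ℂ) • x) = 0 := by linarith
    rw [nrm_eq_zero, sub_eq_zero] at h7
    have h8 := congrFun h7 1
    rw [h1, Pi.smul_apply, smul_eq_mul, eq_comm, mul_eq_zero] at h8
    rcases h8 with h8 | h8
    · rw [Int.cast_eq_zero] at h8
      rw [h8] at e; norm_num at e
    · exact hx.deg_ne_zero h8
  rw [← ZIrr.coe_zdot hθ hx.mem_ZIrr]
  have h3 : zdot θ x < 2 := by
    by_contra h; push Not at h; apply h3; nlinarith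
  have h4 : -2 < zdot θ x := by
    by_contra h; push Not at h; rename_i h3' ; apply h3'; nlinarith
  have : zdot θ x = -1 ∨ zdot θ x = 0 ∨ zdot θ x = 1 := by omega
  rcases this with h | h | h <;> simp [h]

/-- the combinatorial core of Peterfalvi (1.4) -/
theorem exists_common_point_of_nrm_two {ι : Type*} (d : ι → G → ℂ) (hd : ∀ i, d i ∈ ZIrr G)
    (h1 : ∀ i, d i 1 = 0) (h2 : ∀ i, ⟪d i, d i⟫ = 2) (h3 : ∀ i j, i ≠ j → ⟪d i, d j⟫ = 1) :
    ∃ ν, Dirr ν ∧ ∀ i, ⟪d i, ν⟫ = 1 := by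
  have hn : ∀ i, nrm (d i) = 2 := fun i => nrm_eq_of_dot (by rw [h2]; norm_num)
  have hc : ∀ i x, Dirr x → ⟪d i, x⟫ = -1 ∨ ⟪d i, x⟫ = 0 ∨ ⟪d i, x⟫ = 1 := fun i x hx =>
    ZIrr.dot_cases_of_nrm_lt_four (hd i) (by rw [hn]; norm_num) hx
  rcases isEmpty_or_nonempty ι with h | ⟨⟨i⟩⟩
  · exact ⟨1, IsIrr.dirr one_irr, fun i => h.elim i⟩
  obtain ⟨x, y, hx, hy, hxy, e⟩ := ZIrr.exists_of_nrm_two (hd i) (hn i)
  have hyx := dot_comm_zero hxy
  have hix : ⟪d i, x⟫ = 1 := by rw [e, dot_add_left, hx.dot_self, hyx, add_zero]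
  have hiy : ⟪d i, y⟫ = 1 := by rw [e, dot_add_left, hy.dot_self, hxy, zero_add]
  have hsum : ∀ j, j ≠ i → ⟪d j, x⟫ + ⟪d j, y⟫ = 1 := fun j hj => by
    rw [← dot_add_right, ← e, h3 j i hj]
  by_contra hne
  push Not at hne
  obtain ⟨j, hj⟩ := hne x hx
  obtain ⟨k, hk⟩ := hne y hy
  have hji : j ≠ i := by rintro rfl; exact hj hix
  have hki : k ≠ i := by rintro rfl; exact hk hiy
  have hj1 : ⟪d j, x⟫ = 0 ∧ ⟪d j, y⟫ = 1 := by
    have := hsum j hji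
    rcases hc j x hx with a | a | a <;> rcases hc j y hy with b | b | b <;>
      first | exact absurd a hj | exact ⟨a, b⟩ | (rw [a, b] at this; norm_num at this)
  have hk1 : ⟪d k, x⟫ = 1 ∧ ⟪d k, y⟫ = 0 := by
    have := hsum k hki
    rcases hc k x hx with a | a | a <;> rcases hc k y hy with b | b | b <;>
      first | exact absurd b hk | exact ⟨a, b⟩ | (rw [a, b] at this; norm_num at this)
  have hjk : j ≠ k := by
    rintro rfl
    rw [hj1.1] at hk1; exact zero_ne_one hk1.1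
  have hu : Dirr (d j - y) := ZIrr.dirr_of_nrm_one (sub_mem (hd j) hy.mem_ZIrr)
    (by rw [nrm_sub_of_dot_one hy.dot_self hj1.2, hn]; norm_num)
  have hv : Dirr (d k - x) := ZIrr.dirr_of_nrm_one (sub_mem (hd k) hx.mem_ZIrr)
    (by rw [nrm_sub_of_dot_one hx.dot_self hk1.1, hn]; norm_num)
  have huv : d j - y = d k - x := hu.eq_of_dot_eq_one hv (by
    rw [dot_sub_left, dot_sub_right, dot_sub_right, h3 j k hjk, hj1.1, dot_comm_zero hk1.2, hyx]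
    ring)
  have e1 := congrFun huv 1
  have e2 := h1 i
  rw [e, Pi.add_apply] at e2
  simp only [Pi.sub_apply, h1] at e1
  exact hx.deg_ne_zero (by linear_combination (1 / 2 : ℂ) * e1 + (1 / 2 : ℂ) * e2)

/-- Peterfalvi (1.4) -/
theorem vchar_isometry_base {ι : Type*} (i0 : ι) (d : ι → G → ℂ) (hd : ∀ i, d i ∈ ZIrr G)
    (h0 : d i0 = 0) (h1 : ∀ i, d i 1 = 0) (h2 : ∀ i, i ≠ i0 → ⟪d i, d i⟫ = 2)
    (h3 : ∀ i j, i ≠ i0 → j ≠ i0 → i ≠ j → ⟪d i, d j⟫ = 1) :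
    ∃ (ε : ℤ) (μ : ι → G → ℂ), (ε = 1 ∨ ε = -1) ∧ (∀ i, IsIrrCharacter G (μ i)) ∧
      Function.Injective μ ∧ ∀ i, d i = (ε : ℂ) • (μ i - μ i0) := by
  obtain ⟨ν, hν, h⟩ := exists_common_point_of_nrm_two (fun i : {i // i ≠ i0} => d i)
    (fun i => hd i) (fun i => h1 i) (fun i => h2 i i.2)
    (fun i j e => h3 i j i.2 j.2 (fun e' => e (Subtype.ext e')))
  have h' : ∀ i, i ≠ i0 → ⟪d i, ν⟫ = 1 := fun i hi => h ⟨i, hi⟩
  have h'' : ∀ i, i ≠ i0 → ⟪ν, d i⟫ = 1 := fun i hi => by rw [← conj_dot, h' i hi, map_one]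
  have hdirr : ∀ i, Dirr (d i - ν) := by
    intro i
    by_cases e : i = i0
    · simpa [e, h0] using hν.neg
    · apply ZIrr.dirr_of_dot_self (sub_mem (hd i) hν.mem_ZIrr)
      rw [dot_sub_left, dot_sub_right, dot_sub_right, h2 i e, h' i e, h'' i e, hν.dot_self]; ring
  obtain ⟨ε, hε, hs⟩ := hν.neg.exists_sign_of_deg_eq
  have hε2 : (ε : ℂ) * ε = 1 := by rcases hε with rfl | rfl <;> simp
  refine ⟨ε, fun i => (ε : ℂ) • (d i - ν), hε, fun i => hs _ (hdirr i) (by simp [h1]), ?_, ?_⟩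
  · intro i j e
    have e' : d i = d j := by
      have := smul_right_injective _ (left_ne_zero_of_mul_eq_one hε2) e
      exact sub_left_injective this
    by_contra hij
    by_cases hi : i = i0
    · have := h2 j (fun e => hij (hi.trans e.symm))
      rw [← e', hi, h0] at this
      simp at this
    by_cases hj : j = i0
    · have := h2 i hi
      rw [e', hj, h0] at this
      simp at this
    have := h3 i j hi hj hij
    rw [← e', h2 i hi] at this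
    norm_num at this
  · intro i
    simp only [← smul_sub, smul_smul, hε2, one_smul, h0]
    abel

/-- Peterfalvi (4.1) -/
theorem orthonormal_vchar_diff_ortho {α β γ δ : G → ℂ} (hα : Dirr α) (hβ : Dirr β) (hγ : Dirr γ)
    (hδ : Dirr δ) {u v : ℝ} (hu : u ≠ 0) (hv : v ≠ 0) (hab : ⟪α, β⟫ = 0) (hcd : ⟪γ, δ⟫ = 0)
    (hmix : ⟪α - β, (u : ℂ) • γ - (v : ℂ) • δ⟫ = 0) (h1 : α 1 = β 1)
    (h2 : (u : ℂ) * γ 1 = (v : ℂ) * δ 1) :
    ⟪α, γ⟫ = 0 ∧ ⟪α, δ⟫ = 0 ∧ ⟪β, γ⟫ = 0 ∧ ⟪β, δ⟫ = 0 := by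
  have hu' : (u : ℂ) ≠ 0 := Complex.ofReal_ne_zero.mpr hu
  have hv' : (v : ℂ) ≠ 0 := Complex.ofReal_ne_zero.mpr hv
  have key : ∀ {α β γ δ : G → ℂ} {u v : ℂ}, Dirr α → Dirr β → Dirr γ → Dirr δ → u ≠ 0 →
      ⟪α, β⟫ = 0 → ⟪γ, δ⟫ = 0 → u * ⟪α, γ⟫ - v * ⟪α, δ⟫ - u * ⟪β, γ⟫ + v * ⟪β, δ⟫ = 0 →
      α 1 = β 1 → u * γ 1 = v * δ 1 → ⟪α, γ⟫ = 0 := by
    intro α β γ δ u v hα hβ hγ hδ hu hab hcd hmix h1 h2
    have hba := dot_comm_zero hab
    have h0 := hα.deg_ne_zero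
    rcases hα.dot_cases hγ with ⟨e, h⟩ | ⟨e, h⟩ | ⟨-, -, h⟩
    · exfalso
      subst e
      rw [h, hcd, hba] at hmix
      rcases hβ.dot_cases hδ with ⟨e', h'⟩ | ⟨e', h'⟩ | ⟨-, -, h'⟩
      · subst e'
        rw [h'] at hmix
        apply mul_ne_zero hu h0
        linear_combination (1 / 2 : ℂ) * h2 + (1 / 2 : ℂ) * α 1 * hmix - (1 / 2 : ℂ) * v * h1
      · rw [h'] at hmix
        have e2 : β 1 = -δ 1 := by rw [e']; rfl
        apply mul_ne_zero hu h0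
        linear_combination (1 / 2 : ℂ) * h2 + (1 / 2 : ℂ) * α 1 * hmix + (1 / 2 : ℂ) * v * h1 +
          (1 / 2 : ℂ) * v * e2
      · rw [h'] at hmix
        exact hu (by linear_combination hmix)
    · exfalso
      subst e
      have e3 : ⟪β, γ⟫ = 0 := by simpa [dot_neg_right] using hba
      rw [h, dot_neg_left, hcd, e3] at hmix
      rw [Pi.neg_apply] at h0 h1
      rcases hβ.dot_cases hδ with ⟨e', h'⟩ | ⟨e', h'⟩ | ⟨-, -, h'⟩
      · subst e'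
        rw [h'] at hmix
        apply mul_ne_zero hu h0
        linear_combination (-1 / 2 : ℂ) * h2 + (1 / 2 : ℂ) * γ 1 * hmix + (1 / 2 : ℂ) * v * h1
      · rw [h'] at hmix
        have e2 : β 1 = -δ 1 := by rw [e']; rfl
        apply mul_ne_zero hu h0
        linear_combination (-1 / 2 : ℂ) * h2 + (1 / 2 : ℂ) * γ 1 * hmix - (1 / 2 : ℂ) * v * h1 -
          (1 / 2 : ℂ) * v * e2
      · rw [h'] at hmix
        exact hu (by linear_combination -hmix)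
    · exact h
  simp only [dot_sub_left, dot_sub_right, dot_smul_right, Complex.conj_ofReal] at hmix
  refine ⟨key hα hβ hγ hδ hu' hab hcd (by linear_combination hmix) h1 h2,
    key hα hβ hδ hγ hv' hab (dot_comm_zero hcd) (by linear_combination -hmix) h1 h2.symm,
    key hβ hα hγ hδ hu' (dot_comm_zero hab) hcd (by linear_combination -hmix) h1.symm h2,
    key hβ hα hδ hγ hv' (dot_comm_zero hab) (dot_comm_zero hcd) (by linear_combination hmix)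
      h1.symm h2.symm⟩

theorem dirr_diff_ortho {α β γ δ : G → ℂ} (hα : Dirr α) (hβ : Dirr β) (hγ : Dirr γ)
    (hδ : Dirr δ) (hab : ⟪α, β⟫ = 0) (hcd : ⟪γ, δ⟫ = 0)
    (hmix : ⟪α - β, γ - δ⟫ = 0) (h1 : α 1 = β 1) (h2 : γ 1 = δ 1) :
    ⟪α, γ⟫ = 0 ∧ ⟪α, δ⟫ = 0 ∧ ⟪β, γ⟫ = 0 ∧ ⟪β, δ⟫ = 0 :=
  orthonormal_vchar_diff_ortho hα hβ hγ hδ one_ne_zero one_ne_zero hab hcd (by simpa using hmix)
    h1 (by simpa using h2)

/-! ### (1.7) -/

section
variable {H T : Type*} [Group H] [Finite H] [Group T] [Finite T]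
  (i : H →* T) (j : T →* G) [NormalInj i] [NormalInj (j.comp i)]

/-- Peterfalvi (1.7)(b) -/
theorem ind_central_inertia (hj : Function.Injective j) {θ : H → ℂ} (hθ : IsIrrCharacter H θ)
    (hI : inertia (j.comp i) θ = j.range) (hab : commutator T ≤ i.range) :
    ∃ (e : ℕ) (C : Finset (T → ℂ)), 0 < e ∧
      (∀ ψ ∈ C, IsIrrCharacter T ψ ∧ ψ ∘ i = (e : ℂ) • θ ∧ IsIrrCharacter G (ind j ψ)) ∧
      Set.InjOn (ind j) (C : Set (T → ℂ)) ∧ e ^ 2 * C.card = i.range.index ∧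
      ind i θ = (e : ℂ) • ∑ ψ ∈ C, ψ := by
  have hI' : inertia i θ = ⊤ := by
    rw [inertia_comp i j, hI, MonoidHom.comap_range_self]
  obtain ⟨e, C, he, hC, h1, h2⟩ := exists_ind_abelian_invariant i hab hθ hI'
  have hne : ∀ ψ ∈ C, ⟪ψ ∘ i, θ⟫ ≠ 0 := fun ψ hψ => by
    rw [(hC ψ hψ).2, dot_smul_left, IsIrr.dot_self hθ, mul_one]
    exact Nat.cast_ne_zero.mpr he.ne'
  exact ⟨e, C, he, fun ψ hψ => ⟨(hC ψ hψ).1, (hC ψ hψ).2,
    clifford_corr_irr i j hj hθ hI.le (hC ψ hψ).1 (hne ψ hψ)⟩,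
    fun a ha b hb e => clifford_corr_inj i j hj hθ hI.le (hC a ha).1 (hC b hb).1 (hne a ha)
      (hne b hb) e, h1, h2⟩

/-- Peterfalvi (1.7)(c) -/
theorem ind_Hall_central_inertia (hj : Function.Injective j) {θ : H → ℂ} (hθ : IsIrrCharacter H θ)
    (hI : inertia (j.comp i) θ = j.range) (hab : commutator T ≤ i.range)
    (hc : (Nat.card H).Coprime i.range.index) :
    ∃ (C : Finset (T → ℂ)),
      (∀ ψ ∈ C, IsIrrCharacter T ψ ∧ ψ ∘ i = θ ∧ IsIrrCharacter G (ind j ψ)) ∧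
      Set.InjOn (ind j) (C : Set (T → ℂ)) ∧ C.card = i.range.index ∧ ind i θ = ∑ ψ ∈ C, ψ := by
  have hI' : inertia i θ = ⊤ := by
    rw [inertia_comp i j, hI, MonoidHom.comap_range_self]
  obtain ⟨e, C, he, hC, h1, h2, h3⟩ := ind_central_inertia i j hj hθ hI hab
  obtain ⟨χ, hχ, hχr⟩ := exists_extend_coprime i ⟨1, by rwa [derivedSeries_one]⟩ hθ hI' hc
  have he1 : e = 1 := by
    have h4 : ⟪ind i θ, χ⟫ = 1 := by rw [frob_rec _ _ (IsIrr.mem_CF hχ), hχr, IsIrr.dot_self hθ]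
    rw [h3, dot_smul_left, dot_sum_left,
      Finset.sum_congr rfl (fun ψ hψ => IsIrr.dot_eq (hC ψ hψ).1 hχ), Finset.sum_ite_eq'] at h4
    split_ifs at h4
    · exact_mod_cast (mul_one (e : ℂ)).symm.trans h4
    · simp at h4
  subst he1
  exact ⟨C, by simpa using hC, h1, by simpa using h2, by simpa using h3⟩

end

/-! ### (1.10) -/

theorem one_sub_dvd_of_pow_eq_one {p : ℕ} (hp : p ≠ 0) {ε z : ℂ} (hε : IsPrimitiveRoot ε p)
    (hz : z ^ p = 1) : ∃ ω : ℂ, IsIntegral ℤ ω ∧ z - 1 = (1 - ε) * ω := by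
  haveI : NeZero p := ⟨hp⟩
  obtain ⟨k, -, rfl⟩ := hε.eq_pow_of_pow_eq_one hz
  refine ⟨-∑ i ∈ Finset.range k, ε ^ i, ?_, ?_⟩
  · exact (IsIntegral.sum _ fun i _ => (hε.isIntegral (Nat.pos_of_ne_zero hp)).pow i).neg
  · rw [← geom_sum_mul]; ring

/-- Peterfalvi (1.10)(a) -/
theorem ZIrr.congr_mod_prim {χ : G → ℂ} (hχ : χ ∈ ZIrr G) {p : ℕ} (hp : p ≠ 0) {ε : ℂ}
    (hε : IsPrimitiveRoot ε p) {x y : G} (hx : x ^ p = 1) (hxy : x * y = y * x) :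
    ∃ ω : ℂ, IsIntegral ℤ ω ∧ χ (x * y) - χ y = (1 - ε) * ω := by
  have key : ∀ ψ : G → ℂ, IsCharacter G ψ →
      ∃ ω : ℂ, IsIntegral ℤ ω ∧ ψ (x * y) - ψ y = (1 - ε) * ω := by
    intro ψ hψ
    let A := Subgroup.closure ({x, y} : Set G)
    haveI : IsMulCommutative A := Subgroup.isMulCommutative_closure (by
      rintro a (rfl | rfl) b (rfl | rfl)
      exacts [rfl, hxy, hxy.symm, rfl])
    obtain ⟨s, -, hs⟩ := IsChar.exists_multiset_lin hψ A.subtype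
    let x' : A := ⟨x, Subgroup.subset_closure (by simp)⟩
    let y' : A := ⟨y, Subgroup.subset_closure (by simp)⟩
    have hx' : x' ^ p = 1 := Subtype.ext hx
    have e1 : ψ (x * y) = _ := hs (x' * y')
    have e2 : ψ y = _ := hs y'
    rw [e1, e2, ← Multiset.sum_map_sub]
    clear e1 e2 hs
    induction s using Multiset.induction_on with
    | empty => exact ⟨0, isIntegral_zero, by simp⟩
    | cons l s ih =>
      obtain ⟨ω, hω, e⟩ := ih
      obtain ⟨ω', hω', e'⟩ := one_sub_dvd_of_pow_eq_one hp hε (z := (l x' : ℂ))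
        (by rw [← Units.val_pow_eq_pow_val, ← map_pow, hx', map_one, Units.val_one])
      refine ⟨ω' * l y' + ω, (hω'.mul (IsChar.isIntegral (IsIrr.isChar (lin_irr l)) y')).add hω, ?_⟩
      rw [Multiset.map_cons, Multiset.sum_cons, e, map_mul, Units.val_mul]
      linear_combination (l y' : ℂ) * e'
  obtain ⟨a, b, ha, hb, rfl⟩ := hχ
  obtain ⟨ω, hω, e⟩ := key a ha
  obtain ⟨ω', hω', e'⟩ := key b hb
  exact ⟨ω - ω', hω.sub hω', by simp only [Pi.sub_apply]; linear_combination e - e'⟩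

/-- Peterfalvi (1.10)(b) -/
theorem prime_dvd_of_one_sub_dvd {p : ℕ} (hp : p.Prime) {ε : ℂ} (hε : IsPrimitiveRoot ε p)
    {n : ℤ} {ω : ℂ} (hω : IsIntegral ℤ ω) (h : (n : ℂ) = (1 - ε) * ω) : (p : ℤ) ∣ n := by
  obtain ⟨m, rfl⟩ : ∃ m, p = m + 1 := ⟨p - 1, by have := hp.pos; omega⟩
  have h1 := hε.prod_one_sub_pow_eq_order
  have h2 : ∀ k ∈ Finset.range m, ∃ ω' : ℂ, IsIntegral ℤ ω' ∧ (n : ℂ) = (1 - ε ^ (k + 1)) * ω' := by
    intro k hk
    have hk' := Finset.mem_range.mp hk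
    have h3 : IsPrimitiveRoot (ε ^ (k + 1)) (m + 1) :=
      hε.pow_of_coprime _ (Nat.coprime_of_lt_prime (by omega) (by omega) hp).symm
    obtain ⟨ω', hω', e⟩ := one_sub_dvd_of_pow_eq_one hp.ne_zero h3 hε.pow_eq_one
    exact ⟨-ω' * ω, hω'.neg.mul hω, by rw [h]; linear_combination -ω * e⟩
  choose! w hw using h2
  have h4 : (n : ℂ) ^ m = (m + 1) * ∏ k ∈ Finset.range m, w k := by
    rw [← h1, ← Finset.prod_mul_distrib, ← Finset.prod_congr rfl (fun k hk => (hw k hk).2)]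
    simp
  have h5 : IsIntegral ℤ (((n ^ m : ℤ) : ℂ) / ((m + 1 : ℕ) : ℤ)) := by
    have : ((m : ℂ) + 1) ≠ 0 := by exact_mod_cast Nat.succ_ne_zero m
    push_cast
    rw [h4, mul_div_cancel_left₀ _ this]
    exact IsIntegral.prod _ fun k hk => (hw k hk).1
  exact Int.Prime.dvd_pow' hp (int_dvd_of_isIntegral_div (by exact_mod_cast hp.ne_zero) h5)

end CA.Chr
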