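import Cfsg.Agent.PF.S05b
import Cfsg.Agent.BG.Defs
import Cfsg.Agent.FG.Nil

/-!
# Ambient versions (everything is a subgroup of one group `G`) of the sets of induced characters
-/

set_option autoImplicit false
set_option linter.unusedSectionVars false

open scoped ComplexConjugate

open Cfsg CA.FG CA.BG

namespace CA.Chr

variable {G : Type*} [Group G] [Finite G] {K M H N : Subgroup G}

/-- induction `'Ind[M, K]` between two subgroups -/
noncomputable abbrev indA (h : K ≤ M) : (K → ℂ) →ₗ[ℂ] (M → ℂ) := ind (Subgroup.inclusion h)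

/-- `seqIndD K M H N`: the characters of `M` induced from the irreducible characters of `K` having `N`
but not `H` in their kernel -/
noncomputable abbrev SD (h : K ≤ M) (H N : Subgroup G) : Finset (M → ℂ) :=
  seqIndD (Subgroup.inclusion h) (H.subgroupOf M) (N.subgroupOf M)

/-- `seqIndT K M` -/
noncomputable abbrev ST (h : K ≤ M) : Finset (M → ℂ) := seqInd (Subgroup.inclusion h) fun _ => True

theorem nInj (h : K ⊲ M) : NormalInj (Subgroup.inclusion h.1) := normalInj_inclusion h.1 h.2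

theorem normalSub (h : M ≤ 𝒩(K)) : (K.subgroupOf M).Normal :=
  Subgroup.normal_subgroupOf_of_le_normalizer h

theorem range_incl (h : K ≤ M) : (Subgroup.inclusion h).range = K.subgroupOf M :=
  Subgroup.inclusion_range h

theorem mem_range_incl (h : K ≤ M) {x : M} : x ∈ (Subgroup.inclusion h).range ↔ (x : G) ∈ K := by
  rw [range_incl, Subgroup.mem_subgroupOf]

theorem index_range_incl (h : K ≤ M) : (Subgroup.inclusion h).range.index = K.relIndex M := by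
  rw [range_incl]; rfl

theorem comap_incl (h : K ≤ M) (H : Subgroup G) :
    (H.subgroupOf M).comap (Subgroup.inclusion h) = H.subgroupOf K := rfl

theorem subOf_le_range (h : K ≤ M) (hH : H ≤ K) :
    H.subgroupOf M ≤ (Subgroup.inclusion h).range := by
  rw [range_incl]; exact Subgroup.subgroupOf_mono M hH

theorem indA_one (h : K ≤ M) (θ : K → ℂ) : indA h θ 1 = K.relIndex M * θ 1 := by
  rw [ind_one (Subgroup.inclusion_injective h), index_range_incl]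

theorem deg_indA (h : K ≤ M) {θ : K → ℂ} (hθ : IsCharacter K θ) :
    deg (indA h θ) = K.relIndex M * deg θ := by
  rw [deg_ind (Subgroup.inclusion_injective h) hθ, index_range_incl]

theorem indA_indA (h₁ : H ≤ K) (h₂ : K ≤ M) (θ : H → ℂ) :
    indA h₂ (indA h₁ θ) = indA (h₁.trans h₂) θ := ind_comp _ _ θ

theorem ind_indA (h : K ≤ M) (θ : K → ℂ) : ind M.subtype (indA h θ) = ind K.subtype θ :=
  ind_comp _ _ θ

theorem indA_eq_zero (h : K ⊲ M) (θ : K → ℂ) {x : M} (hx : (x : G) ∉ K) : indA h.1 θ x = 0 :=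
  have := nInj h
  ind_eq_zero_of_not_mem _ θ (mt (mem_range_incl h.1).mp hx)

theorem mem_SD {h : K ≤ M} {φ : M → ℂ} : φ ∈ SD h H N ↔ ∃ θ : K → ℂ, IsIrrCharacter K θ ∧
    ¬ H.subgroupOf K ≤ cfker θ ∧ N.subgroupOf K ≤ cfker θ ∧ φ = indA h θ := by
  simp only [SD, seqIndD, seqInd, Finset.mem_image, Finset.mem_filter, mem_irr, and_assoc, eq_comm]
  rfl

theorem mem_ST {h : K ≤ M} {φ : M → ℂ} :
    φ ∈ ST h ↔ ∃ θ : K → ℂ, IsIrrCharacter K θ ∧ φ = indA h θ := by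
  simp only [ST, seqInd, Finset.mem_image, Finset.mem_filter, mem_irr, and_true, eq_comm]

theorem SD_sub_ST (h : K ≤ M) (H N : Subgroup G) : SD h H N ⊆ ST h := fun _ hφ => by
  obtain ⟨θ, h1, -, -, h2⟩ := mem_SD.mp hφ
  exact mem_ST.mpr ⟨θ, h1, h2⟩

theorem not_le_cfker_iff_ne_one {θ : K → ℂ} (hθ : IsIrrCharacter K θ) :
    ¬ K.subgroupOf K ≤ cfker θ ↔ θ ≠ 1 := by
  rw [Subgroup.subgroupOf_self, top_le_iff]
  exact ⟨fun h e => h (by rw [e, cfker_one]), IsIrr.cfker_ne_top hθ⟩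

theorem mem_SD_self {h : K ≤ M} {φ : M → ℂ} : φ ∈ SD h K N ↔ ∃ θ : K → ℂ, IsIrrCharacter K θ ∧
    θ ≠ 1 ∧ N.subgroupOf K ≤ cfker θ ∧ φ = indA h θ := by
  rw [mem_SD]
  exact exists_congr fun θ => and_congr_right fun hθ => by rw [not_le_cfker_iff_ne_one hθ]

theorem mem_SD_self_bot {h : K ≤ M} {φ : M → ℂ} :
    φ ∈ SD h K ⊥ ↔ ∃ θ : K → ℂ, IsIrrCharacter K θ ∧ θ ≠ 1 ∧ φ = indA h θ := by
  simp [mem_SD_self]

theorem SD_mono {h : K ≤ M} {H' N' : Subgroup G} (hH : H ≤ H') (hN : N' ≤ N) :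
    SD h H N ⊆ SD h H' N' := fun _ hφ => by
  obtain ⟨θ, h1, h2, h3, h4⟩ := mem_SD.mp hφ
  exact mem_SD.mpr ⟨θ, h1, fun a => h2 ((Subgroup.subgroupOf_mono K hH).trans a),
    (Subgroup.subgroupOf_mono K hN).trans h3, h4⟩

theorem SD_sub_bot {h : K ≤ M} : SD h H N ⊆ SD h H ⊥ := SD_mono le_rfl bot_le

section
variable (nK : K ⊲ M) {φ ψ : M → ℂ}

theorem ST_char (h : φ ∈ ST nK.1) : IsCharacter M φ := have := nInj nK; seqInd_char h
theorem ST_zirr (h : φ ∈ ST nK.1) : φ ∈ ZIrr M := have := nInj nK; seqInd_zirr h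
theorem ST_CF (h : φ ∈ ST nK.1) : φ ∈ CF M := have := nInj nK; seqInd_CF h
theorem ST_ne_zero (h : φ ∈ ST nK.1) : φ ≠ 0 := have := nInj nK; seqInd_ne_zero h
theorem ST_deg_ne_zero (h : φ ∈ ST nK.1) : φ 1 ≠ 0 := have := nInj nK; seqInd_deg_ne_zero h
theorem ST_deg_pos (h : φ ∈ ST nK.1) : 0 < deg φ := have := nInj nK; seqInd_deg_pos h
theorem ST_orth (h : φ ∈ ST nK.1) (h' : ψ ∈ ST nK.1) (hne : φ ≠ ψ) : ⟪φ, ψ⟫ = 0 :=
  have := nInj nK; seqInd_orth h h' hne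
theorem ST_eq_zero (h : φ ∈ ST nK.1) {x : M} (hx : (x : G) ∉ K) : φ x = 0 :=
  have := nInj nK; seqInd_eq_zero h (mt (mem_range_incl nK.1).mp hx)
theorem ST_conj (h : φ ∈ ST nK.1) : conjFun φ ∈ ST nK.1 :=
  have := nInj nK; seqInd_conj (fun _ _ _ => trivial) h

theorem SD_char (h : φ ∈ SD nK.1 H N) : IsCharacter M φ := have := nInj nK; seqInd_char h
theorem SD_zirr (h : φ ∈ SD nK.1 H N) : φ ∈ ZIrr M := have := nInj nK; seqInd_zirr h
theorem SD_CF (h : φ ∈ SD nK.1 H N) : φ ∈ CF M := have := nInj nK; seqInd_CF h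
theorem SD_ne_zero (h : φ ∈ SD nK.1 H N) : φ ≠ 0 := have := nInj nK; seqInd_ne_zero h
theorem SD_deg_ne_zero (h : φ ∈ SD nK.1 H N) : φ 1 ≠ 0 := have := nInj nK; seqInd_deg_ne_zero h
theorem SD_deg_pos (h : φ ∈ SD nK.1 H N) : 0 < deg φ := have := nInj nK; seqInd_deg_pos h
theorem SD_coe_deg (h : φ ∈ SD nK.1 H N) : (deg φ : ℂ) = φ 1 := IsChar.coe_deg (SD_char nK h)
theorem SD_orth {H' N' : Subgroup G} (h : φ ∈ SD nK.1 H N) (h' : ψ ∈ SD nK.1 H' N') (hne : φ ≠ ψ) :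
    ⟪φ, ψ⟫ = 0 := have := nInj nK; seqInd_orth h h' hne
theorem SD_eq_zero (h : φ ∈ SD nK.1 H N) {x : M} (hx : (x : G) ∉ K) : φ x = 0 :=
  have := nInj nK; seqInd_eq_zero h (mt (mem_range_incl nK.1).mp hx)
theorem SD_index_dvd (h : φ ∈ SD nK.1 H N) : K.relIndex M ∣ deg φ := by
  have := nInj nK
  rw [← index_range_incl nK.1]; exact seqInd_index_dvd h
theorem SD_conj : ∀ φ ∈ SD nK.1 H N, conjFun φ ∈ SD nK.1 H N := have := nInj nK; seqIndD_conj
theorem SD_map (σ : ℂ →+* ℂ) : ∀ φ ∈ SD nK.1 H N, σ ∘ φ ∈ SD nK.1 H N :=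
  have := nInj nK; seqIndD_map σ
theorem SD_conj_ne (hodd : Odd (Nat.card M)) : ∀ φ ∈ SD nK.1 H N, conjFun φ ≠ φ :=
  have := nInj nK; seqIndD_conj_ne hodd
theorem SD_dot_one (h : φ ∈ SD nK.1 H N) : ⟪φ, 1⟫ = 0 :=
  have := nInj nK; seqInd_dot_one (not_seqIndD_one _ _) h
theorem SD_dot_ind_one (h : φ ∈ SD nK.1 H N) : ⟪φ, indA nK.1 1⟫ = 0 :=
  have := nInj nK; seqInd_dot_ind_one (not_seqIndD_one _ _) h

theorem mem_SD_ind (nH : M ≤ 𝒩(H)) (nN : M ≤ 𝒩(N)) {θ : K → ℂ} (hθ : IsIrrCharacter K θ) :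
    indA nK.1 θ ∈ SD nK.1 H N ↔ ¬ H.subgroupOf K ≤ cfker θ ∧ N.subgroupOf K ≤ cfker θ :=
  have := nInj nK; have := normalSub nH; have := normalSub nN
  mem_seqIndD_ind hθ

theorem le_cfker_indA_iff (nH : M ≤ 𝒩(H)) (hH : H ≤ K) {θ : K → ℂ} (hθ : IsIrrCharacter K θ) :
    H.subgroupOf M ≤ cfker (indA nK.1 θ) ↔ H.subgroupOf K ≤ cfker θ :=
  have := nInj nK; have := normalSub nH
  le_cfker_ind_iff _ (subOf_le_range nK.1 hH) hθ

theorem mem_SD_iff_cfker (nH : M ≤ 𝒩(H)) (nN : M ≤ 𝒩(N)) (hH : H ≤ K) (hN : N ≤ K)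
    (h : φ ∈ ST nK.1) : φ ∈ SD nK.1 H N ↔ ¬ H.subgroupOf M ≤ cfker φ ∧ N.subgroupOf M ≤ cfker φ :=
  have := nInj nK; have := normalSub nH; have := normalSub nN
  mem_seqIndD_iff_cfker (subOf_le_range nK.1 hH) (subOf_le_range nK.1 hN) h

/-- the support of a member of `SD K M H N` -/
theorem SD_supp (nH : M ≤ 𝒩(H)) (hH : H ≤ K) (h : φ ∈ SD nK.1 H N) {x : M} (hx : φ x ≠ 0) :
    (x : G) ∈ K ∧ ∃ y ∈ H, y ≠ 1 ∧ y * x = x * y := by
  have := nInj nK; have := normalSub nH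
  obtain ⟨h1, y, h2, h3, h4⟩ := seqIndD_supp (subOf_le_range nK.1 hH) h hx
  exact ⟨(mem_range_incl _).mp h1, y, h2, fun e => h3 (Subtype.ext e), congrArg Subtype.val h4⟩

open Classical in
theorem sum_SD (nH : M ≤ 𝒩(H)) (nN : M ≤ 𝒩(N)) (hNH : N ≤ H) (hH : H ≤ K) (x : M) :
    ∑ φ ∈ SD nK.1 H N, φ 1 / nrm φ * φ x =
      (if (x : G) ∈ N then (N.relIndex M : ℂ) else 0) - if (x : G) ∈ H then (H.relIndex M : ℂ) else 0 := by
  have := nInj nK; have := normalSub nH; have := normalSub nN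
  have := sum_seqIndD (f := Subgroup.inclusion nK.1) (Subgroup.subgroupOf_mono M hNH)
    (subOf_le_range nK.1 hH) x
  simp only [Subgroup.mem_subgroupOf] at this
  convert this <;> rfl

/-- `sum_seqIndD_square` -/
theorem sum_SD_sq (nH : M ≤ 𝒩(H)) (nN : M ≤ 𝒩(N)) (hNH : N ≤ H) (hH : H ≤ K) :
    ∑ φ ∈ SD nK.1 H N, (deg φ : ℝ) ^ 2 / nrm φ = N.relIndex M - H.relIndex M :=
  have := nInj nK; have := normalSub nH; have := normalSub nN
  sum_seqIndD_sq (Subgroup.subgroupOf_mono M hNH) (subOf_le_range nK.1 hH)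

theorem SD_nonempty (nH : M ≤ 𝒩(H)) (nN : M ≤ 𝒩(N)) (hNH : N < H) (hH : H ≤ K) :
    (SD nK.1 H N).Nonempty := by
  rw [Finset.nonempty_iff_ne_empty]
  intro e
  have := sum_SD_sq nK nH nN hNH.le hH
  rw [e, Finset.sum_empty, eq_comm, sub_eq_zero, Nat.cast_inj,
    ← Subgroup.relIndex_mul_relIndex N H M hNH.le (hH.trans nK.1),
    mul_eq_right₀ (relIndex_pos _ _).ne', Subgroup.relIndex_eq_one] at this
  exact hNH.not_ge this

/-- `exists_linInd` -/
theorem exists_lin_SD (hN : ¬ K ≤ N ⊔ ⁅K, K⁆) (nN : K ≤ 𝒩(N)) (hNK : N ≤ K) :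
    ∃ φ ∈ SD nK.1 K N, deg φ = K.relIndex M ∧
      ∃ l : K →* ℂˣ, l ≠ 1 ∧ N.subgroupOf K ≤ l.ker ∧ φ = indA nK.1 (lin l) := by
  have := nInj nK
  have := exists_lin_seqIndD (f := Subgroup.inclusion nK.1) (M := N.subgroupOf M) (fun e => hN ?_)
  · rwa [index_range_incl, range_incl] at this
  · have := congrArg (Subgroup.map K.subtype) e
    rw [comap_incl, Subgroup.map_sup, Subgroup.subgroupOf_map_subtype, inf_eq_left.mpr hNK,
      commutator_def, Subgroup.map_commutator, ← MonoidHom.range_eq_map, Subgroup.range_subtype] at this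
    exact this.ge

theorem exists_lin_SD_of_sol (solK : Group.IsSolvable K) (hN : N < K) (nN : K ≤ 𝒩(N)) :
    ∃ φ ∈ SD nK.1 K N, deg φ = K.relIndex M ∧
      ∃ l : K →* ℂˣ, l ≠ 1 ∧ N.subgroupOf K ≤ l.ker ∧ φ = indA nK.1 (lin l) := by
  refine exists_lin_SD nK (fun h => ?_) nN hN.le
  have := normalSub nN
  have h1 : Nontrivial (K ⧸ N.subgroupOf K) := by
    rw [QuotientGroup.nontrivial_iff, Ne, Subgroup.subgroupOf_eq_top]; exact hN.not_ge
  refine (Group.IsSolvable.commutator_lt_top_of_nontrivial (K ⧸ N.subgroupOf K)).ne ?_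
  rw [eq_top_iff]
  rintro x -
  obtain ⟨k, rfl⟩ := QuotientGroup.mk'_surjective _ x
  obtain ⟨a, ha, b, hb, e⟩ := (mem_sup_of_right_le_norm ((comm_le_of_le le_rfl le_rfl).trans nN)).mp
    (h k.2)
  have hb' := hb
  rw [← K.range_subtype, MonoidHom.range_eq_map, ← Subgroup.map_commutator] at hb'
  obtain ⟨b, hb1, rfl⟩ := hb'
  have : k = ⟨a, hN.le ha⟩ * b := Subtype.ext e.symm
  rw [this, map_mul, show QuotientGroup.mk' (N.subgroupOf K) ⟨a, hN.le ha⟩ = 1 from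
    (QuotientGroup.eq_one_iff _).mpr ha, one_mul, commutator_def,
    ← Subgroup.map_top_of_surjective _ (QuotientGroup.mk'_surjective (N.subgroupOf K)),
    ← Subgroup.map_commutator]
  exact Subgroup.mem_map_of_mem _ hb1

end

/-! ### Dade isometries in ambient form -/

theorem mem_sharp {x : G} : x ∈ sharp H ↔ x ∈ H ∧ x ≠ 1 := Iff.rfl

theorem sharp_norm (nH : M ≤ 𝒩(H)) : ∀ x ∈ M, ∀ a ∈ sharp H, x * a * x⁻¹ ∈ sharp H :=
  fun _ hx _ ha => ⟨conj_mem_of_le_norm nH hx ha.1, fun e => ha.2 (by simpa using e)⟩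

theorem ncard_sharp (H : Subgroup G) : (sharp H).ncard = Nat.card H - 1 := by
  rw [show sharp H = (H : Set G) \ {1} from rfl, Set.ncard_diff_singleton_of_mem H.one_mem]
  rfl

theorem normedTI_Dade {A : Set G} {L : Subgroup G} (h : NormedTI A ⊤ L) (hA : A ⊆ sharp L) :
    DadeHypothesis A L fun _ => ⊥ :=
  dade_of_TI (fun h1 => (hA h1).2 rfl) (fun _ ha => (hA ha).1)
    (fun x hx a ha => (h.2.2 a ha x trivial).mpr hx) fun a ha g hg => (h.2.2 a ha g trivial).mp hg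

theorem NormedTI_cent_le {A : Set G} {L : Subgroup G} (h : NormedTI A ⊤ L) {a : G} (ha : a ∈ A) :
    𝒞[a] ≤ L := fun g hg => (h.2.2 a ha g trivial).mp (by
  rwa [Subgroup.mem_centralizer_singleton_iff.mp hg, mul_inv_cancel_right])

/-- on functions supported by a TI-subset the Dade isometry is induction -/
theorem Dade.dade_eq_ind_of_TI {A B : Set G} {L : Subgroup G} {R : G → Subgroup G}
    (hD : DadeHypothesis A L R) (h : NormedTI B ⊤ L) (hBA : B ⊆ A) {α : L → ℂ} (hα : α ∈ CF L)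
    (hB : ∀ a : L, (a : G) ∉ B → α a = 0) : dade A L R α = ind L.subtype α :=
  Dade.dade_eq_ind hD hα fun a ha =>
    have hb : (a : G) ∈ B := by_contra fun hc => ha (hB a hc)
    ⟨hBA hb, Dade.H_eq_bot_of_cent_le hD (hBA hb) (NormedTI_cent_le h hb)⟩

/-- Peterfalvi, Hypothesis (7.6); the Dade hypothesis may hold for any set `A` containing `H^#`. -/
structure DadeInd (L H : Subgroup G) (A : Set G) (R : G → Subgroup G) : Prop where
  normal : H ⊲ L
  dade : DadeHypothesis A L R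
  sub : sharp H ⊆ A

namespace DadeInd

variable {L : Subgroup G} {A : Set G} {R : G → Subgroup G} (h : DadeInd L H A R)
include h

theorem le : H ≤ L := h.normal.1

theorem dadeH : DadeHypothesis (sharp H) L R := Dade.restr h.dade h.sub (sharp_norm h.normal.2)

theorem isoOn : IsoOn (ST h.le) (Chr.dade A L R) :=
  Dade.isoOn h.dade (fun _ => ST_zirr h.normal) fun _ hφ _ ha hA =>
    ST_eq_zero h.normal hφ fun hc => hA (h.sub ⟨hc, fun e => ha (Subtype.ext e)⟩)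

theorem supp {α : L → ℂ} (hα : α ∈ CS (ST h.le)) (h1 : α 1 = 0) (a : L) (ha : (a : G) ∉ sharp H) :
    α a = 0 := by
  by_cases e : a = 1
  · rw [e, h1]
  · exact CS_apply_eq_zero (fun _ hφ => ST_eq_zero h.normal hφ fun hc =>
      ha ⟨hc, fun e' => e (Subtype.ext e')⟩) hα

theorem dade_eq {α : L → ℂ} (hα : α ∈ CS (ST h.le)) (h1 : α 1 = 0) :
    Chr.dade A L R α = Chr.dade (sharp H) L R α :=
  (Dade.dade_restr h.dade h.sub (sharp_norm h.normal.2) (CS_le_CF (fun _ => ST_CF h.normal) hα)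
    (h.supp hα h1)).symm

theorem dade_eq_zero {α : L → ℂ} (hα : α ∈ CS (ST h.le)) (h1 : α 1 = 0) {g : G}
    (hg : g ∉ dsupp (sharp H) R) : Chr.dade A L R α g = 0 := by
  rw [h.dade_eq hα h1, Chr.dade_eq_zero _ hg]

theorem dade_eq_ind (ti : NormedTI (sharp H) ⊤ L) {α : L → ℂ} (hα : α ∈ CS (ST h.le))
    (h1 : α 1 = 0) : Chr.dade A L R α = ind L.subtype α :=
  Dade.dade_eq_ind_of_TI h.dade ti h.sub (CS_le_CF (fun _ => ST_CF h.normal) hα) (h.supp hα h1)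

end DadeInd

theorem dadeInd_of_TI {L : Subgroup G} (nH : H ⊲ L) (ti : NormedTI (sharp H) ⊤ L) :
    DadeInd L H (sharp H) fun _ => ⊥ :=
  ⟨nH, normedTI_Dade ti fun _ hx => ⟨nH.1 hx.1, hx.2⟩, subset_rfl⟩

theorem realizeEqns_PF_Amb : True := by
  have := @CA.Chr.indA.eq_1.{0}
  have := @CA.Chr.indA.eq_def.{0}
  have := @CA.Chr.indA.congr_simp.{0}
  have := @CA.Chr.ST.eq_1.{0}
  have := @CA.Chr.ST.eq_def.{0}
  have := @CA.Chr.ST.congr_simp.{0}
  have := @CA.Chr.SD.eq_1.{0}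
  have := @CA.Chr.SD.eq_def.{0}
  have := @CA.Chr.SD.congr_simp.{0}
  trivial

end CA.Chr
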