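import Cfsg.Agent.PF.S08

/-!
# Definitions for Peterfalvi, sections 9-14.
-/

set_option autoImplicit false
set_option linter.unusedSectionVars false

open scoped ComplexConjugate

open Cfsg CA.FG CA.BG CA.Chr

namespace CA.PF

universe u

variable {G : Type u} [Group G] [Finite G]

open Classical in
/-- `H₀ = Ptype_Fcore_kernel` -/
noncomputable def kerH0 (M U : Subgroup G) : Subgroup G :=
  if h : ∃ H₀, ChiefFactor M H₀ (fittingHallOf M) ∧ fittingHallOf M ⊓ 𝒞(U) ≤ H₀ then h.choose else ⊥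

/-- the prime `p` with `H / H₀` an elementary abelian `p`-group -/
noncomputable def primeH (M U : Subgroup G) : ℕ := ((kerH0 M U).relIndex (fittingHallOf M)).minFac

/-- `C = C_U(H / H₀) = Ptype_Fcompl_kernel` -/
noncomputable def kerC (M U : Subgroup G) : Subgroup G := U ⊓ centQ (fittingHallOf M) (kerH0 M U)

/-- `u = |U / C|` -/
noncomputable def cardUbar (M U : Subgroup G) : ℕ := (kerC M U).relIndex U

/-- `typeP_Galois`: `U` acts irreducibly on `H / H₀` -/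
def TypePGalois (M U : Subgroup G) : Prop :=
  ∀ X : Subgroup G, kerH0 M U ≤ X → X < fittingHallOf M → U ≤ 𝒩(X) → X = kerH0 M U

/-- the data of Peterfalvi (9.7)(a); `H₁` is the preimage in `H` of the subgroup of `H / H₀` and
`a = |U : C_U(H₁ / H₀)|`. -/
structure NonGal (M W₁ U H₁ : Subgroup G) (a : ℕ) : Prop where
  le1 : kerH0 M U ≤ H₁
  le2 : H₁ ≤ fittingHallOf M
  card : (kerH0 M U).relIndex H₁ = primeH M U
  norm : U ≤ 𝒩(H₁)
  gen : ⨆ w : W₁, H₁ :^ w = fittingHallOf M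
  indep : ∀ w : W₁, H₁ :^ w ⊓ (kerH0 M U ⊔ ⨆ w' : {w' : W₁ // w' ≠ w}, H₁ :^ w') = kerH0 M U
  a_def : (U ⊓ centQ H₁ (kerH0 M U)).relIndex U = a
  one_lt : 1 < a
  dvd : a ∣ primeH M U - 1
  cyc : IsCyclic (U /ₛ (U ⊓ centQ H₁ (kerH0 M U)))
  emb : ∃ f : U →* (Fin (Nat.card W₁ - 1) → Multiplicative (ZMod a)),
    f.ker = (kerC M U).subgroupOf U

/-- the data of Peterfalvi (9.7)(b) -/
structure GalField (M W₁ U W₂ : Subgroup G) (F : Type) [Field F] [Fintype F] (φ ψ : G → F)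
    (η : W₁ →* (F ≃+* F)) : Prop where
  card : Fintype.card F = primeH M U ^ Nat.card W₁
  φ_mul : ∀ x ∈ fittingHallOf M, ∀ y ∈ fittingHallOf M, φ (x * y) = φ x + φ y
  φ_ker : ∀ x ∈ fittingHallOf M, φ x = 0 ↔ x ∈ kerH0 M U
  φ_surj : ∀ z : F, ∃ x ∈ fittingHallOf M, φ x = z
  ψ_mul : ∀ x ∈ U, ∀ y ∈ U, ψ (x * y) = ψ x * ψ y
  ψ_ne : ∀ x ∈ U, ψ x ≠ 0
  ψ_ker : ∀ x ∈ U, ψ x = 1 ↔ x ∈ kerC M U
  act_U : ∀ u ∈ U, ∀ x ∈ fittingHallOf M, φ (u * x * u⁻¹) = ψ u * φ x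
  η_bij : Function.Bijective η
  act_W : ∀ w : W₁, ∀ x ∈ fittingHallOf M, φ (w * x * (w : G)⁻¹) = η w (φ x)
  prime_field : ∀ x ∈ fittingHallOf M, φ x ^ primeH M U = φ x ↔ x ∈ W₂ ⊔ kerH0 M U

/-- `ζ` is induced from a linear character of the subgroup `X` -/
def IsIndLin (M X : Subgroup G) (ζ : M → ℂ) : Prop :=
  ∃ (h : X ≤ M) (l : X →* ℂˣ), ζ = indA h (lin l)

/-- `isIndHC` of section 9 -/
def IsIndHC (M W₁ U : Subgroup G) (ζ : M → ℂ) : Prop :=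
  ζ 1 = Nat.card W₁ * cardUbar M U ∧ ζ ∈ SP M (fittingHallOf M) (kerH0 M U ⊔ kerC M U) ∧
    IsIndLin M (fittingHallOf M ⊔ kerC M U) ζ

/-- `H U / H₀` is a Frobenius group with kernel `H / H₀` and complement `U H₀ / H₀` -/
def FrobModH0 (M U : Subgroup G) : Prop :=
  ∀ u ∈ U, u ≠ 1 → ∀ x ∈ fittingHallOf M, u * x * u⁻¹ * x⁻¹ ∈ kerH0 M U → x ∈ kerH0 M U

variable {M W₁ U W₂ : Subgroup G}

/-- `α_{ij} = μ_{ij} - δ μ_{i0} - n ζ` (`FTtype345_bridge`) -/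
noncomputable def bridge345 (hP : IsTypePWith M W₁ U W₂) (δ : ℤ) (n : ℕ) (ζ : M → ℂ) (i : W₁ →* ℂˣ)
    (j : W₂ →* ℂˣ) : M → ℂ := muP hP i j - (δ : ℂ) • muP hP i 1 - (n : ℂ) • ζ

/-- the constants `d`, `δ`, `n` of Peterfalvi (10.3) -/
structure Const345 (hP : IsTypePWith M W₁ U W₂) (d : ℕ) (δ : ℤ) (n : ℕ) : Prop where
  deg : ∀ i j, j ≠ 1 → muP hP i j 1 = d
  sign : ∀ j, j ≠ 1 → del (wM hP) j = δ
  one_lt : 1 < d
  ratio : (d : ℤ) = δ + n * Nat.card W₁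

theorem FW1_le (hP : IsTypePWith M W₁ U W₂) : fittingHallOf M ⊔ W₁ ≤ M :=
  sup_le (Fcore_le M) (typeP_W1_le hP)

/-- `β_j = Ind[S, P W₁] 1 - μ_{0j}` (`FTtypeP_bridge`) -/
noncomputable def bridgeP (hP : IsTypePWith M W₁ U W₂) (j : W₂ →* ℂˣ) : M → ℂ :=
  indA (FW1_le hP) 1 - muP hP 1 j

/-- `β_L = Ind[L, L_F] 1 - φ` (`FTtype1_bridge`) -/
noncomputable abbrev bridgeF (L : Subgroup G) (φ : L → ℂ) : L → ℂ := indA (Fcore_normal L).1 1 - φ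

theorem realizeEqns_PF_Def09 : True := by
  have := @CA.PF.cardUbar.eq_1.{0}
  have := @CA.PF.cardUbar.eq_def.{0}
  have := @CA.PF.cardUbar.congr_simp.{0}
  have := @CA.PF.IsIndLin.eq_1.{0}
  have := @CA.PF.IsIndLin.eq_def.{0}
  have := @CA.PF.IsIndLin.congr_simp.{0}
  have := @CA.PF.bridgeF.eq_1.{0}
  have := @CA.PF.bridgeF.eq_def.{0}
  have := @CA.PF.bridgeF.congr_simp.{0}
  have := @CA.PF.kerC.eq_1.{0}
  have := @CA.PF.kerC.eq_def.{0}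
  have := @CA.PF.kerC.congr_simp.{0}
  have := @CA.PF.TypePGalois.eq_1.{0}
  have := @CA.PF.TypePGalois.eq_def.{0}
  have := @CA.PF.TypePGalois.congr_simp.{0}
  have := @CA.PF.IsIndHC.eq_1.{0}
  have := @CA.PF.IsIndHC.eq_def.{0}
  have := @CA.PF.IsIndHC.congr_simp.{0}
  have := @CA.PF.kerH0.eq_1.{0}
  have := @CA.PF.kerH0.eq_def.{0}
  have := @CA.PF.kerH0.congr_simp.{0}
  have := @CA.PF.bridgeP.eq_1.{0}
  have := @CA.PF.bridgeP.eq_def.{0}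
  have := @CA.PF.bridgeP.congr_simp.{0}
  have := @CA.PF.primeH.eq_1.{0}
  have := @CA.PF.primeH.eq_def.{0}
  have := @CA.PF.primeH.congr_simp.{0}
  have := @CA.PF.FrobModH0.eq_1.{0}
  have := @CA.PF.FrobModH0.eq_def.{0}
  have := @CA.PF.FrobModH0.congr_simp.{0}
  have := @CA.PF.bridge345.eq_1.{0}
  have := @CA.PF.bridge345.eq_def.{0}
  have := @CA.PF.bridge345.congr_simp.{0}
  trivial

end CA.PF
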