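import Cfsg.Agent.PF.P06c

/-!
# Interface: Peterfalvi, section 6 (ambient form).  Owner: helper7.
Proved in `PF/P06a` ((6.2) - (6.6): `frob_mod_of_cent_le`, `IsFrob_coprime`, `IsFrob_irr`,
`coherent_seqIndD_bound`, `bounded_seqIndD_coherence`, `non_coherent_chief`,
`seqIndD_irr_coherence`), `PF/P06b` ((6.7): `constant_irr_mod_TI_Sylow`) and `PF/P06c`
((6.8): `Sibley_coherence_Frob`, `Sibley_coherence_prime`).
-/
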