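import Cfsg.Agent.PF.I06

/-!
# Interface: Peterfalvi, section 7 (ambient form).  Owner: helper7.
`rho A L R` is `invDade`; (7.2), (7.3) are `Dade.rho_dade`, `Dade.nrm_rho_le_indicator` etc. in `PF/S02`.
-/

set_option autoImplicit false
set_option linter.unusedSectionVars false

open scoped ComplexConjugate

open Cfsg CA.FG CA.BG

namespace CA.Chr

variable {G : Type*} [Group G] [Finite G]

theorem nrm_indicator_one {X : Type*} [Finite X] (A : Set X) :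
    nrm (A.indicator (1 : X → ℂ)) = A.ncard / Nat.card X := by
  rw [nrm_indicator, div_eq_inv_mul, finsum_mem_eq_finite_toFinset_sum _ (Set.toFinite A),
    Set.ncard_eq_toFinset_card A]
  simp

theorem nrm_indicator_add_compl {X : Type*} [Finite X] (A : Set X) (χ : X → ℂ) :
    nrm (A.indicator χ) + nrm (Aᶜ.indicator χ) = nrm χ := by
  rw [← nrm_add_of_orth, Set.indicator_self_add_compl]
  exact dot_eq_zero_of_disjoint fun g => by by_cases h : g ∈ A <;> simp [h]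

theorem nrm_eq_sum_indicator {X ι : Type*} [Finite X] (s : Finset ι) (D : ι → Set X)
    (hd : ∀ i ∈ s, ∀ j ∈ s, i ≠ j → Disjoint (D i) (D j)) {G₀ : Set X}
    (hG₀ : ∀ g, g ∈ G₀ ↔ ∀ i ∈ s, g ∉ D i) (χ : X → ℂ) :
    nrm χ = nrm (G₀.indicator χ) + ∑ i ∈ s, nrm ((D i).indicator χ) := by
  have e : χ = G₀.indicator χ + ∑ i ∈ s, (D i).indicator χ := by
    funext g
    rw [Pi.add_apply, Finset.sum_apply]
    by_cases h : g ∈ G₀
    · rw [Set.indicator_of_mem h, Finset.sum_eq_zero fun i hi =>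
        Set.indicator_of_notMem ((hG₀ g).mp h i hi) _, add_zero]
    · have := mt (hG₀ g).mpr h
      push Not at this
      obtain ⟨i, hi, hg⟩ := this
      rw [Set.indicator_of_notMem h, zero_add, Finset.sum_eq_single i (fun j hj hne =>
        Set.indicator_of_notMem (Set.disjoint_left.mp (hd i hi j hj hne.symm) hg) _)
        (fun h => absurd hi h), Set.indicator_of_mem hg]
  conv_lhs => rw [e]
  rw [nrm_add_of_orth, nrm_sum_of_orth]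
  · intro i hi j hj hne
    refine dot_eq_zero_of_disjoint fun g => ?_
    by_cases h : g ∈ D i
    · exact Or.inr (Set.indicator_of_notMem (Set.disjoint_left.mp (hd i hi j hj hne) h) _)
    · exact Or.inl (Set.indicator_of_notMem h _)
  · rw [dot_sum_right]
    refine Finset.sum_eq_zero fun i hi => dot_eq_zero_of_disjoint fun g => ?_
    by_cases h : g ∈ G₀
    · exact Or.inr (Set.indicator_of_notMem ((hG₀ g).mp h i hi) _)
    · exact Or.inl (Set.indicator_of_notMem h _)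

theorem Dade.nrm_rho_one {A : Set G} {L : Subgroup G} {R : G → Subgroup G}
    (hD : DadeHypothesis A L R) : nrm (rho A L R 1) = A.ncard / Nat.card L := by
  have e : rho A L R 1 = (Subtype.val ⁻¹' A).indicator 1 := by
    funext a
    by_cases ha : (a : G) ∈ A
    · rw [Dade.rho_of_const hD ha fun _ _ => rfl, Set.indicator_of_mem (show a ∈ _ ⁻¹' A from ha)]; rfl
    · rw [rho_eq_zero _ ha, Set.indicator_of_notMem (show a ∉ _ ⁻¹' A from ha)]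
  rw [e, nrm_indicator_one, Set.ncard_preimage_of_injective_subset_range Subtype.val_injective
    (by rw [Subtype.range_coe]; exact hD.subset)]

theorem Dade.nrm_indicator_one {A : Set G} {L : Subgroup G} {R : G → Subgroup G}
    (hD : DadeHypothesis A L R) : nrm ((dsupp A R).indicator (1 : G → ℂ)) = A.ncard / Nat.card L := by
  have e : (dsupp A R).indicator (1 : G → ℂ) = dade A L R (rho A L R 1) := by
    funext g
    by_cases hg : g ∈ dsupp A R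
    · rw [Set.indicator_of_mem hg]
      obtain ⟨a, ha, u, hu, x, e⟩ := hg
      rw [Dade.dade_apply hD (Dade.rho_mem_CF hD (one_mem _)) (a := ⟨a, hD.subset ha⟩) ha hu e,
        Dade.rho_of_const hD ha fun _ _ => rfl]
      rfl
    · rw [Set.indicator_of_notMem hg, dade_eq_zero _ hg]
  rw [Dade.nrm_indicator_eq hD (one_mem _), ← e, sub_self, nrm_zero, add_zero, Dade.nrm_rho_one hD]

/-- `|A^τ| / |G| = |A| / |L|` -/
theorem Dade.ncard_dsupp {A : Set G} {L : Subgroup G} {R : G → Subgroup G}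
    (hD : DadeHypothesis A L R) : (dsupp A R).ncard = A.ncard * L.index := by
  have := Dade.nrm_indicator_one hD
  rw [Chr.nrm_indicator_one, ← L.card_mul_index] at this
  have h1 : (Nat.card L : ℝ) ≠ 0 := Nat.cast_ne_zero.mpr Nat.card_pos.ne'
  have h2 : (L.index : ℝ) ≠ 0 := Nat.cast_ne_zero.mpr (index_pos L).ne'
  push_cast at this
  field_simp at this
  rw [mul_comm]
  exact_mod_cast this

theorem Dade.nrm_rho_le {A : Set G} {L : Subgroup G} {R : G → Subgroup G}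
    (hD : DadeHypothesis A L R) {χ : G → ℂ} (hχ : χ ∈ CF G) : nrm (rho A L R χ) ≤ nrm χ :=
  (Dade.nrm_rho_le_indicator hD hχ).trans
    ((le_add_of_nonneg_right (nrm_nonneg _)).trans (nrm_indicator_add_compl _ χ).le)

/-- functions with disjoint Dade supports are orthogonal (`disjoint_Dade_ortho`) -/
theorem disjoint_Dade_ortho {A₁ A₂ : Set G} {L₁ L₂ : Subgroup G} {R₁ R₂ : G → Subgroup G}
    (hd : Disjoint (dsupp A₁ R₁) (dsupp A₂ R₂)) (α : L₁ → ℂ) (β : L₂ → ℂ) :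
    ⟪dade A₁ L₁ R₁ α, dade A₂ L₂ R₂ β⟫ = 0 :=
  dot_eq_zero_of_disjoint fun g => by
    by_cases h : g ∈ dsupp A₁ R₁
    · exact Or.inr (dade_eq_zero _ (Set.disjoint_left.mp hd h))
    · exact Or.inl (dade_eq_zero _ h)

/-- Peterfalvi (7.5); `G₀` is the complement of the union of the Dade supports -/
theorem Dade_cover_inequality {ι : Type*} (s : Finset ι) (A : ι → Set G) (L : ι → Subgroup G)
    (R : ι → G → Subgroup G) (hD : ∀ i ∈ s, DadeHypothesis (A i) (L i) (R i))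
    (hd : ∀ i ∈ s, ∀ j ∈ s, i ≠ j → Disjoint (dsupp (A i) (R i)) (dsupp (A j) (R j)))
    {G₀ : Set G} (hG₀ : ∀ g, g ∈ G₀ ↔ ∀ i ∈ s, g ∉ dsupp (A i) (R i))
    {χ : G → ℂ} (hχ : χ ∈ CF G) (h1 : nrm χ = 1) :
    (Nat.card G : ℝ)⁻¹ * (∑ᶠ g ∈ G₀, ‖χ g‖ ^ 2 - G₀.ncard) +
      ∑ i ∈ s, (nrm (rho (A i) (L i) (R i) χ) - (A i).ncard / Nat.card (L i)) ≤ 0 := by
  have e1 := nrm_eq_sum_indicator s _ hd hG₀ χ
  have e2 := nrm_eq_sum_indicator s _ hd hG₀ (1 : G → ℂ)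
  rw [nrm_eq_of_dot (r := 1) (by simpa using dot_one_one), nrm_indicator_one,
    Finset.sum_congr rfl fun i hi => Dade.nrm_indicator_one (hD i hi)] at e2
  rw [h1, nrm_indicator] at e1
  have e3 := Finset.sum_le_sum fun i hi => Dade.nrm_rho_le_indicator (hD i hi) hχ
  rw [Finset.sum_sub_distrib, mul_sub, ← div_eq_inv_mul (G₀.ncard : ℝ)]
  linarith

theorem dot_eq_of_off_one {X : Type*} [Group X] [Finite X] {φ ψ φ' ψ' : X → ℂ} (h1 : φ 1 = 0)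
    (hφ : ∀ x, x ≠ 1 → φ x = φ' x) (hψ : ∀ x, x ≠ 1 → ψ x = ψ' x) :
    ⟪φ, ψ⟫ = ⟪φ', ψ'⟫ - φ' 1 * conj (ψ' 1) / Nat.card X := by
  classical
  cases nonempty_fintype X
  rw [dot_def, dot_def, ← Finset.add_sum_erase _ _ (Finset.mem_univ 1),
    ← Finset.add_sum_erase _ _ (Finset.mem_univ 1), h1, Finset.sum_congr rfl fun x hx => by
      rw [hφ x (Finset.ne_of_mem_erase hx), hψ x (Finset.ne_of_mem_erase hx)]]
  ring

/-- a class function supported by a normal subgroup is a combination of induced characters -/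
theorem expand_seqInd {L K : Type*} [Group L] [Finite L] [Group K] [Finite K] (f : K →* L)
    [hf : NormalInj f] {ψ : L → ℂ} (hψ : ψ ∈ CF L) (h0 : ∀ g, g ∉ f.range → ψ g = 0) :
    ψ = ∑ ξ ∈ seqInd f fun _ => True, (⟪ψ, ξ⟫ / nrm ξ) • ξ := by
  set φ := ψ - ∑ ξ ∈ seqInd f fun _ => True, (⟪ψ, ξ⟫ / nrm ξ) • ξ with hφ
  have h1 : φ ∈ CF L := sub_mem hψ (sum_mem fun ξ hξ => Subalgebra.smul_mem _ (seqInd_CF hξ) _)
  have h2 : φ ∘ f = 0 := CF_ext (CF_comp h1 f) (zero_mem _) fun θ hθ => by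
    have hm : ind f θ ∈ seqInd f fun _ => True := ind_mem_seqInd hθ trivial
    have hn : (nrm (ind f θ) : ℂ) ≠ 0 := by exact_mod_cast (nrm_pos (seqInd_ne_zero hm)).ne'
    rw [← frob_rec' f θ h1, hφ, dot_sub_left, dot_sum_left, Finset.sum_eq_single (ind f θ)
      (fun ξ hξ hne => by rw [dot_smul_left, seqInd_orth hξ hm hne, mul_zero]) (fun h => absurd hm h),
      dot_smul_left, dot_self, div_mul_cancel₀ _ hn, sub_self, dot_zero_left]
  refine sub_eq_zero.mp (funext fun g => ?_)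
  by_cases hg : g ∈ f.range
  · obtain ⟨k, rfl⟩ := hg
    exact congrFun h2 k
  · rw [Pi.sub_apply, h0 g hg, Finset.sum_apply, Finset.sum_eq_zero fun ξ hξ => by
      rw [Pi.smul_apply, seqInd_eq_zero hξ hg, smul_zero], sub_self]; rfl

theorem sum_ST {K M : Subgroup G} (nK : K ⊲ M) {x : M} (hx : x ≠ 1) :
    ∑ φ ∈ ST nK.1, φ 1 / nrm φ * φ x = 0 := by
  classical
  have := nInj nK
  by_cases h : x ∈ (Subgroup.inclusion nK.1).range
  · obtain ⟨k, rfl⟩ := h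
    rw [ST, sum_seqInd (fun _ _ _ _ => trivial)]
    simp only [Finset.filter_true]
    rw [sum_deg_mul_irr, if_neg fun e => hx (by rw [e, map_one]), mul_zero]
  · exact Finset.sum_eq_zero fun φ hφ => by rw [seqInd_eq_zero hφ h, mul_zero]

theorem ind_one_mem_ST {K M : Subgroup G} (h : K ≤ M) : indA h 1 ∈ ST h := mem_ST.mpr ⟨1, one_irr, rfl⟩

theorem indA_one_apply {K M : Subgroup G} (nK : K ⊲ M) {x : M} (hx : (x : G) ∈ K) :
    indA nK.1 1 x = K.relIndex M := by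
  classical
  have := nInj nK
  rw [ind_one_apply, if_pos ((mem_range_incl _).mpr hx), index_range_incl]

theorem dot_indA_one_self {K M : Subgroup G} (nK : K ⊲ M) :
    ⟪indA nK.1 1, indA nK.1 (1 : K → ℂ)⟫ = K.relIndex M := by
  rw [frob_rec _ _ (ind_mem_CF _ _), show indA nK.1 1 ∘ Subgroup.inclusion nK.1 =
    (K.relIndex M : ℂ) • (1 : K → ℂ) from funext fun k => by
      simp [indA_one_apply nK (x := Subgroup.inclusion nK.1 k) k.2], dot_smul_right, dot_one_one]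
  simp

theorem ST_eq_insert {K M : Subgroup G} (nK : K ⊲ M) :
    ST nK.1 = insert (indA nK.1 1) (SD nK.1 K ⊥) ∧ indA nK.1 1 ∉ SD nK.1 K ⊥ := by
  refine ⟨Finset.ext fun φ => ?_, fun h => ?_⟩
  · rw [Finset.mem_insert, mem_ST, mem_SD_self_bot]
    refine ⟨fun ⟨θ, h1, h2⟩ => ?_, ?_⟩
    · by_cases e : θ = 1
      exacts [Or.inl (e ▸ h2), Or.inr ⟨θ, h1, e, h2⟩]
    · rintro (h | ⟨θ, h1, -, h2⟩)
      exacts [⟨1, one_irr, h⟩, ⟨θ, h1, h2⟩]
  · have := SD_dot_ind_one nK h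
    rw [dot_self_eq_zero] at this
    exact SD_ne_zero nK h this

namespace DadeInd

variable {L H : Subgroup G} {A : Set G} {R : G → Subgroup G} (h : DadeInd L H A R)
include h

/-- Peterfalvi (7.7) (`invDade_seqInd_sum`); the term of `ξ₀` vanishes in all the sums. -/
theorem invDade_seqInd_sum {ξ₀ : L → ℂ} (h₀ : ξ₀ ∈ ST h.le) {χ : G → ℂ} (hχ : χ ∈ CF G)
    (c : (L → ℂ) → ℂ) (hc : ∀ ξ ∈ ST h.le, c ξ = ⟪Chr.dade A L R (ξ - (ξ 1 / ξ₀ 1) • ξ₀), χ⟫) :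
    (∀ a : L, (a : G) ∈ sharp H →
      rho (sharp H) L R χ a = ∑ ξ ∈ ST h.le, conj (c ξ) / nrm ξ * ξ a) ∧
    (nrm (rho (sharp H) L R χ) : ℂ) = ∑ ξ ∈ ST h.le, ∑ μ ∈ ST h.le,
      conj (c ξ) * c μ / (nrm ξ * nrm μ) * (⟪ξ, μ⟫ - ξ 1 * μ 1 / Nat.card L) := by
  have hn := h.normal
  have := nInj hn
  have h1 := Dade.rho_mem_CF h.dadeH hχ
  have h0 := ST_deg_ne_zero hn h₀
  have ha : ∀ a : L, a ≠ 1 → rho (sharp H) L R χ a = (∑ ξ ∈ ST h.le, (conj (c ξ) / nrm ξ) • ξ) a := by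
    intro a ha
    have e1 := congrFun (expand_seqInd (Subgroup.inclusion hn.1) h1 fun g hg =>
      rho_eq_zero _ fun hc => hg ((mem_range_incl _).mpr hc.1)) a
    have e2 := sum_ST hn ha
    have e3 : ∀ ξ ∈ ST h.le, conj (c ξ) = ⟪rho (sharp H) L R χ, ξ⟫ -
        ξ 1 * (⟪rho (sharp H) L R χ, ξ₀⟫ / ξ₀ 1) := fun ξ hξ => by
      have hm := sub_mem (mem_CS hξ) (CS_smul (ξ 1 / ξ₀ 1) (mem_CS h₀))
      rw [hc ξ hξ, h.dade_eq hm (by simp [h0]), Dade.dade_rec h.dadeH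
        (CS_le_CF (fun _ => ST_CF hn) hm) hχ, conj_dot, dot_sub_right, dot_smul_right, map_div₀,
        IsChar.conj_one (ST_char hn hξ), IsChar.conj_one (ST_char hn h₀)]
      ring
    rw [e1, Finset.sum_apply, Finset.sum_apply, ← sub_eq_zero, ← Finset.sum_sub_distrib,
      ← mul_zero (⟪rho (sharp H) L R χ, ξ₀⟫ / ξ₀ 1), ← e2, Finset.mul_sum]
    refine Finset.sum_congr rfl fun ξ hξ => ?_
    rw [e3 ξ hξ, Pi.smul_apply, Pi.smul_apply, smul_eq_mul, smul_eq_mul]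
    ring
  refine ⟨fun a h2 => by
    rw [ha a fun e => h2.2 (congrArg Subtype.val e), Finset.sum_apply]; rfl, ?_⟩
  rw [← dot_self, dot_eq_of_off_one (rho_eq_zero _ fun hc => hc.2 rfl) ha ha, dot_sum_left,
    Finset.sum_apply, map_sum, Finset.sum_mul_sum, Finset.sum_div, ← Finset.sum_sub_distrib]
  refine Finset.sum_congr rfl fun ξ _ => ?_
  rw [dot_sum_right, Finset.sum_div, ← Finset.sum_sub_distrib]
  refine Finset.sum_congr rfl fun μ hμ => ?_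
  simp only [dot_smul_left, dot_smul_right, Pi.smul_apply, smul_eq_mul, map_mul, map_div₀,
    Complex.conj_conj, Complex.conj_ofReal, IsChar.conj_one (ST_char hn hμ)]
  ring

variable (oddL : Odd (Nat.card L)) {ν : (L → ℂ) →ₗ[ℂ] (G → ℂ)}
  (hν : CohWith (SD h.le H ⊥) (Chr.dade A L R) ν) {ζ : L → ℂ} (hζ : ζ ∈ SD h.le H ⊥)
  (iζ : IsIrrCharacter L ζ) (dζ : ζ 1 = H.relIndex L)
include oddL hν hζ iζ dζ

omit oddL hν iζ in
theorem beta_mem : indA h.le 1 - ζ ∈ ZS (ST h.le) ∧ (indA h.le 1 - ζ) 1 = 0 :=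
  ⟨sub_mem (mem_ZS (ind_one_mem_ST _)) (mem_ZS (SD_sub_ST _ _ _ hζ)),
    by rw [Pi.sub_apply, indA_one, dζ]; simp⟩

omit oddL iζ in
theorem nu_eq {ξ : L → ℂ} (hξ : ξ ∈ SD h.le H ⊥) : ν ξ =
    Chr.dade A L R (ξ - (ξ 1 / H.relIndex L) • ζ) + (ξ 1 / H.relIndex L) • ν ζ := by
  have he : (H.relIndex L : ℂ) ≠ 0 := Nat.cast_ne_zero.mpr (relIndex_pos _ _).ne'
  rw [hν.agree_sub_smul hξ hζ (by rw [dζ, div_mul_cancel₀ _ he]), sub_add_cancel]

omit oddL hν iζ in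
theorem sub_mem_CS {ξ : L → ℂ} (hξ : ξ ∈ SD h.le H ⊥) :
    ξ - (ξ 1 / H.relIndex L) • ζ ∈ CS (ST h.le) ∧ (ξ - (ξ 1 / H.relIndex L) • ζ) 1 = 0 := by
  have he : (H.relIndex L : ℂ) ≠ 0 := Nat.cast_ne_zero.mpr (relIndex_pos _ _).ne'
  exact ⟨sub_mem (mem_CS (SD_sub_ST _ _ _ hξ)) (CS_smul _ (mem_CS (SD_sub_ST _ _ _ hζ))),
    by simp [dζ, he]⟩

omit oddL hν hζ iζ dζ in
theorem dot_dade_one {α : L → ℂ} (hα : α ∈ CS (ST h.le)) (h1 : α 1 = 0) :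
    ⟪Chr.dade A L R α, 1⟫ = ⟪α, 1⟫ :=
  Dade.dot_dade_one h.dade (CS_le_CF (fun _ => ST_CF h.normal) hα) fun a ha =>
    h.supp hα h1 a fun hc => ha (h.sub hc)

/-- Peterfalvi (7.8)(a), first part -/
theorem Dade_Ind1_sub_lin_a1 : (∀ ξ ∈ SD h.le H ⊥, ⟪ν ξ, 1⟫ = 0) ∧
    ⟪Chr.dade A L R (indA h.le 1 - ζ), 1⟫ = 1 ∧ Chr.dade A L R (indA h.le 1 - ζ) ∈ ZIrr G := by
  have hn := h.normal
  have hb := h.beta_mem hζ dζ
  have hζ' := SD_conj hn ζ hζ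
  have h1 : ⟪ν ζ, 1⟫ = 0 := by
    by_contra hne
    have hd := (IsChar.conj_deg (IsIrr.isChar iζ)).symm
    have e := h.dot_dade_one (sub_mem (mem_CS (SD_sub_ST _ _ _ hζ)) (mem_CS (SD_sub_ST _ _ _ hζ')))
      (sub_eq_zero.mpr hd)
    rw [hν.agree_sub hζ hζ' hd, dot_sub_left, dot_sub_left, SD_dot_one hn hζ, SD_dot_one hn hζ',
      sub_self, sub_eq_zero] at e
    have e2 : ⟪ν (conjFun ζ), ν ζ⟫ = 0 := by
      rw [hν.iso _ hζ' _ hζ, SD_orth hn hζ' hζ (SD_conj_ne hn oddL ζ hζ)]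
    exact hne (Dirr.dot_eq_zero_of_dot (hν.dirr hζ iζ) (IsIrr.dirr one_irr) e2 (e ▸ hne))
  refine ⟨fun ξ hξ => ?_, ?_, h.isoOn.zirr _ hb.1 hb.2⟩
  · have hm := h.sub_mem_CS hζ dζ hξ
    rw [h.nu_eq hν hζ dζ hξ, dot_add_left, h.dot_dade_one hm.1 hm.2, dot_sub_left, dot_smul_left,
      dot_smul_left, h1, SD_dot_one hn hξ, SD_dot_one hn hζ]
    simp
  · rw [h.dot_dade_one (CS_of_ZS hb.1) hb.2, dot_sub_left, dot_ind_one, dot_one_one, SD_dot_one hn hζ,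
      sub_zero]

omit oddL in
theorem dot_beta_nu {ξ : L → ℂ} (hξ : ξ ∈ SD h.le H ⊥) :
    ⟪Chr.dade A L R (indA h.le 1 - ζ), ν ξ⟫ = ξ 1 / H.relIndex L *
      (⟪Chr.dade A L R (indA h.le 1 - ζ), ν ζ⟫ + 1) - ⟪ζ, ξ⟫ := by
  have hn := h.normal
  have hb := h.beta_mem hζ dζ
  have hm := h.sub_mem_CS hζ dζ hξ
  conv_lhs => rw [h.nu_eq hν hζ dζ hξ]
  rw [dot_add_right, h.isoOn.iso _ (CS_of_ZS hb.1) _ hm.1 hb.2 hm.2]
  simp only [dot_sub_left, dot_sub_right, dot_smul_right, dot_comm_zero (SD_dot_ind_one hn hξ),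
    dot_comm_zero (SD_dot_ind_one hn hζ), IsIrr.dot_self iζ, map_div₀, map_natCast,
    IsChar.conj_one (SD_char hn hξ)]
  ring

omit oddL hζ iζ dζ in
theorem dot_sumS {ξ : L → ℂ} (hξ : ξ ∈ SD h.le H ⊥) :
    ⟪∑ ξ ∈ SD h.le H ⊥, (ξ 1 / H.relIndex L / nrm ξ) • ν ξ, ν ξ⟫ = ξ 1 / H.relIndex L := by
  have hn := h.normal
  have h0 : (nrm ξ : ℂ) ≠ 0 := by exact_mod_cast (nrm_pos (SD_ne_zero hn hξ)).ne'
  rw [dot_sum_left, Finset.sum_eq_single ξ (fun μ hμ hne => by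
    rw [dot_smul_left, hν.iso _ hμ _ hξ, SD_orth hn hμ hξ hne, mul_zero]) (fun h => absurd hξ h),
    dot_smul_left, hν.iso _ hξ _ hξ, dot_self, div_mul_cancel₀ _ h0]

omit oddL hν hζ iζ dζ in
theorem relIndex_mul : (H.relIndex L : ℝ) * Nat.card H = Nat.card L := by
  rw [mul_comm]; exact_mod_cast card_mul_relIndex h.le

omit oddL hζ iζ dζ in
theorem nrm_sumS : nrm (∑ ξ ∈ SD h.le H ⊥, (ξ 1 / H.relIndex L / nrm ξ) • ν ξ) =
    (Nat.card H - 1) / H.relIndex L := by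
  have hn := h.normal
  have he : (H.relIndex L : ℝ) ≠ 0 := Nat.cast_ne_zero.mpr (relIndex_pos _ _).ne'
  have e1 := sum_SD_sq hn hn.2 (norm_bot L) bot_le le_rfl
  rw [Subgroup.relIndex_bot_left, ← h.relIndex_mul] at e1
  rw [nrm_sum_of_orth _ _ fun ξ hξ μ hμ hne => by
    rw [dot_smul_left, dot_smul_right, hν.iso _ hξ _ hμ, SD_orth hn hξ hμ hne]; simp,
    Finset.sum_congr rfl (g := fun ξ => (deg ξ : ℝ) ^ 2 / nrm ξ / (H.relIndex L) ^ 2) fun ξ hξ => by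
      have h0 := (nrm_pos (SD_ne_zero hn hξ)).ne'
      rw [nrm_smul, hν.nrm (mem_CS hξ), ← SD_coe_deg hn hξ, norm_div, norm_div, Complex.norm_natCast,
        Complex.norm_natCast, Complex.norm_real, Real.norm_of_nonneg (nrm_nonneg _)]
      field_simp, ← Finset.sum_div, e1]
  field_simp

omit oddL in
theorem rho_apply_eq {χ : G → ℂ} (hχ : χ ∈ CF G) {a : L} (ha : (a : G) ∈ sharp H) :
    rho (sharp H) L R χ a = conj ⟪Chr.dade A L R (indA h.le 1 - ζ), χ⟫ + conj ⟪ν ζ, χ⟫ +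
      ∑ ξ ∈ SD h.le H ⊥, conj ⟪ν ξ, χ⟫ / nrm ξ * ξ a := by
  have hn := h.normal
  have he : (H.relIndex L : ℂ) ≠ 0 := Nat.cast_ne_zero.mpr (relIndex_pos _ _).ne'
  have e1 := (h.invDade_seqInd_sum (SD_sub_ST _ _ _ hζ) hχ _ fun _ _ => rfl).1 a ha
  have e2 := sum_ST hn (x := a) fun e => ha.2 (congrArg Subtype.val e)
  have e3 : (nrm (indA hn.1 (1 : H → ℂ)) : ℂ) = H.relIndex L := by
    rw [← dot_self, dot_indA_one_self hn]
  rw [(ST_eq_insert hn).1, Finset.sum_insert (ST_eq_insert hn).2, indA_one_apply hn ha.1, e3,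
    indA_one, Pi.one_apply, mul_one] at e1 e2
  rw [e1, dζ, div_self he, one_smul, div_mul_cancel₀ _ he, add_assoc, add_right_inj,
    Finset.sum_congr rfl (g := fun ξ => conj ⟪ν ξ, χ⟫ / nrm ξ * ξ a -
      conj ⟪ν ζ, χ⟫ / H.relIndex L * (ξ 1 / nrm ξ * ξ a)) fun ξ hξ => by
      rw [hν.agree_sub_smul hξ hζ (by rw [dζ, div_mul_cancel₀ _ he]), dot_sub_left, dot_smul_left,
        map_sub, map_mul, map_div₀, map_natCast, IsChar.conj_one (SD_char hn hξ)]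
      ring, Finset.sum_sub_distrib, ← Finset.mul_sum, eq_neg_of_add_eq_zero_right e2]
  field_simp
  ring

/-- Peterfalvi (7.8)(a), (b) -/
theorem Dade_Ind1_sub_lin : ∃ (Γ : G → ℂ) (a : ℤ), (∀ ξ ∈ SD h.le H ⊥, ⟪ν ξ, Γ⟫ = 0) ∧ ⟪Γ, 1⟫ = 0 ∧
    Chr.dade A L R (indA h.le 1 - ζ) = 1 - ν ζ +
      (a : ℂ) • (∑ ξ ∈ SD h.le H ⊥, (ξ 1 / H.relIndex L / nrm ξ) • ν ξ) + Γ ∧
    nrm Γ = H.relIndex L - 1 - ((Nat.card H - 1) / H.relIndex L * a ^ 2 - 2 * a) ∧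
    nrm (rho (sharp H) L R (ν ζ)) = (1 - 1 / Nat.card H) / H.relIndex L * a ^ 2 - 2 / Nat.card H * a +
      (1 - H.relIndex L / Nat.card H) ∧
    (2 * H.relIndex L + 1 ≤ Nat.card H →
      1 - (H.relIndex L / Nat.card H : ℝ) ≤ nrm (rho (sharp H) L R (ν ζ)) ∧
        nrm Γ ≤ H.relIndex L - 1) := by
  have hn := h.normal
  have he : (H.relIndex L : ℂ) ≠ 0 := Nat.cast_ne_zero.mpr (relIndex_pos _ _).ne'
  have he' : (0 : ℝ) < H.relIndex L := Nat.cast_pos.mpr (relIndex_pos _ _)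
  have hh : (0 : ℝ) < Nat.card H := Nat.cast_pos.mpr Nat.card_pos
  obtain ⟨h1, h2, h3⟩ := h.Dade_Ind1_sub_lin_a1 oddL hν hζ iζ dζ
  obtain ⟨a, ha⟩ : ∃ a : ℤ, ⟪Chr.dade A L R (indA h.le 1 - ζ), ν ζ⟫ + 1 = a := by
    obtain ⟨a, ha⟩ := ZIrr.dot_int h3 (hν.zirr ζ hζ)
    exact ⟨a + 1, by rw [ha]; push_cast; rfl⟩
  have h4 := fun ξ hξ => h.dot_beta_nu hν hζ iζ dζ (ξ := ξ) hξ
  have h5 := fun ξ hξ => h.dot_sumS hν (ξ := ξ) hξ
  have h6 := h.nrm_sumS hν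
  have hb := h.beta_mem hζ dζ
  have h7 := h.isoOn.nrm (CS_of_ZS hb.1) hb.2
  rw [nrm_sub_of_orth (dot_comm_zero (SD_dot_ind_one hn hζ)), IsIrr.nrm iζ,
    nrm_eq_of_dot (φ := indA hn.1 1) (r := H.relIndex L) (by simpa using dot_indA_one_self hn)] at h7
  have h8 : nrm (rho (sharp H) L R (ν ζ)) = (1 - 1 / Nat.card H) / H.relIndex L * a ^ 2 -
      2 / Nat.card H * a + (1 - H.relIndex L / Nat.card H) := by
    have e : ∀ x : L, x ≠ 1 → rho (sharp H) L R (ν ζ) x =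
        (ζ + ((a : ℂ) / H.relIndex L) • indA hn.1 (1 : H → ℂ)) x := fun x hx => by
      by_cases hH : (x : G) ∈ H
      · rw [h.rho_apply_eq hν hζ iζ dζ (ZIrr.mem_CF (hν.zirr ζ hζ))
          ⟨hH, fun e => hx (Subtype.ext e)⟩, Finset.sum_eq_single ζ (fun ξ hξ hne => by
            rw [hν.iso _ hξ _ hζ, SD_orth hn hξ hζ hne]; simp) (fun h => absurd hζ h),
          eq_sub_of_add_eq ha, hν.iso _ hζ _ hζ, IsIrr.dot_self iζ, IsIrr.nrm iζ]
        simp [indA_one_apply hn hH, he, add_comm]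
      · rw [rho_eq_zero _ fun hc => hH hc.1]
        simp [SD_eq_zero hn hζ hH, indA_eq_zero hn _ hH]
    have e2 := dot_eq_of_off_one (rho_eq_zero _ fun hc => hc.2 rfl) e e
    have e3 : (Nat.card L : ℂ) = H.relIndex L * Nat.card H := by exact_mod_cast h.relIndex_mul.symm
    have hh' : (Nat.card H : ℂ) ≠ 0 := by exact_mod_cast hh.ne'
    refine nrm_eq_of_dot (e2.trans ?_)
    simp only [dot_add_left, dot_add_right, dot_smul_left, dot_smul_right, IsIrr.dot_self iζ,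
      SD_dot_ind_one hn hζ, dot_comm_zero (SD_dot_ind_one hn hζ), dot_indA_one_self hn, Pi.add_apply,
      Pi.smul_apply, indA_one, dζ, e3, smul_eq_mul, map_add, map_mul, map_div₀, map_natCast,
      map_intCast, Pi.one_apply, map_one]
    push_cast
    field_simp
    ring
  rw [ha] at h4
  set β := Chr.dade A L R (indA h.le 1 - ζ)
  set σ := ∑ ξ ∈ SD h.le H ⊥, (ξ 1 / H.relIndex L / nrm ξ) • ν ξ with hσ
  have o1 : ∀ ξ ∈ SD h.le H ⊥, ⟪ν ξ, β - (1 - ν ζ + (a : ℂ) • σ)⟫ = 0 := fun ξ hξ => by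
    refine dot_comm_zero ?_
    rw [dot_sub_left, dot_add_left, dot_sub_left, dot_smul_left, h4 ξ hξ, h5 ξ hξ,
      dot_comm_zero (h1 ξ hξ), hν.iso _ hζ _ hξ]
    ring
  have o2 : ∀ X, (∀ ξ ∈ SD h.le H ⊥, ⟪ν ξ, X⟫ = 0) → ⟪σ, X⟫ = 0 := fun X hX => by
    rw [hσ, dot_sum_left]
    exact Finset.sum_eq_zero fun ξ hξ => by rw [dot_smul_left, hX ξ hξ, mul_zero]
  have o3 : ⟪β - (1 - ν ζ + (a : ℂ) • σ), 1⟫ = 0 := by
    rw [dot_sub_left, dot_add_left, dot_sub_left, dot_smul_left, h2, dot_one_one, h1 ζ hζ, o2 1 h1]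
    simp
  have h9 : nrm (β - (1 - ν ζ + (a : ℂ) • σ)) =
      H.relIndex L - 1 - ((Nat.card H - 1) / H.relIndex L * a ^ 2 - 2 * a) := by
    have e1 := nrm_add_of_orth (φ := 1 - ν ζ + (a : ℂ) • σ) (ψ := β - (1 - ν ζ + (a : ℂ) • σ)) (by
      rw [dot_add_left, dot_sub_left, dot_smul_left, dot_comm_zero o3, o1 ζ hζ, o2 _ o1]; simp)
    have e2 : ⟪ν ζ, σ⟫ = 1 := by rw [← conj_dot, h5 ζ hζ, dζ, div_self he, map_one]
    rw [add_sub_cancel, h7, nrm_add, nrm_sub_of_orth (dot_comm_zero (h1 ζ hζ)), nrm_smul, h6,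
      (hν.dirr hζ iζ).nrm, nrm_eq_of_dot (r := 1) (by simpa using dot_one_one), dot_smul_right,
      dot_sub_left, dot_comm_zero (o2 1 h1), e2, Complex.norm_intCast, sq_abs] at e1
    simp only [map_intCast, zero_sub, mul_neg, mul_one, Complex.neg_re, Complex.intCast_re] at e1
    linarith
  refine ⟨_, a, o1, o3, (add_sub_cancel _ _).symm, h9, h8, fun hle => ?_⟩
  have hle' : (2 : ℝ) ≤ (Nat.card H - 1) / H.relIndex L := by
    rw [le_div_iff₀ he', le_sub_iff_add_le]; exact_mod_cast hle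
  have e1 : (a : ℝ) ≤ a ^ 2 := by exact_mod_cast Int.le_self_sq a
  have e2 : (0 : ℝ) ≤ (Nat.card H - 1) / H.relIndex L * a ^ 2 - 2 * a := by nlinarith [sq_nonneg (a : ℝ)]
  refine ⟨?_, by linarith⟩
  have e3 : (1 - 1 / (Nat.card H : ℝ)) / H.relIndex L * a ^ 2 - 2 / Nat.card H * a =
      ((Nat.card H - 1) / H.relIndex L * a ^ 2 - 2 * a) / Nat.card H := by field_simp
  have := div_nonneg e2 hh.le
  linarith

/-- Peterfalvi (7.8)(c) -/
theorem Dade_Ind1_sub_lin_c {χ : G → ℂ} (hχ : χ ∈ ZIrr G) (ho : ∀ ξ ∈ SD h.le H ⊥, ⟪ν ξ, χ⟫ = 0) :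
    (∀ a : L, (a : G) ∈ sharp H → rho (sharp H) L R χ a = ⟪Chr.dade A L R (indA h.le 1 - ζ), χ⟫) ∧
    nrm (rho (sharp H) L R χ) =
      (Nat.card H - 1) / Nat.card L * ‖⟪Chr.dade A L R (indA h.le 1 - ζ), χ⟫‖ ^ 2 := by
  have e : ∀ a : L, (a : G) ∈ sharp H →
      rho (sharp H) L R χ a = ⟪Chr.dade A L R (indA h.le 1 - ζ), χ⟫ := fun a ha => by
    rw [h.rho_apply_eq hν hζ iζ dζ (ZIrr.mem_CF hχ) ha, ho ζ hζ, Finset.sum_eq_zero fun ξ hξ => by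
      rw [ho ξ hξ]; simp, ZIrr.conj_dot (h.Dade_Ind1_sub_lin_a1 oddL hν hζ iζ dζ).2.2 hχ]
    simp
  refine ⟨e, ?_⟩
  have e2 : rho (sharp H) L R χ = ⟪Chr.dade A L R (indA h.le 1 - ζ), χ⟫ • rho (sharp H) L R 1 := by
    funext a
    by_cases ha : (a : G) ∈ sharp H
    · rw [e a ha, Pi.smul_apply, Dade.rho_of_const h.dadeH ha fun _ _ => rfl]; simp
    · rw [Pi.smul_apply, rho_eq_zero _ ha, rho_eq_zero _ ha, smul_zero]
  rw [e2, nrm_smul, Dade.nrm_rho_one h.dadeH, ncard_sharp, Nat.cast_sub Nat.card_pos, mul_comm]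
  simp

/-- `β - β^* = (ν ζ)^* - ν ζ`: the function `β + ν ζ` is real -/
theorem conj_Dade_Ind1_sub_lin : conjFun (Chr.dade A L R (indA h.le 1 - ζ) + ν ζ) =
    Chr.dade A L R (indA h.le 1 - ζ) + ν ζ := by
  have hn := h.normal
  have hζ' := SD_conj hn ζ hζ
  rw [conjFun_add, hν.conj_eq (h.isoOn.mono (SD_sub_ST _ _ _)).one dade_conjFun hζ hζ' iζ
    (SD_conj_ne hn oddL ζ hζ), ← dade_conjFun, conjFun_sub, ← ind_conjFun, conjFun_one,
    show indA h.le 1 - conjFun ζ = (indA h.le 1 - ζ) + (ζ - conjFun ζ) by abel, map_add,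
    hν.agree_sub hζ hζ' (IsChar.conj_deg (IsIrr.isChar iζ)).symm]
  abel

end DadeInd

/-- `cfdot_real_vchar_even` -/
theorem cfdot_real_vchar_even (oddG : Odd (Nat.card G)) {φ ψ : G → ℂ} (hφ : φ ∈ ZIrr G)
    (rφ : conjFun φ = φ) (hψ : ψ ∈ ZIrr G) (rψ : conjFun ψ = ψ) :
    Even (zdot φ ψ) ↔ Even (zdot φ 1) ∨ Even (zdot ψ 1) := by
  classical
  have e1 : zdot φ ψ = ∑ χ ∈ irr G, zdot φ χ * zdot ψ χ := by
    have := parseval (ZIrr.mem_CF hφ) ψ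
    rw [← ZIrr.coe_zdot hφ hψ, Finset.sum_congr rfl (g := fun χ => ((zdot φ χ * zdot ψ χ : ℤ) : ℂ))
      fun χ hχ => by
        have := IsIrr.mem_ZIrr (mem_irr.mp hχ)
        rw [ZIrr.dot_comm this hψ, ← ZIrr.coe_zdot hφ this, ← ZIrr.coe_zdot hψ this]; simp] at this
    exact_mod_cast this
  have e2 : ∀ θ ∈ ZIrr G, conjFun θ = θ → ∀ χ ∈ irr G, zdot θ (conjFun χ) = zdot θ χ :=
    fun θ hθ rθ χ hχ => by
      conv_lhs => rw [← rθ, zdot, ZIrr.dot_conjFun hθ (IsIrr.mem_ZIrr (mem_irr.mp hχ))]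
      rfl
  have e3 : ∑ χ ∈ (irr G).erase 1, ((zdot φ χ * zdot ψ χ : ℤ) : ZMod 2) = 0 :=
    Finset.sum_involution (fun χ _ => conjFun χ) (fun χ hχ => by
      rw [e2 φ hφ rφ χ (Finset.mem_of_mem_erase hχ), e2 ψ hψ rψ χ (Finset.mem_of_mem_erase hχ),
        CharTwo.add_self_eq_zero])
      (fun χ hχ _ e => Finset.ne_of_mem_erase hχ
        (IsIrr.eq_one_of_conj_eq oddG (mem_irr.mp (Finset.mem_of_mem_erase hχ)) e))
      (fun χ hχ => Finset.mem_erase.mpr ⟨fun e => Finset.ne_of_mem_erase hχ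
        (by simpa using congrArg conjFun e),
        mem_irr.mpr (IsIrr.conjFun (mem_irr.mp (Finset.mem_of_mem_erase hχ)))⟩)
      fun χ _ => conjFun_conjFun χ
  rw [← Int.even_mul, ← ZMod.intCast_eq_zero_iff_even, ← ZMod.intCast_eq_zero_iff_even, e1,
    ← Finset.add_sum_erase _ _ one_mem_irr, Int.cast_add, Int.cast_sum, e3, add_zero]

section
variable (oddG : Odd (Nat.card G)) {L₁ H₁ L₂ H₂ : Subgroup G} {A₁ A₂ : Set G} {R₁ R₂ : G → Subgroup G}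
  (h₁ : DadeInd L₁ H₁ A₁ R₁) (h₂ : DadeInd L₂ H₂ A₂ R₂)
  (hd : Disjoint (dsupp (sharp H₁) R₁) (dsupp (sharp H₂) R₂))
  {ν₁ : (L₁ → ℂ) →ₗ[ℂ] (G → ℂ)} {ν₂ : (L₂ → ℂ) →ₗ[ℂ] (G → ℂ)}
  (hν₁ : CohWith (SD h₁.le H₁ ⊥) (dade A₁ L₁ R₁) ν₁) (hν₂ : CohWith (SD h₂.le H₂ ⊥) (dade A₂ L₂ R₂) ν₂)
  {ζ₁ : L₁ → ℂ} {ζ₂ : L₂ → ℂ} (hζ₁ : ζ₁ ∈ SD h₁.le H₁ ⊥) (hζ₂ : ζ₂ ∈ SD h₂.le H₂ ⊥)
  (i₁ : IsIrrCharacter L₁ ζ₁) (i₂ : IsIrrCharacter L₂ ζ₂)
include oddG hd hν₁ hν₂ hζ₁ hζ₂ i₁ i₂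

omit oddG hν₁ hν₂ hζ₁ hζ₂ i₁ i₂ in
theorem disjoint_DadeInd_ortho {α : L₁ → ℂ} {β : L₂ → ℂ} (hα : α ∈ CS (ST h₁.le)) (α1 : α 1 = 0)
    (hβ : β ∈ CS (ST h₂.le)) (β1 : β 1 = 0) : ⟪dade A₁ L₁ R₁ α, dade A₂ L₂ R₂ β⟫ = 0 := by
  rw [h₁.dade_eq hα α1, h₂.dade_eq hβ β1, disjoint_Dade_ortho hd]

theorem disjoint_coherent_ortho : ⟪ν₁ ζ₁, ν₂ ζ₂⟫ = 0 := by
  have o₁ : Odd (Nat.card L₁) := oddG.of_dvd_nat (Subgroup.card_subgroup_dvd_card _)
  have o₂ : Odd (Nat.card L₂) := oddG.of_dvd_nat (Subgroup.card_subgroup_dvd_card _)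
  have c₁ := SD_conj h₁.normal _ hζ₁
  have c₂ := SD_conj h₂.normal _ hζ₂
  have d₁ := (IsChar.conj_deg (IsIrr.isChar i₁)).symm
  have d₂ := (IsChar.conj_deg (IsIrr.isChar i₂)).symm
  have m₁ := sub_mem (mem_CS (SD_sub_ST _ _ _ hζ₁)) (mem_CS (SD_sub_ST _ _ _ c₁))
  have m₂ := sub_mem (mem_CS (SD_sub_ST _ _ _ hζ₂)) (mem_CS (SD_sub_ST _ _ _ c₂))
  have e₁ := hν₁.agree_sub hζ₁ c₁ d₁
  have e₂ := hν₂.agree_sub hζ₂ c₂ d₂
  refine (dirr_diff_ortho (hν₁.dirr hζ₁ i₁) (hν₁.dirr c₁ (IsIrr.conjFun i₁)) (hν₂.dirr hζ₂ i₂)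
    (hν₂.dirr c₂ (IsIrr.conjFun i₂)) ?_ ?_ ?_ ?_ ?_).1
  · rw [hν₁.iso _ hζ₁ _ c₁, SD_orth h₁.normal hζ₁ c₁ (SD_conj_ne h₁.normal o₁ _ hζ₁).symm]
  · rw [hν₂.iso _ hζ₂ _ c₂, SD_orth h₂.normal hζ₂ c₂ (SD_conj_ne h₂.normal o₂ _ hζ₂).symm]
  · rw [← e₁, ← e₂]
    exact disjoint_DadeInd_ortho h₁ h₂ hd m₁ (sub_eq_zero.mpr d₁) m₂ (sub_eq_zero.mpr d₂)
  · exact sub_eq_zero.mp (by rw [← Pi.sub_apply, ← e₁, Dade.dade_one h₁.dade])
  · exact sub_eq_zero.mp (by rw [← Pi.sub_apply, ← e₂, Dade.dade_one h₂.dade])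

/-- Peterfalvi (7.9) -/
theorem Dade_sub_lin_nonorthogonal (d₁ : ζ₁ 1 = H₁.relIndex L₁) (d₂ : ζ₂ 1 = H₂.relIndex L₂) :
    ⟪dade A₁ L₁ R₁ (indA h₁.le 1 - ζ₁), ν₂ ζ₂⟫ ≠ 0 ∨
      ⟪dade A₂ L₂ R₂ (indA h₂.le 1 - ζ₂), ν₁ ζ₁⟫ ≠ 0 := by
  have o₁ : Odd (Nat.card L₁) := oddG.of_dvd_nat (Subgroup.card_subgroup_dvd_card _)
  have o₂ : Odd (Nat.card L₂) := oddG.of_dvd_nat (Subgroup.card_subgroup_dvd_card _)
  by_contra hc
  push Not at hc
  obtain ⟨a1, a2, a3⟩ := h₁.Dade_Ind1_sub_lin_a1 o₁ hν₁ hζ₁ i₁ d₁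
  obtain ⟨b1, b2, b3⟩ := h₂.Dade_Ind1_sub_lin_a1 o₂ hν₂ hζ₂ i₂ d₂
  have a4 := h₁.conj_Dade_Ind1_sub_lin o₁ hν₁ hζ₁ i₁ d₁
  have b4 := h₂.conj_Dade_Ind1_sub_lin o₂ hν₂ hζ₂ i₂ d₂
  have m₁ := h₁.beta_mem hζ₁ d₁
  have m₂ := h₂.beta_mem hζ₂ d₂
  have e1 := disjoint_DadeInd_ortho h₁ h₂ hd (CS_of_ZS m₁.1) m₁.2 (CS_of_ZS m₂.1) m₂.2
  have e2 := disjoint_coherent_ortho oddG h₁ h₂ hd hν₁ hν₂ hζ₁ hζ₂ i₁ i₂
  have := (cfdot_real_vchar_even oddG (add_mem a3 (hν₁.zirr _ hζ₁)) a4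
    (add_mem b3 (hν₂.zirr _ hζ₂)) b4).mp (by
      rw [zdot_eq (n := 0) (by
        rw [dot_add_left, dot_add_right, dot_add_right, e1, e2, hc.1, dot_comm_zero hc.2]; simp)]
      exact Even.zero)
  rw [zdot_eq (n := 1) (by rw [dot_add_left, a2, a1 _ hζ₁]; simp),
    zdot_eq (n := 1) (by rw [dot_add_left, b2, b1 _ hζ₂]; simp)] at this
  simp at this

end

theorem Frobenius_bound_aux {e h : ℝ} (he : 2 ≤ e) (hh : 2 * e + 1 ≤ h) :
    (e - 1) / (h + 1) < 1 - e / h - (h - 1) / e / h := by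
  have h0 : 0 < h := by linarith
  have e0 : 0 < e := by linarith
  have h1 : (e - 1) / (h + 1) < (e - 1) / h := div_lt_div_of_pos_left (by linarith) h0 (by linarith)
  have h2 : 1 - e / h - (h - 1) / e / h - (e - 1) / h = (e - 1) * (h - 2 * e - 1) / (e * h) := by
    field_simp; ring
  have h3 : 0 ≤ (e - 1) * (h - 2 * e - 1) / (e * h) :=
    div_nonneg (mul_nonneg (by linarith) (by linarith)) (by positivity)
  linarith

theorem IsFrob_index_bound {L K E : Subgroup G} (h : IsFrob L K E) (oddL : Odd (Nat.card L)) :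
    2 ≤ K.relIndex L ∧ 2 * K.relIndex L + 1 ≤ Nat.card K := by
  rw [h.1.complIn.relIndex_left]
  refine ⟨one_lt_card h.2.2.1, ?_⟩
  obtain ⟨m, hm⟩ := Frobenius_dvd_ker1 h
  have h1 := one_lt_card h.2.1
  have h2 := odd_of_le oddL h.1.left_le
  have h3 := odd_of_le oddL h.1.right_le
  have h4 : Even m := by
    have : Even (Nat.card E * m) := hm ▸ Nat.Odd.sub_odd h2 odd_one
    exact (Nat.even_mul.mp this).resolve_left (Nat.not_even_iff_odd.mpr h3)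
  have h5 : 2 ≤ m := by
    obtain ⟨k, rfl⟩ := h4
    rcases k with _ | k
    · omega
    · omega
  nlinarith [Nat.sub_add_cancel h1.le]

/-- Peterfalvi (7.11) -/
theorem coherent_Frobenius_partition (oddG : Odd (Nat.card G)) {ι : Type*} (s : Finset ι) (hs : 2 ≤ s.card)
    (L H : ι → Subgroup G) (solL : ∀ i ∈ s, Group.IsSolvable (L i))
    (frob : ∀ i ∈ s, ∃ E, IsFrob (L i) (H i) E) (ti : ∀ i ∈ s, NormedTI (sharp (H i)) ⊤ (L i))
    (cop : ∀ i ∈ s, ∀ j ∈ s, i ≠ j → (Nat.card (H i)).Coprime (Nat.card (H j))) :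
    ∃ g : G, g ≠ 1 ∧ ∀ i ∈ s, g ∉ classSupport (sharp (H i)) ⊤ := by
  classical
  by_contra hc
  push Not at hc
  obtain ⟨i₀, hi₀, hmin⟩ := s.exists_min_image (fun i => Nat.card (H i))
    (Finset.card_pos.mp (by omega))
  choose! E hE using frob
  have oL : ∀ i, Odd (Nat.card (L i)) := fun i => oddG.of_dvd_nat (Subgroup.card_subgroup_dvd_card _)
  have hD : ∀ i : s, DadeInd (L i) (H i) (sharp (H i)) fun _ => ⊥ := fun i =>
    dadeInd_of_TI (hE i i.2).1.normal (ti i i.2)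
  have hsupp : ∀ i, dsupp (sharp (H i)) (fun _ => ⊥) = classSupport (sharp (H i)) ⊤ := fun i => by
    ext g
    refine ⟨fun ⟨a, ha, u, hu, x, e⟩ => ⟨a, ha, x⁻¹, trivial, ?_⟩,
      fun ⟨a, ha, x, _, e⟩ => ⟨a, ha, 1, one_mem _, x⁻¹, by rw [e]; group⟩⟩
    rw [Subgroup.mem_bot.mp hu, mul_one] at e
    rw [← e]; group
  have hd : ∀ i j : s, i ≠ j → Disjoint (dsupp (sharp (H i)) fun _ => ⊥)
      (dsupp (sharp (H j)) fun _ => ⊥) := fun i j hne => by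
    rw [hsupp, hsupp, Set.disjoint_left]
    rintro g ⟨a, ha, x, -, e1⟩ ⟨b, hb, y, -, e2⟩
    have h1 : orderOf a = orderOf b := by
      rw [← (MulAut.conj x).orderOf_eq a, ← (MulAut.conj y).orderOf_eq b, MulAut.conj_apply,
        MulAut.conj_apply, ← e1, ← e2]
    exact ha.2 (orderOf_eq_one_iff.mp (Nat.eq_one_of_dvd_coprimes
      (cop i i.2 j j.2 fun e => hne (Subtype.ext e)) (orderOf_dvd_card_of_mem ha.1)
      (h1 ▸ orderOf_dvd_card_of_mem hb.1)))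
  choose ν hν using fun i : s => Sibley_coherence_Frob (hD i) (oL i)
    (Frobenius_sol_kernel_nil (hE i i.2) (sol_of_le (solL i i.2) (hD i).le)) (ti i i.2) (hE i i.2)
  have hirr := fun i : s => IsFrob_irr (hE i i.2)
  choose ζ hζ dζ using fun i : s => exists_lin_SD_of_sol (hD i).normal
    (sol_of_le (solL i i.2) (hD i).le) (bot_lt_iff_ne_bot.mpr (hE i i.2).2.1) (norm_bot _)
  replace dζ : ∀ i : s, ζ i 1 = (H i).relIndex (L i) := fun i => by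
    rw [← (dζ i).1, SD_coe_deg (hD i).normal (hζ i)]
  let k : s := ⟨i₀, hi₀⟩
  have hχ := (hν k).dirr (hζ k) (hirr k _ (hζ k))
  obtain ⟨he1, he2⟩ := IsFrob_index_bound (hE k k.2) (oL k)
  obtain ⟨Γ, a, g1, g2, g3, -, -, g4⟩ :=
    (hD k).Dade_Ind1_sub_lin (oL k) (hν k) (hζ k) (hirr k _ (hζ k)) (dζ k)
  obtain ⟨g4, g5⟩ := g4 he2
  have ortho : ∀ i j : s, i ≠ j → ∀ ξ ∈ SD (hD i).le (H i) ⊥, ∀ μ ∈ SD (hD j).le (H j) ⊥,
      ⟪ν i ξ, ν j μ⟫ = 0 := fun i j hne ξ hξ μ hμ => disjoint_coherent_ortho oddG (hD i) (hD j)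
    (hd i j hne) (hν i) (hν j) hξ hμ (hirr i _ hξ) (hirr j _ hμ)
  let B : Finset s := Finset.univ.filter fun i => i ≠ k ∧
    ⟪dade (sharp (H i)) (L i) (fun _ => ⊥) (indA (hD i).le 1 - ζ i), ν k (ζ k)⟫ = 0
  let σ : s → G → ℂ := fun i =>
    ∑ ξ ∈ SD (hD i).le (H i) ⊥, (ξ 1 / (H i).relIndex (L i) / nrm ξ) • ν i ξ
  have nσ : ∀ i : s, nrm (σ i) = (Nat.card (H i) - 1) / (H i).relIndex (L i) := fun i =>
    (hD i).nrm_sumS (hν i)
  have hh : ∀ i : s, (1 : ℝ) < Nat.card (H i) := fun i => by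
    exact_mod_cast one_lt_card (hE i i.2).2.1
  have he : ∀ i : s, (0 : ℝ) < (H i).relIndex (L i) := fun i => Nat.cast_pos.mpr (relIndex_pos _ _)
  have pσ : ∀ i : s, 0 < nrm (σ i) := fun i => nσ i ▸ div_pos (sub_pos.mpr (hh i)) (he i)
  have oσ : ∀ (i : s) X, (∀ ξ ∈ SD (hD i).le (H i) ⊥, ⟪ν i ξ, X⟫ = 0) → ⟪σ i, X⟫ = 0 :=
    fun i X hX => by
      rw [dot_sum_left]
      exact Finset.sum_eq_zero fun ξ hξ => by rw [dot_smul_left, hX ξ hξ, mul_zero]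
  have b1 : ∑ i ∈ B, nrm (σ i) ≤ nrm Γ := by
    refine le_trans (Finset.sum_le_sum fun i hi => ?_) (Subcoh.bessel_orth B σ
      (fun i _ e => (pσ i).ne' (by rw [e, nrm_zero])) (fun i _ j _ hne => oσ i _ fun ξ hξ =>
        dot_comm_zero (oσ j _ fun μ hμ => ortho j i hne.symm μ hμ ξ hξ)) Γ)
    obtain ⟨hne, h0⟩ := (Finset.mem_filter.mp hi).2
    have h1 := (Dade_sub_lin_nonorthogonal oddG (hD i) (hD k) (hd i k hne) (hν i) (hν k) (hζ i) (hζ k)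
      (hirr i _ (hζ i)) (hirr k _ (hζ k)) (dζ i) (dζ k)).resolve_left (not_not.mpr h0)
    have mb := (hD k).beta_mem (hζ k) (dζ k)
    obtain ⟨x, hx⟩ := ZIrr.dot_int ((hD k).isoOn.zirr _ mb.1 mb.2) ((hν i).zirr _ (hζ i))
    have h2 : ⟪σ i, Γ - (x : ℂ) • σ i⟫ = 0 := oσ i _ fun ξ hξ => dot_comm_zero <| by
      have mi := (hD i).sub_mem_CS (hζ i) (dζ i) hξ
      have h3 := congrArg (⟪·, ν i ξ⟫) g3
      simp only [dot_add_left, dot_sub_left, dot_smul_left, ortho k i hne.symm _ (hζ k) ξ hξ,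
        oσ k _ fun μ hμ => ortho k i hne.symm μ hμ ξ hξ, dot_comm_zero
          (((hD i).Dade_Ind1_sub_lin_a1 (oL i) (hν i) (hζ i) (hirr i _ (hζ i)) (dζ i)).1 ξ hξ),
        mul_zero, sub_zero, add_zero, zero_add, σ] at h3
      rw [dot_sub_left, dot_smul_left, (hD i).dot_sumS (hν i) hξ, ← h3,
        (hD i).nu_eq (hν i) (hζ i) (dζ i) hξ, dot_add_right, dot_smul_right, hx,
        disjoint_DadeInd_ortho (hD k) (hD i) (hd k i hne.symm) (CS_of_ZS mb.1) mb.2 mi.1 mi.2,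
        map_div₀, map_natCast, IsChar.conj_one (SD_char (hD i).normal hξ)]
      ring
    have hx0 : (1 : ℝ) ≤ (x : ℝ) ^ 2 := by
      have : x ≠ 0 := fun e => h1 (by rw [hx, e, Int.cast_zero])
      exact_mod_cast (one_le_sq_iff_one_le_abs x).mpr (Int.one_le_abs this)
    rw [dot_sub_right, dot_smul_right, sub_eq_zero, dot_self, map_intCast] at h2
    rw [← conj_dot, RCLike.norm_conj, h2, norm_mul, mul_pow, Complex.norm_intCast, sq_abs,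
      Complex.norm_real, Real.norm_of_nonneg (pσ i).le, le_div_iff₀ (pσ i)]
    nlinarith [pσ i]
  have c1 := Dade_cover_inequality Finset.univ (fun i : s => sharp (H i)) (fun i => L i)
    (fun _ _ => ⊥) (fun i _ => (hD i).dade) (fun i _ j _ => hd i j) (G₀ := {1}) (fun g => by
      refine ⟨fun e i _ => e ▸ Dade.one_not_mem_dsupp (hD i).dade, fun h => by_contra fun e => ?_⟩
      obtain ⟨i, hi, h1⟩ := hc g e
      exact h ⟨i, hi⟩ (Finset.mem_univ _) (hsupp i ▸ h1)) (ZIrr.mem_CF hχ.mem_ZIrr) hχ.nrm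
  have c2 : (0 : ℝ) ≤ (Nat.card G : ℝ)⁻¹ *
      (∑ᶠ g ∈ ({1} : Set G), ‖ν k (ζ k) g‖ ^ 2 - ({1} : Set G).ncard) := by
    obtain ⟨n, hn0, hn⟩ := hχ.deg_int
    rw [finsum_mem_singleton, Set.ncard_singleton, hn, Complex.norm_intCast, sq_abs]
    refine mul_nonneg (by positivity) (sub_nonneg.mpr ?_)
    exact_mod_cast (one_le_sq_iff_one_le_abs n).mpr (Int.one_le_abs hn0)
  have hA : ∀ i : s, ((sharp (H i)).ncard / Nat.card (L i) : ℝ) = nrm (σ i) / Nat.card (H i) :=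
    fun i => by rw [nσ, ncard_sharp, Nat.cast_sub Nat.card_pos, ← (hD i).relIndex_mul, div_div]; simp
  have c3 : ∀ i ∈ Finset.univ.erase k, -(if i ∈ B then nrm (σ i) / (Nat.card (H k) + 1) else 0) ≤
      nrm (rho (sharp (H i)) (L i) (fun _ => ⊥) (ν k (ζ k))) -
        (sharp (H i)).ncard / Nat.card (L i) := fun i hi => by
    have hne := Finset.ne_of_mem_erase hi
    split_ifs with hB
    · have : (Nat.card (H k) : ℝ) + 1 ≤ Nat.card (H i) := by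
        have h1 : Nat.card (H k) ≠ Nat.card (H i) := fun e => by
          have := cop i i.2 k k.2 fun e => hne (Subtype.ext e)
          rw [e, Nat.coprime_self] at this
          exact (one_lt_card (hE i i.2).2.1).ne' this
        exact_mod_cast lt_of_le_of_ne (hmin i i.2) h1
      have := div_le_div_of_nonneg_left (pσ i).le (by linarith [hh k]) this
      rw [hA]
      linarith [nrm_nonneg (rho (sharp (H i)) (L i) (fun _ => ⊥) (ν k (ζ k)))]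
    · have h0 := fun h => hB (Finset.mem_filter.mpr ⟨Finset.mem_univ i, hne, h⟩)
      have mb := (hD i).beta_mem (hζ i) (dζ i)
      obtain ⟨x, hx⟩ := ZIrr.dot_int ((hD i).isoOn.zirr _ mb.1 mb.2) hχ.mem_ZIrr
      have hx0 : (1 : ℝ) ≤ (x : ℝ) ^ 2 := by
        have : x ≠ 0 := fun e => h0 (by rw [hx, e, Int.cast_zero])
        exact_mod_cast (one_le_sq_iff_one_le_abs x).mpr (Int.one_le_abs this)
      rw [((hD i).Dade_Ind1_sub_lin_c (oL i) (hν i) (hζ i) (hirr i _ (hζ i)) (dζ i) hχ.mem_ZIrr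
        fun ξ hξ => ortho i k hne ξ hξ _ (hζ k)).2, hx, Complex.norm_intCast, sq_abs, ncard_sharp,
        Nat.cast_sub Nat.card_pos, Nat.cast_one, neg_zero, sub_nonneg]
      exact le_mul_of_one_le_right (div_nonneg (by linarith [hh i]) (Nat.cast_nonneg _)) hx0
  have c4 := Finset.sum_le_sum c3
  rw [Finset.sum_neg_distrib, Finset.sum_ite_mem, Finset.inter_eq_right.mpr
    (fun i hi => Finset.mem_erase.mpr ⟨(Finset.mem_filter.mp hi).2.1, Finset.mem_univ _⟩),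
    ← Finset.sum_div] at c4
  rw [← Finset.add_sum_erase _ _ (Finset.mem_univ k), hA k, nσ k] at c1
  have c5 := div_le_div_of_nonneg_right (b1.trans g5) (show (0 : ℝ) ≤ Nat.card (H k) + 1 by positivity)
  have he1' : (2 : ℝ) ≤ (H k).relIndex (L k) := by exact_mod_cast he1
  have he2' : 2 * ((H k).relIndex (L k) : ℝ) + 1 ≤ Nat.card (H k) := by exact_mod_cast he2
  have c6 := Frobenius_bound_aux he1' he2'
  linarith

end CA.Chr
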