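import Cfsg.Agent.PF.P09z

/-!
# Interface: Peterfalvi, section 9.
`H = fittingHallOf M`, `H₀ = kerH0 M U`, `C = kerC M U`, `p = primeH M U`, `q = |W₁|`, `u = cardUbar M U`,
`𝒮(Y) = SP M H Y`.
-/

set_option autoImplicit false
set_option linter.unusedSectionVars false

open scoped ComplexConjugate

open Cfsg CA.FG CA.BG CA.Chr

namespace CA.PF

universe u

variable {G : Type u} [Group G] [MinSimpleOdd G] {M W₁ U W₂ : Subgroup G} (maxM : IsCoatom M)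
  (hP : IsTypePWith M W₁ U W₂) (nt5 : FTtype M ≠ 5)
include maxM hP nt5

/-- Peterfalvi (9.3) -/
theorem typeII_IV_core :
    (FTtype M = 2 → fittingHallOf M ⊓ 𝒞(U) = ⊥ ∧
      Nat.card (fittingHallOf M) = Nat.card W₂ ^ Nat.card W₁) ∧
    (FTtype M ≠ 2 → (Nat.card W₂).Prime ∧ fittingHallOf M ⊓ 𝒞(U ⊔ W₁) = ⊥ ∧
      Nat.card (fittingHallOf M) = Nat.card W₂ ^ Nat.card W₁ * Nat.card ↥(fittingHallOf M ⊓ 𝒞(U))) :=
  P09.typeII_IV_core maxM hP nt5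

/-- Peterfalvi (9.4) -/
theorem Ptype_Fcore_kernel_exists :
    ChiefFactor M (kerH0 M U) (fittingHallOf M) ∧ fittingHallOf M ⊓ 𝒞(U) ≤ kerH0 M U :=
  P09.Ptype_Fcore_kernel_exists maxM hP nt5

theorem Ptype_factor_prime : (primeH M U).Prime ∧
    ⁅fittingHallOf M, fittingHallOf M⁆ ≤ kerH0 M U ∧
    ∀ x ∈ fittingHallOf M, x ^ primeH M U ∈ kerH0 M U :=
  P09.Ptype_factor_prime maxM hP nt5

theorem Ptype_Fcompl_kernel_normal : kerC M U ⊲ U ⊔ W₁ ∧ fittingHallOf M ⊔ kerC M U ⊲ M ∧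
    kerH0 M U ⊔ kerC M U ⊲ M ∧ kerH0 M U ⊔ ⁅kerC M U, kerC M U⁆ ⊲ M ∧ kerH0 M U ⊔ ⁅U, U⁆ ⊲ M ∧
    U ⊓ 𝒞(fittingHallOf M) ≤ kerC M U ∧ ⁅U, U⁆ ≤ kerC M U :=
  P09.Ptype_Fcompl_kernel_normal maxM hP nt5

/-- Peterfalvi (9.6) -/
theorem Ptype_Fcore_factor_facts : kerC M U ≠ U ∧ (kerH0 M U).relIndex W₂ = primeH M U ∧
    (kerH0 M U).relIndex (fittingHallOf M) = primeH M U ^ Nat.card W₁ :=
  P09.Ptype_Fcore_factor_facts maxM hP nt5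

theorem def_Ptype_factor_prime (h : (Nat.card W₂).Prime) : primeH M U = Nat.card W₂ :=
  P09.def_Ptype_factor_prime maxM hP nt5 h

/-- Peterfalvi (9.7)(a) -/
theorem typeP_Galois_Pn (h : ¬ TypePGalois M U) : ∃ H₁ a, NonGal M W₁ U H₁ a :=
  P09.typeP_Galois_Pn maxM hP nt5 h

/-- Peterfalvi (9.7)(b) -/
theorem typeP_Galois_P (h : TypePGalois M U) :
    (∃ (F : Type) (_ : Field F) (_ : Fintype F) (φ ψ : G → F) (η : W₁ →* (F ≃+* F)),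
      GalField M W₁ U W₂ F φ ψ η) ∧
    IsCyclic (U /ₛ kerC M U) ∧ (cardUbar M U).Coprime (primeH M U - 1) ∧
    cardUbar M U ∣ (primeH M U ^ Nat.card W₁ - 1) / (primeH M U - 1) :=
  P09.typeP_Galois_P maxM hP nt5 h

open Classical in
/-- Peterfalvi (9.8)(a), (c), (d); (b) is `typeP_reducible_core_Ind` -/
theorem typeP_nonGalois_characters {H₁ : Subgroup G} {a : ℕ} (h : NonGal M W₁ U H₁ a) :
    (∀ θ : ↥⁅M, M⁆ → ℂ, IsIrrCharacter _ θ → ¬ (fittingHallOf M).subgroupOf _ ≤ cfker θ →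
      (kerH0 M U).subgroupOf _ ≤ cfker θ → a ∣ deg θ) ∧
    (∃ ζ, IsIrrCharacter M ζ ∧ IsIndHC M W₁ U ζ) ∧
    a ^ 2 * Nat.card ↥⁅U, U⁆ ∣ (primeH M U - 1) * Nat.card U ∧
    (primeH M U - 1) * Nat.card U / (a ^ 2 * Nat.card ↥⁅U, U⁆) ≤
      ((SP M (fittingHallOf M) (kerH0 M U ⊔ ⁅U, U⁆)).filter
        fun ζ => IsIrrCharacter M ζ ∧ ζ 1 = Nat.card W₁ * a).card :=
  P09.typeP_nonGalois_characters maxM hP nt5 h

/-- Peterfalvi (9.9)(a), (c); (b) is `typeP_reducible_core_Ind` -/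
theorem typeP_Galois_characters (h : TypePGalois M U) :
    (∀ θ : ↥⁅M, M⁆ → ℂ, IsIrrCharacter _ θ → ¬ (fittingHallOf M).subgroupOf _ ≤ cfker θ →
      (kerH0 M U).subgroupOf _ ≤ cfker θ → cardUbar M U ∣ deg θ) ∧
    (∀ ζ ∈ SP M (fittingHallOf M) (kerH0 M U ⊔ ⁅kerC M U, kerC M U⁆),
      ζ 1 = Nat.card W₁ * cardUbar M U ∧ IsIndLin M (fittingHallOf M ⊔ kerC M U) ζ) ∧
    ((∀ ζ ∈ SP M (fittingHallOf M) (kerH0 M U ⊔ ⁅kerC M U, kerC M U⁆), ¬ IsIrrCharacter M ζ) →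
      kerC M U = ⊥ ∧ cardUbar M U = (primeH M U ^ Nat.card W₁ - 1) / (primeH M U - 1) ∧
        FrobModH0 M U) :=
  P09.typeP_Galois_characters maxM hP nt5 h

open Classical in
/-- Peterfalvi (9.8)(b) and (9.9)(b).  The reducible members of `𝒮(H₀)` are among the `μ_j` (`SP_cases`). -/
theorem typeP_reducible_core_Ind :
    ((SP M (fittingHallOf M) (kerH0 M U)).filter fun ζ => ¬ IsIrrCharacter M ζ).card = primeH M U - 1 ∧
    ∀ ζ ∈ SP M (fittingHallOf M) (kerH0 M U), ¬ IsIrrCharacter M ζ → IsIndHC M W₁ U ζ :=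
  P09.typeP_reducible_core_Ind maxM hP nt5

/-- Peterfalvi (9.10) -/
theorem typeP_reducible_core_cases :
    (∃ ζ ∈ SP M (fittingHallOf M) (kerH0 M U ⊔ ⁅kerC M U, kerC M U⁆), IsIrrCharacter M ζ ∧
      ζ 1 = Nat.card W₁ * cardUbar M U ∧ IsIndLin M (fittingHallOf M ⊔ kerC M U) ζ) ∨
    (TypePGalois M U ∧ FrobModH0 M U ∧ IsCyclic U ∧
      Nat.card U = (primeH M U ^ Nat.card W₁ - 1) / (primeH M U - 1) ∧
      (FTtype M = 2 → IsFrob ⁅M, M⁆ (fittingHallOf M) U)) :=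
  P09.typeP_reducible_core_cases maxM hP nt5

/-- Peterfalvi (9.11) -/
theorem Ptype_core_coherence :
    Coh (SP M (fittingHallOf M) (kerH0 M U ⊔ ⁅kerC M U, kerC M U⁆)) (tau0 M) :=
  P09z.Ptype_core_coherence maxM hP nt5

end CA.PF
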