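import Cfsg.Agent.PF.P10d

/-!
# Peterfalvi (10.11)
-/

set_option autoImplicit false
set_option linter.unusedSectionVars false
set_option linter.unusedVariables false

open scoped ComplexConjugate

open Cfsg CA.FG CA.BG CA.Chr

namespace CA.PF.P10

universe u

variable {G : Type u} [Group G] [MinSimpleOdd G] {M W₁ U W₂ : Subgroup G}

/-- Peterfalvi (10.11), first part -/
theorem FTtypeP_primes (maxM : IsCoatom M) (hP : IsTypePWith M W₁ U W₂) :
    (Nat.card W₁).Prime ∧ (Nat.card W₂).Prime := by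
  obtain ⟨S, pair, V, hS⟩ := FTtypeP_pair_witness maxM hP
  exact ⟨(compl_of_typeII_IV maxM hP (FTtype5_exclusion maxM)).2.2.1,
    (compl_of_typeII_IV pair.maxT hS (FTtype5_exclusion pair.maxT)).2.2.1⟩

/-- Peterfalvi (10.11), second part -/
theorem FTtypeII_prime_facts (maxM : IsCoatom M) (hP : IsTypePWith M W₁ U W₂) (h : FTtype M = 2) :
    IsElementaryAbelian (Nat.card W₂) (fittingHallOf M) ∧
    Nat.card (fittingHallOf M) = Nat.card W₂ ^ Nat.card W₁ ∧
    Coh (SP M (fittingHallOf M) ⊥) (tau0 M) := by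
  have nt5 := FTtype5_exclusion maxM
  have oH := ((typeII_IV_core maxM hP nt5).1 h).2
  have ep := def_Ptype_factor_prime maxM hP nt5 (FTtypeP_primes maxM hP).2
  have e0 : kerH0 M U = ⊥ := by
    have := card_mul_relIndex (Ptype_Fcore_kernel_exists maxM hP nt5).1.lt.le
    rw [(Ptype_Fcore_factor_facts maxM hP nt5).2.2, ep, oH, mul_eq_right₀ (pow_ne_zero _ Nat.card_pos.ne')]
      at this
    exact Subgroup.card_eq_one.1 this
  obtain ⟨-, h1, h2⟩ := Ptype_factor_prime maxM hP nt5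
  rw [e0] at h1 h2
  refine ⟨⟨abelian_iff_le_cent.2 (comm_eq_bot_iff.1 (le_bot_iff.1 h1)), ep ▸ h2⟩, oH, ?_⟩
  have := Ptype_core_coherence maxM hP nt5
  rwa [e0, comm_eq_bot_iff.2 (abelian_iff_le_cent.1 (abelian_of_le (compl_of_typeII maxM hP h).2.1
    (show kerC M U ≤ U from inf_le_left))), bot_sup_eq] at this

end CA.PF.P10
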