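import Cfsg.Agent.PF.I09
import Cfsg.Agent.PF.P10e

/-!
# Interface: Peterfalvi, section 10.
-/

set_option autoImplicit false
set_option linter.unusedSectionVars false

open scoped ComplexConjugate

open Cfsg CA.FG CA.BG CA.Chr

namespace CA.PF

universe u

variable {G : Type u} [Group G] [MinSimpleOdd G] {M W₁ U W₂ : Subgroup G}

section
variable (maxM : IsCoatom M) (hP : IsTypePWith M W₁ U W₂) (gt2 : 2 < FTtype M)
include maxM hP gt2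

theorem FTtype345_core_prime : (Nat.card W₂).Prime := P10.FTtype345_core_prime maxM hP gt2

/-- Peterfalvi (10.3) -/
theorem FTtype345_constants : ∃ d δ n, Const345 hP d δ n := P10.FTtype345_constants maxM hP gt2

section
variable {d : ℕ} {δ : ℤ} {n : ℕ} (hc : Const345 hP d δ n) {ζ : M → ℂ} (hζ : ζ ∈ SP M ⁅M, M⁆ ⊥)
  (iζ : IsIrrCharacter M ζ) (dζ : ζ 1 = Nat.card W₁)
include hc hζ iζ dζ

theorem vchar_FTtype345_bridge (i j) : bridge345 hP δ n ζ i j ∈ ZIrr M :=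
  P10.vchar_FTtype345_bridge maxM hP gt2 hc hζ iζ dζ i j

/-- Peterfalvi (10.5), first part -/
theorem supp_FTtype345_bridge (i) {j} (hj : j ≠ 1) (a : M) (ha : (a : G) ∉ FTsupp0 M) :
    bridge345 hP δ n ζ i j a = 0 := P10.supp_FTtype345_bridge maxM hP gt2 hc hζ iζ dζ i hj a ha

theorem vchar_Dade_FTtype345_bridge (i) {j} (hj : j ≠ 1) :
    tau0 M (bridge345 hP δ n ζ i j) ∈ ZIrr G :=
  P10.vchar_Dade_FTtype345_bridge maxM hP gt2 hc hζ iζ dζ i hj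

theorem norm_FTtype345_bridge (i) {j} (hj : j ≠ 1) :
    nrm (tau0 M (bridge345 hP δ n ζ i j)) = 2 + n ^ 2 :=
  P10.norm_FTtype345_bridge maxM hP gt2 hc hζ iζ dζ i hj

/-- Peterfalvi (10.5), second part -/
theorem FTtype345_bridge_coherence {S₁ : Finset (M → ℂ)} {ν : (M → ℂ) →ₗ[ℂ] (G → ℂ)}
    (hν : CohWith S₁ (tau0 M) ν) (hS : S₁ ⊆ SP M ⁅M, M⁆ ⊥) (cS : ∀ χ ∈ S₁, conjFun χ ∈ S₁)
    (iS : ∀ χ ∈ S₁, IsIrrCharacter M χ) (i) {j} (hj : j ≠ 1) {X : G → ℂ} {Y : M → ℂ}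
    (hY : Y ∈ ZS S₁) (e : tau0 M (bridge345 hP δ n ζ i j) = X + ν Y) (oX : ∀ χ ∈ S₁, ⟪ν χ, X⟫ = 0)
    (nY : nrm Y = n ^ 2) : X = (δ : ℂ) • (etaP hP i j - etaP hP i 1) :=
  P10.FTtype345_bridge_coherence maxM hP gt2 hc hζ iζ dζ hν hS cS iS i hj hY e oX nY

end

/-- Peterfalvi (10.9) -/
theorem FTtype345_Dade_bridge0 {ζ : M → ℂ} (hζ : ζ ∈ SP M ⁅M, M⁆ ⊥) (iζ : IsIrrCharacter M ζ)
    (dζ : ζ 1 = Nat.card W₁) (h : Nat.card W₁ < Nat.card W₂) :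
    ∃ χ, tau0 M (muS (wM hP) 1 - ζ) = ∑ i, etaP hP i 1 - χ ∧ Dirr χ ∧
      ∀ i j, ⟪χ, etaP hP i j⟫ = 0 := P10.FTtype345_Dade_bridge0 maxM hP gt2 hζ iζ dζ h

end

/-- Peterfalvi (10.8) -/
theorem FTtype345_noncoherence (maxM : IsCoatom M) (gt2 : 2 < FTtype M) :
    ¬ Coh (SP M ⁅M, M⁆ ⊥) (tau0 M) := P10.FTtype345_noncoherence maxM gt2

/-- Peterfalvi (10.10) -/
theorem FTtype5_exclusion (maxM : IsCoatom M) : FTtype M ≠ 5 := P10.FTtype5_exclusion maxM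

/-- Peterfalvi (10.11), first part -/
theorem FTtypeP_primes (maxM : IsCoatom M) (hP : IsTypePWith M W₁ U W₂) :
    (Nat.card W₁).Prime ∧ (Nat.card W₂).Prime := P10.FTtypeP_primes maxM hP

/-- Peterfalvi (10.11), second part -/
theorem FTtypeII_prime_facts (maxM : IsCoatom M) (hP : IsTypePWith M W₁ U W₂) (h : FTtype M = 2) :
    IsElementaryAbelian (Nat.card W₂) (fittingHallOf M) ∧
    Nat.card (fittingHallOf M) = Nat.card W₂ ^ Nat.card W₁ ∧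
    Coh (SP M (fittingHallOf M) ⊥) (tau0 M) := P10.FTtypeII_prime_facts maxM hP h

end CA.PF
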