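import Cfsg.Agent.PF.P11a

/-!
# Peterfalvi, section 11, second part: (11.8), (11.9)
-/

set_option autoImplicit false
set_option linter.unusedSectionVars false

open scoped ComplexConjugate

open Cfsg CA.FG CA.BG CA.Chr

namespace CA.PF.P11

universe u

theorem even_sum_inv {X : Type*} [Group X] [Finite X] (ho : Odd (Nat.card X)) (b : (X →* ℂˣ) → ℤ)
    (h1 : b 1 = 0) (h : ∀ r, b r⁻¹ = b r) : Even (∑ r, b r) := by
  rw [← ZMod.intCast_eq_zero_iff_even, Int.cast_sum]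
  refine Finset.sum_involution (fun r _ => r⁻¹) (fun r _ => ?_) (fun r _ hr => ?_)
    (fun _ _ => Finset.mem_univ _) (fun r _ => inv_inv r)
  · rw [h, CharTwo.add_self_eq_zero]
  · refine PrimeTI.inv_ne_self_of_odd ho ?_
    rintro rfl
    exact hr (by rw [h1, Int.cast_zero])

theorem exists_pow_of_prime {X : Type*} [Group X] [Finite X] [IsMulCommutative X]
    (hX : (Nat.card X).Prime) {i i' : X →* ℂˣ} (hi : i ≠ 1) (hi' : i' ≠ 1) :
    i ^ Nat.card X = 1 ∧ ∃ k, k.Coprime (Nat.card X) ∧ i' = i ^ k := by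
  have : Fact (Nat.card X).Prime := ⟨hX⟩
  have e : i ^ Nat.card X = 1 := by rw [← card_lin]; exact pow_card_eq_one'
  obtain ⟨k, hk⟩ := mem_powers_iff_mem_zpowers.2 (mem_zpowers_of_prime_card card_lin hi (g' := i'))
  refine ⟨e, k, ((Nat.Prime.coprime_iff_not_dvd hX).2 ?_).symm, hk.symm⟩
  rintro ⟨c, rfl⟩
  exact hi' (hk.symm.trans (by simp only [pow_mul, e, one_pow]))

variable {G : Type u} [Group G] [MinSimpleOdd G] {M W₁ U W₂ : Subgroup G} (maxM : IsCoatom M)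
  (hP : IsTypePWith M W₁ U W₂) (gt2 : 2 < FTtype M)
include maxM hP gt2

omit hP in
theorem sub_core {H N : Subgroup G} (hH : H ≤ ⁅M, M⁆) : SP M H N ⊆ SP M (sigmaCore M) ⊥ :=
  SD_mono (FTcore_type_gt2 maxM gt2 ▸ hH) bot_le

omit hP in
theorem tau_iso {α β : M → ℂ} (hα : α ∈ CF M) (hβ : β ∈ CS (ST (der_normalIn M).1)) (h1 : β 1 = 0) :
    ⟪tau0 M α, tau0 M β⟫ = ⟪α, β⟫ :=
  have h := FT_DadeInd_der maxM gt2
  Dade.dade_iso h.dade hα (CS_le_CF (fun _ => ST_CF (der_normalIn M)) hβ)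
    fun a ha => h.supp hβ h1 a fun hc => ha (h.sub hc)

omit maxM gt2 in
theorem mu0_ST : muS (wM hP) 1 ∈ ST (der_normalIn M).1 :=
  mem_ST.2 ⟨1, one_irr, (FT_primeTI hP).muS_one⟩

theorem muS_S2 {j : W₂ →* ℂˣ} (hj : j ≠ 1) : muS (wM hP) j ∈ SP M (fittingHallOf M) (kerC M U) ∧
    muS (wM hP) j 1 = Nat.card W₁ * cardUbar M U := by
  have h := (typeP_reducible_core_Ind maxM hP (FTtype5_exclusion maxM)).2 _
    (by rw [H0_eq_bot maxM hP gt2]; exact muS_mem_SP maxM hP hj) ((FT_primeTI hP).muS_not_irr j)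
  exact ⟨SD_mono le_rfl le_sup_right h.2.1, h.1⟩

theorem S12_disj : Disjoint (SP M (fittingHallOf M) (kerC M U)) (SP M ⁅M, M⁆ (fittingOf M)) := by
  refine Finset.disjoint_left.2 fun φ h2 h1 => ?_
  obtain ⟨θ, a1, -, a2, rfl⟩ := mem_SD.1 h1
  rw [kerC_eq maxM hP gt2] at h2
  exact ((mem_SD_ind (der_normalIn M) (Fcore_norm M) (C_norm hP) a1).1 h2).1
    ((Subgroup.comap_mono (Fcore_sub_Fitting M)).trans a2)

theorem S12_noncoh :
    ¬ Coh (SP M (fittingHallOf M) (kerC M U) ∪ SP M ⁅M, M⁆ (fittingOf M)) (tau0 M) := fun h => by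
  refine noncoherence maxM hP gt2 (h.mono fun φ hφ => ?_)
  obtain ⟨θ, a1, a2, a3, rfl⟩ := mem_SD.1 hφ
  have a4 : (U ⊓ 𝒞(fittingHallOf M)).subgroupOf ⁅M, M⁆ ≤ cfker θ :=
    (Subgroup.comap_mono le_sup_right).trans a3
  by_cases hH : (fittingHallOf M).subgroupOf ⁅M, M⁆ ≤ cfker θ
  · refine Finset.mem_union_right _ (mem_SD.2 ⟨θ, a1, a2, ?_, rfl⟩)
    rw [typeP_Fitting hP, Subgroup.subgroupOf_sup (typeP_F_le_der hP)
      (inf_le_left.trans (typeP_U_le_der hP))]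
    exact sup_le hH a4
  · exact Finset.mem_union_left _ (mem_SD.2 ⟨θ, a1, hH, kerC_eq maxM hP gt2 ▸ a4, rfl⟩)

theorem coh_S1 : Coh (SP M ⁅M, M⁆ (fittingOf M)) (tau0 M) :=
  coh_of_der2_le maxM hP gt2 (der2_le_fitting hP)

theorem coh_S2 : Coh (SP M (fittingHallOf M) (kerC M U)) (tau0 M) :=
  (Ptype_core_coherence maxM hP (FTtype5_exclusion maxM)).mono (SD_mono le_rfl
    (by rw [H0_eq_bot maxM hP gt2, bot_sup_eq]; exact der_le _))

theorem def_u : (fittingOf M).relIndex ⁅M, M⁆ = cardUbar M U := by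
  rw [relIndex_fitting hP, ← kerC_eq maxM hP gt2]; rfl

section S1

variable {ζ : M → ℂ} (hζ : ζ ∈ SP M ⁅M, M⁆ (fittingOf M))
include hζ

omit maxM gt2 in
theorem S1_deg : ζ 1 = Nat.card W₁ := by
  rw [deg_of_der2_le (der2_le_fitting hP) hζ, typeP_relIndex_der hP]

theorem S1_irr : IsIrrCharacter M ζ ∧ ∀ i j, ⟪ζ, muP hP i j⟫ = 0 :=
  (SP_cases maxM hP hζ).resolve_left fun ⟨_, hj, e⟩ =>
    Finset.disjoint_left.1 (S12_disj maxM hP gt2) (muS_S2 maxM hP gt2 hj).1 (e ▸ hζ)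

theorem S1_muS (j) : ⟪ζ, muS (wM hP) j⟫ = 0 := by
  change ⟪ζ, ∑ i, muP hP i j⟫ = 0
  simp only [dot_sum_right, (S1_irr maxM hP gt2 hζ).2, Finset.sum_const_zero]

theorem S1_dot {lam : M → ℂ} (hl : lam ∈ SP M ⁅M, M⁆ (fittingOf M)) :
    ⟪ζ, lam⟫ = if ζ = lam then 1 else 0 := by
  split_ifs with h
  · rw [← h, (IsIrr.dirr (S1_irr maxM hP gt2 hζ).1).dot_self]
  · exact SD_orth (der_normalIn M) hζ hl h

omit maxM hP gt2 in
theorem S1_ST : ζ ∈ ST (der_normalIn M).1 := SD_sub_ST _ _ _ hζ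

omit maxM gt2 in
theorem psi_mem : muS (wM hP) 1 - ζ ∈ ZS (ST (der_normalIn M).1) :=
  sub_mem (mem_ZS (mu0_ST hP)) (mem_ZS (S1_ST hζ))

omit maxM gt2 in
theorem psi_one : (muS (wM hP) 1 - ζ) 1 = 0 := by
  rw [Pi.sub_apply, (FT_primeTI hP).muS_deg 1, (FT_primeTI hP).mu_one_deg, S1_deg hP hζ, mul_one,
    sub_self]

theorem psi_zirr : tau0 M (muS (wM hP) 1 - ζ) ∈ ZIrr G :=
  (FT_DadeInd_der maxM gt2).isoOn.zirr _ (psi_mem hP hζ) (psi_one hP hζ)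

theorem nrm_psi : nrm (tau0 M (muS (wM hP) 1 - ζ)) = Nat.card W₁ + 1 := by
  rw [(FT_DadeInd_der maxM gt2).isoOn.nrm (CS_of_ZS (psi_mem hP hζ)) (psi_one hP hζ),
    nrm_sub_of_orth (dot_comm_zero (S1_muS maxM hP gt2 hζ 1)), (FT_primeTI hP).nrm_muS,
    (IsIrr.dirr (S1_irr maxM hP gt2 hζ).1).nrm]

theorem dot_psi {α : M → ℂ} (hα : α ∈ CF M) :
    ⟪tau0 M α, tau0 M (muS (wM hP) 1 - ζ)⟫ = ⟪α, muS (wM hP) 1 - ζ⟫ :=
  tau_iso maxM gt2 hα (CS_of_ZS (psi_mem hP hζ)) (psi_one hP hζ)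

theorem dot_S1_sub {lam : M → ℂ} (hl : lam ∈ SP M ⁅M, M⁆ (fittingOf M)) {α : M → ℂ} (hα : α ∈ CF M) :
    ⟪tau0 M α, tau0 M (ζ - lam)⟫ = ⟪α, ζ - lam⟫ :=
  tau_iso maxM gt2 hα (sub_mem (mem_CS (S1_ST hζ)) (mem_CS (S1_ST hl)))
    (by rw [Pi.sub_apply, S1_deg hP hζ, S1_deg hP hl, sub_self])

theorem coh1_eta {ν : (M → ℂ) →ₗ[ℂ] (G → ℂ)} (hν : CohWith (SP M ⁅M, M⁆ (fittingOf M)) (tau0 M) ν)
    (i j) : ⟪ν ζ, etaP hP i j⟫ = 0 :=
  coherent_ortho_cycTIiso maxM hP (sub_core maxM gt2 le_rfl) (SD_conj (der_normalIn M)) hν hζ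
    (S1_irr maxM hP gt2 hζ).1 i j

omit maxM gt2 in
theorem coh1_sub {ν : (M → ℂ) →ₗ[ℂ] (G → ℂ)} (hν : CohWith (SP M ⁅M, M⁆ (fittingOf M)) (tau0 M) ν)
    {lam : M → ℂ} (hl : lam ∈ SP M ⁅M, M⁆ (fittingOf M)) : tau0 M (ζ - lam) = ν ζ - ν lam :=
  hν.agree_sub hζ hl (by rw [S1_deg hP hζ, S1_deg hP hl])

theorem S1_sub_eta {lam : M → ℂ} (hl : lam ∈ SP M ⁅M, M⁆ (fittingOf M)) (i j) :
    ⟪tau0 M (ζ - lam), etaP hP i j⟫ = 0 := by
  obtain ⟨ν, hν⟩ := coh_S1 maxM hP gt2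
  rw [coh1_sub hP hζ hν hl, dot_sub_left, coh1_eta maxM hP gt2 hζ hν, coh1_eta maxM hP gt2 hl hν,
    sub_self]

end S1

theorem S1_card : (SP M ⁅M, M⁆ (fittingOf M)).card * Nat.card W₁ + 1 = cardUbar M U := by
  have h := sum_SD_sq (der_normalIn M) (der_normalIn M).2 (fitting_norm M) hP.fitting_le le_rfl
  rw [Finset.sum_congr rfl fun φ hφ => by
      rw [deg_eq (S1_deg hP hφ), (IsIrr.dirr (S1_irr maxM hP gt2 hφ).1).nrm, div_one],
    Finset.sum_const, nsmul_eq_mul, ← Subgroup.relIndex_mul_relIndex _ _ _ hP.fitting_le (der_le M),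
    typeP_relIndex_der hP, def_u maxM hP gt2, Nat.cast_mul] at h
  have h0 : (Nat.card W₁ : ℝ) ≠ 0 := Nat.cast_ne_zero.2 Nat.card_pos.ne'
  have : ((SP M ⁅M, M⁆ (fittingOf M)).card * Nat.card W₁ + 1 : ℝ) = cardUbar M U :=
    mul_right_cancel₀ h0 (by linarith)
  exact_mod_cast this

omit maxM gt2 in
theorem exists_j : ∃ j : W₂ →* ℂˣ, j ≠ 1 := by
  have := (FT_fam hP).card_lin2
  have := (FT_fam hP).three_le2
  have : Nontrivial (W₂ →* ℂˣ) := Fintype.one_lt_card_iff_nontrivial.1 (by omega)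
  exact exists_ne 1

/-- (11.8.1) -/
theorem consts : Const345 hP (cardUbar M U) 1 (SP M ⁅M, M⁆ (fittingOf M)).card ∧
    Even (SP M ⁅M, M⁆ (fittingOf M)).card ∧ 2 ≤ (SP M ⁅M, M⁆ (fittingOf M)).card := by
  obtain ⟨d, δ, n, hc⟩ := FTtype345_constants maxM hP gt2
  obtain ⟨j, hj⟩ := exists_j hP
  have h1 := (muS_S2 maxM hP gt2 hj).2
  rw [(FT_primeTI hP).muS_deg 1, show mu _ _ _ _ = _ from hc.deg 1 j hj] at h1
  obtain rfl : d = cardUbar M U := by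
    exact_mod_cast mul_left_cancel₀ (Nat.cast_ne_zero.2 Nat.card_pos.ne') h1
  have h2 := S1_card maxM hP gt2
  have h3 := hc.ratio
  have h4 := hc.one_lt
  have q3 := (FT_fam hP).three_le1
  have ou : Odd (cardUbar M U) := (mFT_odd U).of_dvd_nat (Subgroup.relIndex_dvd_card _ _)
  have oq := mFT_odd W₁
  generalize (SP M ⁅M, M⁆ (fittingOf M)).card = m at *
  have ev : Even m := by
    rw [← h2, Nat.odd_add_one, Nat.not_odd_iff_even, Nat.even_mul] at ou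
    exact ou.resolve_right (Nat.not_even_iff_odd.2 oq)
  have m0 : m ≠ 0 := by rintro rfl; omega
  rw [← h2] at h3
  push_cast at h3
  have h5 : (3 : ℤ) ≤ Nat.card W₁ := by exact_mod_cast q3
  obtain rfl : δ = 1 := by
    refine (hc.sign j hj ▸ del_cases (wM hP) j).resolve_right fun h => ?_
    rw [h] at h3
    have := Int.le_of_dvd (by norm_num) (⟨n - m, by linarith⟩ : (Nat.card W₁ : ℤ) ∣ 2)
    omega
  obtain rfl : n = m := by
    exact_mod_cast mul_right_cancel₀ (show (Nat.card W₁ : ℤ) ≠ 0 by omega) (show (n : ℤ) * _ = m * _ by linarith)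
  exact ⟨hc, ev, by obtain ⟨c, rfl⟩ := ev; omega⟩

section NotOrtho

variable {ζ : M → ℂ} (hζ : ζ ∈ SP M ⁅M, M⁆ (fittingOf M))
include hζ

/-- (11.8.4) -/
theorem exists_tau1 (hψ : ∀ i j, ⟪tau0 M (muS (wM hP) 1 - ζ), etaP hP i j⟫ = if j = 1 then 1 else 0) :
    ∃ ν, CohWith (SP M ⁅M, M⁆ (fittingOf M)) (tau0 M) ν ∧
      tau0 M (muS (wM hP) 1 - ζ) = ∑ i, etaP hP i 1 - ν ζ := by
  have F := FT_fam hP
  set ψ := tau0 M (muS (wM hP) 1 - ζ) with hψ'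
  clear_value ψ
  set χ := ∑ i, etaP hP i 1 - ψ with hχ
  clear_value χ
  have zχ : χ ∈ ZIrr G := hχ ▸ sub_mem (sum_mem fun i _ => F.zirr i 1) (hψ' ▸ psi_zirr maxM hP gt2 hζ)
  have oχ : ∀ i j, ⟪χ, etaP hP i j⟫ = 0 := fun i j => by
    rw [hχ, dot_sub_left, hψ, dot_sum_left]
    simp [F.orth, ite_and, eq_comm]
  have nχ : nrm χ = 1 := by
    have h1 := nrm_psi maxM hP gt2 hζ
    rw [← hψ', show ψ = ∑ i, etaP hP i 1 - χ by rw [hχ, sub_sub_cancel],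
      nrm_sub_of_orth (dot_comm_zero (by simp only [dot_sum_right, oχ, Finset.sum_const_zero])),
      nrm_sum_of_orth _ _ fun i _ k _ h => by simp [F.orth, h]] at h1
    simp only [(F.dirr _ _).nrm, Finset.sum_const, Finset.card_univ, F.card_lin1, nsmul_eq_mul,
      mul_one] at h1
    linarith
  have zt : ∀ φ ∈ SP M ⁅M, M⁆ (fittingOf M), tau0 M (ζ - φ) ∈ ZIrr G := fun φ hφ =>
    (FT_DadeInd_der maxM gt2).isoOn.zirr _ (sub_mem (mem_ZS (S1_ST hζ)) (mem_ZS (S1_ST hφ)))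
      (by rw [Pi.sub_apply, S1_deg hP hζ, S1_deg hP hφ, sub_self])
  have d1 : ∀ φ ∈ SP M ⁅M, M⁆ (fittingOf M), ⟪tau0 M (ζ - φ), χ⟫ = ⟪φ, ζ⟫ * (-1) + 1 := fun φ hφ => by
    rw [hχ, dot_sub_right, dot_sum_right, hψ', dot_psi maxM hP gt2 hζ
      (sub_mem (SD_CF (der_normalIn M) hζ) (SD_CF (der_normalIn M) hφ))]
    simp only [S1_sub_eta maxM hP gt2 hζ hφ, Finset.sum_const_zero, dot_sub_left, dot_sub_right,
      S1_muS maxM hP gt2 hζ, S1_muS maxM hP gt2 hφ, S1_dot maxM hP gt2 hζ hζ, if_true]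
    ring
  obtain ⟨ν, h1, h2⟩ := cohWith_of_fun (S := SP M ⁅M, M⁆ (fittingOf M))
    (fun _ => SD_ne_zero (der_normalIn M)) (fun _ h _ h' => SD_orth (der_normalIn M) h h') (tau0 M)
    (fun φ => χ - tau0 M (ζ - φ)) (fun φ hφ => sub_mem zχ (zt φ hφ))
    (fun φ hφ φ' hφ' => by
      rw [dot_sub_left, dot_sub_right, dot_sub_right, dot_self, nχ, ZIrr.dot_comm zχ (zt _ hφ'),
        d1 _ hφ, d1 _ hφ', dot_S1_sub maxM hP gt2 hζ hφ'
          (sub_mem (SD_CF (der_normalIn M) hζ) (SD_CF (der_normalIn M) hφ))]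
      simp only [dot_sub_left, dot_sub_right, S1_dot maxM hP gt2 hζ hζ, if_true,
        ZIrr.dot_comm (SD_zirr (der_normalIn M) hφ') (SD_zirr (der_normalIn M) hζ)]
      push_cast; ring)
    hζ (SD_deg_ne_zero (der_normalIn M) hζ)
    (fun φ hφ => by
      rw [S1_deg hP hφ, ← S1_deg hP hζ, div_self (SD_deg_ne_zero (der_normalIn M) hζ)]
      simp only [one_smul, map_sub]
      abel)
  exact ⟨ν, h1, by rw [h2 ζ hζ, sub_self, map_zero, sub_zero, hχ, sub_sub_cancel]⟩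

variable {ν : (M → ℂ) →ₗ[ℂ] (G → ℂ)} (hν : CohWith (SP M ⁅M, M⁆ (fittingOf M)) (tau0 M) ν)
  (hψ : tau0 M (muS (wM hP) 1 - ζ) = ∑ i, etaP hP i 1 - ν ζ)
include hν hψ

/-- (11.8.2), (11.8.3), (11.8.5) -/
theorem bridge_eq {j : W₂ →* ℂˣ} (hj : j ≠ 1) :
    tau0 M (muP hP 1 j - muP hP 1 1 - ((SP M ⁅M, M⁆ (fittingOf M)).card : ℂ) • ζ) =
      etaP hP 1 j - etaP hP 1 1 - ((SP M ⁅M, M⁆ (fittingOf M)).card : ℂ) • ν ζ := by
  obtain ⟨hc, evn, n2⟩ := consts maxM hP gt2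
  have F := FT_fam hP
  have P := FT_primeTI hP
  have D := FT_prDade maxM hP
  have nM := der_normalIn M
  obtain ⟨iζ, oζ⟩ := S1_irr maxM hP gt2 hζ
  have eb : ∀ k, bridge345 hP 1 (SP M ⁅M, M⁆ (fittingOf M)).card ζ 1 k =
      muP hP 1 k - muP hP 1 1 - ((SP M ⁅M, M⁆ (fittingOf M)).card : ℂ) • ζ := fun k => by
    rw [bridge345, Int.cast_one, one_smul]
  have zT := vchar_Dade_FTtype345_bridge maxM hP gt2 hc (SD_sub_bot hζ) iζ (S1_deg hP hζ) 1 hj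
  have nT := norm_FTtype345_bridge maxM hP gt2 hc (SD_sub_bot hζ) iζ (S1_deg hP hζ) 1 hj
  have sα := supp_FTtype345_bridge maxM hP gt2 hc (SD_sub_bot hζ) iζ (S1_deg hP hζ) 1 hj
  have cα := ZIrr.mem_CF (vchar_FTtype345_bridge maxM hP gt2 hc (SD_sub_bot hζ) iζ (S1_deg hP hζ) 1 j)
  have key := fun X Y => FTtype345_bridge_coherence maxM hP gt2 hc (SD_sub_bot hζ) iζ (S1_deg hP hζ) hν
    SD_sub_bot (SD_conj nM) (fun _ h => (S1_irr maxM hP gt2 h).1) 1 hj (X := X) (Y := Y)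
  rw [eb] at zT nT sα cα key
  have sgn := hc.sign j hj
  have dg : mu (wM hP) 1 j 1 = mu (wM hP) 1 j⁻¹ 1 :=
    (hc.deg 1 j hj).trans (hc.deg 1 j⁻¹ (inv_ne_one.2 hj)).symm
  have oν : ∀ φ ∈ SP M ⁅M, M⁆ (fittingOf M), ∀ i k, ⟪ν φ, etaP hP i k⟫ = 0 :=
    fun φ hφ => coh1_eta maxM hP gt2 hφ hν
  have cS : (SP M ⁅M, M⁆ (fittingOf M)).card = (SP M ⁅M, M⁆ (fittingOf M)).card := rfl
  generalize hn : (SP M ⁅M, M⁆ (fittingOf M)).card = n at evn n2 zT nT sα cα key cS ⊢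
  clear cS eb hc
  set α := muP hP 1 j - muP hP 1 1 - (n : ℂ) • ζ with hα
  clear_value α
  set β := tau0 M α - (etaP hP 1 j - etaP hP 1 1) + (n : ℂ) • ν ζ with hβ
  clear_value β
  have zβ : β ∈ ZIrr G :=
    hβ ▸ add_mem (sub_mem zT (sub_mem (F.zirr _ _) (F.zirr _ _))) (ZIrr.natCast_smul (hν.zirr ζ hζ) n)
  have rβ : conjFun β = β := by
    have e1 : conjFun α = α - (mu (wM hP) 1 j - mu (wM hP) 1 j⁻¹) + (n : ℂ) • (ζ - conjFun ζ) := by
      simp only [hα, conjFun_sub, conjFun_smul, P.mu_conj, inv_one, map_natCast, smul_sub]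
      abel
    have e2 := D.dade_mu_sub hj (inv_ne_one.2 hj) dg
    have e3 := hν.conj_eq (fun α _ _ => Dade.dade_one D.dade α) dade_conjFun hζ (SD_conj nM _ hζ) iζ
      (SD_conj_ne nM (mFT_odd M) _ hζ)
    rw [sgn, Int.cast_one, one_smul] at e2
    rw [hβ, conjFun_add, conjFun_sub, conjFun_sub, conjFun_smul, ← dade_conjFun, e1, map_add, map_sub,
      map_smul, e2, coh1_sub hP hζ hν (SD_conj nM _ hζ), e3, F.conjFun_eq, F.conjFun_eq]
    simp only [inv_one, map_natCast, smul_sub]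
    abel
  have b1 : ⟪β, etaP hP 1 1⟫ = 0 := by
    have e1 : ⟪tau0 M α, etaP hP 1 1⟫ = -1 := by
      rw [F.one, Dade.dot_dade_one D.dade cα sα, ← P.mu_one_one]
      simp [hα, dot_sub_left, dot_smul_left, P.dot_mu, oζ, hj]
    simp [hβ, dot_add_left, dot_sub_left, dot_smul_left, e1, F.orth, hj, oν ζ hζ]
  obtain ⟨a, ha⟩ := ZIrr.dot_int zβ (hν.zirr ζ hζ)
  have νν : ⟪ν ζ, ν ζ⟫ = 1 := by rw [hν.iso ζ hζ ζ hζ, S1_dot maxM hP gt2 hζ hζ, if_pos rfl]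
  have ha2 : (a : ℂ) = ∑ r, ⟪β, etaP hP r 1⟫ := by
    have e1 := dot_psi maxM hP gt2 hζ cα
    rw [hψ, show tau0 M α = β + (etaP hP 1 j - etaP hP 1 1) - (n : ℂ) • ν ζ by rw [hβ]; abel] at e1
    simp only [hα, dot_sub_left, dot_add_left, dot_sub_right, dot_smul_left, dot_sum_right, ha, νν,
      F.orth, hj, oν ζ hζ, dot_comm_zero (oν ζ hζ _ _), P.dot_mu_muS, dot_comm_zero (oζ _ _),
      S1_muS maxM hP gt2 hζ, S1_dot maxM hP gt2 hζ hζ, and_false, and_true, if_true, if_false,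
      Finset.sum_add_distrib, mul_zero, sub_zero, zero_sub, Finset.sum_neg_distrib,
      Finset.sum_ite_eq, Finset.mem_univ] at e1
    linear_combination -e1
  have eva : Even a := by
    have e : a = ∑ r, zdot β (etaP hP r 1) := by
      rw [← Int.cast_inj (α := ℂ), ha2, Int.cast_sum]
      exact Finset.sum_congr rfl fun r _ => (ZIrr.coe_zdot zβ (F.zirr _ _)).symm
    rw [e]
    refine even_sum_inv F.odd1 _ (zdot_eq (by rw [b1, Int.cast_zero])) fun r => zdot_eq ?_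
    rw [ZIrr.coe_zdot zβ (F.zirr _ _), ← ZIrr.dot_conjFun zβ (F.zirr r 1), rβ, F.conjFun_eq, inv_one]
  have hb : ∀ φ ∈ SP M ⁅M, M⁆ (fittingOf M), ⟪β, ν φ⟫ = a := fun φ hφ => by
    have e1 := dot_S1_sub maxM hP gt2 hζ hφ cα
    rw [coh1_sub hP hζ hν hφ,
      show tau0 M α = β + (etaP hP 1 j - etaP hP 1 1) - (n : ℂ) • ν ζ by rw [hβ]; abel] at e1
    simp only [hα, dot_sub_left, dot_add_left, dot_sub_right, dot_smul_left, ha, hν.iso _ hζ _ hζ,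
      hν.iso _ hζ _ hφ, dot_comm_zero (oν ζ hζ _ _), dot_comm_zero (oν φ hφ _ _),
      dot_comm_zero (oζ _ _), dot_comm_zero ((S1_irr maxM hP gt2 hφ).2 _ _)] at e1
    linear_combination -e1
  set σ := ∑ φ ∈ SP M ⁅M, M⁆ (fittingOf M), φ with hσ
  clear_value σ
  have zσ : σ ∈ ZS (SP M ⁅M, M⁆ (fittingOf M)) := hσ ▸ sum_mem fun φ hφ => mem_ZS hφ
  have dσ : ∀ φ ∈ SP M ⁅M, M⁆ (fittingOf M), ⟪σ, φ⟫ = 1 := fun φ hφ => by
    rw [hσ, dot_sum_left, Finset.sum_congr rfl fun x hx => S1_dot maxM hP gt2 hx hφ,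
      Finset.sum_ite_eq', if_pos hφ]
  have zY : (a : ℂ) • σ - (n : ℂ) • ζ ∈ ZS (SP M ⁅M, M⁆ (fittingOf M)) :=
    sub_mem (ZS_intCast_smul a zσ) (ZS_natCast_smul n (mem_ZS hζ))
  have nY : nrm ((a : ℂ) • σ - (n : ℂ) • ζ) = n ^ 2 + n * (a * (a - 2)) := by
    have e1 : ⟪σ, σ⟫ = n := by
      conv_lhs => arg 2; rw [hσ]
      rw [dot_sum_right, Finset.sum_congr rfl dσ, Finset.sum_const, hn, nsmul_eq_mul, mul_one]
    refine nrm_eq_of_dot ?_
    simp only [dot_sub_left, dot_sub_right, dot_smul_left, dot_smul_right, e1, dσ ζ hζ,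
      dot_comm_of_int ((dσ ζ hζ).trans Int.cast_one.symm), S1_dot maxM hP gt2 hζ hζ, if_true,
      map_intCast, map_natCast]
    push_cast; ring
  set X := tau0 M α - ν ((a : ℂ) • σ - (n : ℂ) • ζ) with hX
  clear_value X
  have eX : X = β + (etaP hP 1 j - etaP hP 1 1) - (a : ℂ) • ν σ := by
    rw [hX, hβ, map_sub, map_smul, map_smul]; abel
  have oX : ∀ φ ∈ SP M ⁅M, M⁆ (fittingOf M), ⟪ν φ, X⟫ = 0 := fun φ hφ => dot_comm_zero (by
    simp only [eX, dot_sub_left, dot_add_left, dot_smul_left, hb φ hφ, dot_comm_zero (oν φ hφ _ _),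
      hν.iso' (CS_of_ZS zσ) (mem_CS hφ), dσ φ hφ]
    ring)
  have eT : tau0 M α = X + ν ((a : ℂ) • σ - (n : ℂ) • ζ) := by rw [hX, sub_add_cancel]
  have a02 : a * (a - 2) = 0 := by
    rw [eT, nrm_add_of_orth (dot_comm_zero (dot_map_CS_eq_zero ν oX (CS_of_ZS zY))),
      hν.nrm (CS_of_ZS zY), nY] at nT
    have h1 : (n : ℤ) * (a * (a - 2)) ≤ 2 := by
      have := nrm_nonneg X
      have : (n : ℝ) * (a * (a - 2)) ≤ 2 := by linarith
      exact_mod_cast this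
    obtain ⟨c, rfl⟩ := eva
    have h2 : (2 : ℤ) ≤ n := by exact_mod_cast n2
    have h3 : 0 ≤ c * (c - 1) := by nlinarith [sq_nonneg (2 * c - 1)]
    have h4 : (c + c) * (c + c - 2) = 4 * (c * (c - 1)) := by ring
    rw [h4] at h1 ⊢
    generalize c * (c - 1) = t at *
    have : t < 1 := by nlinarith
    omega
  have e1 := key X _ zY eT oX (by
    rw [nY, ← Int.cast_two, ← Int.cast_sub, ← Int.cast_mul, a02, Int.cast_zero, mul_zero, add_zero])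
  rw [Int.cast_one, one_smul, eX] at e1
  have e2 : β = (a : ℂ) • ν σ := by linear_combination (exp := 1) e1
  have a0 : (a : ℂ) = 0 := by
    rw [ha2]
    refine Finset.sum_eq_zero fun r _ => ?_
    rw [e2, dot_smul_left, dot_map_CS_eq_zero ν (fun φ hφ => oν φ hφ r 1) (CS_of_ZS zσ), mul_zero]
  rw [a0, zero_smul, hβ] at e2
  linear_combination (exp := 1) e2

theorem muS_bridge {j : W₂ →* ℂˣ} (hj : j ≠ 1) :
    tau0 M (muS (wM hP) j - (cardUbar M U : ℂ) • ζ) = ∑ i, etaP hP i j - (cardUbar M U : ℂ) • ν ζ := by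
  have h1 := bridge_eq maxM hP gt2 hζ hν hψ hj
  have h2 := S1_card maxM hP gt2
  have D := FT_prDade maxM hP
  have h3 := fun i => D.dade_mu_sub2 i j
  have F := FT_fam hP
  simp only [(consts maxM hP gt2).1.sign j hj, Int.cast_one, one_smul] at h3
  generalize (SP M ⁅M, M⁆ (fittingOf M)).card = n at h1 h2
  have e : muS (wM hP) j - (cardUbar M U : ℂ) • ζ =
      ∑ i, (mu (wM hP) i j - mu (wM hP) 1 j - mu (wM hP) i 1 + mu (wM hP) 1 1) +
        (Nat.card W₁ : ℂ) • (muP hP 1 j - muP hP 1 1 - (n : ℂ) • ζ) + (muS (wM hP) 1 - ζ) := by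
    simp only [Finset.sum_add_distrib, Finset.sum_sub_distrib, Finset.sum_const, Finset.card_univ,
      F.card_lin1, ← h2, ← Nat.cast_smul_eq_nsmul ℂ]
    change ∑ i, mu (wM hP) i j - _ = _ + (∑ i, mu (wM hP) i 1 - _)
    push_cast
    module
  rw [e, map_add, map_add, map_smul, h1, hψ, map_sum, Finset.sum_congr rfl fun i _ => h3 i, F.one]
  simp only [Finset.sum_add_distrib, Finset.sum_sub_distrib, Finset.sum_const, Finset.card_univ,
    F.card_lin1, ← h2, ← Nat.cast_smul_eq_nsmul ℂ]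
  push_cast
  module

theorem exists_tau2 {j : W₂ →* ℂˣ} (hj : j ≠ 1) :
    ∃ ν₂, CohWith (SP M (fittingHallOf M) (kerC M U)) (tau0 M) ν₂ ∧
      ν₂ (muS (wM hP) j) = ∑ i, etaP hP i j := by
  have F := FT_fam hP
  have P := FT_primeTI hP
  have nM := der_normalIn M
  have sgn := (consts maxM hP gt2).1.sign j hj
  obtain ⟨mj, dj⟩ := muS_S2 maxM hP gt2 hj
  have sS := sub_core maxM gt2 (N := kerC M U) (typeP_F_le_der hP)
  by_cases h : ∃ lam ∈ SP M (fittingHallOf M) (kerC M U), IsIrrCharacter M lam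
  · obtain ⟨lam, hl, il⟩ := h
    obtain ⟨ν₂, h₂⟩ := coh_S2 maxM hP gt2
    refine ⟨ν₂, h₂, ?_⟩
    obtain ⟨R, hR⟩ := subcoh maxM hP gt2
    rcases coherent_TIred maxM hP sS (SD_conj nM) h₂ hl il mj with e | ⟨e, -⟩
    · rw [e, sgn, Int.cast_one, one_smul]
    · exfalso
      rw [sgn, Int.cast_one, one_smul] at e
      have e1 := tau_iso maxM gt2 (α := muS (wM hP) j - (muS (wM hP) j 1 / lam 1) • lam)
        (β := muS (wM hP) j - (cardUbar M U : ℂ) • ζ)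
        (sub_mem (P.muS_CF j) (Subalgebra.smul_mem _ (SD_CF nM hl) _))
        (sub_mem (mem_CS (SD_sub_ST _ _ _ mj)) (CS_smul _ (mem_CS (S1_ST hζ))))
        (by rw [Pi.sub_apply, Pi.smul_apply, dj, S1_deg hP hζ, smul_eq_mul]; ring)
      have hne : lam ≠ muS (wM hP) j := fun e => P.muS_not_irr j (e ▸ il)
      have hne2 : lam ≠ ζ := fun e => Finset.disjoint_left.1 (S12_disj maxM hP gt2) hl (e ▸ hζ)
      rw [h₂.agree_sub_smul mj hl (div_mul_cancel₀ _ (SD_deg_ne_zero nM hl)).symm,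
        muS_bridge maxM hP gt2 hζ hν hψ hj, e] at e1
      simp only [dot_sub_left, dot_sub_right, dot_smul_left, dot_smul_right, dot_neg_left, dot_sum_left,
        dot_sum_right, F.orth, PrimeTI.inv_ne_self_of_odd F.odd2 hj, and_false, if_false, if_true,
        dot_comm_zero (coh1_eta maxM hP gt2 hζ hν _ _), Finset.sum_const_zero, P.dot_muS,
        coherent_ortho_cycTIiso maxM hP sS (SD_conj nM) h₂ hl il,
        hR.coh_orth (SD_mono (typeP_F_le_der hP) bot_le) (SD_conj nM) SD_sub_bot (SD_conj nM)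
          (S12_disj maxM hP gt2) h₂ hν (mem_CS hl) (mem_CS hζ),
        dot_comm_zero (S1_muS maxM hP gt2 hζ _), SD_orth nM hl mj hne, SD_orth nM hl hζ hne2,
        mul_zero, sub_zero, neg_zero] at e1
      exact Nat.cast_ne_zero.2 Nat.card_pos.ne' e1.symm
  · have hS : ∀ φ ∈ SP M (fittingHallOf M) (kerC M U), ∃ k, k ≠ 1 ∧ φ = muS (wM hP) k :=
      fun φ hφ => (SP_cases maxM hP hφ).resolve_right fun hi => h ⟨φ, hφ, hi.1⟩
    have ht : ∀ k, k ≠ 1 → tau0 M (muS (wM hP) k - muS (wM hP) j) + ∑ i, etaP hP i j =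
        ∑ i, etaP hP i k := fun k hk => by
      rw [(FT_prDade maxM hP).dade_muS_sub hk hj ((muS_S2 maxM hP gt2 hk).2.trans dj.symm),
        (consts maxM hP gt2).1.sign k hk, Int.cast_one, one_smul, sub_add_cancel]
    obtain ⟨ν₂, h1, h2⟩ := cohWith_of_fun (S := SP M (fittingHallOf M) (kerC M U))
      (fun _ => SD_ne_zero nM) (fun _ h _ h' => SD_orth nM h h') (tau0 M)
      (fun φ => tau0 M (φ - muS (wM hP) j) + ∑ i, etaP hP i j)
      (fun φ hφ => by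
        obtain ⟨k, hk, rfl⟩ := hS φ hφ
        rw [ht k hk]; exact sum_mem fun i _ => F.zirr i k)
      (fun φ hφ φ' hφ' => by
        obtain ⟨k, hk, rfl⟩ := hS φ hφ
        obtain ⟨l, hl, rfl⟩ := hS φ' hφ'
        rw [ht k hk, ht l hl, P.dot_muS]
        simp [dot_sum_left, dot_sum_right, F.orth, ite_and, F.card_lin1])
      mj (SD_deg_ne_zero nM mj)
      (fun φ hφ => by
        obtain ⟨k, hk, rfl⟩ := hS φ hφ
        rw [(muS_S2 maxM hP gt2 hk).2, ← dj, div_self (SD_deg_ne_zero nM mj)]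
        simp only [one_smul, sub_self, map_zero, zero_add, add_sub_cancel_right])
    exact ⟨ν₂, h1, by rw [h2 _ mj, sub_self, map_zero, zero_add]⟩

omit hν hψ in
/-- Peterfalvi (11.8) -/
theorem FTtype34_not_ortho_cycTIiso :
    ¬ ∀ i j, ⟪tau0 M (muS (wM hP) 1 - ζ), etaP hP i j⟫ = if j = 1 then 1 else 0 := fun h => by
  obtain ⟨ν, hν, hψ⟩ := exists_tau1 maxM hP gt2 hζ h
  obtain ⟨j, hj⟩ := exists_j hP
  obtain ⟨ν₂, h₂, e⟩ := exists_tau2 maxM hP gt2 hζ hν hψ hj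
  obtain ⟨mj, dj⟩ := muS_S2 maxM hP gt2 hj
  obtain ⟨R, hR⟩ := subcoh maxM hP gt2
  have nM := der_normalIn M
  have sS : SP M (fittingHallOf M) (kerC M U) ⊆ SP M ⁅M, M⁆ ⊥ := SD_mono (typeP_F_le_der hP) bot_le
  have sU := Finset.union_subset sS (SD_sub_bot (N := fittingOf M))
  obtain ⟨ν', h', -⟩ := bridge_coh (fun φ hφ => hR.ne_zero φ (sU hφ))
    (fun φ hφ ψ hψ => hR.orth φ (sU hφ) ψ (sU hψ)) (S12_disj maxM hP gt2) h₂ hν
    (fun φ hφ ψ hψ => hR.coh_orth sS (SD_conj nM) SD_sub_bot (SD_conj nM) (S12_disj maxM hP gt2) h₂ hν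
      (mem_CS hφ) (mem_CS hψ)) (mem_CS mj) (CS_smul (cardUbar M U : ℂ) (mem_CS hζ))
    (by rw [Pi.smul_apply, dj, S1_deg hP hζ, smul_eq_mul, mul_comm]) (SD_deg_ne_zero nM mj)
    (by rw [muS_bridge maxM hP gt2 hζ hν hψ hj, e, map_smul])
  exact S12_noncoh maxM hP gt2 ⟨ν', h'⟩

end NotOrtho

omit maxM hP gt2 in
theorem sum_ite_one {I : Type*} [Fintype I] [DecidableEq I] (i₀ : I) (a b : ℝ) :
    ∑ i, (if i = i₀ then a else b) = a + (Fintype.card I - 1) * b := by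
  have : ∀ i, (if i = i₀ then a else b) = (if i = i₀ then a - b else 0) + b := fun i => by
    split_ifs <;> ring
  simp only [this, Finset.sum_add_distrib, Finset.sum_ite_eq', Finset.mem_univ, if_true,
    Finset.sum_const, Finset.card_univ, nsmul_eq_mul]
  ring

omit maxM hP gt2 in
theorem pow_pos_of_ne {m : ℤ} (h : m ≠ 0) : 1 ≤ m ^ 2 := show 0 < m ^ 2 by positivity

/-- Peterfalvi (11.9)(a), (b) -/
theorem proj_psi {ζ : M → ℂ} (hζ : ζ ∈ SP M ⁅M, M⁆ (fittingOf M)) :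
    (∀ i j, ⟪tau0 M (muS (wM hP) 1 - ζ), etaP hP i j⟫ = if i = 1 then 1 else 0) ∧
      Nat.card W₂ < Nat.card W₁ := by
  have F := FT_fam hP
  have P := FT_primeTI hP
  have D := FT_prDade maxM hP
  have nM := der_normalIn M
  have c1 := P.comm1
  have c2 := P.comm2
  have zψ := psi_zirr maxM hP gt2 hζ
  have cψ : muS (wM hP) 1 - ζ ∈ CF M := sub_mem (P.muS_CF 1) (SD_CF nM hζ)
  have no := FTtype34_not_ortho_cycTIiso maxM hP gt2 hζ
  have gal : ∀ (σ : ℂ ≃+* ℂ) i j, ⟪tau0 M (muS (wM hP) 1 - ζ), σ ∘ etaP hP i j⟫ =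
      ⟪tau0 M (muS (wM hP) 1 - ζ), etaP hP i j⟫ := fun σ i j => by
    have hσ := SD_map nM (σ : ℂ →+* ℂ) ζ hζ
    have e1 : (σ : ℂ →+* ℂ) ∘ muS (wM hP) 1 = muS (wM hP) 1 :=
      (P.muS_map σ 1).trans (congrArg _ (MonoidHom.ext fun x => map_one (Units.map _)))
    rw [← ZIrr.dot_map_map zψ (F.zirr i j) (σ : ℂ →+* ℂ), ← dade_map _ _ (map_zero _), map_comp_sub, e1,
      show muS (wM hP) 1 - (σ : ℂ →+* ℂ) ∘ ζ = (muS (wM hP) 1 - ζ) + (ζ - (σ : ℂ →+* ℂ) ∘ ζ) by abel,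
      map_add, dot_add_left, F.map_eq, S1_sub_eta maxM hP gt2 hζ hσ, add_zero, ← F.map_eq]
    rfl
  have a11 : ⟪tau0 M (muS (wM hP) 1 - ζ), etaP hP 1 1⟫ = 1 := by
    have h := FT_DadeInd_der maxM gt2
    rw [F.one, Dade.dot_dade_one D.dade cψ fun a ha =>
      h.supp (CS_of_ZS (psi_mem hP hζ)) (psi_one hP hζ) a fun hc => ha (h.sub hc), ← P.mu_one_one,
      dot_sub_left, P.dot_muS_mu, (S1_irr maxM hP gt2 hζ).2, if_pos rfl, sub_zero]
  have ex := F.exchange (ZIrr.mem_CF zψ) fun x y hx hy => D.dade_vanish_V cψ (fun g hg =>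
    CS_apply_eq_zero (fun φ hφ => seqInd_eq_zero hφ hg) (CS_of_ZS (psi_mem hP hζ))) x y hx hy
  -- a signed irreducible character orthogonal to the `η`'s
  obtain ⟨χ, dχ, oχ, nχ⟩ : ∃ χ, Dirr χ ∧ (∀ i j, ⟪χ, etaP hP i j⟫ = 0) ∧
      ⟪tau0 M (muS (wM hP) 1 - ζ), χ⟫ ≠ 0 := by
    obtain ⟨ν, hν⟩ := coh_S1 maxM hP gt2
    have hc := SD_conj nM _ hζ
    have e := dot_S1_sub maxM hP gt2 hζ hc cψ
    rw [coh1_sub hP hζ hν hc] at e
    simp only [dot_sub_left, dot_sub_right,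
      dot_comm_zero (S1_muS maxM hP gt2 hζ _), dot_comm_zero (S1_muS maxM hP gt2 hc _),
      S1_dot maxM hP gt2 hζ hζ, S1_dot maxM hP gt2 hζ hc, (SD_conj_ne nM (mFT_odd M) _ hζ).symm,
      if_true, if_false] at e
    by_cases h : ⟪tau0 M (muS (wM hP) 1 - ζ), ν ζ⟫ = 0
    · refine ⟨_, hν.dirr hc (S1_irr maxM hP gt2 hc).1, coh1_eta maxM hP gt2 hc hν, fun h' => ?_⟩
      rw [h, h'] at e
      norm_num at e
    · exact ⟨_, hν.dirr hζ (S1_irr maxM hP gt2 hζ).1, coh1_eta maxM hP gt2 hζ hν, h⟩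
  have nψ := nrm_psi maxM hP gt2 hζ
  generalize tau0 M (muS (wM hP) 1 - ζ) = ψ at *
  have bes : ∑ i, ∑ j, ‖⟪ψ, etaP hP i j⟫‖ ^ 2 ≤ Nat.card W₁ := by
    have h1 := F.bessel Finset.univ (ψ - ⟪ψ, χ⟫ • χ)
    simp only [dot_sub_left, dot_smul_left, oχ, mul_zero, sub_zero, Fintype.sum_prod_type,
      nrm_sub_proj dχ.dot_self, nψ] at h1
    obtain ⟨m, hm⟩ := ZIrr.dot_int zψ dχ.mem_ZIrr
    rw [hm, Complex.norm_intCast, sq_abs] at h1
    have : (1 : ℝ) ≤ (m : ℝ) ^ 2 := by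
      have : m ≠ 0 := by rintro rfl; exact nχ (by rw [hm, Int.cast_zero])
      exact_mod_cast (show 1 ≤ m ^ 2 from pow_pos_of_ne this)
    linarith
  obtain ⟨j₀, hj₀⟩ := exists_j hP
  obtain ⟨i₀, hi₀⟩ : ∃ i : W₁ →* ℂˣ, i ≠ 1 := by
    have := F.card_lin1
    have := F.three_le1
    have : Nontrivial (W₁ →* ℂˣ) := Fintype.one_lt_card_iff_nontrivial.1 (by omega)
    exact exists_ne 1
  obtain ⟨x, hx⟩ := ZIrr.dot_int zψ (F.zirr i₀ 1)
  obtain ⟨y, hy⟩ := ZIrr.dot_int zψ (F.zirr 1 j₀)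
  have hx' : ∀ i, i ≠ 1 → ⟪ψ, etaP hP i 1⟫ = x := fun i hi => by
    obtain ⟨e, k, hk, rfl⟩ := exists_pow_of_prime (pr_q maxM hP gt2) hi₀ hi
    obtain ⟨σ, hσ⟩ := F.exists_aut_pow Nat.card_pos.ne' e (one_pow _) hk
    rw [one_pow] at hσ
    rw [hσ, gal, hx]
  have hy' : ∀ j, j ≠ 1 → ⟪ψ, etaP hP 1 j⟫ = y := fun j hj => by
    obtain ⟨e, k, hk, rfl⟩ := exists_pow_of_prime (pr_p maxM hP gt2) hj₀ hj
    obtain ⟨σ, hσ⟩ := F.exists_aut_pow Nat.card_pos.ne' (one_pow _) e hk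
    rw [one_pow] at hσ
    rw [hσ, gal, hy]
  have hxy : ∀ i j, ⟪ψ, etaP hP i j⟫ = ((if i = 1 then if j = 1 then 1 else y else
      if j = 1 then x else x + y - 1 : ℤ) : ℂ) := fun i j => by
    split_ifs with hi hj hj
    · rw [hi, hj, a11, Int.cast_one]
    · rw [hi, hy' j hj]
    · rw [hj, hx' i hi]
    · have := ex i 1 j 1
      rw [a11, hx' i hi, hy' j hj] at this
      push_cast; linear_combination this
  simp only [hxy, Complex.norm_intCast, sq_abs] at bes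
  simp only [Int.cast_ite, apply_ite (fun t : ℝ => t ^ 2),
    Finset.sum_ite_irrel, sum_ite_one, F.card_lin1, F.card_lin2] at bes
  have bes' : 1 ^ 2 + ((Nat.card W₂ : ℤ) - 1) * y ^ 2 + ((Nat.card W₁ : ℤ) - 1) *
      (x ^ 2 + ((Nat.card W₂ : ℤ) - 1) * (x + y - 1) ^ 2) ≤ Nat.card W₁ := by exact_mod_cast bes
  have q3 : (3 : ℤ) ≤ Nat.card W₁ := by exact_mod_cast F.three_le1
  have p3 : (3 : ℤ) ≤ Nat.card W₂ := by exact_mod_cast F.three_le2
  have pq := F.card_ne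
  generalize Nat.card W₁ = q at *
  generalize Nat.card W₂ = p at *
  have h1 : x ^ 2 + (p - 1) * (x + y - 1) ^ 2 ≤ 1 := by
    refine le_of_mul_le_mul_left ?_ (show (0 : ℤ) < q - 1 by omega)
    nlinarith [mul_nonneg (show (0 : ℤ) ≤ p - 1 by omega) (sq_nonneg y)]
  have h2 : x + y - 1 = 0 := by
    by_contra h
    nlinarith [pow_pos_of_ne h, sq_nonneg x]
  obtain rfl : y = 1 - x := by omega
  have h3 : x = 0 := by
    rw [h2] at h1 bes'
    have : x ≤ 1 := by nlinarith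
    have : -1 ≤ x := by nlinarith
    rcases (by omega : x = 1 ∨ x = 0 ∨ x = -1) with rfl | rfl | rfl
    · exact absurd (fun i j => by rw [hxy]; split_ifs <;> simp) no
    · rfl
    · nlinarith
  subst h3
  refine ⟨fun i j => by rw [hxy]; split_ifs <;> simp, ?_⟩
  have : (p : ℤ) ≤ q := by nlinarith
  omega

/-- Peterfalvi (11.9) -/
theorem FTtype34_structure :
    (∀ ζ ∈ SP M ⁅M, M⁆ (fittingOf M), ∀ i j,
      ⟪tau0 M (muS (wM hP) 1 - ζ), etaP hP i j⟫ = if i = 1 then 1 else 0) ∧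
    Nat.card W₂ < Nat.card W₁ ∧ FTtype M = 3 ∧ TypePGalois M U := by
  classical
  have nt5 := FTtype5_exclusion maxM
  have nM := der_normalIn M
  have P := FT_primeTI hP
  obtain ⟨-, evn, n2⟩ := consts maxM hP gt2
  obtain ⟨ζ, hζ⟩ := Finset.card_pos.1 (lt_of_lt_of_le two_pos n2)
  obtain ⟨ha, hb⟩ := proj_psi maxM hP gt2 hζ
  have gal : TypePGalois M U := by
    by_contra gal
    obtain ⟨H₁, a, h⟩ := typeP_Galois_Pn maxM hP nt5 gal
    obtain ⟨-, -, h1, h2⟩ := typeP_nonGalois_characters maxM hP nt5 h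
    have p1 := (pr_p maxM hP gt2).one_lt
    have ha1 := h.one_lt
    have hap := h.dvd
    rw [def_p maxM hP gt2] at h1 h2 hap
    obtain ⟨lam, hl⟩ := Finset.card_pos.1 (lt_of_lt_of_le (Nat.div_pos (Nat.le_of_dvd
      (Nat.mul_pos (by omega) Nat.card_pos) h1) (Nat.mul_pos (by positivity) Nat.card_pos)) h2)
    obtain ⟨hl, il, dl⟩ := Finset.mem_filter.1 hl
    rw [H0_eq_bot maxM hP gt2, bot_sup_eq, ← (FTtype34_facts maxM hP gt2).2.2] at hl
    obtain ⟨ν₂, h₂⟩ := coh_S2 maxM hP gt2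
    obtain ⟨j, hj⟩ := exists_j hP
    obtain ⟨mj, dj⟩ := muS_S2 maxM hP gt2 hj
    have a0 : (a : ℂ) ≠ 0 := Nat.cast_ne_zero.2 (by omega)
    have e := dot_psi maxM hP gt2 hζ (α := muS (wM hP) j - (cardUbar M U / a : ℂ) • lam)
      (sub_mem (P.muS_CF j) (Subalgebra.smul_mem _ (SD_CF nM hl) _))
    have o1 : ⟪lam, muS (wM hP) 1⟫ = 0 := by rw [P.muS_one]; exact SD_dot_ind_one nM hl
    have hne : lam ≠ ζ := fun e => Finset.disjoint_left.1 (S12_disj maxM hP gt2) hl (e ▸ hζ)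
    have zψ := psi_zirr maxM hP gt2 hζ
    obtain ⟨m, hm⟩ := ZIrr.dot_int (h₂.zirr _ hl) zψ
    rw [h₂.agree_sub_smul mj hl (by rw [dj, dl]; field_simp), dot_sub_left, dot_smul_left, hm] at e
    simp only [dot_sub_left, dot_sub_right (muS _ _), dot_sub_right lam, dot_smul_left, P.dot_muS, hj,
      if_false, o1, dot_comm_zero (S1_muS maxM hP gt2 hζ _), SD_orth nM hl hζ hne, sub_zero,
      mul_zero] at e
    have hs : ∀ k, ⟪∑ i, etaP hP i k, tau0 M (muS (wM hP) 1 - ζ)⟫ = 1 := fun k => by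
      simp only [dot_sum_left, ZIrr.dot_comm ((FT_fam hP).zirr _ _) zψ, ha, Finset.sum_ite_eq',
        Finset.mem_univ, if_true]
    have hd : (cardUbar M U : ℤ) ∣ a := by
      rcases coherent_TIred maxM hP (sub_core maxM gt2 (typeP_F_le_der hP)) (SD_conj nM) h₂ hl il mj
        with e1 | ⟨e1, -⟩
      · rw [e1, (consts maxM hP gt2).1.sign j hj, Int.cast_one, one_smul, hs] at e
        refine ⟨m, Int.cast_injective (α := ℂ) ?_⟩
        field_simp at e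
        push_cast; linear_combination e
      · rw [e1, (consts maxM hP gt2).1.sign j hj, Int.cast_one, one_smul, dot_neg_left, hs] at e
        refine ⟨-m, Int.cast_injective (α := ℂ) ?_⟩
        field_simp at e
        push_cast; linear_combination -e
    have h3 := Nat.le_of_dvd (by omega) (Int.natCast_dvd_natCast.1 hd)
    have h4 := Nat.le_of_dvd (by omega) hap
    have h5 := S1_card maxM hP gt2
    have h6 := Nat.mul_le_mul_right (Nat.card W₁) n2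
    omega
  refine ⟨fun ζ hζ => (proj_psi maxM hP gt2 hζ).1, hb, ?_, gal⟩
  have h4 : FTtype M ≠ 4 := fun h => (compl_of_typeIV maxM hP h).2.1 (abelian_of_cyclic
    (cyclic_of_nil_of_cyclic_quot_der hP.U_nilpotent
      ((FTtype34_facts maxM hP gt2).2.2 ▸ (typeP_Galois_P maxM hP nt5 gal).2.1)))
  have := (FTtype_range M).2
  omega

end CA.PF.P11
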