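import Cfsg.Agent.PF.I10
import Cfsg.Agent.PF.P11b

/-!
# Interface: Peterfalvi, section 11.  Here `HC = fittingOf M` (`typeP_Fitting`).
-/

set_option autoImplicit false
set_option linter.unusedSectionVars false

open scoped ComplexConjugate

open Cfsg CA.FG CA.BG CA.Chr

namespace CA.PF

universe u

variable {G : Type u} [Group G] [MinSimpleOdd G] {M W₁ U W₂ : Subgroup G} (maxM : IsCoatom M)
  (hP : IsTypePWith M W₁ U W₂) (gt2 : 2 < FTtype M)
include maxM hP gt2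

/-- Peterfalvi (11.5), (11.6) -/
theorem FTtype34_facts : ⁅⁅M, M⁆, ⁅M, M⁆⁆ = fittingOf M ∧ kerC M U = U ⊓ 𝒞(fittingHallOf M) ∧
    kerC M U = ⁅U, U⁆ := P11.FTtype34_facts maxM hP gt2

/-- Peterfalvi (11.7) -/
theorem FTtype34_Fcore_kernel_trivial : IsElementaryAbelian (Nat.card W₂) (fittingHallOf M) ∧
    Nat.card (fittingHallOf M) = Nat.card W₂ ^ Nat.card W₁ ∧ kerH0 M U = ⊥ :=
  P11.FTtype34_Fcore_kernel_trivial maxM hP gt2

/-- Peterfalvi (11.9) -/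
theorem FTtype34_structure :
    (∀ ζ ∈ SP M ⁅M, M⁆ (fittingOf M), ∀ i j,
      ⟪tau0 M (muS (wM hP) 1 - ζ), etaP hP i j⟫ = if i = 1 then 1 else 0) ∧
    Nat.card W₂ < Nat.card W₁ ∧ FTtype M = 3 ∧ TypePGalois M U :=
  P11.FTtype34_structure maxM hP gt2

end CA.PF
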