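import Cfsg.Agent.PF.P12b

/-!
# Peterfalvi, section 12, part d: the character-theoretic part (12.13) - (12.16) of (12.7).
-/

set_option autoImplicit false
set_option linter.unusedSectionVars false

open scoped ComplexConjugate

open Cfsg CA.FG CA.BG CA.Chr

namespace CA.PF.P12

universe u

theorem nrm_indicator_add_le {X : Type*} [Finite X] {A B : Set X} (hd : Disjoint A B) (χ : X → ℂ) :
    nrm (A.indicator χ) + nrm (B.indicator χ) ≤ nrm χ := by
  have e1 := nrm_indicator_add_compl A χ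
  have e2 := nrm_indicator_add_compl B (Aᶜ.indicator χ)
  rw [Set.indicator_indicator, Set.inter_eq_left.2 hd.subset_compl_left] at e2
  linarith [nrm_nonneg (Bᶜ.indicator (Aᶜ.indicator χ))]

theorem le_nrm_of_const {X : Type*} [Finite X] {A : Set X} {χ : X → ℂ} {c : ℂ}
    (h : ∀ x ∈ A, χ x = c) : ‖c‖ ^ 2 * (A.ncard / Nat.card X) ≤ nrm χ := by
  have e1 := nrm_indicator_add_compl A χ
  have : A.indicator χ = c • A.indicator 1 := by
    ext x; by_cases hx : x ∈ A <;> simp [hx, h]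
  rw [this, nrm_smul, nrm_indicator_one] at e1
  linarith [nrm_nonneg (Aᶜ.indicator χ)]

theorem int_of_const_off {G : Type*} [Group G] [Finite G] {K N : Subgroup G} {φ : G → ℂ}
    (hφ : φ ∈ ZIrr G) {c : ℂ} (hc : ∀ x ∈ K, x ∉ N → φ x = c) {z : G} (hz : z ∈ K) (hz' : z ∉ N) :
    ∃ n : ℤ, c = n := by
  rw [← hc z hz hz']
  refine int_of_aut_fixed (ZIrr.isIntegral hφ z) fun σ => ?_
  obtain ⟨k, hk, h⟩ := aut_exists_pow σ.toRingHom (orderOf_pos z).ne'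
  refine (ZIrr.map_apply hφ σ.toRingHom h).trans ((hc _ (pow_mem hz k) fun e => hz' ?_).trans
    (hc z hz hz').symm)
  obtain ⟨m, hm⟩ := exists_pow_eq_self_of_coprime hk
  exact hm ▸ pow_mem e m

theorem eq_zero_of_bound {e h : ℝ} {a : ℤ} (he : 3 ≤ e) (hh : (2 * e - 1) ^ 2 ≤ h)
    (h0 : 0 ≤ e - 1 - ((h - 1) / e * a ^ 2 - 2 * a)) : a = 0 := by
  by_contra ha
  have h1 : 4 * (e - 1) ≤ (h - 1) / e := by rw [le_div_iff₀ (by linarith)]; nlinarith
  have h2 : (1 : ℝ) ≤ a ^ 2 := by exact_mod_cast (one_le_sq_iff_one_le_abs a).2 (Int.one_le_abs ha)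
  nlinarith [mul_le_mul_of_nonneg_right h1 (sq_nonneg (a : ℝ)), sq_nonneg ((a : ℝ) - 1),
    mul_nonneg (sub_nonneg.2 he) (sub_nonneg.2 h2)]

variable {G : Type u} [Group G] [MinSimpleOdd G] {L M N : Subgroup G}

theorem dsupp_F_sub (maxL : IsCoatom L) :
    dsupp (sharp (fittingHallOf L)) (FTsig L) ⊆ FTDadeSupp L (FTsupp1 L) :=
  (dsupp_mono (Fcore_sub_FTsupp1 maxL) _).trans (FTDadeSupp_eq L _).ge

theorem coh_orth (maxN : IsCoatom N) (maxL : IsCoatom L)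
    (hd : Disjoint (FTDadeSupp N (FTsupp1 N)) (FTDadeSupp L (FTsupp1 L)))
    {ν : (L → ℂ) →ₗ[ℂ] (G → ℂ)} (hν : CohWith (SF L) (tau0 L) ν) {χ : L → ℂ} (hχ : χ ∈ SF L)
    (iχ : IsIrrCharacter L χ) : ∀ φ ∈ SF N, ⟪tau0 N (φ - conjFun φ), ν χ⟫ = 0 := by
  intro φ hφ
  have hN := FT_DadeInd_F maxN
  have hL := FT_DadeInd_F maxL
  have c : ∀ {K : Subgroup G} {φ : K → ℂ}, φ ∈ SF K → φ 1 = conjFun φ 1 := fun hφ =>
    (ZIrr.conj_one (SD_zirr (Fcore_normal _) hφ)).symm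
  have m : ∀ {K : Subgroup G} {φ : K → ℂ}, φ ∈ SF K → φ - conjFun φ ∈ CS (ST (Fcore_normal K).1) :=
    fun hφ => sub_mem (mem_CS (SD_sub_ST _ _ _ hφ)) (mem_CS (SD_sub_ST _ _ _ (SD_conj (Fcore_normal _) _ hφ)))
  have e := disjoint_DadeInd_ortho hN hL (hd.mono (dsupp_F_sub maxN) (dsupp_F_sub maxL)) (m hφ)
    (sub_eq_zero.2 (c hφ)) (m hχ) (sub_eq_zero.2 (c hχ))
  have hχ' := SD_conj hL.normal _ hχ
  have z : tau0 N (φ - conjFun φ) ∈ ZIrr G := Dade.dade_mem_ZIrr hN.dade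
    (sub_mem (SD_zirr hN.normal hφ) (ZIrr.conjFun (SD_zirr hN.normal hφ))) fun a ha =>
      hN.supp (m hφ) (sub_eq_zero.2 (c hφ)) a fun f => ha (hN.sub f)
  rw [hν.agree_sub hχ hχ' (c hχ), ← hν.conj_eq (fun α _ _ => Dade.dade_one hL.dade α) dade_conjFun hχ
    hχ' iχ (SD_conj_ne hL.normal (mFT_odd L) _ hχ), dot_sub_right] at e
  have e2 := ZIrr.dot_conjFun z (hν.zirr _ hχ)
  rw [← dade_conjFun, conjFun_sub, conjFun_conjFun, ← neg_sub φ, map_neg, dot_neg_left] at e2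
  linear_combination (e - e2) / 2

/-- Peterfalvi (12.13) - (12.16) -/
theorem counter_char {E : Subgroup G} {p : ℕ} {x : G} (maxM : IsCoatom M) (t1 : FTtype M = 1)
    (nf : ¬ ∃ E, IsFrob M (fittingHallOf M) E) (maxL : IsCoatom L) (frob : IsFrob L (fittingHallOf L) E)
    (notj : ∀ g, L ≠ M :^ g) (hp : p.Prime) (ox : orderOf x = p) (xH : x ∈ fittingHallOf L) (xM : x ∈ M)
    (xK : x ∉ fittingHallOf M) (nCL : ¬ 𝒞[x] ≤ L) (sb : sigBase x = M)
    (hC : ¬ (fittingHallOf M ⊓ 𝒞[x] ≤ ⁅fittingHallOf M, fittingHallOf M⁆))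
    (LM : L ⊓ M ≤ fittingHallOf L) (hp2 : p ^ 2 ∣ Nat.card (fittingHallOf L))
    (hE : 2 * Nat.card E ≤ p + 1) : False := by
  obtain ⟨irr, ν, hν⟩ := FT_seqInd_Frobenius_coherence maxL frob
  have hL := FT_DadeInd_F maxL
  have hM := FT_DadeInd_F maxM
  obtain ⟨χ, hχ, dχ, -⟩ := exists_lin_SD_of_sol hL.normal (haveI := Fcore_nil L; inferInstance)
    (bot_lt_iff_ne_bot.2 frob.2.1) (norm_bot _)
  have dχ' : χ 1 = (fittingHallOf L).relIndex L := by rw [← SD_coe_deg hL.normal hχ, dχ]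
  have iχ := irr χ hχ
  have hψ := hν.dirr hχ iχ
  have zψ := hψ.mem_ZIrr
  have dj := FT_Dade1_support_disjoint maxM maxL notj
  have oM := coh_orth maxM maxL dj hν hχ iχ
  have x1 : x ≠ 1 := fun f => xK (f ▸ one_mem _)
  have xs : ((⟨x, hL.le xH⟩ : L) : G) ∈ sharp (fittingHallOf L) := ⟨xH, x1⟩
  obtain ⟨he, hh⟩ := IsFrob_index_bound frob (mFT_odd L)
  have oe := odd_relIndex_of_le (mFT_odd L) hL.le le_rfl
  rw [← frob.1.1.relIndex_left] at hE
  obtain ⟨Γ, a, o1, -, eβ, nΓ, -, hρ⟩ := hL.Dade_Ind1_sub_lin (mFT_odd L) hν hχ iχ dχ'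
  replace hρ := (hρ hh).1
  set e := (fittingHallOf L).relIndex L
  have e3 : (3 : ℝ) ≤ e := by
    have : 3 ≤ e := by obtain ⟨k, hk⟩ := oe; omega
    exact_mod_cast this
  have hE' : (2 * e - 1 : ℝ) ≤ p := by
    have : (2 * e : ℝ) ≤ p + 1 := by exact_mod_cast hE
    linarith
  obtain rfl : a = 0 := eq_zero_of_bound e3 (le_trans (pow_le_pow_left₀ (by linarith) hE' 2)
    (by exact_mod_cast Nat.le_of_dvd Nat.card_pos hp2)) (nΓ ▸ nrm_nonneg Γ)
  -- (12.14)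
  have e1 : ν χ x = χ ⟨x, hL.le xH⟩ := by
    have := hL.rho_apply_eq hν hχ iχ dχ' (ZIrr.mem_CF zψ) xs
    rw [Dade.rho_of_const hL.dadeH xs fun u hu => type1_ortho_constant maxM t1 hψ oM xM xK (by
      rw [P16.FTsig_of_not_le nCL, sb] at hu; exact hu.1), Finset.sum_eq_single χ (fun ξ hξ hne => by
        rw [hν.iso _ hξ _ hχ, SD_orth hL.normal hξ hχ hne]; simp) (fun f => (f hχ).elim), eβ] at this
    simpa [dot_add_left, dot_sub_left, hψ.dot_self, dot_comm_zero (o1 χ hχ), IsIrr.nrm iχ,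
      dot_comm_zero ((hL.Dade_Ind1_sub_lin_a1 (mFT_odd L) hν hχ iχ dχ').1 χ hχ)] using this
  -- (12.15)
  have e2 : ∀ g : M, (g : G) ∈ sharp (fittingHallOf M) →
      rho (sharp (fittingHallOf M)) M (FTsig M) (ν χ) g = ν χ g := fun g hg => by
    refine Dade.rho_of_const hM.dadeH hg fun u hu => ?_
    by_cases h : 𝒞[(g : G)] ≤ M
    · rw [P16.FTsig_of_le h, Subgroup.mem_bot] at hu
      rw [hu, mul_one]
    obtain ⟨-, ⟨maxN, -⟩, -, -, ⟨s1, s2⟩, t2, t3⟩ := FTsupport_facts maxM (hM.sub hg) h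
    rw [P16.FTsig_of_not_le h] at hu
    have t : FTtype (sigBase (g : G)) = 1 := by
      have := (FTtype_range (sigBase (g : G))).1
      by_contra f
      exact nf (t3 (by omega))
    refine type1_ortho_constant maxN t hψ (coh_orth maxN maxL (FT_Dade1_support_disjoint maxL maxN
      fun y f => s2 ?_).symm hν hχ iχ) (FTsupp_sub_sharp _ s1).1
      (fun f => s2 (Fcore_sub_FTsupp1 maxN ⟨f, hg.2⟩)) hu.1
    rw [f] at s1 ⊢
    have : (g : G) = y * (y⁻¹ * g * y) * y⁻¹ := by group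
    rw [this, FTsuppJ, (FTsupp_Frobenius maxL frob).2] at s1
    rw [this, FTsupp1J]
    exact Fcore_sub_FTsupp1 maxL s1
  obtain ⟨c, hc⟩ := type1_invDade_ortho_constant maxM t1 hψ oM
  set K := fittingHallOf M
  have hc' : ∀ g ∈ K, g ∉ ⁅K, K⁆ → ν χ g = c := fun g hg hg' =>
    (e2 ⟨g, hM.le hg⟩ ⟨hg, fun f => hg' ((show g = 1 from f) ▸ one_mem _)⟩).symm.trans (hc _ hg hg')
  obtain ⟨g, hg, hg'⟩ := SetLike.not_le_iff_exists.1 hC
  obtain ⟨c, rfl⟩ := int_of_const_off zψ hc' hg.1 hg'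
  -- (12.16)
  have hε := Complex.isPrimitiveRoot_exp p hp.ne_zero
  have xp : x ^ p = 1 := ox ▸ pow_orderOf_eq_one x
  obtain ⟨ω₁, i₁, f₁⟩ := ZIrr.congr_mod_prim zψ hp.ne_zero hε xp
    (Subgroup.mem_centralizer_singleton_iff.1 hg.2).symm
  obtain ⟨ω₂, i₂, f₂⟩ := ZIrr.congr_mod_prim (IsIrr.mem_ZIrr iχ) hp.ne_zero hε
    (x := ⟨x, hL.le xH⟩) (y := 1) (Subtype.ext xp) (by simp)
  rw [type1_ortho_constant maxM t1 hψ oM xM xK hg.1, e1, hc' g hg.1 hg'] at f₁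
  rw [mul_one, dχ'] at f₂
  obtain ⟨b, hb⟩ := prime_dvd_of_one_sub_dvd hp hε (n := c - e) (i₂.sub i₁)
    (by push_cast; linear_combination f₂ - f₁)
  have hc2 : (e - 1 : ℝ) ^ 2 ≤ ‖(c : ℂ)‖ ^ 2 := by
    have : (c : ℝ) = e + p * b := by exact_mod_cast (by linarith : c = e + p * b)
    rw [Complex.norm_intCast, sq_abs, this]
    rcases le_or_gt 0 b with h | h
    · have : (0 : ℝ) ≤ p * b := by positivity
      nlinarith
    · have : (b : ℝ) ≤ -1 := by exact_mod_cast (by omega : b ≤ -1)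
      have : (p : ℝ) * b ≤ -p := by nlinarith
      nlinarith
  have n1 := le_nrm_of_const (A := (K.subgroupOf M : Set M) \ (⁅K, K⁆.subgroupOf M : Set M))
    fun g hg => hc g hg.1 hg.2
  have n2 := nrm_indicator_add_le (dj.mono (dsupp_F_sub maxM) (dsupp_F_sub maxL)) (ν χ)
  have n3 := Dade.nrm_rho_le_indicator hM.dadeH (ZIrr.mem_CF zψ)
  have n4 := Dade.nrm_rho_le_indicator hL.dadeH (ZIrr.mem_CF zψ)
  have sd := (FTsupport_facts maxL (hL.sub xs) nCL).2.2.1.1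
  rw [sb] at sd
  have k7 : 7 ≤ ⁅K, K⁆.relIndex K := by
    obtain ⟨U, -, -, U₀, -, -, fr⟩ := (FTtype1_iff_typeF maxM).1 t1
    have nK' := norm_comm fr.1.normal.2 fr.1.normal.2
    have := two_mul_lt_of_odd (odd_relIndex_of_le (mFT_odd _) fr.1.left_le le_rfl)
      (odd_relIndex_of_le (mFT_odd K) (der_le K) le_rfl)
      (one_lt_relIndex' ((der_le K).lt_of_ne fun f => hg' (f.ge hg.1)))
      (dvd_of_frob_mod fr.1.normal fr.1.normal.2 nK' (der_le K) le_rfl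
        (frob_mod_of_cent_le fr.1 (Frobenius_coprime fr) nK' (der_le K) fun x hx hx1 => by
          rw [fr.2.2.2 x hx hx1]; exact bot_le))
    have h2 := (IsFrob_index_bound fr (mFT_odd _)).1
    obtain ⟨k, hk⟩ := odd_relIndex_of_le (mFT_odd _) fr.1.left_le le_rfl
    omega
  rw [Set.ncard_diff (Subgroup.subgroupOf_mono M (der_le K)), Nat.cast_sub (Set.ncard_le_ncard
    (Subgroup.subgroupOf_mono M (der_le K))), ← Nat.card_coe_set_eq, ← Nat.card_coe_set_eq,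
    SetLike.coe_sort_coe, SetLike.coe_sort_coe, card_subgroupOf hM.le,
    card_subgroupOf ((der_le K).trans hM.le), ← sd.card_mul, ← card_mul_relIndex (der_le K)] at n1
  have l1 : (Nat.card ↥(L ⊓ M) : ℝ) ≤ Nat.card (fittingHallOf L) := by
    exact_mod_cast Subgroup.card_le_of_le LM
  have l2 : (0 : ℝ) < Nat.card ↥(L ⊓ M) := by exact_mod_cast Nat.card_pos
  have l3 : (0 : ℝ) < Nat.card ↥⁅K, K⁆ := by exact_mod_cast Nat.card_pos
  have l4 : (7 : ℝ) ≤ ⁅K, K⁆.relIndex K := by exact_mod_cast k7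
  rw [hψ.nrm] at n2
  push_cast at n1
  generalize (Nat.card ↥(L ⊓ M) : ℝ) = m at *
  generalize (Nat.card (fittingHallOf L) : ℝ) = h at *
  generalize (Nat.card ↥⁅K, K⁆ : ℝ) = k at *
  generalize (⁅K, K⁆.relIndex K : ℝ) = r at *
  have l0 := l2.trans_le l1
  have l5 : 6 / 7 / h ≤ (k * r - k) / (k * r * m) := by
    rw [div_le_div_iff₀ (by linarith) (by positivity)]
    have : 6 / 7 * r * m ≤ (r - 1) * h := mul_le_mul (by linarith) l1 l2.le (by linarith)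
    nlinarith
  have l6 : (e - 1) ^ 2 * (6 / 7 / h) ≤ e / h :=
    (mul_le_mul hc2 l5 (by positivity) (by positivity)).trans (by linarith)
  rw [← mul_div_assoc, div_le_div_iff_of_pos_right (by linarith)] at l6
  nlinarith

end CA.PF.P12
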