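import Cfsg.Agent.PF.P12b

/-!
# Peterfalvi (12.17)
-/

set_option autoImplicit false
set_option linter.unusedSectionVars false

open Cfsg CA.FG CA.BG CA.Chr

namespace CA.PF.P12

universe u

/-- Peterfalvi (12.17), given (12.7) -/
theorem not_all_FTtype1_of (G : Type u) [Group G] [MinSimpleOdd G]
    (hF : ∀ L : Subgroup G, IsCoatom L → FTtype L = 1 → ∃ E, IsFrob L (fittingHallOf L) E) :
    ¬ ∀ M : Subgroup G, IsCoatom M → FTtype M = 1 := by
  classical
  intro all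
  have fr : ∀ L : Subgroup G, IsCoatom L → ∃ E, IsFrob L (fittingHallOf L) E := fun L h => hF L h (all L h)
  have s0 : ∀ L : Subgroup G, IsCoatom L → FTsupp L = sharp (fittingHallOf L) := fun L h =>
    (fr L h).elim fun _ hE => (FTsupp_Frobenius h hE).2
  have s1 : ∀ L : Subgroup G, IsCoatom L → FTsupp1 L = sharp (fittingHallOf L) := fun L h =>
    ((FTsupp1_sub h).trans (s0 L h).le).antisymm (Fcore_sub_FTsupp1 h)
  have core : ∀ L : Subgroup G, IsCoatom L → sigmaCore L = fittingHallOf L := fun L h =>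
    le_antisymm (fun x hx => by
      by_cases x1 : x = 1
      · exact x1 ▸ one_mem _
      exact ((s1 L h).le ⟨hx, x1⟩).1) (Fcore_le_FTcore h)
  have sg : ∀ L : Subgroup G, IsCoatom L → ∀ x ∈ sharp (fittingHallOf L), FTsig L x = ⊥ := fun L h x hx => by
    have : 𝒞[x] ≤ L := by
      by_contra nc
      obtain ⟨-, uq, -, -, ⟨h1, h2⟩, -⟩ := FTsupport_facts h (FTsupp1_sub0 h (Fcore_sub_FTsupp1 h hx)) nc
      exact h2 (by rw [s1 _ uq.1, ← s0 _ uq.1]; exact h1)
    exact if_pos this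
  have ti : ∀ L : Subgroup G, IsCoatom L → NormedTI (sharp (fittingHallOf L)) ⊤ L := fun L h =>
    ⟨s1 L h ▸ FTsupp1_nonempty h, le_top, fun a ha g _ => ⟨Dade.TI_of_bot (FT_DadeF_hyp h) ha (sg L h a ha),
      fun hg => (FT_DadeF_hyp h).conj_mem g hg a ha⟩⟩
  let r : Setoid (Subgroup G) := ⟨fun M N => ∃ g, N = M :^ g, fun M => ⟨1, (conjg_one M).symm⟩,
    fun ⟨g, e⟩ => ⟨g⁻¹, by rw [e, conjg_inv_cancel]⟩, fun ⟨g, e⟩ ⟨h, e'⟩ => ⟨h * g, by rw [e', e, conjg_mul]⟩⟩
  have := Fintype.ofFinite (Quotient r)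
  let s : Finset (Quotient r) := Finset.univ.filter fun i => IsCoatom i.out
  have hs : ∀ i, i ∈ s ↔ IsCoatom i.out := fun i => by simp [s]
  have out : ∀ M : Subgroup G, ∃ g, M = (⟦M⟧ : Quotient r).out :^ g := fun M => Quotient.mk_out (s := r) M
  have ms : ∀ M : Subgroup G, IsCoatom M → (⟦M⟧ : Quotient r) ∈ s := fun M h => by
    obtain ⟨g, e⟩ := out M
    rw [e, isCoatom_conjg] at h
    exact (hs _).2 h
  have two : 2 ≤ s.card := by
    obtain ⟨M, hM, -⟩ := mmax_exists (G := G) (H := ⊥) (by have := mFT_simple (G := G); exact bot_ne_top)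
    obtain ⟨q, hq, hd⟩ := Nat.exists_prime_and_dvd (n := (fittingHallOf M).index)
      fun e => hM.1 (eq_top_iff.2 ((Subgroup.index_eq_one.1 e).ge.trans (Fcore_le M)))
    obtain ⟨L, hL, qL⟩ := FTcore_primes hq (hd.trans (Subgroup.index_dvd_card _))
    refine Finset.one_lt_card.2 ⟨_, ms M hM, _, ms L hL, fun e => ?_⟩
    obtain ⟨g, rfl⟩ : ∃ g, L = M :^ g := Quotient.exact e
    rw [core _ hL, FcoreJ, card_conjg] at qL
    exact hq.one_lt.ne' (Nat.eq_one_of_dvd_coprimes (isHallOf_top_iff.1 (FTcore_facts hM).1) qL hd)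
  obtain ⟨g, g1, hg⟩ := coherent_Frobenius_partition mFT_odd_top s two (fun i => i.out)
    (fun i => fittingHallOf i.out) (fun i hi => mFT_sol ((hs i).1 hi).1) (fun i hi => fr _ ((hs i).1 hi))
    (fun i hi => ti _ ((hs i).1 hi)) (fun i hi j hj ne => by
      have := FTcore_coprime ((hs i).1 hi) ((hs j).1 hj) fun g e => ne (Quotient.out_equiv_out.1 ⟨g, e⟩)
      rwa [core _ ((hs i).1 hi), core _ ((hs j).1 hj)] at this)
  obtain ⟨M, hM, a, ha, u, hu, y, e⟩ := FT_Dade_support_partition_F all g1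
  rw [s1 M hM] at ha
  rw [sg M hM a ha, Subgroup.mem_bot] at hu
  obtain ⟨k, ek⟩ := out M
  refine hg _ (ms M hM) ⟨k⁻¹ * a * k, ⟨?_, fun h => ha.2 ?_⟩, y * k, trivial, by rw [e, hu]; group⟩
  · have := ha.1
    rwa [ek, FcoreJ, mem_conjg] at this
  · calc a = k * (k⁻¹ * a * k) * k⁻¹ := by group
      _ = 1 := by rw [h]; group

end CA.PF.P12
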