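import Cfsg.Agent.PF.P12c
import Cfsg.Agent.PF.P12d
import Cfsg.Agent.PF.P12z

/-!
# Interface: Peterfalvi, section 12.
-/

set_option autoImplicit false
set_option linter.unusedSectionVars false

open scoped ComplexConjugate

open Cfsg CA.FG CA.BG CA.Chr

namespace CA.PF

universe u

variable {G : Type u} [Group G] [MinSimpleOdd G] {L : Subgroup G}

/-- Peterfalvi (12.6) -/
theorem FT_seqInd_Frobenius_coherence (maxL : IsCoatom L) {E : Subgroup G}
    (frob : IsFrob L (fittingHallOf L) E) :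
    (∀ χ ∈ SF L, IsIrrCharacter L χ) ∧ Coh (SF L) (tau0 L) :=
  P12.FT_seqInd_Frobenius_coherence maxL frob

/-- Peterfalvi (12.7) -/
theorem FTtype1_Frobenius (maxL : IsCoatom L) (h : FTtype L = 1) :
    ∃ E, IsFrob L (fittingHallOf L) E := by
  by_contra nf
  obtain ⟨M, L, E, p, x, h1, h2, h3, h4, h5, h6, h7, h8, h9, h10, h11, h12, h13, h14, h15, h16, h17⟩ :=
    P12.counter_group G ⟨L, maxL, h, nf⟩
  exact P12.counter_char h1 h2 h3 h4 h5 h6 h7 h8 h9 h10 h11 h12 h13 h14 h15 h16 h17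

/-- Peterfalvi (12.17) -/
theorem not_all_FTtype1 (G : Type u) [Group G] [MinSimpleOdd G] :
    ¬ ∀ M : Subgroup G, IsCoatom M → FTtype M = 1 :=
  P12.not_all_FTtype1_of G fun _ => FTtype1_Frobenius

end CA.PF
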