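import Cfsg.Agent.PF.P13d

/-!
# Peterfalvi (13.19), and the summary (13.2)
-/

set_option autoImplicit false
set_option linter.unusedSectionVars false

open scoped ComplexConjugate

open Cfsg CA.FG CA.BG CA.Chr

namespace CA.PF.P13

universe u

variable {G : Type u} [Group G] [MinSimpleOdd G] {S W₁ U W₂ : Subgroup G} (maxS : IsCoatom S)
  (hP : IsTypePWith S W₁ U W₂)
include maxS hP

theorem FTtypeP_facts :
    ((FTtype S = 2 ∨ FTtype S = 3) ∧ (Nat.card W₁ < Nat.card W₂ → FTtype S = 2) ∧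
      IsFrob (U ⊔ W₁) U W₁ ∧ IsMulCommutative U) ∧
    (IsElementaryAbelian (Nat.card W₂) (fittingHallOf S) ∧
      Nat.card (fittingHallOf S) = Nat.card W₂ ^ Nat.card W₁) ∧
    cardUbar S U ≤ (Nat.card W₂ ^ Nat.card W₁ - 1) / (Nat.card W₂ - 1) ∧
    Coh (SP S (fittingHallOf S) ⊥) (tau0 S) ∧
    NormedTI (FTsupp0 S) ⊤ S :=
  ⟨⟨(type23 maxS hP).1, (type23 maxS hP).2, frobUW1 maxS hP, abelU maxS hP⟩, abelP maxS hP, u_le maxS hP,
    cohS maxS hP, tiA0 maxS hP⟩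

theorem Ptype_Fcore_kernel_trivial : kerH0 S U = ⊥ ∧ primeH S U = Nat.card W₂ :=
  ⟨kerH0_eq maxS hP, primeH_eq maxS hP⟩

theorem tau_bridge_supp {j : W₂ →* ℂˣ} (hj : j ≠ 1) {g : G}
    (hg : g ∉ classSupport ((fittingHallOf S : Set G) ∪ (W₁ ⊔ W₂ : Subgroup G)) ⊤) :
    tau0 S (bridgeP hP j) g = 0 := by
  refine tau0_eq_zero maxS (A := {a | a ∈ FTsupp0 S ∧ (a ∈ sharp (fittingHallOf S) ∨
    a ∈ classSupport (zHat W₁ W₂) S)}) (ZIrr.mem_CF (bridge_zirr hP j))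
    (fun a ha => by_contra fun n => ha ((FTtypeP_bridge_facts maxS hP).1 j hj a n)) ?_
  rintro ⟨a, ⟨ha, h⟩, r, hr, y, rfl⟩
  rw [Dade.H_eq_bot_of_cent_le (FT_Dade0_hyp maxS) ha (cent_le_of_A0 maxS hP ha), Subgroup.mem_bot] at hr
  rcases h with h | ⟨v, hv, c, -, rfl⟩
  · exact hg ⟨a, Or.inl h.1, y, trivial, by rw [hr, mul_one]⟩
  · exact hg ⟨v, Or.inr hv.1, y * c, trivial, by rw [hr]; group⟩

variable {L : Subgroup G} (maxL : IsCoatom L) (h : FTtype L = 1)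
include maxL h

theorem coprime_typeI : (Nat.card W₂).Coprime (Nat.card (fittingHallOf L)) := by
  have := FTcore_coprime maxS maxL fun g e => FTtypeP_neq1 maxS hP (by rw [← FTtypeJ S g, ← e, h])
  rw [FTcore_type_le2 maxL (by omega)] at this
  exact this.coprime_dvd_left (Subgroup.card_dvd_of_le ((typeP_W2_le_F hP).trans (Fcore_le_FTcore maxS)))

theorem disj_typeI : Disjoint (FTDadeSupp L (FTsupp L))
    (classSupport ((fittingHallOf S : Set G) ∪ (W₁ ⊔ W₂ : Subgroup G)) ⊤) := by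
  obtain ⟨T, pair, V, hT⟩ := FTtypeP_pair_witness maxS hP
  obtain ⟨E, frob⟩ := FTtype1_Frobenius maxL h
  have D := FT_Dade_hyp maxL
  rw [Set.disjoint_left]
  rintro _ ⟨a, ha, r, hr, y, rfl⟩ ⟨w, hw, z, -, e⟩
  have hw' : w ^ (Nat.card W₁ * Nat.card W₂) = 1 := by
    rcases hw with hw | hw
    · rw [mul_comm, pow_mul, (abelP maxS hP).1.2 w hw, one_pow]
    · rw [(snc_dprod hP.selfNormalizing).card_mul]; exact pow_card_eq_one_of_mem hw
  have ha' := (FTsupp_Frobenius maxL frob).2 ▸ ha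
  have c1 := ((coprime_typeI pair.maxT hT maxL h).mul_left (coprime_typeI maxS hP maxL h)).symm.coprime_dvd_left
    (orderOf_dvd_card_of_mem ha'.1)
  have c2 := (D.coprime a ha a ha).symm.coprime_dvd_left (orderOf_dvd_of_pow_eq_one (Dade.pow_card_cent D ha))
  have := conj_eq_of_conj_mul (b := 1) (v := w) (x := z⁻¹ * y) (Dade.comm D ha hr) (by simp) (c1.mul_right c2)
    (pow_orderOf_eq_one a) (one_pow _) (by rw [mul_comm, pow_mul, pow_card_eq_one_of_mem hr, one_pow])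
    (by rw [pow_mul, hw', one_pow]) (by
      rw [one_mul, show w = z⁻¹ * (z * w * z⁻¹) * z by group, ← e]; group)
  exact ha'.2 (conj_eq_one_iff.mp this)

theorem tauL_zero {α : L → ℂ} (hα : α ∈ CS (ST (Fcore_normal L).1) ∧ α 1 = 0) {g : G}
    (hg : g ∈ classSupport ((fittingHallOf S : Set G) ∪ (W₁ ⊔ W₂ : Subgroup G)) ⊤) : tau0 L α g = 0 := by
  obtain ⟨E, frob⟩ := FTtype1_Frobenius maxL h
  refine (FT_DadeInd_F maxL).dade_eq_zero hα.1 hα.2 ?_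
  rw [← FTDadeSupp_eq, ← (FTsupp_Frobenius maxL frob).2]
  exact Set.disjoint_right.mp (disj_typeI maxS hP maxL h) hg

theorem tauSL_orth {j : W₂ →* ℂˣ} (hj : j ≠ 1) {α : L → ℂ}
    (hα : α ∈ CS (ST (Fcore_normal L).1) ∧ α 1 = 0) : ⟪tau0 S (bridgeP hP j), tau0 L α⟫ = 0 :=
  dot_eq_zero_of_disjoint fun g => (em _).symm.imp (tau_bridge_supp maxS hP hj) (tauL_zero maxS hP maxL h hα)

omit maxS hP in
theorem SF_irr {χ : L → ℂ} (hχ : χ ∈ SF L) : IsIrrCharacter L χ := by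
  obtain ⟨E, frob⟩ := FTtype1_Frobenius maxL h
  exact IsFrob_irr frob χ hχ

variable {ν : (L → ℂ) →ₗ[ℂ] (G → ℂ)} (hν : CohWith (SF L) (tau0 L) ν)
include hν

theorem nu_eta {χ : L → ℂ} (hχ : χ ∈ SF L) (i j) : ⟪ν χ, etaP hP i j⟫ = 0 := by
  have F := FT_fam hP
  have n := Fcore_normal L
  have hχ' := SD_conj n χ hχ
  have d := hν.dirr hχ (SF_irr maxL h hχ)
  have d' := hν.dirr hχ' (SF_irr maxL h hχ')
  have hd := (IsChar.conj_deg (SD_char n hχ)).symm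
  have h1 := F.orth_of_NC_le_two (θ := ν χ - ν (conjFun χ))
    (sub_mem (ZIrr.mem_CF d.mem_ZIrr) (ZIrr.mem_CF d'.mem_ZIrr)) (fun x y _ _ => by
      rw [← hν.agree_sub hχ hχ' hd]
      exact tauL_zero maxS hP maxL h ⟨sub_mem (mem_CS (SD_sub_ST _ _ _ hχ)) (mem_CS (SD_sub_ST _ _ _ hχ')),
        sub_eq_zero.mpr hd⟩ ⟨_, Or.inr (Subgroup.mul_mem_sup x.2 y.2), 1, trivial, by simp [wG_apply]⟩)
    ((NC_sub_le _ _).trans (add_le_add (F.NC_dirr d) (F.NC_dirr d'))) i j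
  rw [dot_sub_left, sub_eq_zero] at h1
  by_contra hne
  exact hne (d.dot_eq_zero_of_dot (F.dirr i j)
    (by rw [hν.iso _ hχ' _ hχ, SD_orth n hχ' hχ (SD_conj_ne n (mFT_odd L) χ hχ)]) (h1 ▸ hne))

/-- Peterfalvi (13.19) -/
theorem FTtypeI_bridge_facts {φ : L → ℂ} (hφ : φ ∈ SF L) (dφ : φ 1 = (fittingHallOf L).relIndex L) :
    Disjoint (FTDadeSupp L (FTsupp L))
      (classSupport ((fittingHallOf S : Set G) ∪ (W₁ ⊔ W₂ : Subgroup G)) ⊤) ∧
    (∀ χ ∈ SF L, ∀ i j, ⟪ν χ, etaP hP i j⟫ = 0) ∧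
    (∀ j k, j ≠ 1 → k ≠ 1 →
      ⟪tau0 L (bridgeF L φ), etaP hP 1 j⟫ = ⟪tau0 L (bridgeF L φ), etaP hP 1 k⟫) ∧
    (((∀ j, j ≠ 1 → Odd (zdot (tau0 S (bridgeP hP j)) (ν φ))) ∧
        ((Nat.card (fittingHallOf L) : ℝ) - 1) / (fittingHallOf L).relIndex L ≤
          (Nat.card U - 1) / Nat.card W₁) ∨
      ((∀ j, j ≠ 1 → Odd (zdot (tau0 L (bridgeF L φ)) (etaP hP 1 j))) ∧
        Nat.card W₂ ≤ (fittingHallOf L).relIndex L)) := by
  classical
  have F := FT_fam hP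
  have D := FT_DadeInd_F maxL
  have iφ := SF_irr maxL h hφ
  have hb := D.beta_mem hφ dφ
  have oB : ∀ j, j ≠ 1 → ⟪tau0 S (bridgeP hP j), tau0 L (bridgeF L φ)⟫ = 0 := fun j hj =>
    tauSL_orth maxS hP maxL h hj ⟨CS_of_ZS hb.1, hb.2⟩
  have c : ∀ j k, j ≠ 1 → k ≠ 1 →
      ⟪tau0 L (bridgeF L φ), etaP hP 1 j⟫ = ⟪tau0 L (bridgeF L φ), etaP hP 1 k⟫ := fun j k hj hk => by
    rw [← sub_eq_zero, ← dot_sub_right, ← tau_bridge_sub maxS hP hk hj, dot_sub_right,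
      dot_comm_zero (oB j hj), dot_comm_zero (oB k hk), sub_zero]
  have oν := fun χ hχ => nu_eta maxS hP maxL h hν (χ := χ) hχ
  refine ⟨disj_typeI maxS hP maxL h, oν, c, ?_⟩
  obtain ⟨o1, b1, zB⟩ := D.Dade_Ind1_sub_lin_a1 (mFT_odd L) hν hφ iφ dφ
  have rB := D.conj_Dade_Ind1_sub_lin (mFT_odd L) hν hφ iφ dφ
  obtain ⟨Γ, hΓ, zΓ, Γ1, rΓ, lb⟩ := bridge_gap maxS hP
  obtain ⟨Δ, a, -, -, eΔ, -, -, nΔ⟩ := D.Dade_Ind1_sub_lin (mFT_odd L) hν hφ iφ dφ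
  have sS := fun ξ hξ => D.dot_sumS hν (ξ := ξ) hξ
  have nS := D.nrm_sumS hν
  have oS : ∀ i j, ⟪∑ ξ ∈ SF L, (ξ 1 / (fittingHallOf L).relIndex L / nrm ξ) • ν ξ, etaP hP i j⟫ = 0 :=
    fun i j => by
      rw [dot_sum_left]
      exact Finset.sum_eq_zero fun ξ hξ => by rw [dot_smul_left, oν ξ hξ, mul_zero]
  have η1 : ∀ j, j ≠ 1 → ⟪etaP hP 1 j, 1⟫ = 0 := fun j hj => by rw [F.dot_one]; simp [hj]
  change ⟪tau0 L (bridgeF L φ), 1⟫ = 1 at b1
  change tau0 L (bridgeF L φ) ∈ _ at zB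
  change conjFun (tau0 L (bridgeF L φ) + _) = tau0 L (bridgeF L φ) + _ at rB
  change tau0 L (bridgeF L φ) = _ at eΔ
  generalize tau0 L (bridgeF L φ) = B at *
  have zν := hν.zirr φ hφ
  have zL : B + ν φ - 1 ∈ ZIrr G := sub_mem (add_mem zB zν) (IsIrr.dirr one_irr).mem_ZIrr
  have ev := (cfdot_real_vchar_even mFT_odd_top zΓ rΓ zL (by rw [conjFun_sub, rB, conjFun_one])).mpr
    (Or.inl (by rw [zdot_eq (n := 0) (by simpa using Γ1)]; exact Even.zero))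
  have par : ∀ j, j ≠ 1 → Odd (zdot (tau0 S (bridgeP hP j)) (ν φ) + zdot B (etaP hP 1 j)) := fun j hj => by
    have e : ⟪Γ, B + ν φ - 1⟫ = (zdot (tau0 S (bridgeP hP j)) (ν φ) + zdot B (etaP hP 1 j) - 1 : ℤ) := by
      rw [← hΓ j hj]
      simp only [dot_add_left, dot_sub_left, dot_add_right, dot_sub_right]
      rw [oB j hj, tau_bridge_one maxS hP hj, dot_comm_of_int (n := 1) (by simpa using b1),
        dot_comm_zero (o1 φ hφ), dot_one_one, dot_comm_zero (oν φ hφ 1 j), η1 j hj,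
        dot_comm_of_int (ZIrr.coe_zdot zB (F.zirr 1 j)).symm,
        ← ZIrr.coe_zdot (tau_bridge_zirr maxS hP hj) zν]
      push_cast; ring
    rw [zdot_eq e] at ev
    simpa using ev.add_one
  have c' : ∀ j k, j ≠ 1 → k ≠ 1 → zdot B (etaP hP 1 j) = zdot B (etaP hP 1 k) := fun j k hj hk =>
    zdot_eq ((c j k hj hk).trans (ZIrr.coe_zdot zB (F.zirr 1 k)).symm)
  obtain ⟨k, hk⟩ := exists_lin_ne W₂ (pr_p maxS hP)
  have sq : ∀ n : ℤ, Odd n → (1 : ℝ) ≤ n ^ 2 := fun n hn => by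
    have : n ≠ 0 := by rintro rfl; simp at hn
    exact_mod_cast (one_le_sq_iff_one_le_abs n).mpr (Int.one_le_abs this)
  rcases Int.even_or_odd (zdot B (etaP hP 1 k)) with hl | hl
  · have od : ∀ j, j ≠ 1 → Odd (zdot (tau0 S (bridgeP hP j)) (ν φ)) := fun j hj =>
      (Int.odd_add.mp (par j hj)).mpr (c' j k hj hk ▸ hl)
    refine Or.inl ⟨od, ?_⟩
    have s1 := sq _ (od k hk)
    have es := (ZIrr.coe_zdot (tau_bridge_zirr maxS hP hk) zν).symm
    generalize zdot (tau0 S (bridgeP hP k)) (ν φ) = s at s1 es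
    have := lb (Γ - (s : ℂ) • ∑ ξ ∈ SF L, (ξ 1 / (fittingHallOf L).relIndex L / nrm ξ) • ν ξ) _
      (sub_add_cancel _ _).symm (by
        rw [dot_smul_right, dot_sum_right, Finset.sum_eq_zero fun ξ hξ => ?_, mul_zero]
        rw [dot_smul_right, dot_sub_left, dot_smul_left, sS ξ hξ, ← hΓ k hk, dot_add_left, dot_sub_left,
          dot_comm_zero (o1 ξ hξ), dot_comm_zero (oν ξ hξ 1 k), D.nu_eq hν hφ dφ hξ, dot_add_right,
          tauSL_orth maxS hP maxL h hk (D.sub_mem_CS hφ dφ hξ), dot_smul_right, es]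
        simp only [map_div₀, map_natCast, IsChar.conj_one (SD_char (Fcore_normal L) hξ)]
        ring) fun i j => by rw [dot_smul_left, oS, mul_zero]
    rw [nrm_smul, Complex.norm_intCast, sq_abs, nS] at this
    refine le_trans (le_mul_of_one_le_left (nS ▸ nrm_nonneg _) s1) this
  · have od : ∀ j, j ≠ 1 → Odd (zdot B (etaP hP 1 j)) := fun j hj => c' j k hj hk ▸ hl
    refine Or.inr ⟨od, ?_⟩
    obtain ⟨E, frob⟩ := FTtype1_Frobenius maxL h
    have b := (F.bessel ((Finset.univ.erase 1).map ⟨Prod.mk 1, Prod.mk_right_injective 1⟩) Δ).trans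
      (nΔ (IsFrob_index_bound frob (mFT_odd L)).2).2
    rw [Finset.sum_map] at b
    have b2 := Finset.card_nsmul_le_sum (Finset.univ.erase (1 : W₂ →* ℂˣ))
      (fun j => ‖⟪Δ, etaP hP 1 j⟫‖ ^ 2) 1 fun j hj => by
        have hj := Finset.ne_of_mem_erase hj
        have e := ZIrr.coe_zdot zB (F.zirr 1 j)
        conv_rhs at e => rw [eΔ, dot_add_left, dot_add_left, dot_sub_left, dot_smul_left, oS,
          oν φ hφ, dot_comm_zero (η1 j hj)]
        simp only [sub_zero, mul_zero, zero_add] at e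
        rw [← e, Complex.norm_intCast, sq_abs]
        exact sq _ (od j hj)
    rw [Finset.card_erase_of_mem (Finset.mem_univ _), Finset.card_univ, F.card_lin2, nsmul_eq_mul, mul_one,
      Nat.cast_pred Nat.card_pos] at b2
    exact_mod_cast (sub_le_sub_iff_right (1 : ℝ)).mp (b2.trans b)

end CA.PF.P13
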