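import Cfsg.Agent.PF.I12
import Cfsg.Agent.PF.P13e

/-!
# Interface: Peterfalvi, section 13.  `P = fittingHallOf S`, `p = |W₂|`, `q = |W₁|`; a partner `T` of `S`
is given by `FTtypeP_pair_witness`, `etaP_swap` relates the two families `η`.
-/

set_option autoImplicit false
set_option linter.unusedSectionVars false

open scoped ComplexConjugate

open Cfsg CA.FG CA.BG CA.Chr

namespace CA.PF

universe u

variable {G : Type u} [Group G] [MinSimpleOdd G] {S W₁ U W₂ : Subgroup G} (maxS : IsCoatom S)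
  (hP : IsTypePWith S W₁ U W₂)
include maxS hP

/-- Peterfalvi (13.2) -/
theorem FTtypeP_facts :
    ((FTtype S = 2 ∨ FTtype S = 3) ∧ (Nat.card W₁ < Nat.card W₂ → FTtype S = 2) ∧
      IsFrob (U ⊔ W₁) U W₁ ∧ IsMulCommutative U) ∧
    (IsElementaryAbelian (Nat.card W₂) (fittingHallOf S) ∧
      Nat.card (fittingHallOf S) = Nat.card W₂ ^ Nat.card W₁) ∧
    cardUbar S U ≤ (Nat.card W₂ ^ Nat.card W₁ - 1) / (Nat.card W₂ - 1) ∧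
    Coh (SP S (fittingHallOf S) ⊥) (tau0 S) ∧
    NormedTI (FTsupp0 S) ⊤ S :=
  P13.FTtypeP_facts maxS hP

theorem Ptype_Fcore_kernel_trivial : kerH0 S U = ⊥ ∧ primeH S U = Nat.card W₂ :=
  P13.Ptype_Fcore_kernel_trivial maxS hP

/-- Peterfalvi (13.3)(a), (c) -/
theorem FTprTIred1 {j : W₂ →* ℂˣ} (hj : j ≠ 1) : muS (wM hP) j 1 = cardUbar S U * Nat.card W₁ :=
  P13.FTprTIred1 maxS hP hj

theorem FTprTIirr1 (i) {j : W₂ →* ℂˣ} (hj : j ≠ 1) : muP hP i j 1 = cardUbar S U :=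
  P13.FTprTIirr1 maxS hP i hj

theorem FTprTIsign (j : W₂ →* ℂˣ) : del (wM hP) j = 1 :=
  P13.FTprTIsign maxS hP j

/-- Peterfalvi (13.12) -/
theorem FTtypeP_reg_Fcore : U ⊓ 𝒞(fittingHallOf S) = ⊥ :=
  P13.FTtypeP_reg_Fcore maxS hP

theorem Ptype_Fcompl_kernel_trivial : kerC S U = ⊥ ∧ cardUbar S U = Nat.card U :=
  P13.Ptype_Fcompl_kernel_trivial maxS hP

/-- Peterfalvi (13.13) -/
theorem FTtypeP_nonGalois_facts (h : ¬ TypePGalois S U) :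
    Nat.card W₁ = 3 ∧ Nat.card U = ((Nat.card W₂ - 1) / 2) ^ 2 :=
  P13.FTtypeP_nonGalois_facts maxS hP h

/-- Peterfalvi (13.15) -/
theorem card_FTtypeP_Galois_compl (h : TypePGalois S U) :
    Nat.card U = if Nat.card W₂ % Nat.card W₁ = 1 then
      (Nat.card W₂ ^ Nat.card W₁ - 1) / (Nat.card W₂ - 1) / Nat.card W₁
    else (Nat.card W₂ ^ Nat.card W₁ - 1) / (Nat.card W₂ - 1) :=
  P13.card_FTtypeP_Galois_compl maxS hP h

/-- Peterfalvi (13.16) -/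
theorem FTtypeP_norm_cent_compl :
    SDProd (fittingHallOf S) W₁ 𝒩(W₂) ∧ SDProd (fittingHallOf S) W₁ 𝒞(W₂) :=
  P13.FTtypeP_norm_cent_compl maxS hP

/-- Peterfalvi (13.17) -/
theorem FTtypeII_support_facts {T L : Subgroup G} (h : FTtype S = 2) (pair : TypePPair S T W₁ W₂)
    (maxL : IsCoatom L) (hL : 𝒩(U) ≤ L) :
    (∃ E, IsFrob L (fittingHallOf L) E) ∧ U ≤ fittingHallOf L ∧
    (SDProd (fittingHallOf L) W₁ L ∨
      ∃ y ∈ fittingHallOf T, SDProd (fittingHallOf L) (W₁ ⊔ W₂ :^ y) L) :=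
  P13.FTtypeII_support_facts maxS hP h pair maxL hL

/-- Peterfalvi (13.18) -/
theorem FTtypeP_bridge_facts :
    (∀ j, j ≠ 1 → ∀ a : S, bridgeP hP j a ≠ 0 → (a : G) ∈ FTsupp0 S ∧
      ((a : G) ∈ sharp (fittingHallOf S) ∨ (a : G) ∈ classSupport (zHat W₁ W₂) S)) ∧
    (∀ j, j ≠ 1 → nrm (bridgeP hP j) = (Nat.card U - 1) / Nat.card W₁ + 2) ∧
    (∃ Γ : G → ℂ, (∀ j, j ≠ 1 → tau0 S (bridgeP hP j) - 1 + etaP hP 1 j = Γ) ∧ Γ ∈ ZIrr G ∧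
      ⟪Γ, 1⟫ = 0 ∧ conjFun Γ = Γ ∧
      ∀ X Y : G → ℂ, Γ = X + Y → ⟪X, Y⟫ = 0 → (∀ i j, ⟪Y, etaP hP i j⟫ = 0) →
        nrm Y ≤ (Nat.card U - 1) / Nat.card W₁) ∧
    Nat.card W₁ ∣ Nat.card U - 1 :=
  P13.FTtypeP_bridge_facts maxS hP

/-- Peterfalvi (13.19) -/
theorem FTtypeI_bridge_facts {L : Subgroup G} (maxL : IsCoatom L) (h : FTtype L = 1)
    {ν : (L → ℂ) →ₗ[ℂ] (G → ℂ)} (hν : CohWith (SF L) (tau0 L) ν) {φ : L → ℂ} (hφ : φ ∈ SF L)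
    (dφ : φ 1 = (fittingHallOf L).relIndex L) :
    Disjoint (FTDadeSupp L (FTsupp L))
      (classSupport ((fittingHallOf S : Set G) ∪ (W₁ ⊔ W₂ : Subgroup G)) ⊤) ∧
    (∀ χ ∈ SF L, ∀ i j, ⟪ν χ, etaP hP i j⟫ = 0) ∧
    (∀ j k, j ≠ 1 → k ≠ 1 →
      ⟪tau0 L (bridgeF L φ), etaP hP 1 j⟫ = ⟪tau0 L (bridgeF L φ), etaP hP 1 k⟫) ∧
    (((∀ j, j ≠ 1 → Odd (zdot (tau0 S (bridgeP hP j)) (ν φ))) ∧
        ((Nat.card (fittingHallOf L) : ℝ) - 1) / (fittingHallOf L).relIndex L ≤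
          (Nat.card U - 1) / Nat.card W₁) ∨
      ((∀ j, j ≠ 1 → Odd (zdot (tau0 L (bridgeF L φ)) (etaP hP 1 j))) ∧
        Nat.card W₂ ≤ (fittingHallOf L).relIndex L)) :=
  P13.FTtypeI_bridge_facts maxS hP maxL h hν hφ dφ

end CA.PF
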