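import Cfsg.Agent.PF.P14d

/-!
# Interface: Peterfalvi, section 14 (uses Appendix C = statement S1472, and S1546 = (13.14)).
-/

set_option autoImplicit false

open Cfsg CA.FG CA.BG

namespace CA.PF

universe u

theorem no_minSimple_odd_group (G : Type u) [Group G] [MinSimpleOdd G] : False :=
  P14.no_minSimple_odd_group G

end CA.PF
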