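import Cfsg.Agent.PF.Amb
import Cfsg.Agent.BG.I03

/-!
# Peterfalvi, section 6, part a: (6.2) - (6.6).
-/

set_option autoImplicit false
set_option linter.unusedSectionVars false

open scoped ComplexConjugate

open Cfsg CA.FG CA.BG

namespace CA.Chr

variable {G G' : Type*} [Group G] [Finite G] [Group G'] [Finite G']

section General
variable {L : Type*} [Group L] [Finite L] {S : Finset (L → ℂ)} {τ : (L → ℂ) →ₗ[ℂ] (G → ℂ)}

open Classical in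
/-- iterated form of (5.6) -/
theorem Subcoh.extend_all {R : (L → ℂ) → Finset (G → ℂ)} (h : Subcoh S τ R) {S₀ T : Finset (L → ℂ)}
    (hS₀ : S₀ ⊆ S) (hc : ∀ χ ∈ S₀, conjFun χ ∈ S₀) (coh : Coh S₀ τ) {χ₁ : L → ℂ} (hχ₁ : χ₁ ∈ S₀)
    (hT : T ⊆ S) (H : ∀ χ ∈ T, χ ∉ S₀ → deg χ₁ ∣ deg χ ∧
      (2 * deg χ * deg χ₁ : ℝ) < ∑ φ ∈ S₀, (deg φ : ℝ) ^ 2 / nrm φ) : Coh T τ := by
  suffices ∃ S₁, S₀ ⊆ S₁ ∧ S₁ ⊆ S ∧ (∀ χ ∈ S₁, conjFun χ ∈ S₁) ∧ T ⊆ S₁ ∧ Coh S₁ τ by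
    obtain ⟨S₁, -, -, -, h1, h2⟩ := this
    exact h2.mono h1
  induction T using Finset.induction_on with
  | empty => exact ⟨S₀, le_rfl, hS₀, hc, Finset.empty_subset _, coh⟩
  | insert χ T _ ih =>
    obtain ⟨S₁, h1, h2, h3, h4, h5⟩ := ih ((Finset.subset_insert _ _).trans hT)
      fun φ hφ => H φ (Finset.mem_insert_of_mem hφ)
    by_cases hχ : χ ∈ S₁
    · exact ⟨S₁, h1, h2, h3, Finset.insert_subset hχ h4, h5⟩
    have hχS := hT (Finset.mem_insert_self _ _)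
    obtain ⟨hd, hl⟩ := H χ (Finset.mem_insert_self _ _) fun e => hχ (h1 e)
    refine ⟨S₁ ∪ {χ, conjFun χ}, h1.trans Finset.subset_union_left, ?_, ?_, ?_,
      h.extend h2 h3 h5 hχS hχ (h1 hχ₁) hd (hl.trans_le ?_)⟩
    · intro φ hφ
      simp only [Finset.mem_union, Finset.mem_insert, Finset.mem_singleton] at hφ
      rcases hφ with hφ | rfl | rfl
      exacts [h2 hφ, hχS, h.conj_mem _ hχS]
    · intro φ hφ
      simp only [Finset.mem_union, Finset.mem_insert, Finset.mem_singleton] at hφ ⊢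
      rcases hφ with hφ | rfl | rfl
      · exact Or.inl (h3 _ hφ)
      · exact Or.inr (Or.inr rfl)
      · exact Or.inr (Or.inl (conjFun_conjFun _))
    · exact Finset.insert_subset (by simp) (h4.trans Finset.subset_union_left)
    · exact Finset.sum_le_sum_of_subset_of_nonneg h1 fun φ _ _ =>
        div_nonneg (sq_nonneg _) (nrm_nonneg _)

/-- coherence from the image of one pivot character -/
theorem IsoOn.pivot (h : IsoOn S τ) (h0 : ∀ φ ∈ S, φ ≠ 0)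
    (ho : ∀ φ ∈ S, ∀ ψ ∈ S, φ ≠ ψ → ⟪φ, ψ⟫ = 0) {η : L → ℂ} (hη : η ∈ S) (hη1 : η 1 ≠ 0)
    {Y : G → ℂ} (hY : Y ∈ ZIrr G) (hn : Chr.nrm Y = Chr.nrm η)
    (H : ∀ φ ∈ S, φ ≠ η → ∃ a : ℤ, φ 1 = a * η 1 ∧
      ⟪τ (φ - (a : ℂ) • η), Y⟫ = -(a * Chr.nrm η)) :
    ∃ ν, CohWith S τ ν ∧ ν η = Y := by
  have H' : ∀ φ ∈ S, ∃ a : ℤ, φ 1 / η 1 = a ∧ ⟪τ (φ - (a : ℂ) • η), Y⟫ = ⟪φ - (a : ℂ) • η, η⟫ := by
    intro φ hφ
    by_cases e : φ = η
    · subst e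
      exact ⟨1, by simp [hη1], by simp⟩
    · obtain ⟨a, h1, h2⟩ := H φ hφ e
      refine ⟨a, by rw [h1]; field_simp, ?_⟩
      rw [h2, dot_sub_left, dot_smul_left, ho _ hφ _ hη e, dot_self]; ring
  have mem : ∀ φ ∈ S, ∀ a : ℤ, φ - (a : ℂ) • η ∈ ZS S := fun φ hφ a =>
    Submodule.sub_mem _ (mem_ZS hφ) (ZS_intCast_smul a (mem_ZS hη))
  have one : ∀ φ : L → ℂ, ∀ a : ℤ, φ 1 / η 1 = a → (φ - (a : ℂ) • η) 1 = 0 := by
    intro φ a e
    simp only [Pi.sub_apply, Pi.smul_apply, smul_eq_mul, ← e]; field_simp; ring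
  refine (cohWith_of_fun h0 ho τ
    (fun φ => τ (φ - (φ 1 / η 1) • η) + (φ 1 / η 1) • Y) ?_ ?_ hη hη1 ?_).imp fun ν h1 =>
      ⟨h1.1, by rw [h1.2 _ hη]; simp [hη1]⟩
  · intro φ hφ
    obtain ⟨a, e, -⟩ := H' φ hφ
    simp only [e]
    exact add_mem (h.zirr _ (mem φ hφ a) (one φ a e)) (ZIrr.intCast_smul hY a)
  · intro φ hφ ψ hψ
    obtain ⟨a, e, e1⟩ := H' φ hφ
    obtain ⟨b, f, f1⟩ := H' ψ hψ
    simp only [e, f]
    have f2 : ⟪Y, τ (ψ - (b : ℂ) • η)⟫ = ⟪η, ψ - (b : ℂ) • η⟫ := by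
      rw [← conj_dot, f1, conj_dot]
    rw [dot_add_left, dot_add_right, dot_add_right, dot_smul_left, dot_smul_left, dot_smul_right,
      dot_smul_right, e1, f2, h.iso _ (CS_of_ZS (mem φ hφ a)) _ (CS_of_ZS (mem ψ hψ b)) (one φ a e)
        (one ψ b f), dot_self Y, hn, ← dot_self]
    simp only [dot_sub_left, dot_sub_right, dot_smul_left, dot_smul_right, map_intCast]
    ring
  · intro φ _
    simp [hη1]

end General

/-- `L / N` is a Frobenius group with kernel `K / N` when the fixed points in `K` of the nontrivial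
elements of a coprime complement `E` lie in `N` (hypothesis `frob` of (6.5), (6.6)). -/
theorem frob_mod_of_cent_le {K E L N : Subgroup G} (defL : SDProd K E L)
    (cop : (Nat.card K).Coprime (Nat.card E)) (nN : L ≤ 𝒩(N)) (hN : N ≤ K)
    (hC : ∀ x ∈ E, x ≠ 1 → K ⊓ 𝒞[x] ≤ N) :
    ∀ k ∈ K, k ∉ N → ∀ x ∈ L, x * k * x⁻¹ * k⁻¹ ∈ N → x ∈ K := by
  intro k hk hkN x hx hxk
  by_contra hxK
  have nK := defL.left_le.trans nN
  have nE := defL.right_le.trans nN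
  have sd : SDProd (K /ₛ N) (E /ₛ N) (L /ₛ N) :=
    sdprod_mk (quot_norm N defL.norm) (by rw [← quot_sup nK nE, defL.sup_eq])
      (Subgroup.inf_eq_bot_of_coprime (coprime_quot N cop))
  have reg : Semiregular (K /ₛ N) (E /ₛ N) := by
    intro y hy hy1
    obtain ⟨w, hw, rfl⟩ := mem_quot.1 hy
    have hw1 : (w : G) ≠ 1 := by
      rintro e
      exact hy1 (coset_eq_one_iff.2 (e ▸ N.one_mem))
    have := coprime_quotient_cent (A := Subgroup.zpowers (w : G)) hN (Subgroup.zpowers_le.2 w.2)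
      (cop.coprime_dvd_right (Subgroup.card_dvd_of_le (Subgroup.zpowers_le.2 hw)))
      (Or.inr inferInstance)
    rw [quot_zpowers, cent_zpowers, cent_zpowers] at this
    rw [← this]
    exact quot_eq_bot_of_le (hC _ hw hw1)
  have fr : IsFrob (L /ₛ N) (K /ₛ N) (E /ₛ N) := by
    refine ⟨sd, fun e => hkN ((quot_eq_bot_iff nK).1 e hk), fun e => hxK ?_, reg⟩
    have := defL.sup_eq
    rw [sup_eq_left.2 (((quot_eq_bot_iff nE).1 e).trans hN)] at this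
    exact this ▸ hx
  refine hxK ((coset_mem_quot_iff hN (x := ⟨x, nN hx⟩)).1 (Frobenius_cent1_ker fr
    (mem_quot_of_mem (nK hk) hk) (fun e => hkN (coset_eq_one_iff.1 e))
    (Subgroup.mem_inf.2 ⟨mem_quot_of_mem (nN hx) hx, ?_⟩)))
  rw [Subgroup.mem_centralizer_singleton_iff, ← mul_inv_eq_one, mul_inv_rev,
    ← map_inv, ← map_inv, ← map_mul, ← map_mul, ← map_mul, coset_eq_one_iff]
  simpa [mul_assoc] using hxk

theorem IsFrob_coprime {K E L : Subgroup G} (h : IsFrob L K E) :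
    (Nat.card K).Coprime (Nat.card E) := Frobenius_coprime h

theorem SD_irr_of_frob_mod {K L N : Subgroup G} (nK : K ⊲ L) (nN : L ≤ 𝒩(N))
    (frob : ∀ k ∈ K, k ∉ N → ∀ x ∈ L, x * k * x⁻¹ * k⁻¹ ∈ N → x ∈ K) (V : Subgroup G) :
    ∀ χ ∈ SD nK.1 V N, IsIrrCharacter L χ := by
  intro χ hχ
  obtain ⟨θ, hθ, h1, h2, rfl⟩ := mem_SD.1 hχ
  haveI := nInj nK
  haveI := normalSub nN
  refine ind_irr_of_frobenius_mod _ (N.subgroupOf L) ?_ hθ ?_ (by rwa [comap_incl])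
  · intro x hx g hg
    exact (mem_range_incl _).2 (frob _ x.2 hx g g.2 hg)
  · rintro rfl
    exact h1 fun x _ y => rfl

/-- characters induced from the kernel of a Frobenius group -/
theorem IsFrob_irr {K E L : Subgroup G} (h : IsFrob L K E) :
    ∀ χ ∈ SD h.1.normal.1 K ⊥, IsIrrCharacter L χ := by
  refine SD_irr_of_frob_mod h.1.normal (norm_bot _) (fun k hk hk1 x hx e => ?_) K
  rw [Subgroup.mem_bot] at e hk1
  refine Frobenius_cent1_ker h hk hk1 (Subgroup.mem_inf.2 ⟨hx, ?_⟩)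
  rw [Subgroup.mem_centralizer_singleton_iff]
  rw [mul_inv_eq_one, mul_inv_eq_iff_eq_mul] at e
  exact e

theorem relIndex_mul' {A B C : Subgroup G} (h₁ : A ≤ B) (h₂ : B ≤ C) :
    A.relIndex C = A.relIndex B * B.relIndex C :=
  (Subgroup.relIndex_mul_relIndex A B C h₁ h₂).symm

theorem one_lt_relIndex' {A B : Subgroup G} (h : A < B) : 1 < A.relIndex B := by
  have h1 := relIndex_pos A B
  have h2 : A.relIndex B ≠ 1 := fun e => h.not_ge (Subgroup.relIndex_eq_one.1 e)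
  omega

theorem sum_SD_sq_nat {K L V N : Subgroup G} (nK : K ⊲ L) (nV : L ≤ 𝒩(V)) (nN : L ≤ 𝒩(N))
    (hNV : N ≤ V) (hV : V ≤ K) (irr : ∀ χ ∈ SD nK.1 V N, IsIrrCharacter L χ) :
    ∑ φ ∈ SD nK.1 V N, deg φ ^ 2 = K.relIndex L * (V.relIndex K * (N.relIndex V - 1)) := by
  have h := sum_SD_sq nK nV nN hNV hV
  rw [Finset.sum_congr rfl fun φ hφ => by rw [IsIrr.nrm (irr φ hφ), div_one],
    relIndex_mul' hNV (hV.trans nK.1), relIndex_mul' hV nK.1] at h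
  have := relIndex_pos N V
  apply Nat.cast_injective (R := ℝ)
  push_cast [Nat.cast_sub this] at h ⊢
  rw [h]; ring

theorem dvd_of_SD_irr {K L V N : Subgroup G} (nK : K ⊲ L) (nV : L ≤ 𝒩(V)) (nN : L ≤ 𝒩(N))
    (hNV : N ≤ V) (hV : V ≤ K) (irr : ∀ χ ∈ SD nK.1 V N, IsIrrCharacter L χ) :
    K.relIndex L ∣ V.relIndex K * (N.relIndex V - 1) := by
  have h := sum_SD_sq_nat nK nV nN hNV hV irr
  have : K.relIndex L * K.relIndex L ∣ ∑ φ ∈ SD nK.1 V N, deg φ ^ 2 :=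
    Finset.dvd_sum fun φ hφ => by
      rw [sq]; exact mul_dvd_mul (SD_index_dvd nK hφ) (SD_index_dvd nK hφ)
  rw [h] at this
  exact Nat.dvd_of_mul_dvd_mul_left (relIndex_pos _ _) this

theorem coprime_of_frob_mod {K L N : Subgroup G} (nK : K ⊲ L) (nN : L ≤ 𝒩(N)) (hN : N ≤ K)
    (frob : ∀ k ∈ K, k ∉ N → ∀ x ∈ L, x * k * x⁻¹ * k⁻¹ ∈ N → x ∈ K) :
    (K.relIndex L).Coprime (N.relIndex K) := by
  have h := dvd_of_SD_irr nK nK.2 nN hN le_rfl (SD_irr_of_frob_mod nK nN frob K)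
  rw [Subgroup.relIndex_self, one_mul] at h
  have := relIndex_pos N K
  obtain ⟨m, hm⟩ : ∃ m, N.relIndex K = m + 1 := ⟨_, (Nat.sub_add_cancel this).symm⟩
  rw [hm] at h ⊢
  exact Nat.Coprime.coprime_dvd_left h (by simp)

theorem dvd_of_frob_mod {K L V N : Subgroup G} (nK : K ⊲ L) (nV : L ≤ 𝒩(V)) (nN : L ≤ 𝒩(N))
    (hNV : N ≤ V) (hV : V ≤ K)
    (frob : ∀ k ∈ K, k ∉ N → ∀ x ∈ L, x * k * x⁻¹ * k⁻¹ ∈ N → x ∈ K) :
    K.relIndex L ∣ N.relIndex V - 1 := by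
  have h := dvd_of_SD_irr nK nV nN hNV hV (SD_irr_of_frob_mod nK nN frob V)
  have c := coprime_of_frob_mod nK nN (hNV.trans hV) frob
  rw [relIndex_mul' hNV hV] at c
  exact (c.coprime_mul_left_right).dvd_of_dvd_mul_left h

theorem frob_mod_mono {K L V N : Subgroup G} (nK : K ⊲ L) (nV : L ≤ 𝒩(V)) (nN : L ≤ 𝒩(N))
    (hNV : N ≤ V) (hV : V ≤ K)
    (frob : ∀ k ∈ K, k ∉ N → ∀ x ∈ L, x * k * x⁻¹ * k⁻¹ ∈ N → x ∈ K) :
    K.relIndex L ∣ V.relIndex K - 1 := by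
  have h := dvd_of_frob_mod nK nK.2 nN (hNV.trans hV) le_rfl frob
  have h2 := dvd_of_frob_mod nK nV nN hNV hV frob
  have c := coprime_of_frob_mod nK nN (hNV.trans hV) frob
  rw [relIndex_mul' hNV hV] at c h
  obtain ⟨a, ha⟩ : ∃ m, N.relIndex V = m + 1 := ⟨_, (Nat.sub_add_cancel (relIndex_pos _ _)).symm⟩
  obtain ⟨b, hb⟩ : ∃ m, V.relIndex K = m + 1 := ⟨_, (Nat.sub_add_cancel (relIndex_pos _ _)).symm⟩
  rw [ha, hb] at h
  rw [ha] at h2
  rw [hb]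
  simp only [Nat.add_sub_cancel] at h2 ⊢
  have : (a + 1) * (b + 1) - 1 = a * (b + 1) + b := by
    have : (a + 1) * (b + 1) = a * (b + 1) + b + 1 := by ring
    omega
  rw [this] at h
  exact (Nat.dvd_add_right (h2.mul_right _)).1 h

theorem two_mul_lt_of_odd {e n : ℕ} (he : Odd e) (hn : Odd n) (h1 : 1 < n) (h : e ∣ n - 1) :
    2 * e + 1 ≤ n := by
  obtain ⟨m, rfl⟩ : ∃ m, n = m + 1 := ⟨n - 1, by omega⟩
  simp only [Nat.add_sub_cancel] at h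
  have h2 : 2 ∣ m := by obtain ⟨k, hk⟩ := hn; omega
  have := Nat.le_of_dvd (by omega) ((Nat.coprime_two_left.2 he).mul_dvd_of_dvd_of_dvd h2 h)
  omega

theorem odd_relIndex_of_le {A B L : Subgroup G} (h : Odd (Nat.card L)) (hA : A ≤ B) (hB : B ≤ L) :
    Odd (A.relIndex B) :=
  h.of_dvd_nat ((Dvd.intro_left _ (card_mul_relIndex hA)).trans (Subgroup.card_dvd_of_le hB))

theorem SD_deg_of_der_le {K L V N : Subgroup G} (nK : K ⊲ L) (hN : ⁅K, K⁆ ≤ N) :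
    ∀ χ ∈ SD nK.1 V N, χ 1 = K.relIndex L := by
  intro χ hχ
  obtain ⟨θ, hθ, -, h2, rfl⟩ := mem_SD.1 hχ
  obtain ⟨l, rfl⟩ := IsIrr.exists_lin_of_comm hθ fun x y =>
    h2 (hN (Subgroup.commutator_mem_commutator x.2 y.2))
  rw [indA_one]; simp

section
variable {K L : Subgroup G} (nK : K ⊲ L) (solK : Group.IsSolvable K)
  {τ : (L → ℂ) →ₗ[ℂ] (G' → ℂ)} {R : (L → ℂ) → Finset (G' → ℂ)} (hS : Subcoh (SD nK.1 K ⊥) τ R)
include solK hS

omit solK hS in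
theorem SD_sub_all {V N : Subgroup G} (hV : V ≤ K) : SD nK.1 V N ⊆ SD nK.1 K ⊥ := SD_mono hV bot_le

/-- Peterfalvi (6.2) -/
theorem coherent_seqIndD_bound {A B C D : Subgroup G} (nA : L ≤ 𝒩(A)) (nB : L ≤ 𝒩(B))
    (nC : L ≤ 𝒩(C)) (nD : L ≤ 𝒩(D)) (hAK : A < K) (hBD : B ≤ D) (hDC : D ≤ C) (hCK : C ≤ K)
    (hZ : ⁅D, C⁆ ≤ B) (cohA : Coh (SD nK.1 K A) τ) (ncohB : ¬ Coh (SD nK.1 K B) τ) :
    (A.relIndex K : ℝ) - 1 ≤ 2 * C.relIndex L * √(D.relIndex C) := by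
  by_contra hlt
  rw [not_le] at hlt
  obtain ⟨φ, hφ, dφ, -⟩ := exists_lin_SD_of_sol nK solK hAK (nK.1.trans nA)
  refine ncohB (hS.extend_all SD_sub_bot (SD_conj nK) cohA hφ SD_sub_bot fun χ hχ _ =>
    ⟨dφ ▸ SD_index_dvd nK hχ, ?_⟩)
  obtain ⟨θ, hθ, -, h2, rfl⟩ := mem_SD.1 hχ
  have hb := IsIrr.deg_sq_le_of_central_section hθ (C := C.subgroupOf K) (D := D.subgroupOf K)
    fun d hd c hc => h2 (hZ (Subgroup.commutator_mem_commutator hd hc))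
  rw [Subgroup.relIndex_subgroupOf hCK] at hb
  change _ ≤ C.relIndex K ^ 2 * _ at hb
  have hb' : (deg θ : ℝ) ≤ C.relIndex K * √(D.relIndex C) := by
    refine Real.le_sqrt_of_sq_le (y := (C.relIndex K : ℝ) ^ 2 * D.relIndex C) (by exact_mod_cast hb)
      |>.trans_eq ?_
    rw [Real.sqrt_mul (sq_nonneg _), Real.sqrt_sq (Nat.cast_nonneg _)]
  rw [sum_SD_sq nK nK.2 nA hAK.le le_rfl, dφ, deg_indA _ (IsIrr.isChar hθ),
    relIndex_mul' hAK.le nK.1]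
  rw [relIndex_mul' hCK nK.1] at hlt
  have he : (0 : ℝ) < K.relIndex L := by exact_mod_cast relIndex_pos _ _
  push_cast at hlt ⊢
  have := mul_lt_mul_of_pos_left hlt he
  have := mul_le_mul_of_nonneg_left hb' (mul_pos he he).le
  nlinarith

/-- Peterfalvi (6.3); nilpotency of `H / M` is `Group.IsNilpotent (H /ₛ M)`. -/
theorem bounded_seqIndD_coherence {M H H₁ : Subgroup G} (nM : L ≤ 𝒩(M)) (nH : L ≤ 𝒩(H))
    (nH₁ : L ≤ 𝒩(H₁)) (hMH₁ : M ≤ H₁) (hH₁H : H₁ ≤ H) (hHK : H ≤ K)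
    (nilH : Group.IsNilpotent (H /ₛ M)) (coh : Coh (SD nK.1 K H₁) τ)
    (big : 4 * K.relIndex L ^ 2 + 1 < H₁.relIndex H) : Coh (SD nK.1 K M) τ := by
  obtain ⟨A, hA, ⟨hMA, nA, cohA⟩, min⟩ := exists_min_subgroup
    (P := fun A => M ≤ A ∧ L ≤ 𝒩(A) ∧ Coh (SD nK.1 K A) τ) (H := H₁) ⟨hMH₁, nH₁, coh⟩
  by_cases e : A ≤ M
  · rwa [le_antisymm e hMA] at cohA
  exfalso
  have hAH := hA.trans hH₁H
  have hHL := hHK.trans nK.1
  have nMA := hAH.trans (hHL.trans nM)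
  have nMH := hHL.trans nM
  have hc : ⁅A, H⁆ ≤ A := comm_le_left (hHL.trans nA)
  have lt : ⁅A, H⁆ ⊔ M ≠ A := by
    intro e'
    refine nil_not_le_comm nilH (quot_mono M hAH) le_rfl (fun f => e ((quot_eq_bot_iff nMA).1 f)) ?_
    rw [← quot_comm nMA nMH, quot_le_quot_iff nMA (hc.trans nMA), sup_comm, e']
  have h1 : H₁ ≠ H := by
    rintro rfl
    rw [Subgroup.relIndex_self] at big; omega
  have hb := coherent_seqIndD_bound nK solK hS nA (norm_sup (norm_comm nA nH) nM) nH nA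
    ((hA.trans_lt (hH₁H.lt_of_ne h1)).trans_le hHK) (sup_le hc hMA) hAH hHK le_sup_left cohA
    fun c => lt (min _ ⟨le_sup_right, norm_sup (norm_comm nA nH) nM, c⟩ (sup_le hc hMA))
  rw [relIndex_mul' hAH hHK, relIndex_mul' hHK nK.1] at hb
  have hx : 4 * K.relIndex L ^ 2 + 2 ≤ A.relIndex H :=
    big.trans_le (Subgroup.relIndex_le_of_le_left hA (relIndex_pos _ _).ne')
  have hk : (1 : ℝ) ≤ H.relIndex K := by exact_mod_cast relIndex_pos _ _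
  have he : (0 : ℝ) ≤ K.relIndex L := Nat.cast_nonneg _
  have hx' : 4 * (K.relIndex L : ℝ) ^ 2 + 2 ≤ A.relIndex H := by exact_mod_cast hx
  push_cast at hb
  generalize (A.relIndex H : ℝ) = x at *
  generalize (H.relIndex K : ℝ) = k at *
  generalize (K.relIndex L : ℝ) = e at *
  have x0 : 0 ≤ x := by nlinarith
  have hs := Real.sq_sqrt x0
  have s0 := Real.sqrt_nonneg x
  generalize √x = s at *
  subst hs
  have h3 : s ^ 2 - 1 ≤ 2 * e * s := by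
    by_contra h4
    rw [not_le] at h4
    nlinarith
  have h4 : (s ^ 2 - 1) ^ 2 ≤ (2 * e * s) ^ 2 := pow_le_pow_left₀ (by nlinarith) h3 2
  nlinarith

/-- Peterfalvi (6.5) under Hypothesis (6.4): `frob` says that `L / H₁` is a Frobenius group with kernel
`K / H₁`, where `H₁ = K' M`. -/
theorem non_coherent_chief (oddL : Odd (Nat.card L)) {M : Subgroup G} (nM : L ≤ 𝒩(M)) (hMK : M ≤ K)
    (nilK : Group.IsNilpotent (K /ₛ M)) (hK : ⁅K, K⁆ ⊔ M < K) (hKL : K < L)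
    (frob : ∀ k ∈ K, k ∉ ⁅K, K⁆ ⊔ M → ∀ x ∈ L, x * k * x⁻¹ * k⁻¹ ∈ ⁅K, K⁆ ⊔ M → x ∈ K)
    (ncoh : ¬ Coh (SD nK.1 K M) τ) :
    (ChiefFactor L (⁅K, K⁆ ⊔ M) K ∧ (⁅K, K⁆ ⊔ M).relIndex K ≤ 4 * K.relIndex L ^ 2 + 1) ∧
    ∃ p : ℕ, p.Prime ∧ (∃ m, M.relIndex K = p ^ m) ∧ ¬ ⁅K, K⁆ ≤ M ∧ ¬ K.relIndex L ∣ p - 1 := by
  set H₁ := ⁅K, K⁆ ⊔ M with hH₁
  have nH₁ : L ≤ 𝒩(H₁) := norm_sup (norm_comm nK.2 nK.2) nM
  have coh : Coh (SD nK.1 K H₁) τ := hS.uniform_sub SD_sub_bot (SD_conj nK) fun φ hφ ψ hψ => by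
    rw [SD_deg_of_der_le nK le_sup_left φ hφ, SD_deg_of_der_le nK le_sup_left ψ hψ]
  have hb : H₁.relIndex K ≤ 4 * K.relIndex L ^ 2 + 1 := by
    by_contra h
    exact ncoh (bounded_seqIndD_coherence nK solK hS nM nK.2 nH₁ le_sup_right hK.le le_rfl nilK coh
      (not_le.1 h))
  have oe : Odd (K.relIndex L) := odd_relIndex_of_le oddL nK.1 le_rfl
  have he := relIndex_pos K L
  have chief : ∀ W, H₁ ≤ W → W < K → L ≤ 𝒩(W) → W = H₁ := by
    intro W h1 h2 nW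
    by_contra h3
    have a1 := two_mul_lt_of_odd oe (odd_relIndex_of_le oddL h1 (h2.le.trans nK.1))
      (one_lt_relIndex' (h1.lt_of_ne (Ne.symm h3))) (dvd_of_frob_mod nK nW nH₁ h1 h2.le frob)
    have a2 := two_mul_lt_of_odd oe (odd_relIndex_of_le oddL h2.le nK.1)
      (one_lt_relIndex' h2) (frob_mod_mono nK nW nH₁ h1 h2.le frob)
    rw [relIndex_mul' h1 h2.le] at hb
    have := Nat.mul_le_mul a1 a2
    nlinarith
  have nab : ¬ ⁅K, K⁆ ≤ M := fun h => ncoh (by rwa [hH₁, sup_eq_right.2 h] at coh)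
  refine ⟨⟨⟨nK, hK, nH₁, chief⟩, hb⟩, ?_⟩
  have nMK := nK.1.trans nM
  have nMH := hK.le.trans nMK
  have dH : H₁ /ₛ M = ⁅K /ₛ M, K /ₛ M⁆ := by
    rw [hH₁, quot_sup_self_right (der_le K |>.trans nMK), quot_comm nMK nMK]
  obtain ⟨p, hp, hd⟩ := Nat.exists_prime_and_dvd (one_lt_relIndex' hK).ne'
  have pK : IsPGrp p (K /ₛ M) := by
    refine pcore_eq_self_iff.1 (eq_of_nil_of_le_der_sup nilK (pcore_le _ _) ?_)
    have h1 : quotPre M (pCoreOf p (K /ₛ M)) ≤ K := quotPre_le_of_le_quot hMK (pcore_le _ _)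
    have h2 : L ≤ 𝒩(quotPre M (pCoreOf p (K /ₛ M))) :=
      le_norm_quotPre nM (norm_pcore _ (quot_norm M nK.2))
    by_cases e : H₁ ⊔ quotPre M (pCoreOf p (K /ₛ M)) = K
    · rw [← dH]
      conv_lhs => rw [← e]
      rw [quot_sup nMH (quotPre_le_norm _), quot_quotPre]
    · have := chief _ le_sup_left ((sup_le hK.le h1).lt_of_ne e) (norm_sup nH₁ h2)
      have h3 : pCoreOf p (K /ₛ M) ≤ H₁ /ₛ M :=
        (quotPre_le_iff ⟨le_sup_right, nMH⟩).1 (le_sup_right.trans this.le)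
      exfalso
      refine IsSylowOf.not_dvd_index (nilpotent_pcore_Hall {p} nilK) hp (hd.trans ?_)
      rw [← relIndex_quot le_sup_right hK.le nMK]
      exact Subgroup.relIndex_dvd_of_le_left _ h3
  obtain ⟨m, hm⟩ := (pGrp_iff_card hp).1 pK
  rw [card_quot nMK] at hm
  refine ⟨p, hp, ⟨m, hm⟩, nab, fun hdv => ?_⟩
  have a1 := two_mul_lt_of_odd oe ((odd_relIndex_of_le oddL hK.le nK.1).of_dvd_nat hd) hp.one_lt hdv
  have a2 : H₁.relIndex K ∣ p ^ m := hm ▸ Subgroup.relIndex_dvd_of_le_left _ le_sup_right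
  obtain ⟨k, -, hk⟩ := (Nat.dvd_prime_pow hp).1 a2
  have k1 : k = 1 := by
    rcases k with _ | _ | k
    · have := one_lt_relIndex' hK; simp [hk] at this
    · rfl
    · rw [hk] at hb
      have : p ^ 2 ≤ p ^ (k + 1 + 1) := Nat.pow_le_pow_right hp.pos (by omega)
      have := Nat.pow_le_pow_left a1 2
      nlinarith
  rw [k1, pow_one, ← relIndex_quot le_sup_right hK.le nMK, dH] at hk
  have cyc := cyclic_of_nil_of_cyclic_quot_der nilK (isCyclic_of_card_prime (by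
    rw [card_quot (der_normalIn _).2, hk]; exact hp))
  exact nab ((quot_abelian_iff nMK).1 (abelian_of_cyclic cyc))

omit solK hS in
theorem mem_SD_iff_of_irr {Z : Subgroup G} (nZ : L ≤ 𝒩(Z)) (hZ : Z ≤ K)
    (irrX : ∀ χ ∈ SD nK.1 Z ⊥, IsIrrCharacter L χ) (χ : L → ℂ) :
    χ ∈ SD nK.1 Z ⊥ ↔ IsIrrCharacter L χ ∧ ¬ Z.subgroupOf L ≤ cfker χ := by
  refine ⟨fun h => ⟨irrX χ h,
    ((mem_SD_iff_cfker nK nZ (norm_bot _) hZ bot_le (SD_sub_ST _ _ _ h)).1 h).1⟩, fun ⟨h1, h2⟩ => ?_⟩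
  haveI := nInj nK
  haveI := normalSub nZ
  obtain ⟨θ, hθ, h3⟩ := exists_constt_res (Subgroup.inclusion nK.1) h1
  rw [le_cfker_iff_constt _ (subOf_le_range _ hZ) h1 hθ h3, comap_incl] at h2
  have h4 : indA nK.1 θ ∈ SD nK.1 Z ⊥ := (mem_SD_ind nK nZ (norm_bot _) hθ).2 ⟨h2, by simp⟩
  rw [← frob_rec' _ _ (IsIrr.mem_CF h1)] at h3
  rwa [IsIrr.eq_of_dot_ne_zero h1 (irrX _ h4) h3]

/-- Peterfalvi (6.6) -/
theorem seqIndD_irr_coherence (oddL : Odd (Nat.card L)) (nilK : Group.IsNilpotent K)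
    (hK : ⁅K, K⁆ < K) (hKL : K < L)
    (frob : ∀ k ∈ K, k ∉ ⁅K, K⁆ → ∀ x ∈ L, x * k * x⁻¹ * k⁻¹ ∈ ⁅K, K⁆ → x ∈ K)
    {Z : Subgroup G} (nZ : L ≤ 𝒩(Z)) (ntZ : Z ≠ ⊥) (hZ : Z ≤ 𝒵(K))
    (irrX : ∀ χ ∈ SD nK.1 Z ⊥, IsIrrCharacter L χ) :
    (∀ χ, χ ∈ SD nK.1 Z ⊥ ↔ IsIrrCharacter L χ ∧ ¬ Z.subgroupOf L ≤ cfker χ) ∧
      Coh (SD nK.1 Z ⊥) τ := by
  classical
  have hZK : Z ≤ K := hZ.trans inf_le_left
  refine ⟨mem_SD_iff_of_irr nK nZ hZK irrX, ?_⟩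
  have hX : SD nK.1 Z ⊥ ⊆ SD nK.1 K ⊥ := SD_sub_all nK hZK
  by_cases ncoh : Coh (SD nK.1 K ⊥) τ
  · exact ncoh.mono hX
  obtain ⟨-, p, hp, ⟨m, hm⟩, -, -⟩ := non_coherent_chief nK solK hS oddL (norm_bot _) bot_le
    (nil_quot _ nilK) (by simpa using hK) hKL (by simpa using frob) ncoh
  rw [Subgroup.relIndex_bot_left] at hm
  set e := K.relIndex L
  have he : 0 < e := relIndex_pos _ _
  obtain ⟨b, -, hb⟩ := (Nat.dvd_prime_pow hp).1
    (hm ▸ (Dvd.intro_left _ (card_mul_relIndex hZK)) : Z.relIndex K ∣ p ^ m)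
  have cop : e.Coprime p := by
    have h1 := coprime_of_frob_mod nK (norm_comm nK.2 nK.2) hK.le frob
    obtain ⟨k, -, hk⟩ := (Nat.dvd_prime_pow hp).1
      (hm ▸ (Dvd.intro_left _ (card_mul_relIndex hK.le)) : ⁅K, K⁆.relIndex K ∣ p ^ m)
    have := one_lt_relIndex' hK
    rw [hk] at h1 this
    exact (Nat.coprime_pow_right_iff (Nat.pos_of_ne_zero (by rintro rfl; simp at this)) _ _).1 h1
  have dX : ∀ χ ∈ SD nK.1 Z ⊥, ∃ a, deg χ = e * p ^ a ∧ 2 * a ≤ b := by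
    intro χ hχ
    obtain ⟨θ, hθ, -, -, rfl⟩ := mem_SD.1 hχ
    obtain ⟨a, -, ha⟩ := (Nat.dvd_prime_pow hp).1 (hm ▸ IsIrr.deg_dvd_card hθ)
    refine ⟨a, by rw [deg_indA _ (IsIrr.isChar hθ), ha], ?_⟩
    have := IsIrr.deg_sq_le_index hθ (Z.subgroupOf K) fun z hz x => by
      have : z * x * z⁻¹ * x⁻¹ = 1 := by
        rw [mul_inv_eq_one, mul_inv_eq_iff_eq_mul]
        exact Subtype.ext ((hZ hz).2 x x.2).symm
      rw [this]; exact one_mem _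
    change _ ≤ Z.relIndex K at this
    rw [hb, ha, ← pow_mul] at this
    have := (Nat.pow_le_pow_iff_right hp.one_lt).1 this
    omega
  suffices ∀ d, Coh ((SD nK.1 Z ⊥).filter fun χ => deg χ ≤ d) τ by
    refine (this ((SD nK.1 Z ⊥).sup deg)).mono fun χ hχ => ?_
    exact Finset.mem_filter.2 ⟨hχ, Finset.le_sup hχ⟩
  have cj : ∀ d, ∀ χ ∈ (SD nK.1 Z ⊥).filter fun χ => deg χ ≤ d,
      conjFun χ ∈ (SD nK.1 Z ⊥).filter fun χ => deg χ ≤ d := fun d χ hχ => by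
    rw [Finset.mem_filter] at hχ ⊢
    exact ⟨SD_conj nK _ hχ.1, by rw [deg_conjFun]; exact hχ.2⟩
  intro d
  induction d with
  | zero =>
    rw [Finset.filter_eq_empty_iff.2 fun χ hχ => (SD_deg_pos nK hχ).not_ge]
    exact coh_empty τ
  | succ d ih =>
    rcases ((SD nK.1 Z ⊥).filter fun χ => deg χ ≤ d).eq_empty_or_nonempty with h0 | ⟨χ₁, h1⟩
    · have : ∀ φ ∈ (SD nK.1 Z ⊥).filter fun χ => deg χ ≤ d + 1, φ 1 = (d + 1 : ℕ) := by
        intro φ hφ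
        rw [Finset.mem_filter] at hφ
        have := Finset.filter_eq_empty_iff.1 h0 hφ.1
        rw [← SD_coe_deg nK hφ.1, show deg φ = d + 1 by omega]
      exact hS.uniform_sub ((Finset.filter_subset _ _).trans hX) (cj _) fun φ hφ ψ hψ => by
        rw [this φ hφ, this ψ hψ]
    refine hS.extend_all ((Finset.filter_subset _ _).trans hX) (cj _) ih h1
      ((Finset.filter_subset _ _).trans hX) fun χ hχ hn => ?_
    have h1' := h1
    rw [Finset.mem_filter] at h1 hχ hn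
    have hd : deg χ = d + 1 := by
      have := not_and.1 hn hχ.1
      omega
    obtain ⟨a, ha, ha'⟩ := dX χ hχ.1
    obtain ⟨c, hc, -⟩ := dX χ₁ h1.1
    have lt : c < a := by
      have : e * p ^ c < e * p ^ a := by omega
      exact (Nat.pow_lt_pow_iff_right hp.one_lt).1 (Nat.lt_of_mul_lt_mul_left this)
    refine ⟨by rw [ha, hc]; exact Nat.mul_dvd_mul_left _ (pow_dvd_pow _ lt.le), ?_⟩
    rw [Finset.sum_congr rfl fun φ hφ => by
      rw [IsIrr.nrm (irrX φ (Finset.mem_filter.1 hφ).1), div_one]]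
    norm_cast
    have s1 := Finset.sum_filter_add_sum_filter_not (SD nK.1 Z ⊥) (fun χ => deg χ ≤ d)
      fun φ => deg φ ^ 2
    rw [sum_SD_sq_nat nK nZ (norm_bot _) bot_le hZK irrX, hb] at s1
    have d1 : (p ^ a) ^ 2 ∣ ∑ φ ∈ (SD nK.1 Z ⊥).filter fun χ => deg χ ≤ d, deg φ ^ 2 := by
      refine (Nat.dvd_add_left (c := ∑ φ ∈ (SD nK.1 Z ⊥).filter fun χ => ¬ deg χ ≤ d, deg φ ^ 2)
        (Finset.dvd_sum fun φ hφ => ?_)).1 ?_
      · rw [Finset.mem_filter] at hφ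
        obtain ⟨f, hf, -⟩ := dX φ hφ.1
        have : e * p ^ a ≤ e * p ^ f := by omega
        have := (Nat.pow_le_pow_iff_right hp.one_lt).1 (Nat.le_of_mul_le_mul_left this he)
        rw [hf]
        exact pow_dvd_pow_of_dvd ((pow_dvd_pow _ this).mul_left _) 2
      · rw [s1, ← pow_mul]
        exact ((pow_dvd_pow _ (by omega)).mul_right _).mul_left _
    have d2 : e ^ 2 ∣ ∑ φ ∈ (SD nK.1 Z ⊥).filter fun χ => deg χ ≤ d, deg φ ^ 2 :=
      Finset.dvd_sum fun φ hφ => pow_dvd_pow_of_dvd (SD_index_dvd nK (Finset.mem_filter.1 hφ).1) 2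
    have d3 := Nat.le_of_dvd (Finset.sum_pos' (fun _ _ => Nat.zero_le _)
      ⟨χ₁, h1', pow_pos (SD_deg_pos nK h1.1) 2⟩)
      (((cop.pow_right a).pow 2 2).mul_dvd_of_dvd_of_dvd d2 d1)
    refine lt_of_lt_of_le ?_ d3
    have p3 : 3 ≤ p := by
      have : Odd p := (odd_relIndex_of_le oddL hZK nK.1).of_dvd_nat
        (hb ▸ dvd_pow_self _ (by omega))
      have := hp.two_le
      obtain ⟨k, hk⟩ := ‹Odd p›
      omega
    have : p ^ c * 3 ≤ p ^ a := (Nat.mul_le_mul_left _ p3).trans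
      (by rw [← pow_succ]; exact Nat.pow_le_pow_right hp.pos lt)
    rw [ha, hc]
    have q1 := pow_pos hp.pos c
    have q2 := pow_pos hp.pos a
    generalize p ^ c = u at *
    generalize p ^ a = v at *
    have : e ^ 2 * v * (2 * u) < e ^ 2 * v * v := Nat.mul_lt_mul_of_pos_left (by omega) (by positivity)
    nlinarith

end

end CA.Chr
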