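import Cfsg.Agent.PF.P06a

/-!
# Peterfalvi, section 6, part b: (6.7).
-/

set_option autoImplicit false
set_option linter.unusedSectionVars false

open scoped ComplexConjugate

open Cfsg CA.FG CA.BG

namespace CA.Chr

variable {G : Type*} [Group G] [Finite G]

theorem sum_free_conj {P : Subgroup G} (F : G → ℂ) (X : Finset G)
    (hX : ∀ x ∈ P, ∀ v ∈ X, x * v * x⁻¹ ∈ X) (free : ∀ x ∈ P, ∀ v ∈ X, x * v * x⁻¹ = v → x = 1)
    (hF : ∀ x ∈ P, ∀ v ∈ X, F (x * v * x⁻¹) = F v) (hi : ∀ v ∈ X, IsIntegral ℤ (F v)) :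
    ∃ ω : ℂ, IsIntegral ℤ ω ∧ ∑ v ∈ X, F v = Nat.card P * ω := by
  classical
  cases nonempty_fintype P
  induction X using Finset.strongInduction with
  | H X ih =>
  rcases X.eq_empty_or_nonempty with rfl | ⟨v, hv⟩
  · exact ⟨0, isIntegral_zero, by simp⟩
  set O := Finset.univ.image fun x : P => (x : G) * v * (x : G)⁻¹ with hO
  have mO : ∀ u, u ∈ O ↔ ∃ x ∈ P, x * v * x⁻¹ = u := fun u => by simp [hO]
  have sO : O ⊆ X := fun u hu => by
    obtain ⟨x, hx, rfl⟩ := (mO u).1 hu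
    exact hX x hx v hv
  obtain ⟨ω, h1, h2⟩ := ih (X \ O)
    (Finset.sdiff_ssubset sO ⟨v, (mO v).2 ⟨1, one_mem _, by simp⟩⟩) (fun x hx u hu => by
      rw [Finset.mem_sdiff] at hu ⊢
      refine ⟨hX x hx u hu.1, fun h => hu.2 ?_⟩
      obtain ⟨y, hy, e⟩ := (mO _).1 h
      refine (mO u).2 ⟨x⁻¹ * y, mul_mem (inv_mem hx) hy, ?_⟩
      calc x⁻¹ * y * v * (x⁻¹ * y)⁻¹ = x⁻¹ * (y * v * y⁻¹) * x := by group
        _ = u := by rw [e]; group)
    (fun x hx u hu => free x hx u (Finset.mem_sdiff.1 hu).1)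
    (fun x hx u hu => hF x hx u (Finset.mem_sdiff.1 hu).1) fun u hu => hi u (Finset.mem_sdiff.1 hu).1
  refine ⟨ω + F v, h1.add (hi v hv), ?_⟩
  rw [← Finset.sum_sdiff sO, h2, hO, Finset.sum_image, Finset.sum_congr rfl fun (x : P) _ => hF x x.2 v hv]
  · simp [mul_add]
  · intro x _ y _ e
    have := free ((y : G)⁻¹ * x) (mul_mem (inv_mem y.2) x.2) v hv (by
      calc (y : G)⁻¹ * x * v * ((y : G)⁻¹ * x)⁻¹ = (y : G)⁻¹ * (x * v * (x : G)⁻¹) * y := by group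
        _ = v := by simp only at e; rw [e]; group)
    exact Subtype.ext (inv_mul_eq_one.1 this).symm

theorem NormedTI_sharp_normal {P L : Subgroup G} (ti : NormedTI (sharp P) ⊤ L) : P ⊲ L := by
  obtain ⟨⟨a, ha⟩, -, h⟩ := ti
  refine ⟨fun x hx => (h a ha x trivial).1 (sharp_norm (norm_of_le le_rfl) x hx a ha), fun g hg =>
    mem_norm_of_forall fun x hx => ?_⟩
  by_cases e : x = 1
  · simp [e]
  · exact ((h x ⟨hx, e⟩ g trivial).2 hg).1

theorem NormedTI_sharp_norm_le {P L : Subgroup G} (ti : NormedTI (sharp P) ⊤ L) : 𝒩(P) ≤ L := by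
  obtain ⟨⟨a, ha⟩, -, h⟩ := ti
  exact fun g hg => (h a ha g trivial).1 (sharp_norm le_rfl g hg a ha)

/-- (6.7) for a Hall subgroup -/
theorem constant_irr_mod_TI_Hall {Z L P : Subgroup G} (hall : (Nat.card P).Coprime (P.relIndex L))
    (oddL : Odd (Nat.card L)) (ti : NormedTI (sharp P) ⊤ L) (nZ : L ≤ 𝒩(Z)) (hZ : Z ≤ 𝒵(P))
    {φ : G → ℂ} (hφ : IsIrrCharacter G φ) (hc : ∀ x ∈ sharp Z, ∀ y ∈ sharp Z, φ x = φ y)
    {z : G} (hz : z ∈ sharp Z) : ∃ ω : ℂ, IsIntegral ℤ ω ∧ φ 1 - φ z = Nat.card P * ω := by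
  classical
  cases nonempty_fintype G
  have nP := NormedTI_sharp_normal ti
  have hZP : Z ≤ P := hZ.trans inf_le_left
  have hz' : z⁻¹ ∈ sharp Z := ⟨inv_mem hz.1, by simpa using hz.2⟩
  have inL : ∀ {u x : G}, u ∈ sharp Z → x * u * x⁻¹ ∈ P → x ∈ L := fun {u x} hu h =>
    (ti.2.2 u ⟨hZP hu.1, hu.2⟩ x trivial).1 ⟨h, by simpa using hu.2⟩
  have nc : ¬ IsConj z z⁻¹ := by
    intro h
    obtain ⟨x, e⟩ := isConj_iff.1 h
    have hx := inL hz (e ▸ hZP hz'.1)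
    have := eq_one_of_isConj_inv oddL (g := ⟨z, nP.1 (hZP hz.1)⟩)
      (isConj_iff.2 ⟨⟨x, hx⟩, Subtype.ext e⟩)
    exact hz.2 (congrArg Subtype.val this)
  set f : G → ℂ := fun g => (if IsConj z g then 1 else 0) - if IsConj z⁻¹ g then 1 else 0 with hf
  have ci : ∀ a b : G, IsConj a b⁻¹ ↔ IsConj a⁻¹ b := fun a b => by
    simp only [isConj_iff]
    exact exists_congr fun x => by
      rw [← inv_eq_iff_eq_inv]; constructor <;> intro h <;> rw [← h] <;> group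
  have finv : ∀ g, f g⁻¹ = -f g := fun g => by
    simp only [hf, ci, inv_inv]; ring
  have fCF : f ∈ CF G := fun g x => by
    have : ∀ a, IsConj a (x * g * x⁻¹) ↔ IsConj a g := fun a =>
      ⟨fun h => h.trans (isConj_iff.2 ⟨x, rfl⟩).symm, fun h => h.trans (isConj_iff.2 ⟨x, rfl⟩)⟩
    simp only [hf, this]
  have fne : ∀ g, f g ≠ 0 → ∃ u ∈ sharp Z, ∃ x, x * u * x⁻¹ = g := fun g hg => by
    by_cases h1 : IsConj z g
    · exact ⟨z, hz, isConj_iff.1 h1⟩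
    · by_cases h2 : IsConj z⁻¹ g
      · exact ⟨_, hz', isConj_iff.1 h2⟩
      · exact (hg (by simp only [hf, if_neg h1, if_neg h2, sub_zero])).elim
  have sum0 : ∀ X : Finset G, (∀ g ∈ X, g⁻¹ ∈ X) → ∑ g ∈ X, f g = 0 := fun X hX => by
    have : ∑ g ∈ X, f g = ∑ g ∈ X, f g⁻¹ :=
      Finset.sum_bij' (fun g _ => g⁻¹) (fun g _ => g⁻¹) hX hX (by simp) (by simp) (by simp)
    simp only [finv, Finset.sum_neg_distrib] at this
    linear_combination this / 2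
  have s1 : ∑ g, f g * φ g = 0 := by
    rw [Finset.sum_congr rfl (g := fun g => f g * φ z), ← Finset.sum_mul, sum0 _ (by simp), zero_mul]
    intro g _
    by_cases h : f g = 0
    · simp [h]
    · obtain ⟨u, hu, x, rfl⟩ := fne g h
      rw [CF_conj (IsIrr.mem_CF hφ), hc u hu z hz]
  have s2 := IsIrr.sum_class_mul hφ fCF z
  rw [s1, mul_zero, mul_eq_zero, or_iff_right (IsIrr.dirr hφ).deg_ne_zero,
    ← Finset.sum_filter_add_sum_filter_not Finset.univ (· ∈ Z)] at s2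
  have s3 : ∑ g ∈ Finset.univ.filter (· ∈ Z), f g * φ (z * g) = -(φ 1 - φ z) := by
    have m : z⁻¹ ∈ Finset.univ.filter (· ∈ Z) := by simpa using hz.1
    have f1 : f z⁻¹ = -1 := by simp only [hf, if_neg nc, if_pos (IsConj.refl _), zero_sub]
    have := sum0 (Finset.univ.filter (· ∈ Z)) (by simp)
    rw [← Finset.add_sum_erase _ _ m] at this ⊢
    rw [Finset.sum_congr rfl (g := fun g => f g * φ z), ← Finset.sum_mul, mul_inv_cancel]
    · rw [f1] at this ⊢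
      linear_combination φ z * this
    · intro g hg
      simp only [Finset.mem_erase, Finset.mem_filter, Finset.mem_univ, true_and] at hg
      rw [hc (z * g) ⟨mul_mem hz.1 hg.2, fun e => hg.1 (eq_inv_of_mul_eq_one_right e)⟩ z hz]
  obtain ⟨ω, h1, h2⟩ := sum_free_conj (P := P) (fun g => f g * φ (z * g))
    (Finset.univ.filter fun g => g ∉ Z ∧ f g ≠ 0) (fun x hx v hv => by
      simp only [Finset.mem_filter, Finset.mem_univ, true_and] at hv ⊢
      refine ⟨fun h => hv.1 ?_, by rw [CF_conj fCF]; exact hv.2⟩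
      simpa [mul_assoc] using conj_mem_of_le_norm' nZ (nP.1 hx) h)
    (fun x hx v hv e => by
      simp only [Finset.mem_filter, Finset.mem_univ, true_and] at hv
      by_contra hx1
      obtain ⟨u, hu, y, rfl⟩ := fne v hv.2
      have h1 : y * u * y⁻¹ ∈ L := NormedTI_cent_le ti ⟨hx, hx1⟩
        (Subgroup.mem_centralizer_singleton_iff.2 (mul_inv_eq_iff_eq_mul.1 e).symm)
      have h2 : y * u * y⁻¹ ∈ P := by
        refine le_of_coprime_relIndex (Subgroup.zpowers_le.2 h1) nP.2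
          (hall.coprime_dvd_left ?_) (Subgroup.mem_zpowers _)
        rw [Nat.card_zpowers, ← MulAut.conj_apply, MulEquiv.orderOf_eq]
        exact orderOf_dvd_card_of_mem (hZP hu.1)
      exact hv.1 (conj_mem_of_le_norm nZ (inL hu h2) hu.1))
    (fun x hx v _ => by
      have : z * (x * v * x⁻¹) = x * (z * v) * x⁻¹ := by
        have := (hZ hz.1).2 x hx
        rw [← mul_assoc, ← mul_assoc, ← this]; group
      simp only [this, CF_conj fCF, CF_conj (IsIrr.mem_CF hφ)])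
    fun v _ => by
      refine IsIntegral.mul ?_ (IsChar.isIntegral (IsIrr.isChar hφ) _)
      simp only [hf]
      split_ifs <;> simp [isIntegral_one, isIntegral_zero, IsIntegral.neg]
  refine ⟨ω, h1, ?_⟩
  rw [← h2, ← Finset.filter_filter, Finset.sum_filter (fun g => f g ≠ 0),
    Finset.sum_congr rfl (g := fun g => f g * φ (z * g)) fun g _ => by split_ifs with h <;> simp_all]
  rw [s3] at s2
  linear_combination -s2

theorem int_of_constant {Z : Subgroup G} {φ : G → ℂ} (hφ : φ ∈ ZIrr G)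
    (hc : ∀ x ∈ sharp Z, ∀ y ∈ sharp Z, φ x = φ y) {z : G} (hz : z ∈ sharp Z) : ∃ n : ℤ, φ z = n := by
  refine int_of_aut_fixed (ZIrr.isIntegral hφ z) fun σ => ?_
  obtain ⟨k, hk, h⟩ := aut_exists_pow σ.toRingHom (orderOf_pos z).ne'
  refine (ZIrr.map_apply hφ σ.toRingHom h).trans (hc _ ⟨pow_mem hz.1 k, fun e => hz.2 ?_⟩ z hz)
  rw [← orderOf_eq_one_iff]
  exact Nat.eq_one_of_dvd_coprimes hk (orderOf_dvd_of_pow_eq_one e) dvd_rfl

theorem Dirr.constant_mod_TI_Hall {Z L P : Subgroup G} (hall : (Nat.card P).Coprime (P.relIndex L))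
    (oddL : Odd (Nat.card L)) (ti : NormedTI (sharp P) ⊤ L) (nZ : L ≤ 𝒩(Z)) (hZ : Z ≤ 𝒵(P))
    {φ : G → ℂ} (hφ : Dirr φ) (hc : ∀ x ∈ sharp Z, ∀ y ∈ sharp Z, φ x = φ y)
    {z : G} (hz : z ∈ sharp Z) : ∃ n : ℤ, φ 1 - φ z = Nat.card P * n := by
  have : ∃ ω : ℂ, IsIntegral ℤ ω ∧ φ 1 - φ z = Nat.card P * ω := by
    rcases hφ with h | h
    · exact constant_irr_mod_TI_Hall hall oddL ti nZ hZ h hc hz
    · obtain ⟨ω, h1, h2⟩ := constant_irr_mod_TI_Hall hall oddL ti nZ hZ h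
        (fun x hx y hy => by simp [hc x hx y hy]) hz
      exact ⟨-ω, h1.neg, by simp only [Pi.neg_apply] at h2; linear_combination -h2⟩
  obtain ⟨ω, h1, h2⟩ := this
  obtain ⟨a, ha⟩ := int_of_constant hφ.mem_ZIrr hc hz
  obtain ⟨b, hb⟩ := ZIrr.deg_int hφ.mem_ZIrr
  have h0 : (Nat.card P : ℂ) ≠ 0 := card_ne_zero
  obtain ⟨n, hn⟩ := int_dvd_of_isIntegral_div (a := b - a) (b := Nat.card P)
    (by exact_mod_cast Nat.card_pos.ne') (by
      rw [ha, hb] at h2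
      push_cast
      rwa [h2, mul_div_cancel_left₀ _ h0])
  exact ⟨n, by rw [ha, hb]; exact_mod_cast hn⟩

/-- Peterfalvi (6.7) -/
theorem constant_irr_mod_TI_Sylow {Z L P : Subgroup G} {p : ℕ} (hp : p.Prime)
    (sylP : IsSylowOf p P ⊤) (oddL : Odd (Nat.card L)) (ti : NormedTI (sharp P) ⊤ L)
    (nZ : L ≤ 𝒩(Z)) (hZ : Z ≤ 𝒵(P))
    (hC : ∀ x ∈ sharp Z, ∀ y ∈ sharp Z, Nat.card ↥(L ⊓ 𝒞[x]) = Nat.card ↥(L ⊓ 𝒞[y]))
    {φ : G → ℂ} (hφ : IsIrrCharacter G φ) (hc : ∀ x ∈ sharp Z, ∀ y ∈ sharp Z, φ x = φ y)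
    {x : G} (hx : x ∈ sharp Z) : ∃ n : ℤ, φ x = n ∧ (Nat.card P : ℤ) ∣ deg φ - n := by
  obtain ⟨a, ha⟩ := int_of_constant (IsIrr.mem_ZIrr hφ) hc hx
  obtain ⟨n, hn⟩ := (IsIrr.dirr hφ).constant_mod_TI_Hall
    (sylP.of_le (NormedTI_sharp_normal ti).1 le_top).coprime oddL ti nZ hZ hc hx
  refine ⟨a, ha, n, ?_⟩
  rw [ha, ← IsIrr.coe_deg hφ] at hn
  exact_mod_cast hn

end CA.Chr
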