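import Cfsg.Agent.PF.P06b

/-!
# Peterfalvi, section 6, part c: (6.8).
-/

set_option autoImplicit false
set_option linter.unusedSectionVars false

open scoped ComplexConjugate

open Cfsg CA.FG CA.BG

namespace CA.Chr

variable {G : Type*} [Group G] [Finite G]

theorem dot_of_const_off_one {X : Type*} [Group X] [Finite X] {φ ψ : X → ℂ} {c : ℂ}
    (hψ : ∀ x, x ≠ 1 → ψ x = c) :
    ⟪φ, ψ⟫ = conj c * ⟪φ, 1⟫ + φ 1 * conj (ψ 1 - c) / Nat.card X := by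
  classical
  cases nonempty_fintype X
  rw [dot_def, dot_def, ← Finset.add_sum_erase _ _ (Finset.mem_univ 1),
    ← Finset.add_sum_erase _ _ (Finset.mem_univ 1), Finset.sum_congr rfl fun x hx => by
      rw [hψ x (Finset.ne_of_mem_erase hx)], ← Finset.sum_mul]
  simp only [Pi.one_apply, map_one, mul_one, map_sub]
  ring

theorem IsoOn.exists_pivot {L : Type*} [Group L] [Finite L] {S Y : Finset (L → ℂ)}
    {τ ν : (L → ℂ) →ₗ[ℂ] (G → ℂ)} (h : IsoOn S τ) (hY : Y ⊆ S) (irr : ∀ η ∈ Y, IsIrrCharacter L η)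
    {η₁ η₂ : L → ℂ} (dY : ∀ η ∈ Y, η 1 = η₁ 1) (h1 : η₁ ∈ Y) (h2 : η₂ ∈ Y) (hne : η₂ ≠ η₁)
    (hν : CohWith Y τ ν) {P : (L → ℂ) → Prop} {ψ₀ : L → ℂ} (h0 : P ψ₀) {a : ℕ} {y : ℤ}
    (hP : ∀ ψ, P ψ → ψ ∈ CS S ∧ (∀ η ∈ Y, ⟪ψ, η⟫ = 0) ∧ ψ 1 = a * η₁ 1 ∧ Chr.nrm ψ < a ^ 2 ∧
      ⟪τ (ψ - (a : ℂ) • η₁), ν η₁⟫ = a * y) :
    ∃ Y₁ : G → ℂ, (∃ η ∈ Y, Y₁ = ν η ∨ Y₁ = -ν η) ∧ (∀ η ∈ Y, η ≠ η₁ → ⟪τ (η - η₁), Y₁⟫ = -1) ∧
      ∀ ψ, P ψ → ⟪τ (ψ - (a : ℂ) • η₁), Y₁⟫ = -a := by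
  classical
  have oY : ∀ η ∈ Y, ∀ η' ∈ Y, η ≠ η' → ⟪ν η, ν η'⟫ = 0 := fun η h η' h' e => by
    rw [hν.iso _ h _ h', IsIrr.dot_ne (irr _ h) (irr _ h') e]
  have nY : ∀ η ∈ Y, ⟪ν η, ν η⟫ = 1 := fun η h => by rw [hν.iso _ h _ h, IsIrr.dot_self (irr _ h)]
  have mem : ∀ ψ, P ψ → ψ - (a : ℂ) • η₁ ∈ CS S ∧ (ψ - (a : ℂ) • η₁) 1 = 0 := fun ψ hψ =>
    ⟨Submodule.sub_mem _ (hP ψ hψ).1 (CS_smul _ (mem_CS (hY h1))), by simp [(hP ψ hψ).2.2.1]⟩
  have key : ∀ ψ, P ψ → ∀ η ∈ Y, η ≠ η₁ → ⟪τ (ψ - (a : ℂ) • η₁), ν η⟫ = a * (y + 1) := by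
    intro ψ hψ η hη e
    obtain ⟨-, o, -, -, b⟩ := hP ψ hψ
    have := h.iso _ (mem ψ hψ).1 (η - η₁) (Submodule.sub_mem _ (mem_CS (hY hη)) (mem_CS (hY h1)))
      (mem ψ hψ).2 (by simp [dY η hη])
    rw [hν.agree_sub hη h1 (dY η hη), dot_sub_right, b, dot_sub_left, dot_sub_right, dot_smul_left,
      dot_sub_right, o _ hη, o _ h1, IsIrr.dot_self (irr _ h1),
      IsIrr.dot_ne (irr _ h1) (irr _ hη) e.symm] at this
    linear_combination this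
  by_cases hy : y = -1
  · refine ⟨ν η₁, ⟨η₁, h1, Or.inl rfl⟩, fun η hη e => ?_, fun ψ hψ => ?_⟩
    · rw [hν.agree_sub hη h1 (dY η hη), dot_sub_left, oY _ hη _ h1 e, nY _ h1]; ring
    · rw [(hP ψ hψ).2.2.2.2, hy]; simp
  obtain ⟨-, o, -, n, b⟩ := hP ψ₀ h0
  have bes : ∀ T ⊆ Y, ∑ η ∈ T, ‖⟪τ (ψ₀ - (a : ℂ) • η₁), ν η⟫‖ ^ 2 < 2 * a ^ 2 := by
    intro T hT
    refine (bessel_le T ν (fun i hi => nY i (hT hi)) (fun i hi j hj => oY i (hT hi) j (hT hj))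
      _).trans_lt ?_
    rw [h.nrm (mem _ h0).1 (mem _ h0).2, nrm_sub_of_orth (by rw [dot_smul_right, o _ h1, mul_zero]),
      nrm_smul, IsIrr.nrm (irr _ h1), Complex.norm_natCast]
    linarith
  have y1 : (1 : ℝ) ≤ (y + 1) ^ 2 := by
    have : 0 < (y + 1) ^ 2 := by have : y + 1 ≠ 0 := by omega
                                 positivity
    exact_mod_cast this
  have nk : ∀ η ∈ Y, η ≠ η₁ → ‖⟪τ (ψ₀ - (a : ℂ) • η₁), ν η⟫‖ ^ 2 = a ^ 2 * (y + 1) ^ 2 := by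
    intro η hη e
    rw [key _ h0 η hη e, norm_mul, mul_pow, Complex.norm_natCast,
      show (y : ℂ) + 1 = ((y + 1 : ℤ) : ℂ) by simp, Complex.norm_intCast, sq_abs]
    simp
  have a0 : (0 : ℝ) < a ^ 2 := (nrm_nonneg _).trans_lt n
  have y0 : y = 0 := by
    have := bes {η₁, η₂} (by simp [Finset.insert_subset_iff, h1, h2])
    rw [Finset.sum_pair hne.symm, nk _ h2 hne, b, norm_mul, mul_pow, Complex.norm_natCast,
      Complex.norm_intCast, sq_abs] at this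
    have : (y : ℝ) ^ 2 < 1 := by nlinarith
    have : y ^ 2 < 1 := by exact_mod_cast this
    nlinarith
  refine ⟨-ν η₂, ⟨η₂, h2, Or.inr rfl⟩, fun η hη e => ?_, fun ψ hψ => ?_⟩
  · obtain rfl : η = η₂ := by
      by_contra e'
      have := bes {η, η₂} (by simp [Finset.insert_subset_iff, hη, h2])
      rw [Finset.sum_pair e', nk _ h2 hne, nk _ hη e] at this
      nlinarith
    rw [hν.agree_sub hη h1 (dY η hη), dot_neg_right, dot_sub_left, oY _ h1 _ hη e.symm, nY _ hη]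
    ring
  · rw [dot_neg_right, key ψ hψ _ h2 hne, y0]; simp

theorem res_central {H Z : Subgroup G} (hZ : Z ≤ 𝒵(H)) {θ : H → ℂ} (hθ : IsIrrCharacter H θ) :
    ∃ l : Z →* ℂˣ, ∀ z x, θ (Subgroup.inclusion (hZ.trans inf_le_left) z * x) = l z * θ x :=
  IsIrr.exists_central_lin hθ _ fun z x => by
    have : Subgroup.inclusion (hZ.trans inf_le_left) z * x =
        x * Subgroup.inclusion (hZ.trans inf_le_left) z := Subtype.ext ((hZ z.2).2 x x.2).symm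
    rw [this]; simp

theorem SD_irr_of_cent {L H Z : Subgroup G} (nH : H ⊲ L) (nZ : L ≤ 𝒩(Z)) (hZ : Z ≤ 𝒵(H))
    (hC : ∀ z ∈ Z, z ≠ 1 → L ⊓ 𝒞[z] ≤ H) : ∀ χ ∈ SD nH.1 Z ⊥, IsIrrCharacter L χ := by
  intro χ hχ
  obtain ⟨θ, hθ, h1, -, rfl⟩ := mem_SD.1 hχ
  haveI := nInj nH
  refine ind_irr_of_inertia_le _ hθ fun g hg => (mem_range_incl _).2 ?_
  by_contra hgH
  obtain ⟨l, hl⟩ := res_central hZ hθ
  have hZH : Z ≤ H := hZ.trans inf_le_left
  let c : Z → Z := fun z => ⟨g * z * (g : G)⁻¹, conj_mem_of_le_norm nZ g.2 z.2⟩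
  have lc : ∀ z, l (c z) = l z := fun z => by
    have e := congrFun ((mem_inertia _).1 hg) (Subgroup.inclusion hZH z)
    have : cj (Subgroup.inclusion nH.1) g (Subgroup.inclusion hZH z) = Subgroup.inclusion hZH (c z) :=
      (cj_eq_iff _).2 rfl
    rw [Function.comp_apply, this, ← mul_one (Subgroup.inclusion hZH z),
      ← mul_one (Subgroup.inclusion hZH (c z)), hl, hl] at e
    exact Units.ext (mul_right_cancel₀ (IsIrr.dirr hθ).deg_ne_zero e)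
  have inj : Function.Injective fun z => z⁻¹ * c z := by
    intro u v e
    have e' : (u : G)⁻¹ * (g * u * (g : G)⁻¹) = (v : G)⁻¹ * (g * v * (g : G)⁻¹) :=
      congrArg Subtype.val e
    by_contra ne
    refine hgH (hC (v * (u : G)⁻¹) (mul_mem v.2 (inv_mem u.2))
      (fun f => ne (Subtype.ext (mul_inv_eq_one.1 f).symm)) (Subgroup.mem_inf.2 ⟨g.2, ?_⟩))
    rw [Subgroup.mem_centralizer_singleton_iff]
    have c1 : ∀ a ∈ Z, ∀ b ∈ Z, a * b = b * a := fun a ha b hb => (hZ hb).2 a (hZH ha)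
    calc (g : G) * (v * (u : G)⁻¹) = v * ((v : G)⁻¹ * (g * v * (g : G)⁻¹)) * (g * (u : G)⁻¹) := by group
      _ = v * (u : G)⁻¹ * g := by rw [← e']; group
  refine h1 fun x hx y => ?_
  obtain ⟨z, hz⟩ := Finite.surjective_of_injective inj ⟨x, hx⟩
  have : l ⟨x, hx⟩ = 1 := by rw [← hz, map_mul, lc, map_inv, inv_mul_cancel]
  exact (hl ⟨x, hx⟩ y).trans (by rw [this]; simp)

theorem indA_expand {L H Z : Subgroup G} (nH : H ⊲ L) (hZ : Z ≤ H) (δ : Z → ℂ) :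
    indA (hZ.trans nH.1) δ = ∑ θ ∈ irr H, ⟪δ, θ ∘ Subgroup.inclusion hZ⟫ • indA nH.1 θ := by
  rw [← indA_indA hZ nH.1, CF_expand (ind_mem_CF (Subgroup.inclusion hZ) δ), map_sum]
  refine Finset.sum_congr rfl fun θ hθ => ?_
  rw [map_smul, frob_rec _ _ (IsIrr.mem_CF (mem_irr.1 hθ))]

theorem indA_mem_CS {L H Z : Subgroup G} (nH : H ⊲ L) (hZ : Z ≤ H) {δ : Z → ℂ} (h1 : ⟪δ, 1⟫ = 0) :
    indA (hZ.trans nH.1) δ ∈ CS (SD nH.1 Z ⊥) := by
  rw [indA_expand nH hZ]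
  refine Submodule.sum_mem _ fun θ hθ => ?_
  by_cases h : Z.subgroupOf H ≤ cfker θ
  · have : θ ∘ Subgroup.inclusion hZ = θ 1 • 1 := by
      ext z; simpa using cfker_apply (h z.2)
    rw [this, dot_smul_right, h1, mul_zero, zero_smul]
    exact zero_mem _
  · exact CS_smul _ (mem_CS (mem_SD.2 ⟨θ, mem_irr.1 hθ, h, by simp, rfl⟩))

theorem SD_disjoint {L H Z N : Subgroup G} (nH : H ⊲ L) (nZ : L ≤ 𝒩(Z)) (nN : L ≤ 𝒩(N)) (hZ : Z ≤ N)
    (hN : N ≤ H) : Disjoint (SD nH.1 Z ⊥) (SD nH.1 H N) := by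
  refine Finset.disjoint_left.2 fun χ h1 h2 => ?_
  exact ((mem_SD_iff_cfker nH nZ (norm_bot _) (hZ.trans hN) bot_le (SD_sub_ST _ _ _ h1)).1 h1).1
    ((Subgroup.subgroupOf_mono _ hZ).trans
      ((mem_SD_iff_cfker nH nH.2 nN le_rfl hN (SD_sub_ST _ _ _ h1)).1 h2).2)

section Sibley
variable {L H : Subgroup G} {A : Set G} {R : G → Subgroup G} (h : DadeInd L H A R)
  (oddL : Odd (Nat.card L)) (ti : NormedTI (sharp H) ⊤ L) {R' : (L → ℂ) → Finset (G → ℂ)}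
  (hS : Subcoh (SD h.le H ⊥) (dade A L R) R') {Z : Subgroup G} (nZ : L ≤ 𝒩(Z)) (ntZ : Z ≠ ⊥)
  (hZ : Z ≤ 𝒵(H)) (hZ' : Z ≤ ⁅H, H⁆) (hH : ⁅H, H⁆ < H) (hHL : H < L)
  (frob : ∀ k ∈ H, k ∉ ⁅H, H⁆ → ∀ x ∈ L, x * k * x⁻¹ * k⁻¹ ∈ ⁅H, H⁆ → x ∈ H)
  {ν : (L → ℂ) →ₗ[ℂ] (G → ℂ)} (hν : CohWith (SD h.le H ⁅H, H⁆) (dade A L R) ν)
  {η : L → ℂ} (hη : η ∈ SD h.le H ⁅H, H⁆)

include ti in
theorem sibley_dot {α : L → ℂ} (hα : α ∈ CS (SD h.le H ⊥)) (h1 : α 1 = 0) {ψ : G → ℂ}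
    (hψ : ψ ∈ CF G) : ⟪dade A L R α, ψ⟫ = ⟪α, ψ ∘ L.subtype⟫ := by
  rw [h.dade_eq_ind ti (CS_mono (SD_sub_ST _ _ _) hα) h1, frob_rec _ _ hψ]

include ti hS nZ hZ hZ' hν hη in
theorem sibley_constA (coh : Coh (SD h.le Z ⊥) (dade A L R)) :
    ∀ x ∈ sharp Z, ∀ y ∈ sharp Z, ν η x = ν η y := by
  classical
  intro x hx y hy
  obtain ⟨ν₂, h₂⟩ := coh
  have hZH : Z ≤ H := hZ.trans inf_le_left
  cases nonempty_fintype Z
  let δ : Z → ℂ := Pi.single ⟨x, hx.1⟩ 1 - Pi.single ⟨y, hy.1⟩ 1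
  have dδ : ∀ ψ : Z → ℂ, ⟪δ, ψ⟫ = (Nat.card Z : ℂ)⁻¹ * conj (ψ ⟨x, hx.1⟩ - ψ ⟨y, hy.1⟩) := fun ψ => by
    simp [dot_def, δ, sub_mul, Finset.sum_sub_distrib, Pi.single_apply]
  have m := indA_mem_CS h.normal hZH (δ := δ) (by simp [dδ])
  have m1 : indA (hZH.trans h.le) δ 1 = 0 := by
    have e1 : (1 : Z) ≠ ⟨x, hx.1⟩ := fun e => hx.2 (congrArg Subtype.val e).symm
    have e2 : (1 : Z) ≠ ⟨y, hy.1⟩ := fun e => hy.2 (congrArg Subtype.val e).symm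
    simp [indA_one, δ, e1, e2]
  have cf := ZIrr.mem_CF (hν.zirr _ hη)
  have := sibley_dot h ti (CS_mono (SD_sub_all h.normal hZH) m) m1 cf
  rw [← h₂.agree _ m m1, hS.coh_orth (SD_sub_all h.normal hZH) (SD_conj h.normal) SD_sub_bot
    (SD_conj h.normal) (SD_disjoint h.normal nZ (norm_comm h.normal.2 h.normal.2) hZ' (der_le _))
    h₂ hν m (mem_CS hη), frob_rec _ _ (CF_comp cf _), dδ, eq_comm, mul_eq_zero,
    or_iff_right (inv_ne_zero card_ne_zero), map_eq_zero, sub_eq_zero] at this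
  exact this

include oddL hZ hZ' frob hν hη in
theorem sibley_constB (pZ : (Nat.card Z).Prime) :
    ∀ x ∈ sharp Z, ∀ y ∈ sharp Z, ν η x = ν η y := by
  intro x hx y hy
  have hn := h.normal
  have hZH : Z ≤ H := hZ.trans inf_le_left
  have irrY := SD_irr_of_frob_mod hn (norm_comm hn.2 hn.2) frob H
  have := eq_zpowers_of_card_prime pZ hx.1 hx.2 ▸ hy.1
  obtain ⟨k, rfl⟩ := (mem_powers_iff_mem_zpowers.2 this : ∃ k : ℕ, x ^ k = y)
  have ox : orderOf x = Nat.card Z := by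
    rw [eq_zpowers_of_card_prime pZ hx.1 hx.2, Nat.card_zpowers]
  obtain ⟨σ, hσ⟩ := exists_aut_pow (orderOf_pos x).ne' (k := k) (by
    rw [ox, Nat.coprime_comm, pZ.coprime_iff_not_dvd, ← ox, orderOf_dvd_iff_pow_eq_one]
    exact hy.2)
  have hσ' := SD_map hn σ.toRingHom η hη
  have sub : SD h.le H ⁅H, H⁆ ⊆ ST h.le := SD_sub_ST _ _ _
  rw [← ZIrr.map_apply (hν.zirr _ hη) σ.toRingHom hσ]
  have e := congrFun (hν.map_eq (fun α hα h1 => h.isoOn.one α (CS_mono sub hα) h1) σ.toRingHom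
    (fun α => dade_map α _ (map_zero _)) hη (SD_conj hn _ hη) hσ'
    (SD_map hn _ _ (SD_conj hn _ hη)) (irrY _ hη) (irrY _ (SD_conj hn _ hη))
    (SD_conj_ne hn oddL _ hη).symm) x
  have d := SD_deg_of_der_le hn (V := H) (le_refl ⁅H, H⁆)
  have e2 := congrFun (hν.agree_sub hσ' hη (by rw [d _ hσ', d _ hη])) x
  have v : ∀ φ ∈ SD h.le H ⁅H, H⁆, φ ⟨x, h.le (hZH hx.1)⟩ = H.relIndex L := fun φ hφ => by
    rw [← d φ hφ]
    exact cfker_apply (((mem_SD_iff_cfker hn hn.2 (norm_comm hn.2 hn.2) le_rfl (der_le _)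
      (sub hφ)).1 hφ).2 (hZ' hx.1))
  have e3 := Dade.dade_id h.dade (sub_mem (SD_CF hn hσ') (SD_CF hn hη)) (a := ⟨x, h.le (hZH hx.1)⟩)
    (h.sub ⟨hZH hx.1, hx.2⟩)
  rw [Pi.sub_apply, v _ hσ', v _ hη, sub_self] at e3
  rw [Function.comp_apply] at e
  rw [e]
  rw [e3, Pi.sub_apply, eq_comm, sub_eq_zero] at e2
  exact e2.symm

include oddL ti hS nZ ntZ hZ hZ' hH frob hν hη in
open Classical in
theorem sibley_XY (hall : (Nat.card H).Coprime (H.relIndex L))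
    (hc : ∀ x ∈ sharp Z, ∀ y ∈ sharp Z, ν η x = ν η y) :
    Coh (SD h.le Z ⊥ ∪ SD h.le H ⁅H, H⁆) (dade A L R) := by
  have hn := h.normal
  have hZH : Z ≤ H := hZ.trans inf_le_left
  have nH' : L ≤ 𝒩(⁅H, H⁆) := norm_comm hn.2 hn.2
  have irrY := SD_irr_of_frob_mod hn nH' frob H
  have d := SD_deg_of_der_le hn (V := H) (le_refl ⁅H, H⁆)
  have sX : SD h.le Z ⊥ ⊆ SD h.le H ⊥ := SD_sub_all hn hZH
  have sY : SD h.le H ⁅H, H⁆ ⊆ SD h.le H ⊥ := SD_sub_bot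
  have dis := SD_disjoint hn nZ nH' hZ' (der_le _)
  obtain ⟨z, hz, hz1⟩ := exists_mem_ne_one ntZ
  haveI : IsMulCommutative Z := abelian_iff_forall.2 fun a ha b hb => (hZ hb).2 a (hZH ha)
  obtain ⟨l₀, hl₀⟩ := exists_lin_ne_one (g := (⟨z, hz⟩ : Z)) fun e => hz1 (congrArg Subtype.val e)
  have dη := hν.dirr hη (irrY _ hη)
  obtain ⟨n, e1⟩ := dη.constant_mod_TI_Hall hall oddL ti nZ hZ hc ⟨hz, hz1⟩
  obtain ⟨m, e2⟩ := ZIrr.dot_int (SD_zirr hn hη) (ZIrr.comp dη.mem_ZIrr L.subtype)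
  have lo : ∀ l : Z →* ℂˣ, l ≠ 1 → ⟪lin l, 1⟫ = 0 := fun l hl => by
    rw [← lin_one, dot_lin, if_neg hl]
  have wa : H.relIndex L < Z.relIndex H := by
    have h1 := dvd_of_frob_mod hn hn.2 nH' hH.le le_rfl frob
    have h2 := one_lt_relIndex' hH
    have h3 := Nat.le_of_dvd (by omega) h1
    have h4 := Subgroup.relIndex_le_of_le_left hZ' (relIndex_pos Z H).ne'
    omega
  obtain ⟨Y₁, ⟨η', hη', hY₁⟩, k1, k2⟩ := hS.toIsoOn.exists_pivot sY irrY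
    (fun φ hφ => by rw [d _ hφ, d _ hη]) hη (SD_conj hn _ hη) (SD_conj_ne hn oddL _ hη) hν
    (P := fun ψ => ∃ l : Z →* ℂˣ, l ≠ 1 ∧ ψ = indA (hZH.trans h.le) (lin l))
    ⟨l₀, fun e => hl₀ (by simp [e]), rfl⟩ (a := Z.relIndex H) (y := n - m) (by
      rintro _ ⟨l, hl, rfl⟩
      have m1 := indA_mem_CS hn hZH (lo l hl)
      have m2 : indA (hZH.trans h.le) (lin l) 1 = Z.relIndex H * η 1 := by
        rw [indA_one, d _ hη, relIndex_mul' hZH h.le]; simp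
      refine ⟨CS_mono sX m1, fun φ hφ => dot_CS_eq_zero (fun χ hχ => SD_orth hn hχ hφ fun e =>
        Finset.disjoint_left.1 dis hχ (e ▸ hφ)) m1, m2, ?_, ?_⟩
      · haveI := nInj (K := Z) ⟨hZH.trans h.le, nZ⟩
        rw [nrm_ind _ (lin_irr l)]
        have h1 := Subgroup.relIndex_le_of_le_right (H := (Subgroup.inclusion (hZH.trans h.le)).range)
          (le_top (a := inertia (Subgroup.inclusion (hZH.trans h.le)) (lin l))) (relIndex_pos _ _).ne'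
        rw [Subgroup.relIndex_top_right, index_range_incl, relIndex_mul' hZH h.le] at h1
        have := Nat.mul_lt_mul_of_pos_left wa (relIndex_pos Z H)
        exact_mod_cast h1.trans_lt (by rwa [sq])
      · rw [sibley_dot h ti (Submodule.sub_mem _ (CS_mono sX m1) (CS_smul _ (mem_CS (sY hη))))
          (by simp [m2]) (ZIrr.mem_CF dη.mem_ZIrr), dot_sub_left, dot_smul_left, e2,
          frob_rec _ _ (CF_comp (ZIrr.mem_CF dη.mem_ZIrr) _),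
          dot_of_const_off_one (ψ := (ν η ∘ L.subtype) ∘ Subgroup.inclusion (hZH.trans h.le))
            (c := ν η z) fun (x : Z) hx =>
            hc x ⟨x.2, fun e => hx (Subtype.ext e)⟩ z ⟨hz, hz1⟩, lo l hl]
        change _ + _ * conj (ν η 1 - _) / _ - _ = _
        rw [e1, ← card_mul_relIndex hZH]
        have : (Nat.card Z : ℂ) ≠ 0 := card_ne_zero
        simp only [map_mul, map_natCast, map_intCast, lin_apply, map_one, Units.val_one]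
        push_cast
        field_simp
        ring)
  have dY : Dirr Y₁ := by
    rcases hY₁ with rfl | rfl
    exacts [hν.dirr hη' (irrY _ hη'), (hν.dirr hη' (irrY _ hη')).neg]
  have mX : ∀ θ, IsIrrCharacter H θ → indA h.le θ ∈ SD h.le Z ⊥ →
      indA h.le θ - (deg θ : ℂ) • η ∈ ZS (SD h.le H ⊥) ∧ (indA h.le θ - (deg θ : ℂ) • η) 1 = 0 :=
    fun θ hθ hX => ⟨Submodule.sub_mem _ (mem_ZS (sX hX)) (ZS_natCast_smul _ (mem_ZS (sY hη))), by
      simp [indA_one, d _ hη, IsIrr.coe_deg hθ, mul_comm]⟩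
  have bound : ∀ θ, IsIrrCharacter H θ → indA h.le θ ∈ SD h.le Z ⊥ →
      ‖⟪dade A L R (indA h.le θ - (deg θ : ℂ) • η), Y₁⟫‖ ≤ deg θ := by
    intro θ hθ hX
    obtain ⟨m1, m2⟩ := mX θ hθ hX
    have hχ := sX hX
    have ne : ∀ χ ∈ SD h.le Z ⊥, ⟪η, χ⟫ = 0 := fun χ hχ => SD_orth hn hη hχ fun e =>
      Finset.disjoint_left.1 dis hχ (e ▸ hη)
    have oR : ∀ α ∈ R' (indA h.le θ), ⟪Y₁, α⟫ = 0 := fun α hα => by
      have := hS.coh_orth_R sY (SD_conj hn) hν hχ (Finset.disjoint_left.1 dis hX) (mem_CS hη') hα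
      rcases hY₁ with rfl | rfl
      · exact this
      · rw [dot_neg_left, this, neg_zero]
    have nm : Y₁ ∉ R' (indA h.le θ) := fun e => by
      have := oR _ e
      rw [dY.dot_self] at this
      exact one_ne_zero this
    have b1 := ((hS.ons _ hχ).norm_aux (hS.zirr _ m1 m2) (hS.dot_tau_R hχ (CS_smul _ (mem_CS (sY hη)))
      (by rw [dot_smul_left, ne _ hX, mul_zero])
      (by rw [dot_smul_left, ne _ (SD_conj hn _ hX), mul_zero]) (sub_eq_zero.1 m2))).1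
    have b2 := (show ONS (insert Y₁ (R' (indA h.le θ))) from ⟨fun α hα => by
      rcases Finset.mem_insert.1 hα with rfl | hα
      exacts [dY, (hS.ons _ hχ).dirr _ hα], fun α hα β hβ e => by
      rcases Finset.mem_insert.1 hα with rfl | ha <;> rcases Finset.mem_insert.1 hβ with rfl | hb
      exacts [absurd rfl e, oR _ hb, dot_comm_zero (oR _ ha), (hS.ons _ hχ).orth _ ha _ hb e]⟩).bessel_le
      (dade A L R (indA h.le θ - (deg θ : ℂ) • η))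
    rw [Finset.sum_insert nm, hS.toIsoOn.nrm (CS_of_ZS m1) m2,
      nrm_sub_of_orth (by rw [dot_smul_right, dot_comm_zero (ne _ hX), mul_zero]), nrm_smul,
      IsIrr.nrm (irrY _ hη), Complex.norm_natCast] at b2
    exact abs_le_of_sq_le_sq' (by linarith) (Nat.cast_nonneg _) |>.2
  have sU : SD h.le Z ⊥ ∪ SD h.le H ⁅H, H⁆ ⊆ SD h.le H ⊥ := Finset.union_subset sX sY
  refine ((hS.toIsoOn.mono sU).pivot (fun φ hφ => hS.ne_zero _ (sU hφ))
    (fun φ hφ ψ hψ => hS.orth _ (sU hφ) _ (sU hψ)) (Finset.mem_union_right _ hη)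
    (SD_deg_ne_zero hn hη) dY.mem_ZIrr (by rw [dY.nrm, IsIrr.nrm (irrY _ hη)])
    fun φ hφ ne => ?_).imp fun _ h => h.1
  rw [IsIrr.nrm (irrY _ hη)]
  rcases Finset.mem_union.1 hφ with hφ | hφ
  swap
  · exact ⟨1, by simp [d _ hφ, d _ hη], by simpa using k1 φ hφ ne⟩
  have hφ' := hφ
  obtain ⟨θ, hθ, t1, -, rfl⟩ := mem_SD.1 hφ
  refine ⟨deg θ, by simp [indA_one, d _ hη, IsIrr.coe_deg hθ, mul_comm], ?_⟩
  have res : ∀ θ, IsIrrCharacter H θ → ∃ l : Z →* ℂˣ, θ ∘ Subgroup.inclusion hZH = (deg θ : ℂ) • lin l ∧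
      (l ≠ 1 ↔ ¬ Z.subgroupOf H ≤ cfker θ) := fun θ hθ => by
    obtain ⟨l, hl⟩ := res_central hZ hθ
    refine ⟨l, funext fun x => by simpa [IsIrr.coe_deg hθ, mul_comm] using hl x 1, not_congr
      ⟨fun e x hx y => (hl ⟨x, hx⟩ y).trans (by simp [e]), fun e => MonoidHom.ext fun x => Units.ext ?_⟩⟩
    have := hl x 1
    rw [cfker_mul (e (show Subgroup.inclusion hZH x ∈ Z.subgroupOf H from x.2))] at this
    simpa [(IsIrr.dirr hθ).deg_ne_zero] using this.symm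
  obtain ⟨l, hl, hl1⟩ := res θ hθ
  have hl1 := hl1.2 t1
  have s1 : ∑ θ ∈ irr H, ⟪lin l, θ ∘ Subgroup.inclusion hZH⟫ * deg θ = Z.relIndex H := by
    have := CF_expand_apply (ind_mem_CF (Subgroup.inclusion hZH) (lin l)) 1
    rw [indA_one] at this
    rw [Finset.sum_congr rfl fun θ hθ => by
      rw [← frob_rec _ _ (IsIrr.mem_CF (mem_irr.1 hθ)), IsIrr.coe_deg (mem_irr.1 hθ)], ← this]
    simp
  have s2 := k2 _ ⟨l, hl1, rfl⟩
  rw [indA_expand hn hZH, ← s1, Finset.sum_smul, ← Finset.sum_sub_distrib, map_sum, dot_sum_left,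
    eq_neg_iff_add_eq_zero, ← Finset.sum_add_distrib] at s2
  have s3 := congrArg Complex.re s2
  rw [Complex.re_sum, Complex.zero_re, Finset.sum_eq_zero_iff_of_nonneg] at s3
  · have s4 := s3 θ (mem_irr.2 hθ)
    obtain ⟨b, hb⟩ := ZIrr.dot_int (hS.zirr _ (mX θ hθ hφ').1 (mX θ hθ hφ').2) dY.mem_ZIrr
    rw [mul_smul, ← smul_sub, map_smul, dot_smul_left, hb, hl, dot_smul_right,
      IsIrr.dot_self (lin_irr l)] at s4
    have s5 : (deg θ : ℝ) * (b + deg θ) = 0 := by simpa [mul_add] using s4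
    have s6 : (b : ℝ) = -deg θ := by
      have : (deg θ : ℝ) ≠ 0 := by exact_mod_cast (IsIrr.deg_pos hθ).ne'
      linarith [(mul_eq_zero.1 s5).resolve_left this]
    have s7 : b = -deg θ := by exact_mod_cast s6
    rw [Int.cast_natCast, hb, s7]; simp
  · intro θ' hθ'
    have hθ' := mem_irr.1 hθ'
    obtain ⟨l', hl', hl1'⟩ := res θ' hθ'
    rw [mul_smul, ← smul_sub, map_smul, dot_smul_left, hl', dot_smul_right, dot_lin]
    split_ifs with e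
    · have b := bound θ' hθ' (mem_SD.2 ⟨θ', hθ', hl1'.1 (e ▸ hl1), by simp, rfl⟩)
      have := (abs_le.1 ((Complex.abs_re_le_norm _).trans b)).1
      simp only [map_natCast, mul_one, Complex.add_re, Complex.mul_re, Complex.natCast_re,
        Complex.natCast_im, zero_mul, sub_zero, mul_zero]
      nlinarith [(Nat.cast_nonneg (deg θ') : (0 : ℝ) ≤ _)]
    · simp

include oddL ti hS nZ ntZ hZ hZ' hH frob in
theorem sibley_final (solH : Group.IsSolvable H) (hall : (Nat.card H).Coprime (H.relIndex L))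
    (hAB : (∀ z ∈ Z, z ≠ 1 → L ⊓ 𝒞[z] ≤ H) ∧ Coh (SD h.le Z ⊥) (dade A L R) ∨
      (Nat.card Z).Prime ∧ ∀ k ∈ H, k ∉ Z → ∀ x ∈ L, x * k * x⁻¹ * k⁻¹ ∈ Z → x ∈ H) :
    Coh (SD h.le H ⊥) (dade A L R) := by
  classical
  have hn := h.normal
  have hZH : Z ≤ H := hZ.trans inf_le_left
  have nH' : L ≤ 𝒩(⁅H, H⁆) := norm_comm hn.2 hn.2
  have d := SD_deg_of_der_le hn (V := H) (le_refl ⁅H, H⁆)
  have sX : SD h.le Z ⊥ ⊆ SD h.le H ⊥ := SD_sub_all hn hZH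
  have sY : SD h.le H ⁅H, H⁆ ⊆ SD h.le H ⊥ := SD_sub_bot
  obtain ⟨ν, hν⟩ := hS.uniform_sub sY (SD_conj hn) fun φ hφ ψ hψ => by rw [d _ hφ, d _ hψ]
  obtain ⟨η, hη⟩ := SD_nonempty hn hn.2 nH' hH le_rfl
  have coh := sibley_XY h oddL ti hS nZ ntZ hZ hZ' hH frob hν hη hall (hAB.elim
    (fun a => sibley_constA h ti hS nZ hZ hZ' hν hη a.2)
    fun a => sibley_constB h oddL hZ hZ' frob hν hη a.1)
  have dη : deg η = H.relIndex L := deg_eq (d _ hη)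
  refine hS.extend_all (Finset.union_subset sX sY) (fun χ hχ => ?_) coh
    (Finset.mem_union_right _ hη) le_rfl fun χ hχ nχ => ⟨dη ▸ SD_index_dvd hn hχ, ?_⟩
  · rw [Finset.mem_union] at hχ ⊢
    exact hχ.imp (SD_conj hn _) (SD_conj hn _)
  refine lt_of_lt_of_le ?_ (Finset.sum_le_sum_of_subset_of_nonneg Finset.subset_union_left
    fun φ _ _ => div_nonneg (sq_nonneg _) (nrm_nonneg _))
  rw [Finset.mem_union, not_or] at nχ
  obtain ⟨θ, hθ, t1, -, rfl⟩ := mem_SD.1 hχ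
  have ow : Odd (H.relIndex L) := odd_relIndex_of_le oddL h.le le_rfl
  have zlt : ⊥ < Z := bot_lt_iff_ne_bot.2 ntZ
  have z1 := one_lt_relIndex' zlt
  have a1 := one_lt_relIndex' (hZ'.trans_lt hH)
  have num : 4 * H.relIndex L ^ 2 < Z.relIndex H * ((⊥ : Subgroup G).relIndex Z - 1) ^ 2 := by
    rcases hAB with ⟨a, -⟩ | ⟨-, a⟩
    · have h1 := dvd_of_SD_irr hn nZ (norm_bot _) bot_le hZH (SD_irr_of_cent hn nZ hZ a)
      have h2 := two_mul_lt_of_odd ow (odd_relIndex_of_le oddL bot_le (hZH.trans h.le)) z1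
        ((hall.symm.coprime_dvd_right (Dvd.intro_left _ (card_mul_relIndex hZH))).dvd_of_dvd_mul_left h1)
      have h3 : (2 * H.relIndex L) ^ 2 ≤ ((⊥ : Subgroup G).relIndex Z - 1) ^ 2 :=
        Nat.pow_le_pow_left (by omega) 2
      have := relIndex_pos H L
      nlinarith
    · have lt : Z < ⁅H, H⁆ := hZ'.lt_of_ne fun e => by
        refine nχ.2 (mem_SD.2 ⟨θ, hθ, t1, ?_, rfl⟩)
        by_contra f
        exact nχ.1 (mem_SD.2 ⟨θ, hθ, e ▸ f, by simp, rfl⟩)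
      have h1 := two_mul_lt_of_odd ow (odd_relIndex_of_le oddL hZ' (hH.le.trans h.le))
        (one_lt_relIndex' lt) (dvd_of_frob_mod hn nH' nZ hZ' hH.le a)
      have h2 := two_mul_lt_of_odd ow (odd_relIndex_of_le oddL hH.le h.le)
        (one_lt_relIndex' hH) (dvd_of_frob_mod hn hn.2 nH' hH.le le_rfl frob)
      rw [relIndex_mul' hZ' hH.le]
      have := Nat.mul_le_mul h1 h2
      have h3 : 1 ≤ ((⊥ : Subgroup G).relIndex Z - 1) ^ 2 := Nat.one_le_pow _ _ (by omega)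
      nlinarith
  have hb := IsIrr.deg_sq_le_index hθ (Z.subgroupOf H) fun z hz x => by
    have : z * x * z⁻¹ * x⁻¹ = 1 := by
      rw [mul_inv_eq_one, mul_inv_eq_iff_eq_mul]
      exact Subtype.ext ((hZ hz).2 x x.2).symm
    rw [this]; exact one_mem _
  change _ ≤ Z.relIndex H at hb
  rw [sum_SD_sq hn nZ (norm_bot _) bot_le hZH, dη, deg_indA _ (IsIrr.isChar hθ),
    relIndex_mul' bot_le (hZH.trans h.le), relIndex_mul' hZH h.le]
  obtain ⟨u, hu⟩ : ∃ u, (⊥ : Subgroup G).relIndex Z = u + 1 := ⟨_, (Nat.sub_add_cancel z1.le).symm⟩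
  rw [hu] at num ⊢
  rw [Nat.add_sub_cancel] at num
  have w0 := relIndex_pos H L
  generalize H.relIndex L = w at *
  generalize Z.relIndex H = a at *
  generalize deg θ = t at *
  have h1 : 2 * w * t < a * u := by
    refine lt_of_pow_lt_pow_left₀ 2 (Nat.zero_le _) ?_
    nlinarith
  have h2 : w * (2 * w * t) < w * (a * u) := Nat.mul_lt_mul_of_pos_left h1 w0
  have h3 : (w * (2 * w * t) : ℝ) < w * (a * u) := by exact_mod_cast h2
  push_cast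
  linarith

include oddL ti hS hH frob in
theorem sibley_abelian (hab : ⁅H, H⁆ = ⊥) : Coh (SD h.le H ⊥) (dade A L R) :=
  hS.uniform fun φ hφ ψ hψ => by
    rw [SD_deg_of_der_le h.normal hab.le φ hφ, SD_deg_of_der_le h.normal hab.le ψ hψ]

include oddL ti hS hH hHL frob in
theorem sibley_caseA (nilH : Group.IsNilpotent H) (hall : (Nat.card H).Coprime (H.relIndex L))
    (hC : ∀ z ∈ 𝒵(H), z ≠ 1 → L ⊓ 𝒞[z] ≤ H) : Coh (SD h.le H ⊥) (dade A L R) := by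
  by_cases hab : ⁅H, H⁆ = ⊥
  · exact sibley_abelian h oddL ti hS hH frob hab
  have hn := h.normal
  have nZ : L ≤ 𝒩(⁅H, H⁆ ⊓ 𝒵(H)) := norm_inf (norm_comm hn.2 hn.2) (norm_inf hn.2 (norm_cent hn.2))
  have ntZ := meet_center_nil nilH (der_normalIn H) hab
  have hC' : ∀ z ∈ ⁅H, H⁆ ⊓ 𝒵(H), z ≠ 1 → L ⊓ 𝒞[z] ≤ H := fun z hz => hC z hz.2
  exact sibley_final h oddL ti hS nZ ntZ inf_le_right inf_le_left hH frob inferInstance hall
    (Or.inl ⟨hC', (seqIndD_irr_coherence hn inferInstance hS oddL nilH hH hHL frob nZ ntZ inf_le_right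
      (SD_irr_of_cent hn nZ inf_le_right hC')).2⟩)

end Sibley

section Sibley
variable {L H : Subgroup G} {A : Set G} {R : G → Subgroup G} (h : DadeInd L H A R)
  (oddL : Odd (Nat.card L)) (nilH : Group.IsNilpotent H) (ti : NormedTI (sharp H) ⊤ L)
include oddL nilH ti

/-- Peterfalvi (6.8), case (c1).  (On `ℤ[S, L^#]` the map `dade A L R` is induction, see
`DadeInd.dade_eq_ind`; for `τ = Ind` use `dadeInd_of_TI` and `CohWith.congr`.) -/
theorem Sibley_coherence_Frob {W₁ : Subgroup G} (frob : IsFrob L H W₁) :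
    Coh (SD h.le H ⊥) (dade A L R) := by
  have hn := h.normal
  obtain ⟨R', hS⟩ := irr_subcoh (h.isoOn.mono (SD_sub_ST _ H ⊥)) (IsFrob_irr frob) (SD_conj hn)
    (SD_conj_ne hn oddL)
  have cop := Frobenius_coprime frob
  refine sibley_caseA h oddL ti hS (der_lt_of_sol inferInstance frob.2.1)
    (h.le.lt_of_ne fun e => frob.2.2.1 ?_)
    (frob_mod_of_cent_le frob.1 cop (norm_comm hn.2 hn.2) (der_le _) fun x hx hx1 => by
      rw [frob.2.2.2 x hx hx1]; exact bot_le) nilH (by rwa [frob.1.1.relIndex_left])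
    fun z hz hz1 => Frobenius_cent1_ker frob hz.1 hz1
  rw [← frob.1.inf_eq, inf_eq_right.2 (e ▸ frob.1.right_le)]

/-- Peterfalvi (6.8), case (c2) -/
theorem Sibley_coherence_prime {W₁ W₂ : Type*} [Group W₁] [Finite W₁] [Group W₂] [Finite W₂]
    {e : W₁ × W₂ →* L} (hP : PrimeDade L (Subgroup.inclusion h.le) e (H.subgroupOf L) A R)
    (pW₂ : (Nat.card W₂).Prime) (hW₂ : ∀ y, (e (1, y) : G) ∈ ⁅H, H⁆) :
    Coh (SD h.le H ⊥) (dade A L R) := by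
  have hn := h.normal
  haveI := nInj hn
  obtain ⟨R', hS, -⟩ := hP.subcoh (S := SD h.le H ⊥) (seqIndD_mono le_rfl bot_le) (SD_conj hn) (SD_conj_ne hn oddL)
  let e₁ : W₁ →* G := L.subtype.comp (e.comp (MonoidHom.inl _ _))
  let e₂ : W₂ →* G := L.subtype.comp (e.comp (MonoidHom.inr _ _))
  have i₁ : Function.Injective e₁ := fun x y h => (Prod.mk.inj (hP.inj (Subtype.ext h))).1
  have i₂ : Function.Injective e₂ := fun x y h => (Prod.mk.inj (hP.inj (Subtype.ext h))).2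
  have c₁ : Nat.card e₁.range = Nat.card W₁ := (Nat.card_congr (MonoidHom.ofInjective i₁).toEquiv).symm
  have c₂ : Nat.card e₂.range = Nat.card W₂ := (Nat.card_congr (MonoidHom.ofInjective i₂).toEquiv).symm
  have l₁ : e₁.range ≤ L := by rintro _ ⟨x, rfl⟩; exact (e (x, 1)).2
  have sd : SDProd H e₁.range L := by
    refine ⟨⟨h.le, l₁, eq_bot_iff.2 ?_, fun l hl => ?_⟩, l₁.trans hn.2⟩
    · rintro _ ⟨h1, x, rfl⟩
      obtain rfl := hP.disj x ((mem_range_incl _).2 h1)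
      simp
    · obtain ⟨k, x, hx⟩ := hP.gen ⟨l, hl⟩
      exact ⟨k, k.2, _, ⟨x, rfl⟩, congrArg Subtype.val hx⟩
  have cop : (Nat.card H).Coprime (Nat.card e₁.range) := c₁ ▸ hP.hall.symm
  have cent : ∀ x ∈ e₁.range, x ≠ 1 → H ⊓ 𝒞[x] ≤ e₂.range := by
    rintro _ ⟨x, rfl⟩ hx k ⟨hk, hc⟩
    obtain ⟨y, hy⟩ := hP.cent x (fun f => hx (by simp [f])) ⟨k, hk⟩
      (Subtype.ext (Subgroup.mem_centralizer_singleton_iff.1 hc))
    exact ⟨y, (congrArg Subtype.val hy).symm⟩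
  have l₂ : e₂.range ≤ ⁅H, H⁆ := by rintro _ ⟨y, rfl⟩; exact hW₂ y
  have p₂ : (Nat.card e₂.range).Prime := c₂ ▸ pW₂
  have hH : ⁅H, H⁆ < H := der_lt_of_sol inferInstance
    (ne_bot_mono (l₂.trans (der_le _)) (ne_bot_of_card_prime p₂))
  have hall : (Nat.card H).Coprime (H.relIndex L) := by rwa [sd.1.relIndex_left]
  have hHL : H < L := h.le.lt_of_ne fun f => by
    have := sd.1.relIndex_left
    rw [c₁, f, Subgroup.relIndex_self] at this
    have := hP.three_le1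
    omega
  have frob := frob_mod_of_cent_le sd cop (norm_comm hn.2 hn.2) (der_le _)
    fun x hx hx1 => (cent x hx hx1).trans l₂
  rcases inf_eq_bot_or_le_of_card_prime p₂ 𝒵(H) with a | a
  · refine sibley_caseA h oddL ti hS hH hHL frob nilH hall fun z hz hz1 g ⟨hg, hc⟩ => ?_
    obtain ⟨k, hk, x, hx, rfl⟩ := sd.1.2.2.2 g hg
    by_cases hx1 : x = 1
    · simpa [hx1] using hk
    refine (hz1 (Subgroup.mem_bot.1 (a ▸ Subgroup.mem_inf.2 ⟨cent x hx hx1 ⟨hz.1, ?_⟩, hz⟩))).elim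
    have h1 := Subgroup.mem_centralizer_singleton_iff.1 hc
    have h2 := hz.2 k hk
    refine Subgroup.mem_centralizer_singleton_iff.2 (mul_left_cancel (a := k) ?_)
    rw [← mul_assoc, ← mul_assoc, h1, h2, mul_assoc]
  · have nZ : L ≤ 𝒩(e₂.range) := by
      rw [← sd.sup_eq]
      refine norm_of_cent (sup_le (le_cent_symm (a.trans inf_le_right)) (le_cent_iff_forall.2 ?_))
      rintro _ ⟨x, rfl⟩ _ ⟨y, rfl⟩
      exact congrArg Subtype.val ((hom_prod_mk e x y).symm.trans (hom_prod_mk' e x y))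
    exact sibley_final h oddL ti hS nZ (ne_bot_of_card_prime p₂) a l₂ hH frob inferInstance hall
      (Or.inr ⟨p₂, frob_mod_of_cent_le sd cop nZ (l₂.trans (der_le _)) cent⟩)

end Sibley

end CA.Chr
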