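import Cfsg.Agent.PF.Def09

/-!
# Peterfalvi, section 9: the group-theoretic set-up, (9.3)-(9.6)
-/

set_option autoImplicit false
set_option linter.unusedSectionVars false

open Cfsg CA.FG CA.BG CA.Chr

namespace CA.PF

universe u

variable {G : Type u} [Group G]

theorem mem_centQ {X V : Subgroup G} (hX : X ≤ 𝒩(V)) {g : G} :
    g ∈ centQ X V ↔ g ∈ 𝒩(V) ∧ ∀ x ∈ X, g * x * g⁻¹ * x⁻¹ ∈ V := by
  rw [mem_quotPre]
  refine ⟨fun ⟨h, hc⟩ => ⟨h, fun x hx => ?_⟩, fun ⟨h, hc⟩ => ⟨h, ?_⟩⟩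
  · have := Subgroup.mem_centralizer_iff.1 hc _ (mem_quot_of_mem (hX hx) hx)
    refine (coset_eq_one_iff (x := ⟨g, h⟩ * ⟨x, hX hx⟩ * ⟨g, h⟩⁻¹ * ⟨x, hX hx⟩⁻¹)).1 ?_
    simp only [map_mul, map_inv, ← this]
    group
  · intro y hy
    obtain ⟨x, hx, rfl⟩ := mem_quot.1 hy
    have := (coset_eq_one_iff (x := ⟨g, h⟩ * x * ⟨g, h⟩⁻¹ * x⁻¹)).2 (hc x hx)
    simp only [map_mul, map_inv, mul_inv_eq_iff_eq_mul, one_mul] at this
    exact this.symm

theorem le_centQ_iff {X U V : Subgroup G} (hX : X ≤ 𝒩(V)) (hU : U ≤ 𝒩(V)) :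
    X ≤ centQ U V ↔ ⁅X, U⁆ ≤ V := by
  rw [← quot_le_iff hX, quot_cent_iff hX hU]

/-- The situation of section 9: `M = H U W`, `K = H U`, `H / H₀` a chief factor of exponent `p`,
`C = C_U(H / H₀)`. -/
structure S9 (M K H U W H0 C : Subgroup G) (p : ℕ) : Prop where
  defK : SDProd H U K
  defM : SDProd K W M
  nUW : W ≤ 𝒩(U)
  chief : ChiefFactor M H0 H
  cU : H ⊓ 𝒞(U) ≤ H0
  coH : (Nat.card H).Coprime (Nat.card ↥(U ⊔ W))
  reg : Semiregular U W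
  ntU : U ≠ ⊥
  prW : (Nat.card W).Prime
  derU : ⁅U, U⁆ ≤ 𝒞(H)
  defC : C = U ⊓ centQ H H0
  prp : p.Prime
  abel : ⁅H, H⁆ ≤ H0
  pow : ∀ x ∈ H, x ^ p ∈ H0
  cyc : IsCyclic ↥(H ⊓ 𝒞(W))
  odd : Odd (Nat.card M)
  sol : Group.IsSolvable M

namespace S9

variable [Finite G] {M K H U W H0 C : Subgroup G} {p : ℕ} (h : S9 M K H U W H0 C p)
include h

theorem HK : H ≤ K := h.defK.left_le
theorem UK : U ≤ K := h.defK.right_le
theorem KM : K ≤ M := h.defM.left_le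
theorem WM : W ≤ M := h.defM.right_le
theorem HM : H ≤ M := h.HK.trans h.KM
theorem UM : U ≤ M := h.UK.trans h.KM
theorem nK : K ⊲ M := h.defM.normal
theorem nH : M ≤ 𝒩(H) := h.chief.1.2
theorem nH0 : M ≤ 𝒩(H0) := h.chief.2.2.1
theorem H0H : H0 ≤ H := h.chief.lt.le
theorem CU : C ≤ U := h.defC ▸ inf_le_left
theorem CM : C ≤ M := h.CU.trans h.UM
theorem ntW : W ≠ ⊥ := ne_bot_of_card_prime h.prW
theorem frob : IsFrob (U ⊔ W) U W := isFrob_sup h.nUW h.reg h.ntU h.ntW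
theorem coHU : (Nat.card H).Coprime (Nat.card U) :=
  h.coH.coprime_dvd_right (Subgroup.card_dvd_of_le le_sup_left)
theorem coHW : (Nat.card H).Coprime (Nat.card W) :=
  h.coH.coprime_dvd_right (Subgroup.card_dvd_of_le le_sup_right)
theorem coUW : (Nat.card U).Coprime (Nat.card W) := Frobenius_coprime h.frob
theorem solH : Group.IsSolvable H := sol_of_le h.sol h.HM
theorem solU : Group.IsSolvable U := sol_of_le h.sol h.UM
theorem idxK : K.relIndex M = Nat.card W := h.defM.complIn.relIndex_left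

theorem memC {u : G} : u ∈ C ↔ u ∈ U ∧ ∀ x ∈ H, u * x * u⁻¹ * x⁻¹ ∈ H0 := by
  rw [h.defC, Subgroup.mem_inf, mem_centQ (h.HM.trans h.nH0)]
  exact ⟨fun a => ⟨a.1, a.2.2⟩, fun a => ⟨a.1, h.nH0 (h.UM a.1), a.2⟩⟩

theorem le_C {X : Subgroup G} (hX : X ≤ U) : X ≤ C ↔ ⁅X, H⁆ ≤ H0 := by
  rw [h.defC, le_inf_iff, and_iff_right hX,
    le_centQ_iff (hX.trans (h.UM.trans h.nH0)) (h.HM.trans h.nH0)]

theorem commC : ⁅C, H⁆ ≤ H0 := (h.le_C h.CU).1 le_rfl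

theorem cent_le_C : U ⊓ 𝒞(H) ≤ C :=
  (h.le_C inf_le_left).2 ((comm_eq_bot_iff.2 inf_le_right).le.trans bot_le)

theorem der_le_C : ⁅U, U⁆ ≤ C := (le_inf (der_normalIn U).1 h.derU).trans h.cent_le_C

theorem decK {k : G} (hk : k ∈ K) : ∃ x ∈ H, ∃ u ∈ U, x * u = k :=
  (mem_sup_of_right_le_norm h.defK.norm).1 (h.defK.sup_eq.ge hk)

theorem decM {m : G} (hm : m ∈ M) : ∃ k ∈ K, ∃ w ∈ W, k * w = m :=
  (mem_sup_of_right_le_norm h.defM.norm).1 (h.defM.sup_eq.ge hm)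

theorem norm_of {X : Subgroup G} (h1 : H ≤ 𝒩(X)) (h2 : U ≤ 𝒩(X)) (h3 : W ≤ 𝒩(X)) : M ≤ 𝒩(X) := by
  rw [← h.defM.sup_eq, ← h.defK.sup_eq]
  exact sup_le (sup_le h1 h2) h3

theorem nUU : U ⊔ W ≤ 𝒩(U) := sup_le Subgroup.le_normalizer h.nUW

theorem nC : U ⊔ W ≤ 𝒩(C) := by
  have h1 : U ⊔ W ≤ M := sup_le h.UM h.WM
  rw [h.defC]
  exact norm_inf h.nUU (le_norm_quotPre (h1.trans h.nH0) (norm_cent (quot_norm _ (h1.trans h.nH))))

theorem commHC : ⁅H ⊔ C, H⁆ ≤ H0 :=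
  comm_sup_left_le (h.HM.trans h.nH0) (h.CM.trans h.nH0) h.abel h.commC

theorem H_norm {X : Subgroup G} (h1 : H0 ≤ X) (h2 : X ≤ H ⊔ C) : H ≤ 𝒩(X) :=
  Subgroup.le_normalizer_iff_commutator_le_left.2
    (((Subgroup.commutator_mono h2 le_rfl).trans h.commHC).trans h1)

theorem normal_sup {X Y : Subgroup G} (hX : H0 ≤ X) (hX' : X ≤ H) (nX : U ⊔ W ≤ 𝒩(X)) (hY : Y ≤ C)
    (nY : U ⊔ W ≤ 𝒩(Y)) : X ⊔ Y ⊲ M :=
  ⟨sup_le (hX'.trans h.HM) (hY.trans h.CM), h.norm_of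
    (h.H_norm (hX.trans le_sup_left) (sup_le_sup hX' hY)) (le_sup_left.trans (norm_sup nX nY))
    (le_sup_right.trans (norm_sup nX nY))⟩

theorem nUWH : U ⊔ W ≤ 𝒩(H) := (sup_le h.UM h.WM).trans h.nH
theorem nUWH0 : U ⊔ W ≤ 𝒩(H0) := (sup_le h.UM h.WM).trans h.nH0
theorem nHC : H ⊔ C ⊲ M := h.normal_sup h.H0H le_rfl h.nUWH le_rfl h.nC
theorem nH0C : H0 ⊔ C ⊲ M := h.normal_sup le_rfl h.H0H h.nUWH0 le_rfl h.nC
theorem nH0C' : H0 ⊔ ⁅C, C⁆ ⊲ M :=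
  h.normal_sup le_rfl h.H0H h.nUWH0 (der_normalIn C).1 (norm_comm h.nC h.nC)
theorem nH0U' : H0 ⊔ ⁅U, U⁆ ⊲ M :=
  h.normal_sup le_rfl h.H0H h.nUWH0 h.der_le_C (norm_comm h.nUU h.nUU)

theorem C_ne : C ≠ U := fun e => by
  have h1 := coprime_cent_prod h.defK.norm h.coHU (Or.inl h.solH)
  refine h.chief.lt.not_ge (h1.ge.trans (sup_le ?_ h.cU))
  rw [Subgroup.commutator_comm, ← e]
  exact h.commC

/-- `W` acts fixed point freely on `U / C` -/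
theorem mem_C_of_fix {u : G} (hu : u ∈ U) (hf : ∀ w ∈ W, u⁻¹ * (w * u * w⁻¹) ∈ C) : u ∈ C := by
  obtain ⟨r, hr, hc⟩ := coprime_cent_coset (le_sup_right.trans h.nC)
    (h.coUW.coprime_dvd_left (Subgroup.card_dvd_of_le h.CU)) (Or.inl (sol_of_le h.solU h.CU)) hf
  have : u * r ∈ U ⊓ 𝒞(W) := ⟨mul_mem hu (h.CU hr), hc⟩
  rw [Frobenius_trivg_cent h.frob, Subgroup.mem_bot, mul_eq_one_iff_eq_inv] at this
  exact this ▸ inv_mem hr

theorem card_aux : H0.relIndex H = H0.relIndex (H ⊓ 𝒞(W)) ^ Nat.card W := by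
  have e1 := (Frobenius_Wielandt_fixpoint h.frob h.nUWH h.coH h.solH).1
  have e2 := (Frobenius_Wielandt_fixpoint h.frob h.nUWH0
    (h.coH.coprime_dvd_left (Subgroup.card_dvd_of_le h.H0H)) (sol_of_le h.solH h.H0H)).1
  have e3 : H0 ⊓ 𝒞(U) = H ⊓ 𝒞(U) :=
    le_antisymm (inf_le_inf_right _ h.H0H) (le_inf h.cU inf_le_right)
  have e4 : H0 ⊓ 𝒞(U ⊔ W) = H ⊓ 𝒞(U ⊔ W) := by rw [cent_sup, ← inf_assoc, e3, inf_assoc]
  have e5 := card_inf_mul_relIndex H0 (H ⊓ 𝒞(W))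
  rw [← inf_assoc, inf_eq_left.2 h.H0H] at e5
  rw [e3, e4] at e2
  rw [← card_mul_relIndex h.H0H, ← e5, mul_pow, ← mul_assoc, e2, mul_right_comm] at e1
  exact Nat.eq_of_mul_eq_mul_left (pow_pos Nat.card_pos _) (Nat.eq_of_mul_eq_mul_right Nat.card_pos e1)

theorem card_W2 : H0.relIndex (H ⊓ 𝒞(W)) = p := by
  have h1 : H ⊓ 𝒞(W) ≤ 𝒩(H0) := inf_le_left.trans (h.HM.trans h.nH0)
  have := cyclic_quot H0 h.cyc
  refine ((Nat.dvd_prime h.prp).1 ?_).resolve_left fun e => h.chief.lt.not_ge ?_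
  · rw [← card_quot h1, ← IsCyclic.exponent_eq_card]
    refine Monoid.exponent_dvd_of_forall_pow_eq_one ?_
    rintro ⟨_, x, hx, rfl⟩
    exact Subtype.ext ((map_pow (coset H0) x p).symm.trans (coset_eq_one_iff.2 (h.pow x hx.1)))
  · rw [← Subgroup.relIndex_eq_one, h.card_aux, e, one_pow]

theorem card_H : H0.relIndex H = p ^ Nat.card W := by rw [h.card_aux, h.card_W2]

end S9

variable [MinSimpleOdd G] {M W₁ U W₂ : Subgroup G} (maxM : IsCoatom M)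
  (hP : IsTypePWith M W₁ U W₂) (nt5 : FTtype M ≠ 5)
include maxM hP nt5

namespace P09

theorem coprime_UW : (Nat.card (fittingHallOf M)).Coprime (Nat.card ↥(U ⊔ W₁)) := by
  rw [← (typeP_sdprod_UW1 hP).1.complIn.relIndex_left]
  exact (Fcore_Hall M).2

theorem typeII_IV_core :
    (FTtype M = 2 → fittingHallOf M ⊓ 𝒞(U) = ⊥ ∧
      Nat.card (fittingHallOf M) = Nat.card W₂ ^ Nat.card W₁) ∧
    (FTtype M ≠ 2 → (Nat.card W₂).Prime ∧ fittingHallOf M ⊓ 𝒞(U ⊔ W₁) = ⊥ ∧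
      Nat.card (fittingHallOf M) = Nat.card W₂ ^ Nat.card W₁ * Nat.card ↥(fittingHallOf M ⊓ 𝒞(U))) := by
  have ntU := (compl_of_typeII_IV maxM hP nt5).2.1
  obtain ⟨e1, -, e2⟩ := Frobenius_Wielandt_fixpoint (typeP_Frobenius_UW1 hP ntU)
    (typeP_sdprod_UW1 hP).1.norm (coprime_UW maxM hP nt5) (sol_of_nil (Fcore_nil M))
  rw [typeP_cent_core_compl hP] at e1 e2
  refine ⟨fun h2 => ?_, fun h2 => ?_⟩
  · suffices e : _ from ⟨e, e2 e⟩
    by_contra hne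
    have := (FTtypeI_II_facts maxM h2.le (U := U) (by
      rw [FTder_typeP (FTtypeP_neq1 maxM hP)]; exact typeP_sdprod_der hP)).2.1 U ntU le_rfl hne
    exact (compl_of_typeII maxM hP h2).2.2.1 (sub_uniq_mmax this (cent_le_norm U)
      (mFT_norm_proper ntU (mFT_nil_proper hP.U_nilpotent)))
  · obtain ⟨T, pair, V, hT⟩ := FTtypeP_pair_witness maxM hP
    have pr := (compl_of_typeII pair.maxT hT (pair.type2.resolve_left h2)).1.2.2.1
    suffices e : _ from ⟨pr, e, by simpa [e] using e1⟩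
    refine (eq_bot_or_eq_of_le_card_prime pr ?_).resolve_right fun e => ?_
    · rw [← typeP_cent_core_compl hP]
      exact inf_le_inf_left _ (cent_anti le_sup_right)
    · rw [e] at e1
      have := Subgroup.eq_of_le_of_card_ge (inf_le_left : fittingHallOf M ⊓ 𝒞(U) ≤ _)
        (Nat.eq_of_mul_eq_mul_left (pow_pos Nat.card_pos _) e1).le
      exact typeP_U_not_cent hP ntU (le_cent_symm (this.ge.trans inf_le_right))

theorem Ptype_Fcore_kernel_exists :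
    ChiefFactor M (kerH0 M U) (fittingHallOf M) ∧ fittingHallOf M ⊓ 𝒞(U) ≤ kerH0 M U := by
  have : ∃ H₀, ChiefFactor M H₀ (fittingHallOf M) ∧ fittingHallOf M ⊓ 𝒞(U) ≤ H₀ := by
    have ntU := (compl_of_typeII_IV maxM hP nt5).2.1
    have d := (typeP_sdprod_UW1 hP).1
    have h1 : ⁅fittingHallOf M, fittingHallOf M⁆ ⊔ fittingHallOf M ⊓ 𝒞(U) ≤ fittingHallOf M :=
      sup_le (der_normalIn _).1 inf_le_left
    refine (chiefFactor_exists_below (Fcore_normal M) ?_ (h1.lt_of_ne ?_)).imp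
      fun X a => ⟨a.2, le_sup_right.trans a.1⟩
    · refine d.sup_eq.ge.trans (sup_le (norm_of_comm_le h1 le_sup_left) (norm_sup
        (norm_comm d.norm d.norm) (norm_inf d.norm (norm_cent ?_))))
      exact sup_le Subgroup.le_normalizer hP.U_normal
    · intro e
      have := Phi_nongen (inf_le_left : fittingHallOf M ⊓ 𝒞(U) ≤ _)
        (e.ge.trans (sup_le_sup_right (der1_sub_Phi_of_nil (Fcore_nil M)) _))
      exact typeP_U_not_cent hP ntU (le_cent_symm (this.ge.trans inf_le_right))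
  rw [kerH0, dif_pos this]
  exact this.choose_spec

theorem s9 : S9 M ⁅M, M⁆ (fittingHallOf M) U W₁ (kerH0 M U) (kerC M U) (primeH M U) := by
  obtain ⟨h1, h2⟩ := Ptype_Fcore_kernel_exists maxM hP nt5
  obtain ⟨p, hp, ab⟩ := h1.abelem (sol_of_nil (Fcore_nil M))
  have h3 := compl_of_typeII_IV maxM hP nt5
  have h : S9 M ⁅M, M⁆ (fittingHallOf M) U W₁ (kerH0 M U) (kerC M U) p :=
    { defK := typeP_sdprod_der hP
      defM := typeP_sdprod_M hP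
      nUW := hP.U_normal
      chief := h1
      cU := h2
      coH := coprime_UW maxM hP nt5
      reg := typeP_semiregular_U hP
      ntU := h3.2.1
      prW := h3.2.2.1
      derU := typeP_derU_cent hP
      defC := rfl
      prp := hp
      abel := (quot_abelian_iff h1.normal.2).1 ab.1
      pow := fun x hx => (coset_eq_one_iff (x := ⟨x, h1.normal.2 hx⟩ ^ p)).1
        ((map_pow _ _ _).trans (ab.2 _ (mem_quot_of_mem _ hx)))
      cyc := typeP_cent_core_compl hP ▸ typeP_W2_cyclic hP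
      odd := mFT_odd M
      sol := mmax_sol maxM }
  rwa [primeH, h.card_H, hp.pow_minFac h.prW.ne_zero]

end P09

end CA.PF
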