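import Cfsg.Agent.PF.P09a

/-!
# Peterfalvi (9.7)
-/

set_option autoImplicit false
set_option linter.unusedSectionVars false

open Cfsg CA.FG CA.BG CA.Chr

namespace CA.PF

universe u

variable {G : Type u} [Group G] [Finite G]

open scoped IsMulCommutative in
theorem exists_action {A X N : Subgroup G} (hN : N ⊲ X) (ab : ⁅X, X⁆ ≤ N) (nX : A ≤ 𝒩(X))
    (nN : A ≤ 𝒩(N)) : ∃ (V : Type) (_ : CommGroup V) (_ : Finite V) (π : G → V) (ρ : A →* MulAut V),
      Nat.card V = N.relIndex X ∧ (∀ x ∈ X, ∀ y ∈ X, π (x * y) = π x * π y) ∧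
      (∀ x ∈ X, π x = 1 ↔ x ∈ N) ∧ (∀ v, ∃ x ∈ X, π x = v) ∧
      ∀ a : A, ∀ x ∈ X, ρ a (π x) = π (a * x * (a : G)⁻¹) := by
  classical
  have := (quot_abelian_iff hN.2).2 ab
  let e := (Shrink.mulEquiv.{0} (α := X /ₛ N)).symm
  let π₀ := e.toMonoidHom.comp (imgHom (coset N) hN.2)
  let ρ₀ : A →* MulAut (X /ₛ N) := (X /ₛ N).normalizerMonoidHom.comp
    (((coset N).comp (Subgroup.inclusion nN)).codRestrict _ fun a =>
      quot_norm N nX (mem_quot_of_mem _ a.2))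
  refine ⟨Shrink.{0} (X /ₛ N), inferInstance, Finite.of_equiv _ e.toEquiv,
    fun x => if h : x ∈ X then π₀ ⟨x, h⟩ else 1, (MulAut.congr e).toMonoidHom.comp ρ₀,
    by rw [← card_quot hN.2, Nat.card_congr e.toEquiv], fun x hx y hy => ?_, fun x hx => ?_,
    fun v => ?_, fun a x hx => ?_⟩
  · simp only [dif_pos hx, dif_pos hy, dif_pos (mul_mem hx hy)]
    exact map_mul π₀ ⟨x, hx⟩ ⟨y, hy⟩
  · simp only [dif_pos hx, π₀]
    rw [MonoidHom.comp_apply, MulEquiv.coe_toMonoidHom, map_eq_one_iff _ e.injective,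
      ← MonoidHom.mem_ker, mem_ker_imgHom, pre_coset_bot]
  · obtain ⟨x, hx⟩ := (e.surjective.comp (imgHom_surjective (coset N) hN.2)) v
    exact ⟨x, x.2, (dif_pos x.2).trans hx⟩
  · simp only [dif_pos hx, dif_pos (conj_mem_of_le_norm nX a.2 hx)]
    change e (ρ₀ a (e.symm (e _))) = e _
    rw [e.symm_apply_apply]
    rfl

theorem conjg_centQ {X V : Subgroup G} (hX : X ≤ 𝒩(V)) {g : G} (hg : g ∈ 𝒩(V)) :
    centQ X V :^ g = centQ (X :^ g) V := by
  have := quotPre_conjg (K := V) 𝒞(X /ₛ V) ⟨g, hg⟩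
  rw [conjg_cent, ← quot_conjg] at this
  exact this.symm

theorem relIndex_sup_of_inf {N A B : Subgroup G} (hA : N ≤ A) (n : B ≤ 𝒩(A)) (e : A ⊓ B = N) :
    N.relIndex (A ⊔ B) = N.relIndex A * N.relIndex B := by
  rw [← Subgroup.relIndex_mul_relIndex N A _ hA le_sup_left, relIndex_sup_of_right_le_norm n,
    ← Subgroup.inf_relIndex_right A B, e]

theorem cyclic_quot_of_hom {X N : Subgroup G} (nN : X ≤ 𝒩(N)) {Q : Type*} [Group Q] [IsCyclic Q]
    (f : X →* Q) (hf : f.ker = N.subgroupOf X) : IsCyclic (X /ₛ N) := by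
  have : (N.subgroupOf X).Normal := hf ▸ f.normal_ker
  obtain ⟨e⟩ := quot_equiv_quotient nN
  exact ((QuotientGroup.quotientMulEquivOfEq hf).symm.trans
    (QuotientGroup.quotientKerEquivRange f)).isCyclic.2 inferInstance |> e.isCyclic.1

open scoped IsMulCommutative in
theorem field_of_irr {V : Type*} [AddCommGroup V] [Finite V] [Nontrivial V]
    (S : Set (AddMonoid.End V)) (comm : ∀ a ∈ S, ∀ b ∈ S, a * b = b * a)
    (irr : ∀ X : AddSubgroup V, (∀ a ∈ S, ∀ v ∈ X, a v ∈ X) → X = ⊥ ∨ X = ⊤) :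
    IsField (Subring.closure S) ∧
      ∀ s ≠ 0, Function.Bijective fun f : Subring.closure S => f.1 s := by
  have cm := Subring.isMulCommutative_closure comm
  have inj : ∀ (f : Subring.closure S) (v : V), f.1 v = 0 → f = 0 ∨ v = 0 := fun f v hv => by
    refine (irr (AddMonoidHom.ker f.1) fun a ha w hw => ?_).symm.imp
      (fun e => Subtype.ext (AddMonoidHom.ext fun w => e.ge (AddSubgroup.mem_top w)))
      fun e => e.le hv
    have := congrArg (fun g : Subring.closure S => g.1 w) (mul_comm f ⟨a, Subring.subset_closure ha⟩)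
    exact this.trans ((congrArg a hw).trans (map_zero a))
  have : Finite (AddMonoid.End V) := DFunLike.finite _
  have : NoZeroDivisors (Subring.closure S) := ⟨fun {f g} e => by
    refine or_iff_not_imp_left.2 fun hf => Subtype.ext (AddMonoidHom.ext fun w => ?_)
    exact (inj f _ (congrArg (fun g : Subring.closure S => g.1 w) e)).resolve_left hf⟩
  have : Nontrivial (Subring.closure S) := ⟨0, 1, fun e => by
    obtain ⟨v, hv⟩ := exists_ne (0 : V)
    exact hv (congrArg (fun g : Subring.closure S => g.1 v) e).symm⟩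
  have := NoZeroDivisors.to_isDomain (Subring.closure S)
  refine ⟨Finite.isField_of_domain _, fun s hs => ⟨fun f g e => ?_, fun v => ?_⟩⟩
  · exact sub_eq_zero.1 ((inj (f - g) s (sub_eq_zero.2 e)).resolve_right hs)
  · let ev : Subring.closure S →+ V := AddMonoidHom.mk' (fun f => f.1 s) fun _ _ => rfl
    refine ((irr ev.range ?_).resolve_left fun e => hs (e.le ⟨1, rfl⟩)).ge (AddSubgroup.mem_top v)
    rintro a ha _ ⟨f, rfl⟩
    exact ⟨⟨a, Subring.subset_closure ha⟩ * f, rfl⟩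

theorem exists_conj_ringAut {A W : Type*} [Ring A] [Group W] (σ : W →* A) {S : Set A}
    (hS : ∀ w, ∀ x ∈ S, σ w * x * σ w⁻¹ ∈ S) :
    ∃ η : W →* (Subring.closure S ≃+* Subring.closure S), ∀ w f, (η w f).1 = σ w * f * σ w⁻¹ := by
  have i1 : ∀ w : W, σ w⁻¹ * σ w = 1 := fun w => by simp [← map_mul]
  have i2 : ∀ w : W, σ w * σ w⁻¹ = 1 := fun w => by simp [← map_mul]
  have mem : ∀ (w : W) (f : Subring.closure S), σ w * f * σ w⁻¹ ∈ Subring.closure S := by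
    rintro w ⟨f, hf⟩
    induction hf using Subring.closure_induction with
    | mem _ a => exact Subring.subset_closure (hS w _ a)
    | zero => simp
    | one => simp [i2]
    | add _ _ _ _ a b => simpa only [mul_add, add_mul] using add_mem a b
    | neg _ _ a => simpa only [mul_neg, neg_mul] using neg_mem a
    | mul x y _ _ a b =>
      have := mul_mem a b
      rwa [show ∀ a b : A, a * x * b * (a * y * b) = a * x * (b * a) * y * b from
        fun a b => by simp only [mul_assoc], i1, mul_one, mul_assoc _ x] at this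
  let : MulSemiringAction W (Subring.closure S) :=
    { smul w f := ⟨_, mem w f⟩
      one_smul f := Subtype.ext (by change σ 1 * f * σ 1⁻¹ = f; simp)
      mul_smul a b f := Subtype.ext (by
        change σ (a * b) * f * σ (a * b)⁻¹ = σ a * (σ b * f * σ b⁻¹) * σ a⁻¹
        simp only [mul_inv_rev, map_mul, mul_assoc])
      smul_zero a := Subtype.ext (by change σ a * 0 * σ a⁻¹ = 0; simp)
      smul_add a f g := Subtype.ext (by
        change σ a * (f + g) * σ a⁻¹ = σ a * f * σ a⁻¹ + σ a * g * σ a⁻¹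
        simp only [mul_add, add_mul])
      smul_one a := Subtype.ext (by change σ a * 1 * σ a⁻¹ = 1; rw [mul_one, i2])
      smul_mul a f g := Subtype.ext (by
        change σ a * (f * g) * σ a⁻¹ = σ a * f * σ a⁻¹ * (σ a * g * σ a⁻¹)
        simp only [mul_assoc]
        rw [← mul_assoc (σ a⁻¹), i1, one_mul]) }
  exact ⟨MulSemiringAction.toRingAut W _, fun _ _ => rfl⟩

theorem card_ringAut_le {F : Type*} [Field F] [Fintype F] {p q : ℕ} (hp : p.Prime)
    (h : Fintype.card F = p ^ q) : Nat.card (F ≃+* F) ≤ q := by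
  have := Fact.mk hp
  have := charP_of_card_eq_prime_pow h
  let := ZMod.algebra F p
  have e : Module.finrank (ZMod p) F = q := Nat.pow_right_injective hp.two_le (by
    simpa [h] using (Module.card_eq_pow_finrank (K := ZMod p) (V := F)).symm)
  refine (Nat.card_le_card_of_injective (fun σ : F ≃+* F => AlgEquiv.ofRingEquiv (R := ZMod p) (f := σ)
    fun x => DFunLike.congr_fun (Subsingleton.elim (σ.toRingHom.comp (algebraMap _ _)) _) x)
    fun a b e => RingEquiv.ext fun x => DFunLike.congr_fun e x).trans ?_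
  rw [← e, Nat.card_eq_fintype_card]
  exact AlgEquiv.card_le

/-- the data of (9.7)(b) -/
structure GF (H U W W₂ H0 C : Subgroup G) (p : ℕ) (F : Type) [Field F] [Fintype F] (φ ψ : G → F)
    (η : W →* (F ≃+* F)) : Prop where
  card : Fintype.card F = p ^ Nat.card W
  φ_mul : ∀ x ∈ H, ∀ y ∈ H, φ (x * y) = φ x + φ y
  φ_ker : ∀ x ∈ H, φ x = 0 ↔ x ∈ H0
  φ_surj : ∀ z : F, ∃ x ∈ H, φ x = z
  ψ_mul : ∀ x ∈ U, ∀ y ∈ U, ψ (x * y) = ψ x * ψ y
  ψ_ne : ∀ x ∈ U, ψ x ≠ 0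
  ψ_ker : ∀ x ∈ U, ψ x = 1 ↔ x ∈ C
  act_U : ∀ u ∈ U, ∀ x ∈ H, φ (u * x * u⁻¹) = ψ u * φ x
  η_bij : Function.Bijective η
  act_W : ∀ w : W, ∀ x ∈ H, φ (w * x * (w : G)⁻¹) = η w (φ x)
  prime_field : ∀ x ∈ H, φ x ^ p = φ x ↔ x ∈ W₂ ⊔ H0

/-- the data of (9.7)(a) -/
structure NG (H U W H0 C H₁ : Subgroup G) (p a : ℕ) : Prop where
  le1 : H0 ≤ H₁
  le2 : H₁ ≤ H
  card : H0.relIndex H₁ = p
  norm : U ≤ 𝒩(H₁)
  gen : ⨆ w : W, H₁ :^ w = H
  indep : ∀ w : W, H₁ :^ w ⊓ (H0 ⊔ ⨆ w' : {w' : W // w' ≠ w}, H₁ :^ w') = H0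
  a_def : (U ⊓ centQ H₁ H0).relIndex U = a
  one_lt : 1 < a
  dvd : a ∣ p - 1
  cyc : IsCyclic (U /ₛ (U ⊓ centQ H₁ H0))
  emb : ∃ f : U →* (Fin (Nat.card W - 1) → Multiplicative (ZMod a)), f.ker = C.subgroupOf U

namespace S9

variable {M K H U W H0 C : Subgroup G} {p : ℕ} (h : S9 M K H U W H0 C p)
include h

theorem conj_norm {X : Subgroup G} (n : U ≤ 𝒩(X)) {w : G} (hw : w ∈ W) : U ≤ 𝒩(X :^ w) := by
  rw [← conjg_of_mem_norm (h.nUW hw)]; exact conjg_le_norm_iff.2 n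

theorem le_conj {X : Subgroup G} (n : H0 ≤ X) {w : G} (hw : w ∈ M) : H0 ≤ X :^ w := by
  rw [← conjg_of_mem_norm (h.nH0 hw)]; exact conjg_mono _ n

theorem conj_le {X : Subgroup G} (n : X ≤ H) {w : G} (hw : w ∈ M) : X :^ w ≤ H :=
  conjg_le_of_mem_norm n (h.nH hw)

theorem idx_conj (X : Subgroup G) {w : G} (hw : w ∈ M) : H0.relIndex (X :^ w) = H0.relIndex X := by
  rw [← relIndex_conjg H0 X w, conjg_of_mem_norm (h.nH0 hw)]

theorem mem_C_of_forall {H₁ : Subgroup G} (le2 : H₁ ≤ H) (gen : ⨆ w : W, H₁ :^ w = H) {u : G}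
    (hu : u ∈ U) (hc : ∀ w ∈ W, w⁻¹ * u * w ∈ centQ H₁ H0) : u ∈ C := by
  have h1 : Subgroup.zpowers u ≤ U := Subgroup.zpowers_le.2 hu
  have h2 := fun w : W => (h.conj_le le2 (h.WM w.2)).trans (h.HM.trans h.nH0)
  refine (h.le_C h1).2 ?_ (Subgroup.mem_zpowers u)
  rw [Subgroup.commutator_comm, ← gen]
  refine comm_iSup_left_le h2 fun w => ?_
  rw [Subgroup.commutator_comm, ← le_centQ_iff (h1.trans (h.UM.trans h.nH0)) (h2 w),
    Subgroup.zpowers_le, ← conjg_centQ (le2.trans (h.HM.trans h.nH0)) (h.nH0 (h.WM w.2))]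
  exact mem_conjg.2 (hc w w.2)

theorem C_le_centQ {X : Subgroup G} (hX : X ≤ H) : C ≤ centQ X H0 :=
  (le_centQ_iff (h.CM.trans h.nH0) (hX.trans (h.HM.trans h.nH0))).2
    ((Subgroup.commutator_mono le_rfl hX).trans h.commC)

theorem exists_H1 (ng : ¬ ∀ X, H0 ≤ X → X < H → U ≤ 𝒩(X) → X = H0) :
    ∃ H₁, H0 ≤ H₁ ∧ H₁ ≤ H ∧ H0.relIndex H₁ = p ∧ U ≤ 𝒩(H₁) ∧ ⨆ w : W, H₁ :^ w = H ∧
      ∀ w : W, H₁ :^ w ⊓ (H0 ⊔ ⨆ w' : {w' : W // w' ≠ w}, H₁ :^ w') = H0 := by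
  classical
  push Not at ng
  obtain ⟨X, h1, h2, h3, h4⟩ := ng
  obtain ⟨H₁, h5, ⟨h6, h7⟩, h8⟩ := exists_min_subgroup (P := fun Y => H0 < Y ∧ U ≤ 𝒩(Y))
    ⟨h1.lt_of_ne' h4, h3⟩
  have lt := h5.trans_lt h2
  have mn : ∀ (w : W) (Y : Subgroup G), H0 ≤ Y → U ≤ 𝒩(Y) → Y ⊓ H₁ :^ w = H0 ∨ H₁ :^ w ≤ Y := by
    intro w Y a b
    have w' := h.WM (inv_mem w.2)
    refine (eq_or_lt_of_le (le_inf (h.le_conj a w') h6.le)).imp (fun e => ?_) fun e => ?_
    · rw [← conjg_of_mem_norm (h.nH0 (h.WM w.2)), e, conjg_inf, conjg_cancel_inv]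
    · exact conjg_le_iff.2 (inf_eq_right.1
        (h8 _ ⟨e, norm_inf (h.conj_norm b (inv_mem w.2)) h7⟩ inf_le_right))
  have nP : ∀ s : Finset W, U ≤ 𝒩(H0 ⊔ s.sup fun w => H₁ :^ w) := fun s => by
    rw [Finset.sup_eq_iSup]
    exact norm_sup (h.UM.trans h.nH0) (norm_iSup fun w => norm_iSup fun _ => h.conj_norm h7 w.2)
  have lP : ∀ s : Finset W, (H0 ⊔ s.sup fun w => H₁ :^ w) ≤ H := fun s =>
    sup_le h.H0H (Finset.sup_le fun w _ => h.conj_le lt.le (h.WM w.2))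
  have key : ∀ s : Finset W, ∃ k ≤ s.card,
      H0.relIndex (H0 ⊔ s.sup fun w => H₁ :^ w) = H0.relIndex H₁ ^ k := by
    intro s
    induction s using Finset.induction_on with
    | empty => exact ⟨0, le_rfl, by simp⟩
    | insert w s hw ih =>
      obtain ⟨k, k1, k2⟩ := ih
      rw [Finset.sup_insert, Finset.card_insert_of_notMem hw, sup_comm (H₁ :^ w), ← sup_assoc]
      rcases mn w _ le_sup_left (nP s) with e | e
      · refine ⟨k + 1, by omega, ?_⟩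
        rw [relIndex_sup_of_inf le_sup_left ((h.conj_le lt.le (h.WM w.2)).trans
          (h.H_norm le_sup_left ((lP s).trans le_sup_left))) e, k2, h.idx_conj _ (h.WM w.2), pow_succ]
      · exact ⟨k, by omega, by rw [sup_eq_left.2 e, k2]⟩
  have l0 : H₁ ≤ ⨆ w : W, H₁ :^ w := le_iSup_of_le 1 (by simp)
  have l1 : ⨆ w : W, H₁ :^ w ≤ H := iSup_le fun w => h.conj_le lt.le (h.WM w.2)
  have gen : ⨆ w : W, H₁ :^ w = H := by
    refine l1.eq_of_not_lt fun l => h6.not_ge (l0.trans (h.chief.2.2.2 _ (h6.le.trans l0) l ?_).le)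
    refine h.norm_of (h.H_norm (h6.le.trans l0) (l1.trans le_sup_left))
      (norm_iSup fun w => h.conj_norm h7 w.2) (le_norm_of_conjg_le fun v hv => ?_)
    rw [conjg_iSup]
    exact iSup_le fun w => le_iSup_of_le (⟨v, hv⟩ * w) (conjg_mul ..).ge
  have := Fintype.ofFinite W
  have cp : H0.relIndex H₁ = p := by
    obtain ⟨k, -, k2⟩ := key Finset.univ
    rw [Finset.sup_univ_eq_iSup, gen, sup_eq_right.2 h.H0H, h.card_H] at k2
    obtain ⟨m, -, hm⟩ := (Nat.dvd_prime_pow h.prp).1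
      (h.card_H ▸ relIndex_dvd_relIndex_of_le h6.le lt.le)
    rw [hm, ← pow_mul] at k2
    rcases (Nat.dvd_prime h.prW).1 ⟨k, Nat.pow_right_injective h.prp.two_le k2⟩ with e | e
    · rw [hm, e, pow_one]
    · rw [e, ← h.card_H, ← Subgroup.relIndex_mul_relIndex H0 H₁ H h6.le lt.le,
        left_eq_mul₀ (relIndex_pos _ _).ne', Subgroup.relIndex_eq_one] at hm
      exact absurd hm lt.not_ge
  refine ⟨H₁, h6.le, lt.le, cp, h7, gen, fun w => ?_⟩
  have e : ⨆ w' : {w' : W // w' ≠ w}, H₁ :^ w' = (Finset.univ.erase w).sup fun w => H₁ :^ w := by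
    simp [Finset.sup_eq_iSup, iSup_subtype]
  rw [e, inf_comm]
  refine (mn w _ le_sup_left (nP _)).resolve_right fun l => ?_
  obtain ⟨k, k1, k2⟩ := key (Finset.univ.erase w)
  rw [(lP _).antisymm (gen.ge.trans (iSup_le fun v => ?_)), h.card_H, cp] at k2
  · have := Nat.pow_right_injective h.prp.two_le k2
    rw [Finset.card_erase_of_mem (Finset.mem_univ _), Finset.card_univ, ← Nat.card_eq_fintype_card] at k1
    have := h.prW.pos
    omega
  · by_cases hv : v = w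
    · exact hv ▸ l
    · exact le_sup_of_le_right (Finset.le_sup (f := fun w : W => H₁ :^ w) (by simpa using hv))

theorem exists_NG (ng : ¬ ∀ X, H0 ≤ X → X < H → U ≤ 𝒩(X) → X = H0) :
    ∃ H₁ a, NG H U W H0 C H₁ p a := by
  classical
  obtain ⟨H₁, h1, h2, h3, h4, h5, h6⟩ := h.exists_H1 ng
  have n1 : H₁ ≤ 𝒩(H0) := h2.trans (h.HM.trans h.nH0)
  obtain ⟨V, _, _, π, ρ, c1, c2, c3, c4, c5⟩ := exists_action ⟨h1, n1⟩
    ((Subgroup.commutator_mono h2 h2).trans h.abel) h4 (h.UM.trans h.nH0)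
  have := Fact.mk h.prp
  rw [h3] at c1
  have := isCyclic_of_prime_card c1
  have : IsCyclic (MulAut V) := (IsCyclic.mulAutMulEquiv V).isCyclic.2 (by rw [c1]; infer_instance)
  have p1 : π 1 = 1 := (c3 1 (one_mem _)).2 (one_mem _)
  have pi : ∀ x ∈ H₁, π x⁻¹ = (π x)⁻¹ := fun x hx =>
    eq_inv_of_mul_eq_one_left (by rw [← c2 _ (inv_mem hx) _ hx, inv_mul_cancel, p1])
  have hk : ρ.ker = (U ⊓ centQ H₁ H0).subgroupOf U := by
    ext u
    have e : ∀ x ∈ H₁, u * x * (u : G)⁻¹ * x⁻¹ ∈ H0 ↔ ρ u (π x) = π x := fun x hx => by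
      have := conj_mem_of_le_norm h4 u.2 hx
      rw [← c3 _ (mul_mem this (inv_mem hx)), c2 _ this _ (inv_mem hx), pi x hx, mul_inv_eq_one, c5 u x hx]
    rw [MonoidHom.mem_ker, Subgroup.mem_subgroupOf, Subgroup.mem_inf, mem_centQ n1]
    refine ⟨fun a => ⟨u.2, h.nH0 (h.UM u.2), fun x hx => (e x hx).2 (by rw [a]; rfl)⟩,
      fun a => MulEquiv.ext fun v => ?_⟩
    obtain ⟨x, hx, rfl⟩ := c4 v
    exact (e x hx).1 (a.2.2 x hx)
  have ha : (U ⊓ centQ H₁ H0).relIndex U = Nat.card ρ.range := by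
    rw [← Subgroup.index_ker, hk]; rfl
  have nU1 : U ≤ 𝒩(U ⊓ centQ H₁ H0) := norm_inf Subgroup.le_normalizer
    (le_norm_quotPre (h.UM.trans h.nH0) (norm_cent (quot_norm _ h4)))
  refine ⟨H₁, _, h1, h2, h3, h4, h5, h6, rfl, ?_, ?_, cyclic_quot_of_hom nU1 ρ hk, ?_⟩
  · refine lt_of_le_of_ne (relIndex_pos _ _) fun e => h.C_ne (h.CU.antisymm fun u hu => ?_)
    exact h.mem_C_of_forall h2 h5 hu fun w hw =>
      (Subgroup.relIndex_eq_one.1 e.symm (conj_mem_of_le_norm' h.nUW hw hu)).2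
  · rw [ha, ← Nat.totient_prime h.prp, ← c1, ← IsCyclic.card_mulAut]
    exact Subgroup.card_subgroup_dvd_card _
  · rw [ha]
    let l := (zmodCyclicMulEquiv (G := ρ.range) inferInstance).symm.toMonoidHom.comp ρ.rangeRestrict
    have hl : ∀ u : U, l u = 1 ↔ (u : G) ∈ centQ H₁ H0 := fun u => by
      simp only [l, MonoidHom.comp_apply, MulEquiv.coe_toMonoidHom, EmbeddingLike.map_eq_one_iff]
      rw [← MonoidHom.mem_ker, MonoidHom.ker_rangeRestrict, hk, Subgroup.mem_subgroupOf]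
      exact and_iff_right u.2
    let σ : W →* MulAut U := U.normalizerMonoidHom.comp (Subgroup.inclusion h.nUW)
    have := Fintype.ofFinite W
    have e : Fin (Nat.card W - 1) ≃ {w : W // w ≠ 1} := (Finite.equivFinOfCardEq (by
      simp [Nat.card_eq_fintype_card])).symm
    refine ⟨MonoidHom.pi fun i => l.comp (σ (e i)).toMonoidHom, Subgroup.ext fun u => ?_⟩
    rw [MonoidHom.mem_ker, Subgroup.mem_subgroupOf]
    refine ⟨fun a => ?_, fun a => funext fun i =>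
      (hl _).2 (h.C_le_centQ h2 (conj_mem_of_le_norm (le_sup_right.trans h.nC) (e i).1.2 a))⟩
    have a1 : ∀ w : W, w ≠ 1 → l (σ w u) = 1 := fun w hw => by
      simpa using congrFun a (e.symm ⟨w, hw⟩)
    let P := ∏ w : W, l.comp (σ w).toMonoidHom
    have hP : ∀ u, P u = ∏ w : W, l (σ w u) := fun u => MonoidHom.finsetProd_apply ..
    have a2 : U ≤ P.ker.map U.subtype := by
      refine (Frobenius_commg h.frob).ge.trans (Subgroup.commutator_le.2 fun x hx v hv => ?_)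
      refine ⟨⟨x, hx⟩ * σ ⟨v, hv⟩ ⟨x, hx⟩⁻¹, ?_, by
        simp [σ, commutatorElement_def, mul_assoc]⟩
      rw [SetLike.mem_coe, MonoidHom.mem_ker, map_mul, hP (σ _ _),
        ← Equiv.prod_comp (Equiv.mulRight (⟨v, hv⟩ : W)⁻¹)]
      simp [← MulAut.mul_apply, ← map_mul, ← hP]
    obtain ⟨u', a3, a4⟩ := a2 u.2
    obtain rfl : u' = u := Subtype.ext a4
    rw [SetLike.mem_coe, MonoidHom.mem_ker, hP, Finset.prod_eq_single 1 (fun w _ => a1 w) (by simp)] at a3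
    refine h.mem_C_of_forall h2 h5 u'.2 fun w hw => ?_
    have : l (σ ⟨w, hw⟩⁻¹ u') = 1 := by
      by_cases e : (⟨w, hw⟩ : W)⁻¹ = 1
      · rwa [e]
      · exact a1 _ e
    simpa [σ] using (hl _).1 this

theorem exists_GF (gal : ∀ X, H0 ≤ X → X < H → U ≤ 𝒩(X) → X = H0) :
    ∃ (F : Type) (_ : Field F) (_ : Fintype F) (φ ψ : G → F) (η : W →* (F ≃+* F)),
      GF H U W (H ⊓ 𝒞(W)) H0 C p F φ ψ η := by
  classical
  obtain ⟨V₀, _, _, π₀, ρ₀, c1, c2, c3, c4, c5⟩ := exists_action h.chief.normal h.abel h.nH h.nH0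
  let V := Additive V₀
  let π : G → V := fun x => Additive.ofMul (π₀ x)
  let ρ : M →* AddMonoid.End V :=
    { toFun m := MonoidHom.toAdditive (ρ₀ m).toMonoidHom
      map_one' := by rw [map_one]; rfl
      map_mul' a b := by rw [map_mul]; rfl }
  replace c2 : ∀ x ∈ H, ∀ y ∈ H, π (x * y) = π x + π y := c2
  replace c3 : ∀ x ∈ H, π x = 0 ↔ x ∈ H0 := c3
  replace c4 : ∀ v, ∃ x ∈ H, π x = v := c4
  replace c5 : ∀ a : M, ∀ x ∈ H, ρ a (π x) = π (a * x * (a : G)⁻¹) := c5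
  replace c1 : Nat.card V = p ^ Nat.card W := c1.trans h.card_H
  clear_value ρ π
  have p1 : π 1 = 0 := (c3 1 (one_mem _)).2 (one_mem _)
  have pi : ∀ x ∈ H, π x⁻¹ = -π x := fun x hx =>
    eq_neg_of_add_eq_zero_left (by rw [← c2 _ (inv_mem hx) _ hx, inv_mul_cancel, p1])
  have hk : ∀ u : M, (u : G) ∈ U → (ρ u = 1 ↔ (u : G) ∈ C) := fun u hu => by
    have e : ∀ x ∈ H, u * x * (u : G)⁻¹ * x⁻¹ ∈ H0 ↔ ρ u (π x) = π x := fun x hx => by
      have := conj_mem_of_le_norm h.nH u.2 hx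
      rw [← c3 _ (mul_mem this (inv_mem hx)), c2 _ this _ (inv_mem hx), pi x hx, add_neg_eq_zero,
        c5 u x hx]
    rw [h.memC]
    refine ⟨fun a => ⟨hu, fun x hx => (e x hx).2 (by rw [a]; rfl)⟩,
      fun a => AddMonoidHom.ext fun v => ?_⟩
    obtain ⟨x, hx, rfl⟩ := c4 v
    exact (e x hx).1 (a.2 x hx)
  obtain ⟨s, hs, hs0⟩ : ∃ s ∈ H ⊓ 𝒞(W), s ∉ H0 := SetLike.not_le_iff_exists.1 fun e =>
    h.prp.one_lt.ne' (h.card_W2.symm.trans (Subgroup.relIndex_eq_one.2 e))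
  have s0 : π s ≠ 0 := mt (c3 s hs.1).1 hs0
  have : Nontrivial V := ⟨_, _, s0⟩
  let iU := Subgroup.inclusion h.UM
  let iW := Subgroup.inclusion h.WM
  obtain ⟨hF, hb⟩ := field_of_irr (Set.range (ρ.comp iU)) (by
      rintro _ ⟨a, rfl⟩ _ ⟨b, rfl⟩
      have := (hk (iU (a * b * a⁻¹ * b⁻¹)) (a * b * a⁻¹ * b⁻¹).2).2
        (h.der_le_C (Subgroup.commutator_mem_commutator a.2 b.2))
      rw [← map_mul, ← map_mul, show a * b = a * b * a⁻¹ * b⁻¹ * (b * a) by group, map_mul _ _ (b * a),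
        MonoidHom.comp_apply, this, one_mul]) fun X hX => by
    let Y : Subgroup G :=
      { carrier := {x | x ∈ H ∧ π x ∈ X}
        mul_mem' := fun a b => ⟨mul_mem a.1 b.1, c2 _ a.1 _ b.1 ▸ add_mem a.2 b.2⟩
        one_mem' := ⟨one_mem _, p1 ▸ zero_mem _⟩
        inv_mem' := fun a => ⟨inv_mem a.1, pi _ a.1 ▸ neg_mem a.2⟩ }
    refine (lt_or_eq_of_le (show Y ≤ H from fun _ a => a.1)).imp (fun l => ?_) fun e => ?_
    · have := gal Y (fun x hx => ⟨h.H0H hx, (c3 x (h.H0H hx)).2 hx ▸ zero_mem _⟩) l fun u hu =>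
        mem_norm_of_forall fun x hx => ⟨conj_mem_of_le_norm h.defK.norm hu hx.1,
          c5 (iU ⟨u, hu⟩) x hx.1 ▸ hX _ ⟨⟨u, hu⟩, rfl⟩ _ hx.2⟩
      refine eq_bot_iff.2 fun v hv => ?_
      obtain ⟨x, hx, rfl⟩ := c4 v
      exact (c3 x hx).2 (this.le ⟨hx, hv⟩)
    · refine eq_top_iff.2 fun v _ => ?_
      obtain ⟨x, hx, rfl⟩ := c4 v
      exact (e.ge hx).2
  set R := Subring.closure (Set.range (ρ.comp iU))
  let := hF.toField
  let ev := Equiv.ofBijective _ (hb _ s0)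
  have : Finite R := Finite.of_equiv _ ev.symm
  let := Fintype.ofFinite R
  have cF : Fintype.card R = p ^ Nat.card W := by
    rw [← Nat.card_eq_fintype_card, Nat.card_congr ev, c1]
  obtain ⟨η, hη⟩ := exists_conj_ringAut (ρ.comp iW) (S := Set.range (ρ.comp iU)) (by
    rintro w _ ⟨u, rfl⟩
    exact ⟨⟨w * u * w⁻¹, conj_mem_of_le_norm h.nUW w.2 u.2⟩, by
      simp only [MonoidHom.comp_apply, ← map_mul]; rfl⟩)
  replace hη : ∀ w f, (η w f).1 = ρ (iW w) * f * ρ (iW w⁻¹) := hη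
  let φ : G → R := fun x => ev.symm (π x)
  have hφ : ∀ x, (φ x).1 (π s) = π x := fun x => ev.apply_symm_apply _
  have φm : ∀ x ∈ H, ∀ y ∈ H, φ (x * y) = φ x + φ y := fun x hx y hy =>
    ev.injective ((hφ _).trans ((c2 x hx y hy).trans (by rw [← hφ x, ← hφ y]; rfl)))
  have φk : ∀ x ∈ H, φ x = 0 ↔ x ∈ H0 := fun x hx => by
    rw [← c3 x hx, Equiv.symm_apply_eq]; rfl
  have aW : ∀ w : W, ∀ x ∈ H, φ (w * x * (w : G)⁻¹) = η w (φ x) := fun w x hx => by
    refine ev.injective ((hφ _).trans ?_)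
    change _ = (η w (φ x)).1 (π s)
    rw [hη]
    change _ = ρ (iW w) ((φ x).1 (ρ (iW w⁻¹) (π s)))
    rw [c5 _ s hs.1, show (iW w⁻¹ : G) * s = s * iW w⁻¹ from hs.2 _ w⁻¹.2, mul_inv_cancel_right, hφ,
      c5 _ x hx]
    rfl
  have := Fact.mk h.prW
  have ηb : Function.Bijective η := by
    have := isSimpleGroup_of_prime_card (α := W) rfl
    have inj : Function.Injective η := (MonoidHom.ker_eq_bot_iff η).1
      (η.normal_ker.eq_bot_or_eq_top.resolve_right fun e => h.C_ne (h.CU.antisymm fun u hu =>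
        h.mem_C_of_fix hu fun w hw => by
          have := hη ⟨w, hw⟩ ⟨ρ (iU ⟨u, hu⟩), Subring.subset_closure ⟨_, rfl⟩⟩
          rw [show η ⟨w, hw⟩ = 1 from e.ge (Subgroup.mem_top _)] at this
          refine (hk ((iU ⟨u, hu⟩)⁻¹ * (iW ⟨w, hw⟩ * iU ⟨u, hu⟩ * iW ⟨w, hw⟩⁻¹))
            (mul_mem (inv_mem hu) (conj_mem_of_le_norm h.nUW hw hu))).1 ?_
          rw [map_mul, map_mul, map_mul, ← this]
          exact (map_mul ρ ..).symm.trans (by simp)))
    have : Finite (R ≃+* R) := DFunLike.finite _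
    exact inj.bijective_of_nat_card_le (card_ringAut_le h.prp cF)
  have := Fact.mk h.prp
  have := charP_of_card_eq_prime_pow cF
  refine ⟨R, inferInstance, inferInstance, φ,
    fun u => if hu : u ∈ U then ⟨ρ (iU ⟨u, hu⟩), Subring.subset_closure ⟨_, rfl⟩⟩ else 0, η, cF, φm, φk,
    fun z => ?_, fun x hx y hy => ?_, fun x hx e => ?_, fun x hx => ?_, fun u hu x hx => ?_, ηb, aW,
    fun x hx => ⟨fun e => ?_, fun e => ?_⟩⟩
  · obtain ⟨x, hx, e⟩ := c4 (ev z)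
    exact ⟨x, hx, ev.symm_apply_eq.2 e⟩
  · simp only [dif_pos hx, dif_pos hy, dif_pos (mul_mem hx hy)]
    exact Subtype.ext (map_mul (ρ.comp iU) ⟨x, hx⟩ ⟨y, hy⟩)
  · rw [dif_pos hx] at e
    have := map_mul (ρ.comp iU) ⟨x, hx⟩ ⟨x, hx⟩⁻¹
    rw [mul_inv_cancel, map_one, show (ρ.comp iU) ⟨x, hx⟩ = 0 from congrArg Subtype.val e,
      zero_mul] at this
    exact s0 (DFunLike.congr_fun this (π s))
  · rw [dif_pos hx, Subtype.ext_iff]
    exact hk (iU ⟨x, hx⟩) hx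
  · rw [dif_pos hu]
    refine ev.injective ((hφ _).trans ?_)
    change _ = ρ (iU ⟨u, hu⟩) ((φ x).1 (π s))
    rw [hφ, c5 _ x hx]
    rfl
  · obtain ⟨n, hn⟩ := (mem_bot_iff_intCast p R).1 ((Subfield.mem_bot_iff_pow_eq_self R p).2 e)
    let π' : H →* Multiplicative V := MonoidHom.mk' (fun x => .ofAdd (π x)) fun a b => c2 _ a.2 _ b.2
    have e1 : π (s ^ n) = π x := by
      rw [← hφ x, ← hn]
      exact (map_zpow π' ⟨s, hs.1⟩ n).trans (show n • π s = (n : AddMonoid.End V) (π s) by simp)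
    have e2 := zpow_mem hs n
    have := (c3 _ (mul_mem (inv_mem e2.1) hx)).1 (by
      rw [c2 _ (inv_mem e2.1) _ hx, pi _ e2.1, e1, neg_add_cancel])
    simpa using Subgroup.mul_mem_sup e2 this
  · obtain ⟨y, hy, z, hz, rfl⟩ := (mem_sup_of_left_le_norm
      (inf_le_left.trans (h.HM.trans h.nH0))).1 e
    obtain ⟨w, hw⟩ := ηb.2 (frobeniusEquiv R p)
    rw [φm y hy.1 z (h.H0H hz), (φk z (h.H0H hz)).2 hz, add_zero, ← frobeniusEquiv_def, ← hw,
      ← aW w y hy.1, hy.2 w w.2, mul_inv_cancel_right]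

theorem GF_facts {W₂ : Subgroup G} (hW : W₂ ≤ H ⊓ 𝒞(W)) {F : Type} [Field F] [Fintype F] {φ ψ : G → F}
    {η : W →* (F ≃+* F)} (g : GF H U W W₂ H0 C p F φ ψ η) : IsCyclic (U /ₛ C) ∧
      (C.relIndex U).Coprime (p - 1) ∧ C.relIndex U ∣ (p ^ Nat.card W - 1) / (p - 1) := by
  classical
  let f : U →* Fˣ := MonoidHom.mk' (fun u => Units.mk0 (ψ u) (g.ψ_ne u u.2))
    fun a b => Units.ext (g.ψ_mul a a.2 b b.2)
  have hk : f.ker = C.subgroupOf U := Subgroup.ext fun u => Units.ext_iff.trans (g.ψ_ker u u.2)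
  have ha : C.relIndex U = Nat.card f.range := by rw [← Subgroup.index_ker, hk]; rfl
  have co : (C.relIndex U).Coprime (p - 1) := by
    refine Nat.coprime_of_dvd fun r hr h1 h2 => ?_
    have := Fact.mk hr
    obtain ⟨⟨_, u, rfl⟩, hu⟩ := exists_prime_orderOf_dvd_card' r (ha ▸ h1)
    replace hu : orderOf (f u) = r := (Subgroup.orderOf_mk _ _).symm.trans hu
    obtain ⟨x, hx, e⟩ := g.φ_surj (ψ u)
    obtain ⟨s, hs, e1⟩ := g.φ_surj 1
    have e2 : φ x ^ p = φ x := by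
      have := congrArg Units.val (orderOf_dvd_iff_pow_eq_one.1 (hu ▸ h2))
      rw [e, ← Nat.sub_add_cancel h.prp.pos, pow_succ, show ψ u ^ (p - 1) = 1 from this, one_mul]
    obtain ⟨y, hy, z, hz, rfl⟩ := (mem_sup_of_left_le_norm
      (hW.trans (inf_le_left.trans (h.HM.trans h.nH0)))).1 ((g.prime_field x hx).1 e2)
    rw [g.φ_mul y (hW hy).1 z (h.H0H hz), (g.φ_ker z (h.H0H hz)).2 hz, add_zero] at e
    have : f u = 1 := by
      refine hk.ge (h.mem_C_of_fix u.2 fun w hw => ?_)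
      have c := conj_mem_of_le_norm h.nUW hw u.2
      have e3 := g.act_U _ c _ (conj_mem_of_le_norm (h.WM.trans h.nH) hw hs)
      rw [show w * u * w⁻¹ * (w * s * w⁻¹) * (w * u * w⁻¹)⁻¹ = w * (u * s * (u : G)⁻¹) * w⁻¹ by group,
        g.act_W ⟨w, hw⟩ _ (conj_mem_of_le_norm h.defK.norm u.2 hs), g.act_W ⟨w, hw⟩ _ hs,
        g.act_U _ u.2 _ hs, e1, map_one, mul_one, mul_one, ← e, ← g.act_W _ _ (hW hy).1,
        (hW hy).2 w hw, mul_inv_cancel_right, e] at e3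
      refine hk.le (show u⁻¹ * ⟨_, c⟩ ∈ _ from ?_)
      rw [MonoidHom.mem_ker, map_mul, map_inv, inv_mul_eq_one]
      exact Units.ext e3
    rw [this, orderOf_one] at hu
    exact hr.one_lt.ne hu
  refine ⟨cyclic_quot_of_hom (le_sup_left.trans h.nC) f hk, co, Nat.dvd_div_of_mul_dvd
    (co.symm.mul_dvd_of_dvd_of_dvd (by simpa using Nat.sub_dvd_pow_sub_pow p 1 _) ?_)⟩
  rw [ha, ← g.card, ← Nat.card_eq_fintype_card, ← Nat.card_units]
  exact Subgroup.card_subgroup_dvd_card _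

end S9

end CA.PF
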