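import Cfsg.Agent.PF.P09b

/-!
# Peterfalvi, section 9: linear characters of `H / H₀` and the characters above them
-/

set_option autoImplicit false
set_option linter.unusedSectionVars false

open Cfsg CA.FG CA.BG CA.Chr

namespace CA.PF

universe u

variable {G : Type u} [Group G] [Finite G]

/-- the kernel of a linear character of a subgroup -/
def kr {X : Subgroup G} (l : X →* ℂˣ) : Subgroup G := l.ker.map X.subtype

section Kr

variable {H T X N : Subgroup G}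

theorem kr_normal (l : X →* ℂˣ) : kr l ⊲ X := normalIn_map_subtype _

theorem mem_kr {l : X →* ℂˣ} {x : G} (hx : x ∈ X) : x ∈ kr l ↔ l ⟨x, hx⟩ = 1 :=
  ⟨fun ⟨_, h, e⟩ => by subst e; exact h, fun h => ⟨⟨x, hx⟩, h, rfl⟩⟩

theorem le_kr {l : X →* ℂˣ} (h : N ≤ X) : N ≤ kr l ↔ N.subgroupOf X ≤ l.ker :=
  ⟨fun a x hx => (mem_kr x.2).1 (a hx), fun a _ hx => (mem_kr (h hx)).2 (a hx)⟩

theorem le_kr_self {l : X →* ℂˣ} : X ≤ kr l ↔ l = 1 :=
  ⟨fun a => MonoidHom.ext fun x => (mem_kr x.2).1 (a x.2), fun a _ hx => (mem_kr hx).2 (a ▸ rfl)⟩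

theorem kr_comp (h : T ≤ X) (l : X →* ℂˣ) : kr (l.comp (Subgroup.inclusion h)) = T ⊓ kr l :=
  Subgroup.ext fun _ => ⟨fun a => ⟨(kr_normal _).1 a, (mem_kr _).2 ((mem_kr ((kr_normal _).1 a)).1 a)⟩,
    fun a => (mem_kr a.1).2 ((mem_kr (h a.1)).1 a.2)⟩

theorem der_le_kr (l : X →* ℂˣ) : ⁅X, X⁆ ≤ kr l := Subgroup.commutator_le.2 fun x hx y hy =>
  (mem_kr (comm_le_of_le le_rfl le_rfl (Subgroup.commutator_mem_commutator hx hy))).2 (by
    change l (⟨x, hx⟩ * ⟨y, hy⟩ * ⟨x, hx⟩⁻¹ * ⟨y, hy⟩⁻¹) = 1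
    simp only [map_mul, map_inv, mul_inv_cancel_comm, mul_inv_cancel])

theorem mem_centQ' (h : N ⊲ X) {g : G} : g ∈ centQ X N ↔ ∀ x ∈ X, g * x * g⁻¹ * x⁻¹ ∈ N :=
  (mem_centQ h.2).trans (and_iff_right_of_imp fun a => mem_norm_of_forall fun x hx => by
    simpa using mul_mem (a x (h.1 hx)) hx)

theorem le_centQ_kr (l : X →* ℂˣ) : X ≤ centQ X (kr l) :=
  (le_centQ_iff (kr_normal l).2 (kr_normal l).2).2 (der_le_kr l)

theorem mem_inertia_lin (h : H ≤ X) [NormalInj (Subgroup.inclusion h)] (l : H →* ℂˣ) {g : X} :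
    g ∈ inertia (Subgroup.inclusion h) (lin l) ↔ (g : G) ∈ centQ H (kr l) := by
  rw [mem_inertia, mem_centQ' (kr_normal l), funext_iff]
  have e : ∀ x : H, (g : G) * x * (g : G)⁻¹ * (x : G)⁻¹ ∈ kr l ↔
      (lin l ∘ cj (Subgroup.inclusion h) g) x = lin l x := fun x => by
    rw [← coe_cj_inclusion h g x, mem_kr (mul_mem (SetLike.coe_mem _) (inv_mem x.2))]
    change l (cj _ g x * x⁻¹) = 1 ↔ _
    rw [map_mul, map_inv, mul_inv_eq_one, Units.ext_iff]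
    rfl
  exact ⟨fun a x hx => (e ⟨x, hx⟩).2 (a _), fun a x => (e x).1 (a x x.2)⟩

theorem over_lin (h : H ≤ T) (m : T →* ℂˣ) :
    ⟪lin m ∘ Subgroup.inclusion h, lin (m.comp (Subgroup.inclusion h))⟫ ≠ 0 := by
  rw [← lin_comp, IsIrr.dot_self (lin_irr _)]; exact one_ne_zero

section
variable (hT : H ≤ T) (hX : T ≤ X) (nH : X ≤ 𝒩(H)) {l : H →* ℂˣ} (hI : X ⊓ centQ H (kr l) ≤ T)
include nH hI

theorem cl_aux : ∃ (_ : NormalInj (Subgroup.inclusion hT))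
    (_ : NormalInj ((Subgroup.inclusion hX).comp (Subgroup.inclusion hT))),
    inertia ((Subgroup.inclusion hX).comp (Subgroup.inclusion hT)) (lin l) ≤
      (Subgroup.inclusion hX).range :=
  have := normalInj_inclusion (hT.trans hX) nH
  ⟨normalInj_inclusion hT (hX.trans nH), this, fun g hg =>
    (mem_range_incl hX).2 (hI ⟨g.2, (mem_inertia_lin (hT.trans hX) l).1 hg⟩)⟩

theorem cl_irr {ψ : T → ℂ} (hψ : IsIrrCharacter T ψ) (h : ⟪ψ ∘ Subgroup.inclusion hT, lin l⟫ ≠ 0) :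
    IsIrrCharacter X (indA hX ψ) :=
  have ⟨_, _, a⟩ := cl_aux hT hX nH hI
  clifford_corr_irr _ _ (Subgroup.inclusion_injective hX) (lin_irr l) a hψ h

theorem cl_inj {ψ ψ' : T → ℂ} (hψ : IsIrrCharacter T ψ) (hψ' : IsIrrCharacter T ψ')
    (h : ⟪ψ ∘ Subgroup.inclusion hT, lin l⟫ ≠ 0) (h' : ⟪ψ' ∘ Subgroup.inclusion hT, lin l⟫ ≠ 0)
    (e : indA hX ψ = indA hX ψ') : ψ = ψ' :=
  have ⟨_, _, a⟩ := cl_aux hT hX nH hI
  clifford_corr_inj _ _ (Subgroup.inclusion_injective hX) (lin_irr l) a hψ hψ' h h' e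

theorem cl_surj {χ : X → ℂ} (hχ : IsIrrCharacter X χ)
    (h : ⟪χ ∘ Subgroup.inclusion (hT.trans hX), lin l⟫ ≠ 0) :
    ∃ ψ, IsIrrCharacter T ψ ∧ ⟪ψ ∘ Subgroup.inclusion hT, lin l⟫ ≠ 0 ∧ χ = indA hX ψ :=
  have ⟨_, _, a⟩ := cl_aux hT hX nH hI
  clifford_corr_surj _ _ (Subgroup.inclusion_injective hX) (lin_irr l) a hχ h

end

theorem ker_constt (h : T ≤ X) {θ : X → ℂ} (hθ : IsCharacter X θ) {ψ : T → ℂ}
    (hψ : IsIrrCharacter T ψ) (e : ⟪θ ∘ Subgroup.inclusion h, ψ⟫ ≠ 0) (hN : N.subgroupOf X ≤ cfker θ) :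
    N.subgroupOf T ≤ cfker ψ := fun _ hx =>
  IsChar.cfker_le_constt (IsChar.comp hθ _) hψ e (comap_cfker_le _ _ (hN hx))

theorem dot_res_ind_ne (h : T ≤ X) {ψ : T → ℂ} (hψ : IsIrrCharacter T ψ) :
    ⟪indA h ψ ∘ Subgroup.inclusion h, ψ⟫ ≠ 0 := by
  rw [← frob_rec' _ _ (ind_mem_CF _ _), Ne, dot_self_eq_zero]
  exact ind_ne_zero (Subgroup.inclusion_injective h) (IsIrr.deg_ne_zero hψ)

theorem lin_of_der_le {ψ : X → ℂ} (hψ : IsIrrCharacter X ψ) (h : ⁅X, X⁆ ≤ N)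
    (hN : N.subgroupOf X ≤ cfker ψ) : ∃ l : X →* ℂˣ, ψ = lin l :=
  IsIrr.exists_lin_of_comm hψ fun x y => hN (h (Subgroup.commutator_mem_commutator x.2 y.2))

theorem exists_lin_sup (n : T ≤ 𝒩(H)) (ti : H ⊓ T = ⊥) (l : H →* ℂˣ) (hT : T ≤ centQ H (kr l))
    (β : T →* ℂˣ) : ∃ m : ↥(H ⊔ T) →* ℂˣ, m.comp (Subgroup.inclusion le_sup_left) = l ∧
      m.comp (Subgroup.inclusion le_sup_right) = β := by
  have d : ∀ x : ↥(H ⊔ T), ∃ (a : H) (b : T), (a : G) * b = x := fun x =>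
    have ⟨a, ha, b, hb, e⟩ := (mem_sup_of_right_le_norm n).1 x.2
    ⟨⟨a, ha⟩, ⟨b, hb⟩, e⟩
  choose a b e using d
  have un : ∀ (x : ↥(H ⊔ T)) (a' : H) (b' : T), (a' : G) * b' = x → a x = a' ∧ b x = b' := by
    intro x a' b' e'
    have e1 : ((a' : G)⁻¹ * a x) = b' * (b x : G)⁻¹ := by
      rw [inv_mul_eq_iff_eq_mul, ← mul_assoc, e', ← e x, mul_inv_cancel_right]
    have : ((a' : G)⁻¹ * a x) ∈ H ⊓ T :=
      Subgroup.mem_inf.2 ⟨mul_mem (inv_mem a'.2) (a x).2, e1 ▸ mul_mem b'.2 (inv_mem (b x).2)⟩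
    rw [ti, Subgroup.mem_bot] at this
    exact ⟨Subtype.ext (inv_mul_eq_one.1 this).symm, Subtype.ext (mul_inv_eq_one.1 (e1 ▸ this)).symm⟩
  refine ⟨MonoidHom.mk' (fun x => l (a x) * β (b x)) fun x y => ?_, MonoidHom.ext fun x => ?_,
    MonoidHom.ext fun x => ?_⟩
  · have c := conj_mem_of_le_norm n (b x).2 (a y).2
    obtain ⟨e1, e2⟩ := un (x * y) (a x * ⟨_, c⟩) (b x * b y) (by
      rw [Subgroup.coe_mul _ x, ← e x, ← e y]; simp [mul_assoc])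
    have := (mem_kr (mul_mem c (inv_mem (a y).2))).1
      ((mem_centQ' (kr_normal l)).1 (hT (b x).2) _ (a y).2)
    rw [show (⟨_, mul_mem c (inv_mem (a y).2)⟩ : H) = ⟨_, c⟩ * (a y)⁻¹ from rfl, map_mul, map_inv,
      mul_inv_eq_one] at this
    rw [e1, e2, map_mul, map_mul, this, mul_mul_mul_comm]
  · obtain ⟨e1, e2⟩ := un (Subgroup.inclusion le_sup_left x) x 1 (mul_one _)
    simp [e1, e2]
  · obtain ⟨e1, e2⟩ := un (Subgroup.inclusion le_sup_right x) 1 x (one_mul _)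
    simp [e1, e2]

theorem card_linOver' (hd : ⁅X, X⁆ ≤ N) :
    (linOver (N.subgroupOf X)).card = N.relIndex X :=
  card_linOver (by
    rw [commutator_def, Subgroup.commutator_le]
    exact fun x _ y _ => hd (Subgroup.commutator_mem_commutator x.2 y.2))

theorem mem_linOver' (h : N ≤ X) {l : X →* ℂˣ} : l ∈ linOver (N.subgroupOf X) ↔ N ≤ kr l :=
  mem_linOver.trans (le_kr h).symm

end Kr

namespace S9

variable {M K H U W H0 C : Subgroup G} {p : ℕ} (h : S9 M K H U W H0 C p)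
include h

theorem HU_bot {T : Subgroup G} (hT : T ≤ U) : H ⊓ T = ⊥ :=
  eq_bot_iff.2 ((inf_le_inf_left _ hT).trans h.defK.inf_eq.le)

theorem HT_le {T : Subgroup G} (hT : T ≤ U) : H ⊔ T ≤ K := sup_le h.HK (hT.trans h.UK)

theorem HT_inf {T : Subgroup G} (hT : T ≤ U) : (H ⊔ T) ⊓ U = T := by
  rw [inf_comm, inf_sup_of_right_le (Or.inr (hT.trans h.defK.norm)) hT, inf_comm, h.defK.inf_eq,
    bot_sup_eq]

theorem idx_HT {T : Subgroup G} (hT : T ≤ U) : (H ⊔ T).relIndex K = T.relIndex U := by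
  have e1 := card_mul_relIndex (h.HT_le hT)
  rw [← h.defK.card_mul, card_sup_of_inf_eq_bot (Or.inr (hT.trans h.defK.norm)) (h.HU_bot hT),
    ← card_mul_relIndex hT, ← mul_assoc] at e1
  exact Nat.eq_of_mul_eq_mul_left (mul_pos Nat.card_pos Nat.card_pos) e1

theorem idx_HT_M {T : Subgroup G} (hT : T ≤ U) :
    (H ⊔ T).relIndex M = Nat.card W * T.relIndex U := by
  rw [← Subgroup.relIndex_mul_relIndex _ K M (h.HT_le hT) h.KM, h.idx_HT hT, h.idxK, mul_comm]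

theorem inertia_le (l : H →* ℂˣ) {T : Subgroup G} (hT : U ⊓ centQ H (kr l) ≤ T) :
    K ⊓ centQ H (kr l) ≤ H ⊔ T := by
  rw [← h.defK.sup_eq, inf_comm, inf_sup_of_left_le (Or.inr h.defK.norm) (le_centQ_kr l), inf_comm]
  exact sup_le_sup_left hT _

theorem C_le_inertia {l : H →* ℂˣ} (hl : H0 ≤ kr l) : C ≤ centQ H (kr l) := fun _ hu =>
  (mem_centQ' (kr_normal l)).2 fun x hx => hl ((h.memC.1 hu).2 x hx)

theorem exists_constt {θ : K → ℂ} (hθ : IsIrrCharacter K θ) (h1 : ¬ H.subgroupOf K ≤ cfker θ)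
    (h2 : H0.subgroupOf K ≤ cfker θ) :
    ∃ l : H →* ℂˣ, l ≠ 1 ∧ H0 ≤ kr l ∧ ⟪θ ∘ Subgroup.inclusion h.HK, lin l⟫ ≠ 0 := by
  have := normalInj_inclusion h.HK (h.KM.trans h.nH)
  obtain ⟨φ, a, b, c⟩ := exists_constt_res_ne_one (Subgroup.inclusion h.HK) hθ (by rwa [range_incl])
  have d := ker_constt h.HK (IsIrr.isChar hθ) a c h2
  obtain ⟨l, rfl⟩ := lin_of_der_le a h.abel d
  exact ⟨l, fun e => b (e ▸ lin_one), (le_kr h.H0H).2 (cfker_lin l ▸ d), c⟩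

theorem dvd_deg {θ : K → ℂ} (hθ : IsIrrCharacter K θ) {l : H →* ℂˣ}
    (e : ⟪θ ∘ Subgroup.inclusion h.HK, lin l⟫ ≠ 0) {T : Subgroup G} (hT : T ≤ U)
    (hI : U ⊓ centQ H (kr l) ≤ T) : T.relIndex U ∣ deg θ := by
  have := normalInj_inclusion h.HK (h.KM.trans h.nH)
  refine (Dvd.dvd.mul_right ?_ _).trans (clifford_deg_dvd _ hθ (lin_irr l) e)
  rw [← h.idx_HT hT]
  exact Subgroup.index_dvd_of_le fun g hg => h.inertia_le l hI ⟨g.2, (mem_inertia_lin _ l).1 hg⟩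

theorem ind_mem {T N : Subgroup G} (hT : T ≤ U) (m : ↥(H ⊔ T) →* ℂˣ) {l : H →* ℂˣ}
    (e : m.comp (Subgroup.inclusion le_sup_left) = l) (hl : l ≠ 1) (hI : U ⊓ centQ H (kr l) ≤ T)
    (nN : K ≤ 𝒩(N)) (hN : N ≤ kr m) :
    indA ((h.HT_le hT).trans h.KM) (lin m) ∈ SD h.KM H N ∧
      indA ((h.HT_le hT).trans h.KM) (lin m) 1 = Nat.card W * T.relIndex U := by
  subst e
  have h1 := hN.trans (kr_normal m).1
  refine ⟨mem_SD.2 ⟨indA (h.HT_le hT) (lin m), cl_irr le_sup_left _ (h.KM.trans h.nH)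
    (h.inertia_le _ hI) (lin_irr m) (over_lin _ m), fun a => hl ?_, ?_, (indA_indA ..).symm⟩, ?_⟩
  · have := ker_constt _ (IsChar.ind (IsIrr.isChar (lin_irr m)) _) (lin_irr m)
      (dot_res_ind_ne _ (lin_irr m)) a
    rw [cfker_lin] at this
    exact MonoidHom.ext fun x => this (x := Subgroup.inclusion le_sup_left x) x.2
  · have := normalSub nN
    exact le_cfker_ind _ (subOf_le_range _ h1) (Subgroup.inclusion_injective _)
      (cfker_lin m ▸ (le_kr h1).1 hN)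
  · rw [indA_one, h.idx_HT_M hT]; simp

theorem der_HC : ⁅H ⊔ C, H ⊔ C⁆ ≤ H0 ⊔ ⁅C, C⁆ := by
  rw [comm_sup_self (h.CM.trans h.nH), Subgroup.commutator_comm H C]
  exact sup_le_sup_right (sup_le h.abel h.commC) _

theorem deg_le {ζ : M → ℂ} (hζ : ζ ∈ SD h.KM H (H0 ⊔ ⁅C, C⁆)) :
    deg ζ ≤ Nat.card W * C.relIndex U := by
  obtain ⟨θ, h1, -, h3, rfl⟩ := mem_SD.1 hζ
  obtain ⟨ψ, a, b⟩ := exists_constt_res (Subgroup.inclusion (h.HT_le h.CU)) h1
  obtain ⟨m, rfl⟩ := lin_of_der_le a h.der_HC (ker_constt _ (IsIrr.isChar h1) a b h3)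
  have := IsIrr.deg_le_index_mul (Subgroup.inclusion_injective _) h1 a b
  rw [index_range_incl, h.idx_HT h.CU, deg_lin, mul_one] at this
  rw [deg_indA _ (IsIrr.isChar h1), h.idxK]
  exact Nat.mul_le_mul_left _ this

theorem nrm_red {N : Subgroup G} {ζ : M → ℂ} (hζ : ζ ∈ SD h.KM H N) (hr : ¬ IsIrrCharacter M ζ) :
    nrm ζ = Nat.card W := by
  obtain ⟨θ, h1, -, -, rfl⟩ := mem_SD.1 hζ
  have := nInj h.nK
  have e := h.idxK
  rw [← index_range_incl h.KM] at e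
  rw [nrm_ind _ h1, Nat.cast_inj]
  refine ((Nat.dvd_prime h.prW).1 (e ▸ Subgroup.relIndex_dvd_index_of_normal _ _)).resolve_left
    fun a => hr (ind_irr_of_inertia_le _ h1 (Subgroup.relIndex_eq_one.1 a))

theorem sum_sq {D : Subgroup G} (hD : D ≤ C) (nD : U ⊔ W ≤ 𝒩(D)) :
    ∑ φ ∈ SD h.KM H (H0 ⊔ D), (deg φ : ℝ) ^ 2 / nrm φ =
      Nat.card W * D.relIndex U * (p ^ Nat.card W - 1) := by
  have h1 := hD.trans h.CU
  have n1 := h.normal_sup le_rfl h.H0H h.nUWH0 hD nD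
  have n2 := h.normal_sup h.H0H le_rfl h.nUWH hD nD
  have l : H0 ⊔ D ≤ H ⊔ D := sup_le_sup_right h.H0H D
  have e : SD h.KM H (H0 ⊔ D) = SD h.KM (H ⊔ D) (H0 ⊔ D) := by
    refine (SD_mono le_sup_left le_rfl).antisymm fun φ hφ => ?_
    obtain ⟨θ, a, b, c, d⟩ := mem_SD.1 hφ
    refine mem_SD.2 ⟨θ, a, fun f => b ?_, c, d⟩
    rw [Subgroup.subgroupOf_sup h.HK (h1.trans h.UK)]
    exact sup_le f ((Subgroup.subgroupOf_mono K le_sup_right).trans c)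
  have e2 : (H0 ⊔ D).relIndex (H ⊔ D) = p ^ Nat.card W := by
    rw [show H ⊔ D = H0 ⊔ D ⊔ H by rw [sup_right_comm, sup_eq_right.2 h.H0H],
      relIndex_sup_of_right_le_norm (h.HM.trans n1.2), ← Subgroup.inf_relIndex_right, inf_comm,
      inf_sup_of_left_le (Or.inr (h1.trans (h.UM.trans h.nH0))) h.H0H, h.HU_bot h1, sup_bot_eq, h.card_H]
  rw [e, sum_SD_sq h.nK n2.2 n1.2 l (h.HT_le h1), ← Subgroup.relIndex_mul_relIndex _ _ M l n2.1, e2,
    h.idx_HT_M h1]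
  push_cast
  ring

theorem inertia_le_C {l : H →* ℂˣ} (h1 : l ≠ 1) (h2 : H0 ≤ kr l)
    (hX : ∀ X, H0 ≤ X → X < H → U ≤ 𝒩(X) → (W ≤ 𝒩(U ⊓ centQ H (kr l)) → W ≤ 𝒩(X)) → X = H0) :
    U ⊓ centQ H (kr l) ≤ C := by
  have a := (le_centQ_iff (X := U ⊓ centQ H (kr l)) (inf_le_right.trans (quotPre_le_norm _))
    (kr_normal l).2).1 inf_le_right
  refine (h.le_C inf_le_left).2 (le_sup_right.trans (hX (H0 ⊔ _) le_sup_left ?_ ?_ fun n => ?_).le)
  · exact (sup_le h2 a).trans_lt ((kr_normal l).1.lt_of_ne fun e => h1 (le_kr_self.1 e.ge))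
  · exact norm_sup (h.UM.trans h.nH0) (norm_comm (norm_of_comm_le inf_le_left
      (h.der_le_C.trans (le_inf h.CU (h.C_le_inertia h2)))) h.defK.norm)
  · exact norm_sup (h.WM.trans h.nH0) (norm_comm n (h.WM.trans h.nH))

theorem inertia_le_C_fix {l : H →* ℂˣ} (h1 : l ≠ 1) (h2 : H0 ≤ kr l) (h3 : W ≤ centQ H (kr l)) :
    U ⊓ centQ H (kr l) ≤ C :=
  h.inertia_le_C h1 h2 fun X a b c d => h.chief.2.2.2 X a b
    (h.norm_of (h.H_norm a (b.le.trans le_sup_left)) c (d (norm_inf h.nUW (norm_of_le h3))))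

theorem card_fixed : (H0 ⊔ ⁅H, W⁆).relIndex H = p := by
  have n := h.HM.trans h.nH0
  have n' := h.WM.trans h.nH0
  have d := coprime_abelian_cent_dprod (quot_norm H0 (h.WM.trans h.nH)) (coprime_quot H0 h.coHW)
    ((quot_abelian_iff n).2 h.abel)
  rw [← relIndex_quot le_sup_left (sup_le h.H0H (comm_le_left (h.WM.trans h.nH))) n,
    quot_sup_self_left ((comm_le_left (h.WM.trans h.nH)).trans n), quot_comm n n',
    d.complIn.relIndex_left, ← coprime_quotient_cent h.H0H n' h.coHW (Or.inl h.solH),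
    card_quot (inf_le_left.trans n), h.card_W2]

open Classical in
theorem red_core (hle : ((SD h.KM H H0).filter fun ζ => ¬ IsIrrCharacter M ζ).card ≤ p - 1) :
    ((SD h.KM H H0).filter fun ζ => ¬ IsIrrCharacter M ζ).card = p - 1 ∧
    ∀ ζ ∈ SD h.KM H H0, ¬ IsIrrCharacter M ζ → ζ 1 = Nat.card W * C.relIndex U ∧
      ζ ∈ SD h.KM H (H0 ⊔ C) ∧ ∃ m : ↥(H ⊔ C) →* ℂˣ, ζ = indA h.nHC.1 (lin m) := by
  have l0 : H0 ⊔ ⁅H, W⁆ ≤ H := sup_le h.H0H (comm_le_left (h.WM.trans h.nH))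
  have hL : ∀ l ∈ (linOver ((H0 ⊔ ⁅H, W⁆).subgroupOf H)).erase 1,
      l ≠ 1 ∧ H0 ≤ kr l ∧ W ≤ centQ H (kr l) := fun l hl => by
    obtain ⟨a, b⟩ := Finset.mem_erase.1 hl
    rw [mem_linOver' l0, sup_le_iff, Subgroup.commutator_comm] at b
    exact ⟨a, b.1, fun w hw => (mem_centQ' (kr_normal l)).2 fun x hx =>
      b.2 (Subgroup.commutator_mem_commutator hw hx)⟩
  have ex : ∀ l : H →* ℂˣ, ∃ m : ↥(H ⊔ C) →* ℂˣ, H0 ≤ kr l →
      m.comp (Subgroup.inclusion le_sup_left) = l ∧ m.comp (Subgroup.inclusion le_sup_right) = 1 := by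
    intro l
    by_cases hl : H0 ≤ kr l
    · exact (exists_lin_sup (h.CM.trans h.nH) (h.HU_bot h.CU) l (h.C_le_inertia hl) 1).imp
        fun _ a _ => a
    · exact ⟨1, fun a => absurd a hl⟩
  choose m hm using ex
  have i1 := nInj h.nHC
  have i2 := normalInj_inclusion h.HM h.nH
  have k1 : ∀ l, H0 ≤ kr l → kr l ≤ kr (m l) ∧ C ≤ kr (m l) := fun l hl =>
    ⟨by rw [← (hm l hl).1, kr_comp, (hm l hl).1]; exact inf_le_right,
      (le_kr_self.2 (hm l hl).2).trans (by rw [kr_comp]; exact inf_le_right)⟩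
  have P : ∀ l ∈ (linOver ((H0 ⊔ ⁅H, W⁆).subgroupOf H)).erase 1,
      (indA h.nHC.1 (lin (m l)) ∈ SD h.KM H (H0 ⊔ C) ∧
        indA h.nHC.1 (lin (m l)) 1 = Nat.card W * C.relIndex U) ∧
      ¬ IsIrrCharacter M (indA h.nHC.1 (lin (m l))) := fun l hl => by
    obtain ⟨a, b, c⟩ := hL l hl
    refine ⟨h.ind_mem h.CU _ (hm l b).1 a (h.inertia_le_C_fix a b c) (h.KM.trans h.nH0C.2)
      (sup_le (b.trans (k1 l b).1) (k1 l b).2), fun hi => h.ntW (eq_bot_iff.2 fun w hw => ?_)⟩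
    refine h.defM.inf_eq.le ⟨h.HT_le h.CU ((mem_range_incl _).1 (inertia_le_of_ind_irr _ (lin_irr _) hi
      ((mem_inertia_lin _ _ (g := ⟨w, h.WM hw⟩)).2 ((mem_centQ' (kr_normal _)).2 fun x hx => ?_)))), hw⟩
    have n := (kr_normal (m l)).2
    refine comm_sup_right_le (le_sup_left.trans n) (le_sup_right.trans n) ?_
      ((comm_le_right (le_sup_right.trans h.nC)).trans (k1 l b).2)
      (Subgroup.commutator_mem_commutator hw hx)
    exact ((le_centQ_iff (c.trans (quotPre_le_norm _)) (kr_normal l).2).1 c).trans (k1 l b).1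
  have inj : Set.InjOn (fun l => indA h.nHC.1 (lin (m l)))
      ((linOver ((H0 ⊔ ⁅H, W⁆).subgroupOf H)).erase 1 :) := fun l hl l' hl' e => by
    obtain ⟨a, b, c⟩ := hL l hl
    obtain ⟨a', b', c'⟩ := hL l' hl'
    obtain ⟨g, hg⟩ := (mem_cfclass _).1 ((ind_eq_iff _ (lin_irr _) (lin_irr _)).1 e)
    have e1 : lin l ∘ cj (Subgroup.inclusion h.HM) g = lin l' := by
      rw [← (hm l b).1, ← (hm l' b').1, lin_comp, lin_comp, ← hg]
      funext x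
      exact congrArg (lin (m l)) (Subtype.ext (by simp))
    obtain ⟨k, hk, w, hw, e2⟩ := h.decM g⁻¹.2
    obtain ⟨x, hx, u, hu, e3⟩ := h.decK (inv_mem hk)
    have m1 : w⁻¹ * x ∈ centQ H (kr l) := mul_mem (c (inv_mem hw)) (le_centQ_kr l hx)
    have e4 : (g : G) = w⁻¹ * x * u := by
      rw [mul_assoc, e3, ← mul_inv_rev, e2, Subgroup.coe_inv, inv_inv]
    have m2 : u⁻¹ ∈ C := h.mem_C_of_fix (inv_mem hu) fun y hy => h.inertia_le_C_fix a b c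
      (Subgroup.mem_inf.2 ⟨mul_mem (inv_mem (inv_mem hu)) (conj_mem_of_le_norm h.nUW hy (inv_mem hu)), by
        have := (mem_inertia_lin h.HM l' (g := ⟨y, h.WM hy⟩)).2 (c' hy)
        rw [mem_inertia, ← e1, ← comp_cj_mul, comp_cj_eq_iff, mem_inertia_lin] at this
        convert mul_mem (mul_mem (mul_mem (inv_mem m1) this) m1) (c (inv_mem hy)) using 1
        simp [e4, mul_assoc]⟩)
    refine lin_injective (e1 ▸ ((mem_inertia_lin h.HM l).2 ?_).symm)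
    exact e4 ▸ mul_mem m1 (h.C_le_inertia b (inv_mem_iff.1 m2))
  have sub : ((linOver ((H0 ⊔ ⁅H, W⁆).subgroupOf H)).erase 1).image
      (fun l => indA h.nHC.1 (lin (m l))) ⊆ (SD h.KM H H0).filter fun ζ => ¬ IsIrrCharacter M ζ :=
    Finset.image_subset_iff.2 fun l hl =>
      Finset.mem_filter.2 ⟨SD_mono le_rfl le_sup_left (P l hl).1.1, (P l hl).2⟩
  have c := Finset.card_image_of_injOn inj
  rw [Finset.card_erase_of_mem (one_mem_linOver _), card_linOver' (h.abel.trans le_sup_left),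
    h.card_fixed] at c
  have e := Finset.eq_of_subset_of_card_le sub (hle.trans c.ge)
  refine ⟨e ▸ c, fun ζ a b => ?_⟩
  obtain ⟨l, hl, rfl⟩ := Finset.mem_image.1 (e.ge (Finset.mem_filter.2 ⟨a, b⟩))
  exact ⟨(P l hl).1.2, (P l hl).1.1, _, rfl⟩

end S9

theorem realizeEqns_PF_P09c : True := by
  have := @CA.PF.kr.eq_1.{0}
  have := @CA.PF.kr.eq_def.{0}
  have := @CA.PF.kr.congr_simp.{0}
  trivial

end CA.PF
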