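import Cfsg.Agent.PF.P09c

/-!
# Peterfalvi, section 9: the characters in the non-Galois case, (9.8), and in the Galois case, (9.9)
-/

set_option autoImplicit false
set_option linter.unusedSectionVars false

open Cfsg CA.FG CA.BG CA.Chr

namespace CA.PF

universe u

variable {G : Type u} [Group G] [Finite G]

open Classical in
/-- a linear character of a subgroup, extended by `1` -/
noncomputable def ex {X : Subgroup G} (l : X →* ℂˣ) (g : G) : ℂˣ := if h : g ∈ X then l ⟨g, h⟩ else 1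

section Ex

variable {H X : Subgroup G}

theorem ex_eq (l : X →* ℂˣ) {g : G} (h : g ∈ X) : ex l g = l ⟨g, h⟩ := dif_pos h

theorem mem_kr_ex {l : X →* ℂˣ} {x : G} (hx : x ∈ X) : x ∈ kr l ↔ ex l x = 1 := by
  rw [mem_kr hx, ex_eq l hx]

theorem ex_eq_of_centQ {l : X →* ℂˣ} {g x : G} (hg : g ∈ centQ X (kr l)) (hx : x ∈ X) :
    ex l (g * x * g⁻¹) = ex l x := by
  have a := (mem_centQ' (kr_normal l)).1 hg x hx
  have b : g * x * g⁻¹ ∈ X := by simpa using mul_mem ((kr_normal l).1 a) hx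
  rw [mem_kr (mul_mem b (inv_mem hx))] at a
  rw [ex_eq l hx, ex_eq l b, ← mul_inv_eq_one, ← map_inv, ← map_mul]
  exact a

theorem ex_cj (h : H ≤ X) [NormalInj (Subgroup.inclusion h)] {l l' : H →* ℂˣ} {g : X}
    (e : lin l ∘ cj (Subgroup.inclusion h) g = lin l') {x : G} (hx : x ∈ H) :
    ex l (g * x * (g : G)⁻¹) = ex l' x := by
  rw [ex_eq l' hx, ← coe_cj_inclusion h g ⟨x, hx⟩, ex_eq l (SetLike.coe_mem _)]
  exact Units.ext (congrFun e _)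

end Ex

namespace S9

variable {M K H U W H0 C : Subgroup G} {p : ℕ} (h : S9 M K H U W H0 C p)
include h

theorem ext_lin {T : Subgroup G} (hT : T ≤ U) (l : H →* ℂˣ) (hI : T ≤ centQ H (kr l)) (β : T →* ℂˣ) :
    ∃ m : ↥(H ⊔ T) →* ℂˣ, m.comp (Subgroup.inclusion le_sup_left) = l ∧
      m.comp (Subgroup.inclusion le_sup_right) = β ∧ kr l ≤ kr m ∧ kr β ≤ kr m := by
  obtain ⟨m, rfl, rfl⟩ := exists_lin_sup (hT.trans h.defK.norm) (h.HU_bot hT) l hI β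
  exact ⟨m, rfl, rfl, (kr_comp ..).le.trans inf_le_right, (kr_comp ..).le.trans inf_le_right⟩

section NonGalois

variable {H₁ : Subgroup G} {a : ℕ} (n : NG H U W H0 C H₁ p a)
include n

theorem ng_A {l : H →* ℂˣ} (hl : H0 ≤ kr l) {w : G} (hw : w ∈ W) (h1 : ¬ H₁ :^ w ≤ kr l) :
    U ⊓ centQ H (kr l) ≤ (U ⊓ centQ H₁ H0) :^ w := fun u hu => by
  have hu' := conj_mem_of_le_norm' h.nUW hw hu.1
  refine mem_conjg.2 ⟨hu', (mem_centQ (n.le2.trans (h.HM.trans h.nH0))).2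
    ⟨h.nH0 (h.UM hu'), fun y hy => ?_⟩⟩
  have l1 := h.le_conj n.le1 (h.WM hw)
  have hx := conj_mem_conjg w hy
  have := ((maximalIn_of_index_prime l1 (by rw [h.idx_conj _ (h.WM hw), n.card]; exact h.prp)).2 _
    (le_inf l1 hl) (inf_lt_left.2 h1)).le (Subgroup.mem_inf.2 ⟨mul_mem (conj_mem_of_le_norm
      (h.conj_norm n.norm hw) hu.1 hx) (inv_mem hx),
      (mem_centQ' (kr_normal l)).1 hu.2 _ (h.conj_le n.le2 (h.WM hw) hx)⟩)
  convert conj_mem_of_le_norm' h.nH0 (h.WM hw) this using 1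
  group

theorem ng_B {l : H →* ℂˣ} (hl : H0 ≤ kr l) {u : G} (hu : u ∈ U)
    (hv : ∀ v ∈ W, H₁ :^ v ≤ kr l ∨ u ∈ (U ⊓ centQ H₁ H0) :^ v) : u ∈ centQ H (kr l) := by
  refine (mem_centQ' (kr_normal l)).2 fun x hx => (Subgroup.iSup_induction _
    (C := fun x => x ∈ H ∧ u * x * u⁻¹ * x⁻¹ ∈ kr l) (n.gen.ge hx) (fun v x hx => ?_)
    ⟨one_mem _, by simp⟩ fun x y a b => ⟨mul_mem a.1 b.1, ?_⟩).2
  · refine ⟨h.conj_le n.le2 (h.WM v.2) hx, (hv v v.2).elim (fun a => a (mul_mem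
      (conj_mem_of_le_norm (h.conj_norm n.norm v.2) hu hx) (inv_mem hx))) fun a => hl ?_⟩
    have := ((mem_centQ (n.le2.trans (h.HM.trans h.nH0))).1 (mem_conjg.1 a).2).2 _ (mem_conjg.1 hx)
    convert conj_mem_of_le_norm h.nH0 (h.WM v.2) this using 1
    group
  · convert mul_mem a.2 (conj_mem_of_le_norm (kr_normal l).2 a.1 b.2) using 1
    group

theorem ng_D {l l' : H →* ℂˣ} (h1 : ∀ w ∈ W, w ≠ 1 → H₁ :^ w ≤ kr l) (h2 : ¬ H₁ ≤ kr l') {g : G}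
    (hg : g ∈ M) (e : ∀ x ∈ H, ex l (g * x * g⁻¹) = ex l' x) : g ∈ K := by
  obtain ⟨k, hk, w, hw, rfl⟩ := h.decM hg
  by_contra hn
  refine h2 fun y hy => ?_
  have nK : K ≤ 𝒩(H₁ :^ w) := h.defK.sup_eq.ge.trans (sup_le (h.H_norm (h.le_conj n.le1 (h.WM hw))
    ((h.conj_le n.le2 (h.WM hw)).trans le_sup_left)) (h.conj_norm n.norm hw))
  have := h1 w hw (fun e => hn (by simpa [e] using hk))
    (conj_mem_of_le_norm nK hk (conj_mem_conjg w hy))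
  rw [mem_kr_ex (n.le2 hy), ← e y (n.le2 hy), ← (mem_kr_ex ((kr_normal l).1 this)).1 this]
  congr 1
  group

theorem ng_idx {w : G} (hw : w ∈ W) : ((U ⊓ centQ H₁ H0) :^ w).relIndex U = a := by
  rw [← n.a_def, ← relIndex_conjg (U ⊓ _) U w, conjg_of_mem_norm (h.nUW hw)]

theorem ng_C_le {w : G} (hw : w ∈ W) : C ≤ (U ⊓ centQ H₁ H0) :^ w :=
  (conjg_of_mem_norm (h.nC (Subgroup.mem_sup_right hw))).ge.trans
    (conjg_mono w (le_inf h.CU (h.C_le_centQ n.le2)))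

/-- Peterfalvi (9.8)(a) -/
theorem ng_dvd {θ : K → ℂ} (hθ : IsIrrCharacter K θ) (h1 : ¬ H.subgroupOf K ≤ cfker θ)
    (h2 : H0.subgroupOf K ≤ cfker θ) : a ∣ deg θ := by
  obtain ⟨l, a1, a2, a3⟩ := h.exists_constt hθ h1 h2
  obtain ⟨w, hw⟩ : ∃ w : W, ¬ H₁ :^ w ≤ kr l := by
    by_contra! e
    exact a1 (le_kr_self.1 (n.gen.ge.trans (iSup_le e)))
  exact h.ng_idx n w.2 ▸ h.dvd_deg hθ a3 (conjg_le_of_mem_norm inf_le_left (h.nUW w.2))
    (h.ng_A n a2 w.2 hw)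

theorem ng_L : ∃ L : Finset (H →* ℂˣ), L.card = p - 1 ∧
    ∀ l ∈ L, H0 ≤ kr l ∧ ¬ H₁ ≤ kr l ∧ ∀ w ∈ W, w ≠ 1 → H₁ :^ w ≤ kr l := by
  classical
  have e := n.indep 1
  set Y := H0 ⊔ ⨆ w' : {w' : W // w' ≠ 1}, H₁ :^ w'
  have l1 : Y ≤ H := sup_le h.H0H (iSup_le fun w => h.conj_le n.le2 (h.WM w.1.2))
  have l2 : ∀ w ∈ W, w ≠ 1 → H₁ :^ w ≤ Y := fun w hw h1 => le_sup_of_le_right
    (le_iSup (fun w' : {w' : W // w' ≠ 1} => H₁ :^ w') ⟨⟨w, hw⟩, fun e => h1 (congrArg Subtype.val e)⟩)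
  have e2 : Y ⊔ H₁ = H := (sup_le l1 n.le2).antisymm (n.gen.ge.trans (iSup_le fun w => by
    by_cases hw : (w : G) = 1
    · simp [hw]
    · exact le_sup_of_le_left (l2 w w.2 hw)))
  refine ⟨(linOver (Y.subgroupOf H)).erase 1, ?_, fun l hl => ?_⟩
  · rw [Finset.card_erase_of_mem (one_mem_linOver _), card_linOver' (h.abel.trans le_sup_left)]
    conv_lhs => rw [← e2]
    rw [relIndex_sup_of_right_le_norm (n.le2.trans (h.H_norm le_sup_left (l1.trans le_sup_left))),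
      ← Subgroup.inf_relIndex_right, inf_comm, ← n.card, show H₁ ⊓ Y = H0 by simpa using e]
  · obtain ⟨a, b⟩ := Finset.mem_erase.1 hl
    rw [mem_linOver' l1] at b
    exact ⟨le_sup_left.trans b, fun c => a (le_kr_self.1 (e2.ge.trans (sup_le b c))),
      fun w hw h1 => (l2 w hw h1).trans b⟩

theorem ng_th (c : W → ℤ) : ∃ l l1 : H →* ℂˣ, H0 ≤ kr l ∧ ¬ H₁ ≤ kr l1 ∧
    (∀ v : W, ∀ y ∈ H₁, ex l (v * y * (v : G)⁻¹) = ex l1 y ^ c v) ∧
    ∀ v : W, (c v = 0 → H₁ :^ v ≤ kr l) ∧ (IsUnit (c v) → ¬ H₁ :^ v ≤ kr l) := by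
  obtain ⟨L, hL, hL'⟩ := h.ng_L n
  obtain ⟨l1, h1⟩ := Finset.card_pos.1 (hL ▸ Nat.sub_pos_of_lt h.prp.one_lt)
  obtain ⟨a1, a2, a3⟩ := hL' l1 h1
  have := Fintype.ofFinite W
  let σ : W →* MulAut H := H.normalizerMonoidHom.comp (Subgroup.inclusion (h.WM.trans h.nH))
  have hl : ∀ x ∈ H, ex (∏ w : W, (l1.comp (σ w⁻¹).toMonoidHom) ^ c w) x =
      ∏ w : W, ex l1 ((w : G)⁻¹ * x * w) ^ c w := fun x hx => by
    rw [ex_eq _ hx, MonoidHom.finsetProd_apply]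
    refine Finset.prod_congr rfl fun w _ => ?_
    rw [ex_eq _ (conj_mem_of_le_norm' h.nH (h.WM w.2) hx), MonoidHom.zpow_apply]
    exact congrArg (fun t => l1 t ^ c w) (Subtype.ext (by simp [σ]))
  generalize (∏ w : W, (l1.comp (σ w⁻¹).toMonoidHom) ^ c w) = l at hl
  have key : ∀ v : W, ∀ y ∈ H₁, ex l (v * y * (v : G)⁻¹) = ex l1 y ^ c v := fun v y hy => by
    rw [hl _ (conj_mem_of_le_norm h.nH (h.WM v.2) (n.le2 hy)), Finset.prod_eq_single v _ (by simp)]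
    · congr 2
      group
    · intro w _ hw
      have := a3 _ (w⁻¹ * v).2 (by simpa [inv_mul_eq_one] using hw) (conj_mem_conjg _ hy)
      rw [← one_zpow (c w), ← (mem_kr_ex ((kr_normal l1).1 this)).1 this]
      simp [mul_assoc]
  have key2 : ∀ v : W, H₁ :^ v ≤ kr l ↔ ∀ y ∈ H₁, ex l1 y ^ c v = 1 := fun v =>
    ⟨fun a y hy => by
      rw [← key v y hy, ← mem_kr_ex (conj_mem_of_le_norm h.nH (h.WM v.2) (n.le2 hy))]
      exact a (conj_mem_conjg _ hy), by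
      rintro a _ ⟨y, hy, rfl⟩
      exact (mem_kr_ex (conj_mem_of_le_norm h.nH (h.WM v.2) (n.le2 hy))).2 ((key v y hy).trans (a y hy))⟩
  refine ⟨l, l1, fun x hx => ?_, a2, key, fun v => ⟨fun e => (key2 v).2 (by simp [e]),
    fun e b => a2 fun y hy => (mem_kr_ex (n.le2 hy)).2 ?_⟩⟩
  · rw [mem_kr_ex (h.H0H hx), hl x (h.H0H hx)]
    refine Finset.prod_eq_one fun w _ => ?_
    have := conj_mem_of_le_norm' h.nH0 (h.WM w.2) hx
    rw [(mem_kr_ex (h.H0H this)).1 (a1 this), one_zpow]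
  · have := (key2 v).1 b y hy
    rcases Int.isUnit_iff.1 e with e | e <;> simpa [e] using this

/-- for Peterfalvi (9.11.2) -/
theorem ng_pair {w : G} (hw : w ∈ W) : ∃ ζ ∈ SD h.KM H (H0 ⊔ C),
    ζ 1 = Nat.card W * (U ⊓ centQ H₁ H0 ⊓ (U ⊓ centQ H₁ H0) :^ w).relIndex U := by
  classical
  obtain ⟨l, -, a1, -, -, a2⟩ := h.ng_th n fun v => if (v : G) = 1 ∨ v = w then 1 else 0
  have b1 := (a2 1).2 (by simp)
  have hT : U ⊓ centQ H₁ H0 ⊓ (U ⊓ centQ H₁ H0) :^ w ≤ U := inf_le_left.trans inf_le_left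
  obtain ⟨m, c1, -, c2, c3⟩ := h.ext_lin hT l (fun u hu => h.ng_B n a1 (hT hu) fun v hv => by
    by_cases e : v = 1 ∨ v = w
    · rcases e with rfl | rfl
      · exact Or.inr (by simpa using hu.1)
      · exact Or.inr hu.2
    · exact Or.inl ((a2 ⟨v, hv⟩).1 (if_neg e))) 1
  exact ⟨_, h.ind_mem hT m c1 (fun e => b1 ((h.conj_le n.le2 (one_mem _)).trans (le_kr_self.2 e)))
    (le_inf (by simpa using h.ng_A n a1 (one_mem _) b1) (h.ng_A n a1 hw ((a2 ⟨w, hw⟩).2 (by simp))))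
    (h.KM.trans h.nH0C.2) (sup_le (a1.trans c2) ((le_inf (by simpa using h.ng_C_le n (one_mem _))
      (h.ng_C_le n hw)).trans ((le_kr_self.2 rfl).trans c3)))⟩

/-- Peterfalvi (9.8)(c) -/
theorem ng_irr : ∃ ζ, IsIrrCharacter M ζ ∧ ζ 1 = Nat.card W * C.relIndex U ∧
    ζ ∈ SD h.KM H (H0 ⊔ C) ∧ ∃ m : ↥(H ⊔ C) →* ℂˣ, ζ = indA h.nHC.1 (lin m) := by
  classical
  obtain ⟨l, l1, a1, a2, a3, a4⟩ := h.ng_th n fun v => if v = 1 then -1 else 1
  have b1 : ∀ v ∈ W, ¬ H₁ :^ v ≤ kr l := fun v hv => (a4 ⟨v, hv⟩).2 (by split_ifs <;> simp)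
  have b2 : U ⊓ centQ H (kr l) ≤ C := fun u hu => h.mem_C_of_forall n.le2 n.gen hu.1 fun w hw =>
    (mem_conjg.1 (h.ng_A n a1 hw (b1 w hw) hu)).2
  obtain ⟨m, c1, -, c2, c3⟩ := h.ext_lin h.CU l (h.C_le_inertia a1) 1
  have d := h.ind_mem h.CU m c1 (fun e => b1 1 (one_mem _) ((h.conj_le n.le2 (one_mem _)).trans
    (le_kr_self.2 e))) b2 (h.KM.trans h.nH0C.2) (sup_le (a1.trans c2) ((le_kr_self.2 rfl).trans c3))
  refine ⟨_, cl_irr le_sup_left _ h.nH (l := l) (fun g hg => h.inertia_le l b2 ⟨?_, hg.2⟩) (lin_irr m)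
    (c1 ▸ over_lin _ m), d.2, d.1, m, rfl⟩
  obtain ⟨k, hk, w, hw, rfl⟩ := h.decM hg.1
  obtain ⟨x, hx, u, hu, rfl⟩ := h.decK hk
  by_contra hn
  have hw1 : (⟨w, hw⟩ : W) ≠ 1 := fun e => hn (by simpa [show w = 1 from congrArg Subtype.val e] using hk)
  have hu' := conj_mem_of_le_norm' h.nUW hw hu
  have m1 : u * w ∈ centQ H (kr l) := by
    simpa [mul_assoc] using mul_mem (inv_mem (le_centQ_kr l hx)) hg.2
  have e1 : ∀ y ∈ H₁, ex l1 (w⁻¹ * u * w * y * (w⁻¹ * u * w)⁻¹) = (ex l1 y)⁻¹ := fun y hy => by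
    have e2 := a3 ⟨w, hw⟩ _ (conj_mem_of_le_norm n.norm hu' hy)
    have e3 := a3 1 y hy
    have e4 := ex_eq_of_centQ m1 (n.le2 hy)
    simp only [if_neg hw1, zpow_one, if_true, zpow_neg, OneMemClass.coe_one, one_mul, inv_one,
      mul_one] at e2 e3
    rw [← e2, ← e3, ← e4]
    congr 1
    group
  generalize w⁻¹ * u * w = t at hu' e1
  have e2 : ∀ j : ℕ, ∀ y ∈ H₁, ex l1 (t ^ (2 * j + 1) * y * (t ^ (2 * j + 1))⁻¹) = (ex l1 y)⁻¹ := by
    intro j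
    induction j with
    | zero => simpa using e1
    | succ j ih =>
      intro y hy
      have f := conj_mem_of_le_norm n.norm (pow_mem hu' (2 * j + 1)) hy
      have := e1 _ (conj_mem_of_le_norm n.norm hu' f)
      rw [e1 _ f, inv_inv, ih y hy] at this
      rw [← this]
      congr 1
      group
  refine a2 fun y hy => (mem_kr (n.le2 hy)).2 ?_
  obtain ⟨j, hj⟩ := h.odd
  have e3 := e2 j y hy
  have p1 : ∀ z ∈ M, z ^ (2 * j + 1) = 1 := fun z hz =>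
    congrArg Subtype.val (hj ▸ pow_card_eq_one' (x := (⟨z, hz⟩ : M)))
  rw [p1 t (h.UM hu'), one_mul, inv_one, mul_one, ex_eq _ (n.le2 hy), eq_inv_iff_mul_eq_one, ← sq] at e3
  have e4 : l1 ⟨y, n.le2 hy⟩ ^ (2 * j + 1) = 1 := by
    rw [← map_pow, ← map_one l1]
    exact congrArg l1 (Subtype.ext (p1 y (h.HM (n.le2 hy))))
  rwa [pow_succ, pow_mul, e3, one_pow, one_mul] at e4

open Classical in
/-- Peterfalvi (9.8)(d) -/
theorem ng_count : a ^ 2 * Nat.card ↥⁅U, U⁆ ∣ (p - 1) * Nat.card U ∧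
    (p - 1) * Nat.card U / (a ^ 2 * Nat.card ↥⁅U, U⁆) ≤ ((SD h.KM H (H0 ⊔ ⁅U, U⁆)).filter
      fun ζ => IsIrrCharacter M ζ ∧ ζ 1 = Nat.card W * a).card := by
  obtain ⟨L, hL, hL'⟩ := h.ng_L n
  have ha := n.a_def
  have l1 : ⁅U, U⁆ ≤ U ⊓ centQ H₁ H0 := h.der_le_C.trans (by simpa using h.ng_C_le n (one_mem _))
  have hA : ∀ l ∈ L, U ⊓ centQ H (kr l) ≤ U ⊓ centQ H₁ H0 := fun l hl => by
    simpa using h.ng_A n (hL' l hl).1 (one_mem _) (by simpa using (hL' l hl).2.1)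
  have hB : ∀ l ∈ L, U ⊓ centQ H₁ H0 ≤ centQ H (kr l) := fun l hl u hu =>
    h.ng_B n (hL' l hl).1 hu.1 fun v hv => (eq_or_ne v 1).elim (fun e => Or.inr (by simpa [e] using hu))
      fun e => Or.inl ((hL' l hl).2.2 v hv e)
  have hT : U ⊓ centQ H₁ H0 ≤ U := inf_le_left
  generalize U ⊓ centQ H₁ H0 = T at ha l1 hA hB hT
  obtain ⟨b, hb⟩ := n.dvd
  have e1 : (p - 1) * Nat.card U = a ^ 2 * Nat.card ↥⁅U, U⁆ * (b * ⁅U, U⁆.relIndex T) := by
    rw [hb, ← card_mul_relIndex hT, ← card_mul_relIndex l1, ha]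
    ring
  have a0 : 0 < a := zero_lt_one.trans n.one_lt
  refine ⟨⟨_, e1⟩, ?_⟩
  rw [e1, Nat.mul_div_cancel_left _ (mul_pos (pow_pos a0 _) Nat.card_pos)]
  have ex : ∀ x : (H →* ℂˣ) × (T →* ℂˣ), ∃ m : ↥(H ⊔ T) →* ℂˣ, x.1 ∈ L →
      m.comp (Subgroup.inclusion le_sup_left) = x.1 ∧ m.comp (Subgroup.inclusion le_sup_right) = x.2 ∧
        kr x.1 ≤ kr m ∧ kr x.2 ≤ kr m := fun x => by
    by_cases hl : x.1 ∈ L
    · exact (h.ext_lin hT x.1 (hB _ hl) x.2).imp fun _ a _ => a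
    · exact ⟨1, fun a => absurd a hl⟩
  choose m hm using ex
  have i1 := normalInj_inclusion h.HM h.nH
  have i2 := normalInj_inclusion h.HK (h.KM.trans h.nH)
  have hI : ∀ l ∈ L, M ⊓ centQ H (kr l) ≤ H ⊔ T := fun l hl g hg => h.inertia_le l (hA l hl)
    ⟨h.ng_D n (hL' l hl).2.2 (hL' l hl).2.1 hg.1 fun x hx => ex_eq_of_centQ hg.2 hx, hg.2⟩
  have ov : ∀ x : (H →* ℂˣ) × (T →* ℂˣ), x.1 ∈ L →
      ⟪lin (m x) ∘ Subgroup.inclusion le_sup_left, lin x.1⟫ ≠ 0 := fun x hx =>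
    (hm x hx).1 ▸ over_lin _ (m x)
  have irr : ∀ x : (H →* ℂˣ) × (T →* ℂˣ), x.1 ∈ L →
      IsIrrCharacter M (indA ((h.HT_le hT).trans h.KM) (lin (m x))) := fun x hx =>
    cl_irr le_sup_left _ h.nH (hI _ hx) (lin_irr _) (ov x hx)
  have ov' : ∀ x : (H →* ℂˣ) × (T →* ℂˣ), x.1 ∈ L →
      ⟪indA ((h.HT_le hT).trans h.KM) (lin (m x)) ∘ Subgroup.inclusion h.HM, lin x.1⟫ ≠ 0 := by
    intro x hx
    obtain ⟨_, _, a⟩ := cl_aux le_sup_left ((h.HT_le hT).trans h.KM) h.nH (hI _ hx)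
    exact (clifford_corr_mult _ _ (Subgroup.inclusion_injective _) (lin_irr _) a (lin_irr _)
      (ov x hx)).trans_ne (ov x hx)
  have c := Finset.card_le_mul_card_image (f := fun x => indA ((h.HT_le hT).trans h.KM) (lin (m x)))
    (L ×ˢ linOver (⁅U, U⁆.subgroupOf T)) a fun ζ hζ => by
      obtain ⟨x, hx, rfl⟩ := Finset.mem_image.1 hζ
      have hx := (Finset.mem_product.1 hx).1
      refine (Finset.card_le_card_of_injOn (fun y => lin y.1) (t := cfclass (Subgroup.inclusion h.HK)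
        (lin x.1)) (fun y hy => ?_) fun y hy z hz e => ?_).trans ?_
      · obtain ⟨y1, y2⟩ := Finset.mem_filter.1 hy
        have y1 := (Finset.mem_product.1 y1).1
        obtain ⟨g, hg⟩ := (mem_cfclass _).1 (mem_cfclass_of_constt _ (irr x hx) (lin_irr _) (lin_irr _)
          (ov' x hx) (y2 ▸ ov' y y1))
        refine (mem_cfclass _).2 ⟨⟨g, h.ng_D n (hL' _ hx).2.2 (hL' _ y1).2.1 g.2 fun z hz =>
          ex_cj _ hg hz⟩, (funext fun z => congrArg (lin x.1) (Subtype.ext (by simp))).trans hg⟩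
      · obtain ⟨y1, y2⟩ := Finset.mem_filter.1 hy
        obtain ⟨z1, z2⟩ := Finset.mem_filter.1 hz
        have y1 := (Finset.mem_product.1 y1).1
        have z1 := (Finset.mem_product.1 z1).1
        have e := lin_injective e
        have := lin_injective (cl_inj le_sup_left _ h.nH (hI _ y1) (lin_irr _) (lin_irr _) (ov y y1)
          (e ▸ ov z z1) (y2.trans z2.symm))
        exact Prod.ext e (by rw [← (hm y y1).2.1, this, (hm z z1).2.1])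
      · rw [card_cfclass, ← ha, ← h.idx_HT hT]
        exact Nat.le_of_dvd (relIndex_pos _ _) (Subgroup.index_dvd_of_le fun g hg =>
          (mem_inertia_lin _ _).2 (sup_le (le_centQ_kr _) (hB _ hx) hg))
  rw [Finset.card_product, hL, hb, card_linOver' (Subgroup.commutator_mono hT hT), mul_assoc] at c
  refine (Nat.le_of_mul_le_mul_left c a0).trans (Finset.card_le_card
    (Finset.image_subset_iff.2 fun x hx => ?_))
  obtain ⟨x1, x2⟩ := Finset.mem_product.1 hx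
  obtain ⟨m1, -, m2, m3⟩ := hm x x1
  have := h.ind_mem hT (m x) m1 (fun e => (hL' _ x1).2.1 (n.le2.trans (le_kr_self.2 e))) (hA _ x1)
    (h.KM.trans h.nH0U'.2) (sup_le ((hL' _ x1).1.trans m2) (((mem_linOver' l1).1 x2).trans m3))
  exact Finset.mem_filter.2 ⟨this.1, irr x x1, ha ▸ this.2⟩

end NonGalois

section Galois

variable (gal : ∀ X, H0 ≤ X → X < H → U ≤ 𝒩(X) → X = H0)
include gal

theorem gal_inertia {l : H →* ℂˣ} (h1 : l ≠ 1) (h2 : H0 ≤ kr l) : U ⊓ centQ H (kr l) ≤ C :=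
  h.inertia_le_C h1 h2 fun X a b c _ => gal X a b c

theorem gal_dvd {θ : K → ℂ} (hθ : IsIrrCharacter K θ) (h1 : ¬ H.subgroupOf K ≤ cfker θ)
    (h2 : H0.subgroupOf K ≤ cfker θ) : C.relIndex U ∣ deg θ :=
  have ⟨_, a1, a2, a3⟩ := h.exists_constt hθ h1 h2
  h.dvd_deg hθ a3 h.CU (h.gal_inertia gal a1 a2)

theorem gal_lin {ζ : M → ℂ} (hζ : ζ ∈ SD h.KM H (H0 ⊔ ⁅C, C⁆)) : ζ 1 = Nat.card W * C.relIndex U ∧
    ∃ m : ↥(H ⊔ C) →* ℂˣ, ζ = indA h.nHC.1 (lin m) := by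
  obtain ⟨θ, h1, h2, h3, rfl⟩ := mem_SD.1 hζ
  obtain ⟨l, a1, a2, a3⟩ := h.exists_constt h1 h2 ((Subgroup.subgroupOf_mono K le_sup_left).trans h3)
  obtain ⟨ψ, b1, -, rfl⟩ := cl_surj le_sup_left (h.HT_le h.CU) (h.KM.trans h.nH)
    (h.inertia_le l (h.gal_inertia gal a1 a2)) h1 a3
  obtain ⟨m, rfl⟩ := lin_of_der_le b1 h.der_HC
    (ker_constt _ (IsIrr.isChar h1) b1 (dot_res_ind_ne _ b1) h3)
  rw [indA_indA]
  exact ⟨by rw [indA_one, h.idx_HT_M h.CU]; simp, m, rfl⟩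

open Classical in
/-- Peterfalvi (9.9)(c) -/
theorem gal_red (hle : ((SD h.KM H H0).filter fun ζ => ¬ IsIrrCharacter M ζ).card ≤ p - 1)
    (hr : ∀ ζ ∈ SD h.KM H (H0 ⊔ ⁅C, C⁆), ¬ IsIrrCharacter M ζ) :
    C = ⊥ ∧ C.relIndex U = (p ^ Nat.card W - 1) / (p - 1) ∧
      ∀ u ∈ U, u ≠ 1 → ∀ x ∈ H, u * x * u⁻¹ * x⁻¹ ∈ H0 → x ∈ H0 := by
  obtain ⟨F, _, _, φ, ψ, η, g⟩ := h.exists_GF gal
  have d := (h.GF_facts le_rfl g).2.2
  have e := h.sum_sq (der_normalIn C).1 (norm_comm h.nC h.nC)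
  have q0 := h.prW.pos
  have p1 := h.prp.one_lt
  have p2 : 1 < p ^ Nat.card W := Nat.one_lt_pow q0.ne' p1
  rw [Finset.sum_congr rfl (g := fun _ => (Nat.card W : ℝ) * C.relIndex U ^ 2) fun ζ hζ => by
    have := (SD_coe_deg h.nK hζ).trans (h.gal_lin gal hζ).1
    rw [h.nrm_red hζ (hr ζ hζ), show deg ζ = Nat.card W * C.relIndex U by exact_mod_cast this]
    have : (Nat.card W : ℝ) ≠ 0 := by exact_mod_cast q0.ne'
    push_cast
    field_simp, Finset.sum_const, nsmul_eq_mul,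
    ← Subgroup.relIndex_mul_relIndex _ C U (der_normalIn C).1 h.CU] at e
  have c := (Finset.card_le_card fun ζ hζ =>
    Finset.mem_filter.2 ⟨SD_mono le_rfl le_sup_left hζ, hr ζ hζ⟩).trans hle
  have e2 : (SD h.KM H (H0 ⊔ ⁅C, C⁆)).card * (Nat.card W * C.relIndex U ^ 2) =
      Nat.card W * (⁅C, C⁆.relIndex C * C.relIndex U) * (p ^ Nat.card W - 1) := by
    have := e
    rify [p2.le]
    simpa using e
  obtain ⟨t, ht⟩ := Nat.sub_one_dvd_pow_sub_one p (Nat.card W)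
  have t0 : 0 < t := Nat.pos_of_ne_zero fun e => by rw [e] at ht; omega
  rw [ht, Nat.mul_div_cancel_left _ (by omega)] at d ⊢
  have d1 := Nat.le_of_dvd t0 d
  have u0 := relIndex_pos C U
  have r0 := relIndex_pos ⁅C, C⁆ C
  have d2 : ⁅C, C⁆.relIndex C * t ≤ C.relIndex U := by
    refine Nat.le_of_mul_le_mul_left ?_ (mul_pos (mul_pos q0 u0) (Nat.sub_pos_of_lt p1))
    calc _ = _ := by rw [ht] at e2; rw [mul_comm (_ * C.relIndex U * _), mul_comm]; linarith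
      _ ≤ (p - 1) * (Nat.card W * C.relIndex U ^ 2) := Nat.mul_le_mul_right _ c
      _ = _ := by ring
  have hC : C = ⊥ := by
    by_contra hn
    have := (der_lt_of_sol (sol_of_le h.solU h.CU) hn).not_ge
    rw [← Subgroup.relIndex_eq_one] at this
    have : 2 * t ≤ ⁅C, C⁆.relIndex C * t := Nat.mul_le_mul_right _ (by omega)
    omega
  refine ⟨hC, d1.antisymm ((Nat.le_mul_of_pos_left _ r0).trans d2), fun u hu h1 x hx a => ?_⟩
  have b := conj_mem_of_le_norm h.defK.norm hu hx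
  have := g.φ_mul _ (h.H0H a) x hx
  rw [inv_mul_cancel_right, g.act_U u hu x hx, (g.φ_ker _ (h.H0H a)).2 a, zero_add,
    mul_left_eq_self₀, g.ψ_ker u hu, hC, g.φ_ker x hx] at this
  exact this.resolve_left h1

end Galois

end S9

theorem realizeEqns_PF_P09d : True := by
  have := @CA.PF.ex.eq_1.{0}
  have := @CA.PF.ex.eq_def.{0}
  have := @CA.PF.ex.congr_simp.{0}
  trivial

end CA.PF
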