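import Cfsg.Agent.PF.P09d

/-!
# Peterfalvi, section 9: the statements (9.4)-(9.10) of the interface
-/

set_option autoImplicit false
set_option linter.unusedSectionVars false

open scoped ComplexConjugate

open Cfsg CA.FG CA.BG CA.Chr

namespace CA.PF.P09

universe u

variable {G : Type u} [Group G] [MinSimpleOdd G] {M W₁ U W₂ : Subgroup G} (maxM : IsCoatom M)
  (hP : IsTypePWith M W₁ U W₂) (nt5 : FTtype M ≠ 5)
include maxM hP nt5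

theorem Ptype_factor_prime : (primeH M U).Prime ∧
    ⁅fittingHallOf M, fittingHallOf M⁆ ≤ kerH0 M U ∧
    ∀ x ∈ fittingHallOf M, x ^ primeH M U ∈ kerH0 M U :=
  have h := s9 maxM hP nt5
  ⟨h.prp, h.abel, h.pow⟩

theorem Ptype_Fcompl_kernel_normal : kerC M U ⊲ U ⊔ W₁ ∧ fittingHallOf M ⊔ kerC M U ⊲ M ∧
    kerH0 M U ⊔ kerC M U ⊲ M ∧ kerH0 M U ⊔ ⁅kerC M U, kerC M U⁆ ⊲ M ∧ kerH0 M U ⊔ ⁅U, U⁆ ⊲ M ∧
    U ⊓ 𝒞(fittingHallOf M) ≤ kerC M U ∧ ⁅U, U⁆ ≤ kerC M U :=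
  have h := s9 maxM hP nt5
  ⟨⟨h.CU.trans le_sup_left, h.nC⟩, h.nHC, h.nH0C, h.nH0C', h.nH0U', h.cent_le_C, h.der_le_C⟩

theorem Ptype_Fcore_factor_facts : kerC M U ≠ U ∧ (kerH0 M U).relIndex W₂ = primeH M U ∧
    (kerH0 M U).relIndex (fittingHallOf M) = primeH M U ^ Nat.card W₁ :=
  have h := s9 maxM hP nt5
  ⟨h.C_ne, typeP_cent_core_compl hP ▸ h.card_W2, h.card_H⟩

theorem def_Ptype_factor_prime (h : (Nat.card W₂).Prime) : primeH M U = Nat.card W₂ :=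
  (Nat.prime_dvd_prime_iff_eq (s9 maxM hP nt5).prp h).1
    ((Ptype_Fcore_factor_facts maxM hP nt5).2.1 ▸ Subgroup.relIndex_dvd_card _ _)

theorem typeP_Galois_Pn (h : ¬ TypePGalois M U) : ∃ H₁ a, NonGal M W₁ U H₁ a :=
  have ⟨H₁, a, n⟩ := (s9 maxM hP nt5).exists_NG h
  ⟨H₁, a, n.1, n.2, n.3, n.4, n.5, n.6, n.7, n.8, n.9, n.10, n.11⟩

theorem typeP_Galois_P (h : TypePGalois M U) :
    (∃ (F : Type) (_ : Field F) (_ : Fintype F) (φ ψ : G → F) (η : W₁ →* (F ≃+* F)),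
      GalField M W₁ U W₂ F φ ψ η) ∧
    IsCyclic (U /ₛ kerC M U) ∧ (cardUbar M U).Coprime (primeH M U - 1) ∧
    cardUbar M U ∣ (primeH M U ^ Nat.card W₁ - 1) / (primeH M U - 1) :=
  have ⟨F, _, _, φ, ψ, η, g⟩ := (s9 maxM hP nt5).exists_GF h
  ⟨⟨F, _, _, φ, ψ, η, g.1, g.2, g.3, g.4, g.5, g.6, g.7, g.8, g.9, g.10,
    typeP_cent_core_compl hP ▸ g.11⟩, (s9 maxM hP nt5).GF_facts le_rfl g⟩

omit maxM hP nt5 in
theorem _root_.CA.PF.NonGal.ng {H₁ : Subgroup G} {a : ℕ} (n : NonGal M W₁ U H₁ a) :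
    NG (fittingHallOf M) U W₁ (kerH0 M U) (kerC M U) H₁ (primeH M U) a :=
  ⟨n.1, n.2, n.3, n.4, n.5, n.6, n.7, n.8, n.9, n.10, n.11⟩

open Classical in
theorem typeP_nonGalois_characters {H₁ : Subgroup G} {a : ℕ} (h : NonGal M W₁ U H₁ a) :
    (∀ θ : ↥⁅M, M⁆ → ℂ, IsIrrCharacter _ θ → ¬ (fittingHallOf M).subgroupOf _ ≤ cfker θ →
      (kerH0 M U).subgroupOf _ ≤ cfker θ → a ∣ deg θ) ∧
    (∃ ζ, IsIrrCharacter M ζ ∧ IsIndHC M W₁ U ζ) ∧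
    a ^ 2 * Nat.card ↥⁅U, U⁆ ∣ (primeH M U - 1) * Nat.card U ∧
    (primeH M U - 1) * Nat.card U / (a ^ 2 * Nat.card ↥⁅U, U⁆) ≤
      ((SP M (fittingHallOf M) (kerH0 M U ⊔ ⁅U, U⁆)).filter
        fun ζ => IsIrrCharacter M ζ ∧ ζ 1 = Nat.card W₁ * a).card :=
  have s := s9 maxM hP nt5
  ⟨fun _ => s.ng_dvd h.ng, (s.ng_irr h.ng).imp fun _ a => ⟨a.1, a.2.1, a.2.2.1, _, a.2.2.2⟩,
    s.ng_count h.ng⟩

/-- for (9.11.2) -/
theorem typeP_nonGalois_pair {H₁ : Subgroup G} {a : ℕ} (h : NonGal M W₁ U H₁ a) {w : G} (hw : w ∈ W₁) :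
    ∃ ζ ∈ SP M (fittingHallOf M) (kerH0 M U ⊔ kerC M U), ζ 1 = Nat.card W₁ *
      (U ⊓ centQ H₁ (kerH0 M U) ⊓ (U ⊓ centQ H₁ (kerH0 M U)) :^ w).relIndex U :=
  (s9 maxM hP nt5).ng_pair h.ng hw

open Classical in
theorem card_red_le :
    ((SP M (fittingHallOf M) (kerH0 M U)).filter fun ζ => ¬ IsIrrCharacter M ζ).card ≤ primeH M U - 1 := by
  have s := s9 maxM hP nt5
  have t := FT_primeTI hP
  have := typeP_W2_cyclic hP
  refine (Finset.card_le_card (t := ((linOver ((kerH0 M U).subgroupOf W₂)).erase 1).image (muS (wM hP)))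
    fun ζ hζ => ?_).trans (Finset.card_image_le.trans ?_)
  · obtain ⟨a, b⟩ := Finset.mem_filter.1 hζ
    obtain ⟨j, hj, rfl⟩ := (SP_cases maxM hP a).resolve_right fun c => b c.1
    refine Finset.mem_image_of_mem _ (Finset.mem_erase.2 ⟨hj, mem_linOver.2 fun y hy => ?_⟩)
    have := ((mem_SD_iff_cfker s.nK s.nH s.nH0 s.HK (s.H0H.trans s.HK) (SD_sub_ST _ _ _ a)).1 a).2
    exact t.eq_one_of_mem_cfker (IsChar.cfker_le_constt (t.muS_char j) (t.mu_irr 1 j)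
      (by simp [t.dot_muS_mu]) (this (x := wM hP (1, y)) (by simpa [Subgroup.mem_subgroupOf] using hy)))
  · rw [Finset.card_erase_of_mem (one_mem_linOver _), card_linOver' ((Subgroup.commutator_mono
      (typeP_W2_le_F hP) (typeP_W2_le_F hP)).trans s.abel), (Ptype_Fcore_factor_facts maxM hP nt5).2.1]

theorem typeP_Galois_characters (h : TypePGalois M U) :
    (∀ θ : ↥⁅M, M⁆ → ℂ, IsIrrCharacter _ θ → ¬ (fittingHallOf M).subgroupOf _ ≤ cfker θ →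
      (kerH0 M U).subgroupOf _ ≤ cfker θ → cardUbar M U ∣ deg θ) ∧
    (∀ ζ ∈ SP M (fittingHallOf M) (kerH0 M U ⊔ ⁅kerC M U, kerC M U⁆),
      ζ 1 = Nat.card W₁ * cardUbar M U ∧ IsIndLin M (fittingHallOf M ⊔ kerC M U) ζ) ∧
    ((∀ ζ ∈ SP M (fittingHallOf M) (kerH0 M U ⊔ ⁅kerC M U, kerC M U⁆), ¬ IsIrrCharacter M ζ) →
      kerC M U = ⊥ ∧ cardUbar M U = (primeH M U ^ Nat.card W₁ - 1) / (primeH M U - 1) ∧
        FrobModH0 M U) :=
  have s := s9 maxM hP nt5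
  ⟨fun _ => s.gal_dvd h, fun _ a => (s.gal_lin h a).imp_right fun b => ⟨_, b⟩,
    s.gal_red h (card_red_le maxM hP nt5)⟩

open Classical in
theorem typeP_reducible_core_Ind :
    ((SP M (fittingHallOf M) (kerH0 M U)).filter fun ζ => ¬ IsIrrCharacter M ζ).card = primeH M U - 1 ∧
    ∀ ζ ∈ SP M (fittingHallOf M) (kerH0 M U), ¬ IsIrrCharacter M ζ → IsIndHC M W₁ U ζ :=
  ((s9 maxM hP nt5).red_core (card_red_le maxM hP nt5)).imp_right fun a ζ b c =>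
    ⟨(a ζ b c).1, (a ζ b c).2.1, _, (a ζ b c).2.2⟩

theorem typeP_reducible_core_cases :
    (∃ ζ ∈ SP M (fittingHallOf M) (kerH0 M U ⊔ ⁅kerC M U, kerC M U⁆), IsIrrCharacter M ζ ∧
      ζ 1 = Nat.card W₁ * cardUbar M U ∧ IsIndLin M (fittingHallOf M ⊔ kerC M U) ζ) ∨
    (TypePGalois M U ∧ FrobModH0 M U ∧ IsCyclic U ∧
      Nat.card U = (primeH M U ^ Nat.card W₁ - 1) / (primeH M U - 1) ∧
      (FTtype M = 2 → IsFrob ⁅M, M⁆ (fittingHallOf M) U)) := by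
  by_cases h : TypePGalois M U
  · obtain ⟨-, a, b⟩ := typeP_Galois_characters maxM hP nt5 h
    refine or_iff_not_imp_left.2 fun c => ?_
    obtain ⟨b1, b2, b3⟩ := b fun ζ d e => c ⟨ζ, d, e, a ζ d⟩
    have d := (typeP_Galois_P maxM hP nt5 h).2.1
    rw [cardUbar, b1, Subgroup.relIndex_bot_left] at b2
    rw [b1] at d
    obtain ⟨e⟩ := quot_equiv (K := ⊥) (X := U) Subgroup.le_normalizer_of_normal (bot_inf_eq _)
    have cy := e.isCyclic.2 d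
    refine ⟨h, b3, cy, b2, fun h2 => ?_⟩
    obtain ⟨-, -, -, f1, f2⟩ := compl_of_typeII maxM hP h2
    exact f2 ▸ (typeF_Frobenius_iff f1).2 inferInstance
  · obtain ⟨H₁, a, n⟩ := typeP_Galois_Pn maxM hP nt5 h
    obtain ⟨ζ, a, b, c, d⟩ := (typeP_nonGalois_characters maxM hP nt5 n).2.1
    exact Or.inl ⟨ζ, SD_mono le_rfl (sup_le_sup_left (der_normalIn _).1 _) c, a, b, d⟩

end CA.PF.P09
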