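import Cfsg.Agent.PF.P09b

/-!
# Peterfalvi (9.11): auxiliary results
-/

set_option autoImplicit false
set_option linter.unusedSectionVars false

open scoped ComplexConjugate

open Cfsg CA.FG CA.BG CA.Chr

namespace CA.PF.P09z

universe u

theorem arith_pow {a q : ℕ} (ha : 1 ≤ a) (hq : 3 ≤ q) :
    (q + 2) * a ^ 3 + q ^ 2 * a ^ 2 + 2 * q * a + 1 < (2 * a + 1) ^ q := by
  induction q, hq using Nat.le_induction with
  | base => ring_nf; nlinarith [pow_pos (show 0 < a from ha) 3, Nat.zero_le (a ^ 2)]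
  | succ n hn ih =>
    rw [pow_succ (2 * a + 1)]
    have h1 : (n + 1) ^ 2 * a ^ 2 ≤ 3 * (n ^ 2 * a ^ 2) := by
      rw [← mul_assoc]; exact Nat.mul_le_mul_right _ (by nlinarith)
    have h2 : (2 * a + 1) ^ n * 3 ≤ (2 * a + 1) ^ n * (2 * a + 1) := Nat.mul_le_mul_left _ (by omega)
    nlinarith [Nat.zero_le (n * a ^ 3), Nat.zero_le (a ^ 3), Nat.zero_le (n * a)]

/-- (9.11.6) - (9.11.8) -/
theorem extend_core {L G : Type*} [Group L] [Finite L] [Group G] [Finite G] {S S₂ S₃ S₄ : Finset (L → ℂ)}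
    {τ : (L → ℂ) →ₗ[ℂ] (G → ℂ)} {R : (L → ℂ) → Finset (G → ℂ)} (h : Subcoh S τ R) (h2 : S₂ ⊆ S)
    (c2 : ∀ χ ∈ S₂, conjFun χ ∈ S₂) (h3 : S₃ ⊆ S) (c3 : ∀ χ ∈ S₃, conjFun χ ∈ S₃)
    (hd : Disjoint S₂ S₃) (h4 : S₄ ⊆ S₃) (i2 : ∀ ψ ∈ S₂, IsIrrCharacter L ψ)
    (i4 : ∀ ψ ∈ S₄, IsIrrCharacter L ψ) {ψ₁ : L → ℂ} (hψ₁ : ψ₁ ∈ S₂) {k : ℕ} (hk : 1 < k)
    (card : S₂.card = 2 * k) (d2 : ∀ ψ ∈ S₂, ψ 1 = ψ₁ 1) (d3 : ∀ ψ ∈ S₃, ψ 1 = k * ψ₁ 1)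
    {A : G → ℂ} (zA : A ∈ ZIrr G) (nA : nrm A < S₄.card) {α : L → ℂ}
    (hA : ∀ β ∈ CS S, β 1 = 0 → ⟪A, τ β⟫ = ⟪α, β⟫) (o3 : ∀ ψ ∈ S₃, ⟪α, ψ⟫ = 0)
    (o2 : ∀ ψ ∈ S₂, ⟪α, ψ⟫ = if ψ₁ = ψ then -1 else 0) :
    ∃ χ ∈ S₃, Coh (S₂ ∪ {χ, conjFun χ}) τ := by
  obtain ⟨ν₂, hν₂⟩ := h.uniform_sub h2 c2 fun φ hφ ψ hψ => by rw [d2 φ hφ, d2 ψ hψ]
  obtain ⟨ν₃, hν₃⟩ := h.uniform_sub h3 c3 fun φ hφ ψ hψ => by rw [d3 φ hφ, d3 ψ hψ]
  obtain ⟨χ, hχ4⟩ : S₄.Nonempty := Finset.card_pos.1 (by exact_mod_cast (nrm_nonneg A).trans_lt nA)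
  have hχ := h4 hχ4
  have iχ := i4 χ hχ4
  have e3 : ∀ φ ∈ S₃, ∀ ψ ∈ S₃, τ (φ - ψ) = ν₃ φ - ν₃ ψ := fun φ hφ ψ hψ =>
    hν₃.agree_sub hφ hψ (by rw [d3 φ hφ, d3 ψ hψ])
  have e2 : ∀ ψ ∈ S₂, τ (ψ₁ - ψ) = ν₂ ψ₁ - ν₂ ψ := fun ψ hψ => hν₂.agree_sub hψ₁ hψ (d2 ψ hψ).symm
  have m2 : ∀ ψ ∈ S₂, ψ₁ - ψ ∈ CS S ∧ (ψ₁ - ψ) 1 = 0 := fun ψ hψ =>
    ⟨sub_mem (mem_CS (h2 hψ₁)) (mem_CS (h2 hψ)), by rw [Pi.sub_apply, d2 ψ hψ, sub_self]⟩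
  have m3 : ∀ φ ∈ S₃, χ - φ ∈ CS S ∧ (χ - φ) 1 = 0 := fun φ hφ =>
    ⟨sub_mem (mem_CS (h3 hχ)) (mem_CS (h3 hφ)), by rw [Pi.sub_apply, d3 φ hφ, d3 χ hχ, sub_self]⟩
  have dot2 : ∀ φ ∈ S₂, ∀ ψ ∈ S₂, ⟪φ, ψ⟫ = if φ = ψ then 1 else 0 := fun φ hφ ψ hψ => by
    split_ifs with e
    · rw [← e, (IsIrr.dirr (i2 φ hφ)).dot_self]
    · exact h.orth φ (h2 hφ) ψ (h2 hψ) e
  have o23 : ∀ φ ∈ S₂, ∀ ψ ∈ S₃, ⟪φ, ψ⟫ = 0 := fun φ hφ ψ hψ =>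
    h.orth φ (h2 hφ) ψ (h3 hψ) fun e => Finset.disjoint_left.1 hd hφ (e ▸ hψ)
  have on : ∀ φ ∈ CS S₂, ∀ ψ ∈ S₃, ⟪ν₂ φ, ν₃ ψ⟫ = 0 := fun φ hφ ψ hψ =>
    h.coh_orth h2 c2 h3 c3 hd hν₂ hν₃ hφ (mem_CS hψ)
  -- (9.11.6)
  have oA : ∀ φ ∈ S₃, ⟪A, ν₃ φ⟫ = 0 := by
    have hc : ∀ φ ∈ S₃, ⟪A, ν₃ φ⟫ = ⟪A, ν₃ χ⟫ := fun φ hφ => by
      have := hA _ (m3 φ hφ).1 (m3 φ hφ).2
      rw [e3 _ hχ _ hφ, dot_sub_right, dot_sub_right, o3 _ hχ, o3 _ hφ] at this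
      linear_combination -this
    obtain ⟨m, hm⟩ := ZIrr.dot_int zA (hν₃.zirr χ hχ)
    have hb := bessel_le S₄ ν₃ (fun φ hφ => (hν₃.dirr (h4 hφ) (i4 φ hφ)).dot_self)
      (fun φ hφ ψ hψ e => by
        rw [hν₃.iso φ (h4 hφ) ψ (h4 hψ)]; exact h.orth φ (h3 (h4 hφ)) ψ (h3 (h4 hψ)) e) A
    rw [Finset.sum_congr rfl fun φ hφ => by rw [hc φ (h4 hφ), hm, Complex.norm_intCast, sq_abs],
      Finset.sum_const, nsmul_eq_mul] at hb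
    obtain rfl : m = 0 := by
      by_contra h0
      have : (1 : ℝ) ≤ (m : ℝ) ^ 2 := by exact_mod_cast (show 0 < m ^ 2 by positivity)
      nlinarith [nrm_nonneg A]
    exact fun φ hφ => by rw [hc φ hφ, hm, Int.cast_zero]
  -- (9.11.7)
  have mβ : χ - (k : ℂ) • ψ₁ ∈ ZS S := sub_mem (mem_ZS (h3 hχ)) (ZS_natCast_smul k (mem_ZS (h2 hψ₁)))
  have β1 : (χ - (k : ℂ) • ψ₁) 1 = 0 := by
    rw [Pi.sub_apply, Pi.smul_apply, d3 χ hχ, smul_eq_mul, sub_self]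
  have iso := h.iso _ (CS_of_ZS mβ)
  have zT := h.zirr _ mβ β1
  have nT : nrm (τ (χ - (k : ℂ) • ψ₁)) = 1 + k ^ 2 := by
    rw [h.toIsoOn.nrm (CS_of_ZS mβ) β1, nrm_sub_of_orth (by
      rw [dot_smul_right, dot_comm_zero (o23 _ hψ₁ _ hχ), mul_zero]), nrm_smul, (IsIrr.dirr iχ).nrm,
      (IsIrr.dirr (i2 _ hψ₁)).nrm, Complex.norm_natCast, mul_one]
  have hAβ := hA _ (CS_of_ZS mβ) β1
  rw [dot_sub_right, dot_smul_right, o3 χ hχ, o2 _ hψ₁, if_pos rfl, map_natCast] at hAβ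
  set T := τ (χ - (k : ℂ) • ψ₁) with hT
  obtain ⟨X, hX⟩ : ∃ X, X = T + (k : ℂ) • ν₂ ψ₁ := ⟨_, rfl⟩
  clear_value T
  have zX : X ∈ ZIrr G := hX ▸ add_mem zT (ZIrr.natCast_smul (hν₂.zirr _ hψ₁) k)
  obtain ⟨b, hb⟩ := ZIrr.dot_int zX (hν₂.zirr _ hψ₁)
  have hb' : ∀ ψ ∈ S₂, ⟪X, ν₂ ψ⟫ = b := fun ψ hψ => by
    have := iso _ (m2 ψ hψ).1 β1 (m2 ψ hψ).2
    rw [e2 ψ hψ, show T = X - (k : ℂ) • ν₂ ψ₁ by rw [hX]; abel] at this
    simp only [dot_sub_left, dot_sub_right, dot_smul_left, hb, hν₂.iso _ hψ₁ _ hψ₁, hν₂.iso _ hψ₁ _ hψ,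
      dot_comm_zero (o23 _ hψ₁ _ hχ), dot_comm_zero (o23 _ hψ _ hχ)] at this
    linear_combination -this
  obtain ⟨σ, hσ⟩ : ∃ σ, σ = ∑ φ ∈ S₂, φ := ⟨_, rfl⟩
  have zσ : σ ∈ ZS S₂ := hσ ▸ sum_mem fun φ hφ => mem_ZS hφ
  have dσ : ∀ φ ∈ S₂, ⟪σ, φ⟫ = 1 := fun φ hφ => by
    rw [hσ, dot_sum_left, Finset.sum_congr rfl fun x hx => dot2 x hx φ hφ, Finset.sum_ite_eq', if_pos hφ]
  obtain ⟨Y, hY⟩ : ∃ Y, Y = X - (b : ℂ) • ν₂ σ := ⟨_, rfl⟩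
  have zY : Y ∈ ZIrr G := hY ▸ sub_mem zX (ZIrr.intCast_smul (hν₂.zirr' zσ) b)
  have oY : ∀ ψ ∈ S₂, ⟪ν₂ ψ, Y⟫ = 0 := fun ψ hψ => dot_comm_zero (by
    rw [hY, dot_sub_left, dot_smul_left, hb' ψ hψ, hν₂.iso' (CS_of_ZS zσ) (mem_CS hψ), dσ ψ hψ]; ring)
  have mZ : (b : ℂ) • σ - (k : ℂ) • ψ₁ ∈ CS S₂ :=
    sub_mem (CS_smul _ (CS_of_ZS zσ)) (CS_smul _ (mem_CS hψ₁))
  have eT : T = Y + ν₂ ((b : ℂ) • σ - (k : ℂ) • ψ₁) := by
    rw [hY, hX, map_sub, map_smul, map_smul]; abel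
  have nZ : nrm ((b : ℂ) • σ - (k : ℂ) • ψ₁) = k ^ 2 + 2 * k * (b * (b - 1)) := by
    have e1 : ⟪σ, σ⟫ = 2 * k := by
      conv_lhs => arg 2; rw [hσ]
      rw [dot_sum_right, Finset.sum_congr rfl dσ, Finset.sum_const, card, nsmul_eq_mul, mul_one]
      push_cast; ring
    refine nrm_eq_of_dot ?_
    simp only [dot_sub_left, dot_sub_right, dot_smul_left, dot_smul_right, e1, dσ _ hψ₁,
      dot_comm_of_int ((dσ _ hψ₁).trans Int.cast_one.symm), dot2 _ hψ₁ _ hψ₁, if_true,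
      map_intCast, map_natCast]
    push_cast; ring
  have hc := c3 χ hχ
  have dY : ⟪Y, ν₃ χ⟫ - ⟪Y, ν₃ (conjFun χ)⟫ = 1 := by
    have := iso _ (m3 _ hc).1 β1 (m3 _ hc).2
    rw [e3 _ hχ _ hc, eT] at this
    simp only [dot_add_left, dot_sub_right, on _ mZ _ hχ, on _ mZ _ hc, dot_sub_left χ, dot_smul_left,
      (IsIrr.dirr iχ).dot_self, h.dot_conj (h3 hχ), o23 _ hψ₁ _ hχ, o23 _ hψ₁ _ hc] at this
    linear_combination this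
  have Y0 : Y ≠ 0 := by
    rintro rfl
    simp [dot_zero_left] at dY
  have nY := ZIrr.one_le_nrm zY Y0
  rw [eT, nrm_add_of_orth (dot_comm_zero (dot_map_CS_eq_zero ν₂ oY mZ)), hν₂.nrm mZ, nZ] at nT
  have b01 : b * (b - 1) = 0 := by
    have h1 : (0 : ℤ) ≤ b * (b - 1) := by nlinarith [sq_nonneg (2 * b - 1)]
    have h2 : (k : ℝ) * (b * (b - 1)) ≤ 0 := by linarith
    have h3 : (k : ℤ) * (b * (b - 1)) ≤ 0 := by exact_mod_cast h2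
    have h4 : (1 : ℤ) < k := by exact_mod_cast hk
    nlinarith
  have dirY : Dirr Y := ZIrr.dirr_of_nrm_one zY (by
    have : (b : ℝ) * (b - 1) = 0 := by exact_mod_cast b01
    rw [this] at nT
    linarith)
  have AY : ⟪A, Y⟫ = 0 := by
    have key : ∀ φ ∈ S₃, IsIrrCharacter L φ → ⟪Y, ν₃ φ⟫ ≠ 0 → ⟪A, Y⟫ = 0 := fun φ hφ iφ hne => by
      rcases dirY.dot_cases (hν₃.dirr hφ iφ) with ⟨e, -⟩ | ⟨e, -⟩ | ⟨-, -, e⟩
      · rw [e, oA φ hφ]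
      · rw [e, dot_neg_right, oA φ hφ, neg_zero]
      · exact absurd e hne
    by_cases h0 : ⟪Y, ν₃ χ⟫ = 0
    · exact key _ hc (IsIrr.conjFun iχ) fun h1 => by simp [h0, h1] at dY
    · exact key _ hχ iχ h0
  -- (9.11.8)
  obtain ⟨x, hx⟩ := ZIrr.dot_int zA (hν₂.zirr _ hψ₁)
  have hx' : ∀ ψ ∈ S₂, ⟪A, ν₂ ψ⟫ = x + 1 - if ψ₁ = ψ then 1 else 0 := fun ψ hψ => by
    have := hA _ (m2 ψ hψ).1 (m2 ψ hψ).2
    rw [e2 ψ hψ, dot_sub_right, dot_sub_right, hx, o2 _ hψ₁, o2 _ hψ, if_pos rfl] at this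
    split_ifs at this ⊢ <;> linear_combination -this
  have Aσ : ⟪A, ν₂ σ⟫ = 2 * k * (x + 1) - 1 := by
    rw [hσ, map_sum, dot_sum_right, Finset.sum_congr rfl hx', Finset.sum_sub_distrib, Finset.sum_const,
      Finset.sum_ite_eq, if_pos hψ₁, card, nsmul_eq_mul]
    push_cast; ring
  rw [eT, dot_add_right, AY, map_sub, map_smul, map_smul, dot_sub_right, dot_smul_right, dot_smul_right,
    Aσ, hx, map_intCast, map_natCast] at hAβ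
  obtain rfl : b = 0 := by
    refine (mul_eq_zero.1 b01).resolve_right fun h1 => ?_
    obtain rfl : b = 1 := by omega
    have h2 : (k : ℤ) ∣ 1 := ⟨x + 1, Int.cast_injective (α := ℂ) (by
      push_cast at hAβ ⊢; linear_combination -hAβ)⟩
    have := Int.le_of_dvd one_pos h2
    omega
  obtain ⟨ν, hν, -⟩ := h.extend_with h2 c2 hν₂ (h3 hχ) (Finset.disjoint_right.1 hd hχ)
    (CS_smul (k : ℂ) (mem_CS hψ₁)) (d3 χ hχ) zX (by rw [← hT, hX, map_smul, add_sub_cancel_right])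
    fun ψ hψ => dot_comm_zero (by rw [hb' ψ hψ, Int.cast_zero])
  exact ⟨χ, hχ, ν, hν⟩

theorem dot_indicator {K : Type*} [Group K] [Finite K] (A B : Subgroup K) [DecidablePred (· ∈ A)]
    [DecidablePred (· ∈ B)] (c : ℕ) :
    ⟪fun x => if x ∈ A then (c : ℂ) else 0, fun x => if x ∈ B then (c : ℂ) else 0⟫ =
      (c : ℂ) ^ 2 / (A ⊓ B).index := by
  classical
  have := Fintype.ofFinite K
  have e : ∀ x : K, (if x ∈ A then (c : ℂ) else 0) * conj (if x ∈ B then (c : ℂ) else 0) =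
      if x ∈ A ⊓ B then (c : ℂ) ^ 2 else 0 := fun x => by
    by_cases hA : x ∈ A <;> by_cases hB : x ∈ B <;> simp [hA, hB, sq]
  rw [dot_def]
  simp only [e]
  rw [← Finset.sum_filter, Finset.sum_const, ← Fintype.card_subtype, ← Nat.card_eq_fintype_card,
    ← (A ⊓ B).card_mul_index, nsmul_eq_mul, Nat.cast_mul]
  have h3 : (Nat.card ↥(A ⊓ B) : ℂ) ≠ 0 := Nat.cast_ne_zero.2 Nat.card_pos.ne'
  have h4 : ((A ⊓ B).index : ℂ) ≠ 0 := Nat.cast_ne_zero.2 (A ⊓ B).index_ne_zero_of_finite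
  field_simp

variable {G : Type u} [Group G] [Finite G]

/-- the norm of `Ind[M, X] 1` for `X ⊲ K ⊲ M` -/
theorem nrm_indA_one {M K X : Subgroup G} (nK : K ⊲ M) (nX : X ⊲ K) {u : ℕ}
    (hu : ∀ g ∈ M, g ∉ K → (X ⊓ X :^ g).relIndex K = u) :
    nrm (indA (nX.1.trans nK.1) 1) =
      X.relIndex K + (K.relIndex M - 1) * (X.relIndex K : ℝ) ^ 2 / u := by
  classical
  have := Fintype.ofFinite M
  have := nInj nK
  have := nInj nX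
  have eρ : indA nX.1 1 = fun x => if x ∈ X.subgroupOf K then (X.relIndex K : ℂ) else 0 := by
    funext x
    rw [ind_one_apply, index_range_incl]
    simp only [range_incl]
  have e1 : ∀ g : M, ⟪indA nX.1 1, indA nX.1 1 ∘ cj (Subgroup.inclusion nK.1) g⟫ =
      if (g : G) ∈ K then (X.relIndex K : ℂ) else (X.relIndex K : ℂ) ^ 2 / u := fun g => by
    have e2 : indA nX.1 1 ∘ cj (Subgroup.inclusion nK.1) g =
        fun x => if x ∈ (X :^ (g : G)⁻¹).subgroupOf K then (X.relIndex K : ℂ) else 0 := by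
      funext x
      simp only [eρ, Function.comp_apply, Subgroup.mem_subgroupOf, coe_cj_inclusion, mem_conjg_inv]
    rw [e2, eρ, dot_indicator, ← subgroupOf_inf']
    change _ / ((X ⊓ X :^ (g : G)⁻¹).relIndex K : ℂ) = _
    split_ifs with hg
    · rw [conjg_of_mem_norm (nX.2 (inv_mem hg)), inf_idem, sq,
        mul_div_cancel_right₀ _ (Nat.cast_ne_zero.2 (relIndex_pos _ _).ne')]
    · rw [hu _ (inv_mem g.2) (mt inv_mem_iff.1 hg)]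
  have hK : (Finset.univ.filter fun g : M => (g : G) ∈ K).card = Nat.card K := by
    rw [← Fintype.card_subtype, ← Nat.card_eq_fintype_card, ← card_subgroupOf nK.1]; rfl
  have hK' : ((Finset.univ.filter fun g : M => ¬ (g : G) ∈ K).card : ℂ) =
      Nat.card K * (K.relIndex M - 1) := by
    have := Finset.card_filter_add_card_filter_not (s := Finset.univ) fun g : M => (g : G) ∈ K
    rw [hK, Finset.card_univ, ← Nat.card_eq_fintype_card, ← card_mul_relIndex nK.1] at this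
    have := congrArg (Nat.cast : ℕ → ℂ) this
    push_cast at this
    linear_combination this
  refine nrm_eq_of_dot ?_
  rw [← indA_indA nX.1 nK.1, frob_rec _ _ (ind_mem_CF _ _), res_ind_sum, dot_smul_right, dot_sum_right,
    Finset.sum_congr rfl fun g _ => e1 g, Finset.sum_ite, Finset.sum_const, Finset.sum_const, hK,
    nsmul_eq_mul, nsmul_eq_mul, hK', map_inv₀, map_natCast]
  have h3 : (Nat.card K : ℂ) ≠ 0 := Nat.cast_ne_zero.2 Nat.card_pos.ne'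
  push_cast
  field_simp

section S9

variable {M K H U W H0 C : Subgroup G} {p : ℕ} (h : S9 M K H U W H0 C p)
include h

theorem relIndex_sup {V : Subgroup G} (hV : V ≤ U) : (H ⊔ V).relIndex K = V.relIndex U := by
  have e : K = U ⊔ (H ⊔ V) := by
    rw [← h.defK.sup_eq, sup_left_comm, sup_eq_left.2 hV]
  have n : V ≤ 𝒩(H) := hV.trans h.defK.norm
  have e2 : U ⊓ (H ⊔ V) = V := by
    rw [inf_sup_of_right_le (Or.inr n) hV, inf_comm, h.defK.inf_eq, bot_sup_eq]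
  have c1 := card_mul_relIndex ((sup_le_sup_left hV H).trans h.defK.sup_eq.le)
  rw [card_sup_of_inf_eq_bot (Or.inr n) (le_bot_iff.1 ((inf_le_inf_left H hV).trans h.defK.inf_eq.le)),
    ← h.defK.card_mul, ← card_mul_relIndex hV, mul_assoc] at c1
  exact Nat.eq_of_mul_eq_mul_left Nat.card_pos (Nat.eq_of_mul_eq_mul_left Nat.card_pos c1)

theorem sup_inf_sup {V V' : Subgroup G} (hV : V ≤ U) (hV' : V' ≤ U) :
    (H ⊔ V) ⊓ (H ⊔ V') = H ⊔ (V ⊓ V') := by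
  have e2 : U ⊓ (H ⊔ V) = V := by
    rw [inf_sup_of_right_le (Or.inr (hV.trans h.defK.norm)) hV, inf_comm, h.defK.inf_eq, bot_sup_eq]
  rw [inf_sup_of_left_le (Or.inr (hV'.trans h.defK.norm)) le_sup_left, ← inf_eq_right.2 hV',
    ← inf_assoc, inf_comm _ U, e2, inf_eq_right.2 hV']

theorem normal_HV {V : Subgroup G} (hC : C ≤ V) (hV : V ≤ U) : H ⊔ V ⊲ K := by
  refine normalIn_of_der_le ?_ ((sup_le_sup_left hV H).trans h.defK.sup_eq.le)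
  rw [← h.defK.sup_eq, comm_sup_self h.defK.norm]
  exact sup_le_sup (sup_le (CA.FG.der_le _) (comm_le_left h.defK.norm)) (h.der_le_C.trans hC)

/-- the elements of `H C_U(H₁ / H₀)` have nontrivial fixed points in `H` -/
theorem exists_fixed {H₁ : Subgroup G} (l1 : H0 < H₁) (l2 : H₁ ≤ H) {x : G}
    (hx : x ∈ H ⊔ (U ⊓ centQ H₁ H0)) : ∃ y ∈ H, y ≠ 1 ∧ y * x = x * y := by
  have xK : x ∈ K := (sup_le h.HK (inf_le_left.trans h.UK)) hx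
  have xc : x ∈ centQ H₁ H0 := (sup_le ((le_centQ_iff (h.HM.trans h.nH0) ((l2.trans h.HM).trans h.nH0)).2
    ((Subgroup.commutator_mono le_rfl l2).trans h.abel)) inf_le_right) hx
  have hall : IsPiHallOf (primesOf H) H K :=
    h.defK.complIn.pHall_left (piGrp_primesOf H) (piGrp_compl_primesOf_iff.2 h.coHU.symm)
  obtain ⟨y, z, hy, hz, py, pz, e, -⟩ := exists_piPart (primesOf H) x
  have zx : Subgroup.zpowers x ≤ K := Subgroup.zpowers_le_of_mem xK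
  by_cases y1 : y = 1
  · rw [y1, one_mul] at e
    subst e
    obtain ⟨t, ht, tH⟩ := SetLike.exists_of_lt l1
    obtain ⟨r, hr, hc⟩ := coprime_cent_coset (R := H0) (A := Subgroup.zpowers x)
      (zx.trans (h.KM.trans h.nH0))
      (((piGrp_primesOf H).of_le h.H0H).coprime (piGrp_zpowers_iff.2 pz))
      (Or.inl (sol_of_le h.solH h.H0H)) (x := t) fun a ha => by
        have := (mem_centQ ((l2.trans h.HM).trans h.nH0)).1 (Subgroup.zpowers_le_of_mem xc ha)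
        have := conj_mem_of_mem_norm' (h.nH0 (h.HM (l2 ht))) (this.2 t ht)
        simpa [mul_assoc] using this
    refine ⟨t * r, mul_mem (l2 ht) (h.H0H hr), fun e => tH ?_, (hc x (Subgroup.mem_zpowers x)).symm⟩
    rw [mul_eq_one_iff_eq_inv.1 e]
    exact inv_mem hr
  · exact ⟨y, hall.mem_of_normal (h.KM.trans h.nH) py (zx hy), y1,
      comm_of_le_cent (abelian_iff_le_cent.1 (abelian_zpowers x)) hy (Subgroup.mem_zpowers x)⟩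

end S9

end CA.PF.P09z
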