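import Cfsg.Agent.PF.P09y
import Cfsg.Agent.PF.P09e

/-!
# Peterfalvi (9.11)
-/

set_option autoImplicit false
set_option linter.unusedSectionVars false

open scoped ComplexConjugate

open Cfsg CA.FG CA.BG CA.Chr

namespace CA.PF.P09z

universe u

theorem arith_eq {c a u t P d q : ℕ} {r : ℝ} (ha : 0 < a) (hq : 0 < q) (hu : 0 < u) (h1 : P * t ≤ c * a ^ 2)
    (h2 : 2 * a ≤ P) (h3 : u ≤ t) (h4 : d ≤ q * u) (hr : 0 ≤ r)
    (h5 : r + c * ((q * a : ℕ) : ℝ) ^ 2 ≤ 2 * d * (q * a : ℕ)) :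
    d = q * u ∧ c * a = 2 * u ∧ P = 2 * a ∧ t = u ∧ r = 0 := by
  have h6 : c * (q * a) ^ 2 ≤ 2 * d * (q * a) := by
    have : (c * ((q * a : ℕ) : ℝ) ^ 2) ≤ 2 * d * (q * a : ℕ) := by linarith
    exact_mod_cast this
  have h7 : c * a * q ≤ 2 * d := Nat.le_of_mul_le_mul_right (by nlinarith) (Nat.mul_pos hq ha)
  have h8 : c * a ≤ 2 * u := Nat.le_of_mul_le_mul_right (by nlinarith) hq
  have h9 : 2 * a * u ≤ P * t := Nat.mul_le_mul h2 h3
  have h10 : c * a = 2 * u := le_antisymm h8 (Nat.le_of_mul_le_mul_right (by nlinarith) ha)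
  have h11 : P * t = 2 * a * u := by nlinarith
  have h12 : d = q * u := by nlinarith
  have h13 : P = 2 * a := le_antisymm (Nat.le_of_mul_le_mul_right (by nlinarith) hu) h2
  refine ⟨h12, h10, h13, ?_, le_antisymm ?_ hr⟩
  · rw [h13] at h11
    exact Nat.eq_of_mul_eq_mul_left (by omega) h11
  · have e : c * (q * a) ^ 2 = 2 * d * (q * a) := by
      rw [h12]
      calc c * (q * a) ^ 2 = c * a * (q * (q * a)) := by ring
        _ = _ := by rw [h10]; ring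
    have : (c * ((q * a : ℕ) : ℝ) ^ 2) = 2 * d * (q * a : ℕ) := by exact_mod_cast e
    linarith

theorem arith_lt {a q u n : ℕ} (ha : 1 ≤ a) (hq : 3 ≤ q) (hu : 0 < u) (hua : u ≤ a ^ 2)
    (h : (2 * a + 1) ^ q = n * q * u + 2 * a * q + 2 * a * u + 1) :
    (a : ℝ) + (q - 1) * a ^ 2 / u + 1 < n := by
  by_contra! hc
  have hu' : (0 : ℝ) < u := by exact_mod_cast hu
  have h1 : (n : ℝ) * u ≤ (a + 1) * u + (q - 1) * a ^ 2 := by
    have := mul_le_mul_of_nonneg_right hc hu'.le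
    rwa [show ((a : ℝ) + (q - 1) * a ^ 2 / u + 1) * u = (a + 1) * u + (q - 1) * a ^ 2 by
      field_simp; ring] at this
  have h2 : n * u + a ^ 2 ≤ (a + 1) * u + q * a ^ 2 := by
    have : (n : ℝ) * u + a ^ 2 ≤ (a + 1) * u + q * a ^ 2 := by linarith
    exact_mod_cast this
  have h3 := arith_pow ha hq
  have h4 := Nat.mul_le_mul_left q h2
  have h5 := Nat.mul_le_mul_left (q * (a + 1) + 2 * a) hua
  rw [h] at h3
  nlinarith

variable {G : Type u} [Group G] [MinSimpleOdd G] {M W₁ U W₂ : Subgroup G} (maxM : IsCoatom M)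
  (hP : IsTypePWith M W₁ U W₂) (nt5 : FTtype M ≠ 5)
include maxM hP nt5

theorem subcoh (N : Subgroup G) : ∃ R, Subcoh (SP M (fittingHallOf M) N) (tau0 M) R := by
  obtain ⟨R, h, -⟩ := FTtypeP_subcoh maxM hP
  exact ⟨R, h.mono (SD_mono (Fcore_le_FTcore maxM) bot_le) (SD_conj (der_normalIn M))⟩

set_option maxHeartbeats 800000 in
open Classical in
theorem nonGal_coh {H₁ : Subgroup G} {a : ℕ} (h : NonGal M W₁ U H₁ a)
    (ha : ∀ θ : ↥⁅M, M⁆ → ℂ, IsIrrCharacter _ θ → ¬ (fittingHallOf M).subgroupOf _ ≤ cfker θ →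
      (kerH0 M U).subgroupOf _ ≤ cfker θ → a ∣ deg θ)
    (hd1 : a ^ 2 * Nat.card ↥⁅U, U⁆ ∣ (primeH M U - 1) * Nat.card U)
    (hd2 : (primeH M U - 1) * Nat.card U / (a ^ 2 * Nat.card ↥⁅U, U⁆) ≤
      ((SP M (fittingHallOf M) (kerH0 M U ⊔ ⁅U, U⁆)).filter
        fun ζ => IsIrrCharacter M ζ ∧ ζ 1 = Nat.card W₁ * a).card)
    (hr1 : ((SP M (fittingHallOf M) (kerH0 M U)).filter fun ζ => ¬ IsIrrCharacter M ζ).card =
      primeH M U - 1)
    (hr2 : ∀ ζ ∈ SP M (fittingHallOf M) (kerH0 M U), ¬ IsIrrCharacter M ζ → IsIndHC M W₁ U ζ)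
    (hw : ∀ w ∈ W₁, w ≠ 1 → ∃ χ ∈ SP M (fittingHallOf M) (kerH0 M U ⊔ kerC M U), deg χ = Nat.card W₁ *
      ((U ⊓ centQ H₁ (kerH0 M U)) ⊓ (U ⊓ centQ H₁ (kerH0 M U)) :^ w).relIndex U) :
    Coh (SP M (fittingHallOf M) (kerH0 M U ⊔ ⁅kerC M U, kerC M U⁆)) (tau0 M) := by
  have s := P09.s9 maxM hP nt5
  have nM := der_normalIn M
  have P := FT_primeTI hP
  have D := FT_prDadeF maxM hP
  obtain ⟨R, hS⟩ := subcoh maxM hP nt5 (kerH0 M U ⊔ ⁅kerC M U, kerC M U⁆)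
  have sumC : ∑ φ ∈ SP M (fittingHallOf M) (kerH0 M U ⊔ kerC M U), (deg φ : ℝ) ^ 2 / nrm φ =
      Nat.card W₁ * cardUbar M U * (primeH M U ^ Nat.card W₁ - 1) := s.sum_sq le_rfl s.nC
  have hdeg : ∀ χ ∈ SP M (fittingHallOf M) (kerH0 M U ⊔ ⁅kerC M U, kerC M U⁆),
      deg χ ≤ Nat.card W₁ * cardUbar M U := fun χ hχ => s.deg_le hχ
  have sCS : SP M (fittingHallOf M) (kerH0 M U ⊔ kerC M U) ⊆
      SP M (fittingHallOf M) (kerH0 M U ⊔ ⁅kerC M U, kerC M U⁆) :=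
    SD_mono le_rfl (sup_le_sup_left (CA.FG.der_le _) _)
  have sTS : ((SP M (fittingHallOf M) (kerH0 M U ⊔ ⁅U, U⁆)).filter
      fun ζ => IsIrrCharacter M ζ ∧ ζ 1 = Nat.card W₁ * a) ⊆
      (SP M (fittingHallOf M) (kerH0 M U ⊔ ⁅kerC M U, kerC M U⁆)).filter fun ζ => ζ 1 = Nat.card W₁ * a :=
    fun ζ hζ => Finset.mem_filter.2 ⟨SD_mono le_rfl (sup_le_sup_left (der_mono s.CU) _)
      (Finset.mem_filter.1 hζ).1, (Finset.mem_filter.1 hζ).2.2⟩
  have hdvd : ∀ χ ∈ SP M (fittingHallOf M) (kerH0 M U ⊔ ⁅kerC M U, kerC M U⁆),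
      Nat.card W₁ * a ∣ deg χ := fun χ hχ => by
    obtain ⟨θ, h1, h2, h3, rfl⟩ := mem_SD.1 hχ
    rw [deg_indA _ (IsIrr.isChar h1), s.idxK]
    exact Nat.mul_dvd_mul_left _ (ha θ h1 h2 ((Subgroup.comap_mono le_sup_left).trans h3))
  have oγ : ∀ {X : Subgroup G} (hX : X ≤ M), fittingHallOf M ≤ X →
      ∀ ψ ∈ SP M (fittingHallOf M) (kerH0 M U ⊔ ⁅kerC M U, kerC M U⁆), ⟪indA hX 1, ψ⟫ = 0 :=
    fun hX hH ψ hψ => by
      obtain ⟨θ, h1, h2, -, rfl⟩ := mem_SD.1 hψ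
      obtain ⟨g, hg, hg'⟩ := SetLike.not_le_iff_exists.1 h2
      have := normalSub s.nH
      rw [frob_rec' _ _ (ind_mem_CF _ _)]
      exact dot_eq_zero_of_cfker h1 (CF_comp (ind_mem_CF _ _) _) (comap_cfker_le _ _
        (le_cfker_ind _ (subOf_le_range hX hH) (Subgroup.inclusion_injective hX) (by simp [cfker_one]) hg))
        hg'
  have supp : ∀ ψ ∈ SP M (fittingHallOf M) (kerH0 M U ⊔ ⁅kerC M U, kerC M U⁆), ∀ g, ψ g ≠ 0 →
      g ∈ (iD M).range ∧ g ∈ centSupp ((fittingHallOf M).subgroupOf M) := fun ψ hψ g hg =>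
    have := normalSub s.nH
    seqIndD_supp (subOf_le_range _ s.HK) hψ hg
  have hred : ∀ φ ∈ SP M (fittingHallOf M) (kerH0 M U), ¬ IsIrrCharacter M φ → nrm φ = Nat.card W₁ :=
    fun φ hφ hi => s.nrm_red hφ hi
  have filt : ((SP M (fittingHallOf M) (kerH0 M U ⊔ kerC M U)).filter fun ζ => ¬ IsIrrCharacter M ζ) =
      (SP M (fittingHallOf M) (kerH0 M U)).filter fun ζ => ¬ IsIrrCharacter M ζ := by
    ext ζ
    simp only [Finset.mem_filter]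
    exact ⟨fun h => ⟨SD_mono le_rfl le_sup_left h.1, h.2⟩, fun h => ⟨(hr2 ζ h.1 h.2).2.1, h.2⟩⟩
  have TC : ⁅U, U⁆ = kerC M U → ((SP M (fittingHallOf M) (kerH0 M U ⊔ ⁅U, U⁆)).filter
      fun ζ => IsIrrCharacter M ζ ∧ ζ 1 = Nat.card W₁ * a) ⊆
      (SP M (fittingHallOf M) (kerH0 M U ⊔ kerC M U)).filter fun ζ => IsIrrCharacter M ζ :=
    fun e ζ hζ => Finset.mem_filter.2 ⟨e ▸ (Finset.mem_filter.1 hζ).1, (Finset.mem_filter.1 hζ).2.1⟩
  have mT : ∀ ζ ∈ ((SP M (fittingHallOf M) (kerH0 M U ⊔ ⁅U, U⁆)).filter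
      fun ζ => IsIrrCharacter M ζ ∧ ζ 1 = Nat.card W₁ * a),
      IsIrrCharacter M ζ ∧ ζ 1 = Nat.card W₁ * a := fun ζ hζ => (Finset.mem_filter.1 hζ).2
  generalize ((SP M (fittingHallOf M) (kerH0 M U ⊔ ⁅U, U⁆)).filter
      fun ζ => IsIrrCharacter M ζ ∧ ζ 1 = Nat.card W₁ * a) = T at *
  generalize SP M (fittingHallOf M) (kerH0 M U ⊔ ⁅kerC M U, kerC M U⁆) = S at *
  have coeS : ∀ φ ∈ S, (deg φ : ℂ) = φ 1 := fun φ hφ => IsChar.coe_deg (hS.char φ hφ)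
  have posS : ∀ φ ∈ S, 0 < deg φ := fun φ hφ => IsChar.deg_pos (hS.char φ hφ) (hS.ne_zero φ hφ)
  -- a maximal coherent subset
  have c1 : ∀ χ ∈ S.filter fun ζ : M → ℂ => ζ 1 = Nat.card W₁ * a,
      conjFun χ ∈ S.filter fun ζ : M → ℂ => ζ 1 = Nat.card W₁ * a := fun χ hχ => by
    rw [Finset.mem_filter] at hχ ⊢
    exact ⟨hS.conj_mem χ hχ.1, (IsChar.conj_deg (hS.char χ hχ.1)).trans hχ.2⟩
  obtain ⟨S₂, hS₂, hmax⟩ := Finset.exists_max_image (S.powerset.filter fun X =>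
    (S.filter fun ζ : M → ℂ => ζ 1 = Nat.card W₁ * a) ⊆ X ∧ (∀ χ ∈ X, conjFun χ ∈ X) ∧ Coh X (tau0 M))
    Finset.card ⟨_, Finset.mem_filter.2 ⟨Finset.mem_powerset.2 (Finset.filter_subset _ _),
      Finset.Subset.rfl, c1, hS.uniform_sub (Finset.filter_subset _ _) c1 fun φ hφ ψ hψ =>
        (Finset.mem_filter.1 hφ).2.trans (Finset.mem_filter.1 hψ).2.symm⟩⟩
  simp only [Finset.mem_filter, Finset.mem_powerset] at hS₂ hmax
  obtain ⟨h2, s12, c2, coh2⟩ := hS₂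
  by_contra ncoh
  obtain ⟨χ₀, hχ₀⟩ : (S \ S₂).Nonempty := Finset.sdiff_nonempty.2 fun hc => ncoh (coh2.mono hc)
  have noext : ∀ χ ∈ S \ S₂, ¬ Coh (S₂ ∪ {χ, conjFun χ}) (tau0 M) := fun χ hχ hc => by
    obtain ⟨hχ, hχ'⟩ := Finset.mem_sdiff.1 hχ
    refine (hmax _ ⟨Finset.union_subset h2 (by simp [Finset.insert_subset_iff, hχ, hS.conj_mem χ hχ]),
      s12.trans Finset.subset_union_left, fun φ hφ => ?_, hc⟩).not_gt
      (Finset.card_lt_card ⟨Finset.subset_union_left, fun h => hχ' (h (by simp))⟩)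
    simp only [Finset.mem_union, Finset.mem_insert, Finset.mem_singleton] at hφ ⊢
    rcases hφ with hφ | rfl | rfl
    · exact Or.inl (c2 φ hφ)
    · exact Or.inr (Or.inr rfl)
    · exact Or.inr (Or.inl (conjFun_conjFun _))
  -- (9.11.1)
  have a1 := h.one_lt
  have p1 := s.prp.one_lt
  have oa : Odd a := h.a_def ▸ (mFT_odd U).of_dvd_nat (Subgroup.relIndex_dvd_card _ _)
  have op : Odd (primeH M U) := ((mFT_odd (fittingHallOf M)).of_dvd_nat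
    (Subgroup.relIndex_dvd_card (kerH0 M U) _)).of_dvd_nat
      (s.card_H ▸ dvd_pow_self _ Nat.card_pos.ne')
  have h2a := two_mul_lt_of_odd oa op p1 h.dvd
  have upos : 0 < cardUbar M U := relIndex_pos _ _
  have hT : (primeH M U - 1) * ⁅U, U⁆.relIndex U ≤ T.card * a ^ 2 := by
    obtain ⟨N, hN⟩ := hd1
    rw [hN, Nat.mul_div_cancel_left _ (Nat.mul_pos (by positivity) Nat.card_pos)] at hd2
    rw [← card_mul_relIndex (CA.FG.der_le U)] at hN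
    refine le_trans (le_of_eq ?_) (Nat.mul_le_mul_right _ hd2)
    exact Nat.eq_of_mul_eq_mul_left (Nat.card_pos (α := ↥⁅U, U⁆)) (by linarith)
  have hut : cardUbar M U ≤ ⁅U, U⁆.relIndex U :=
    Nat.le_of_dvd (relIndex_pos _ _) (Subgroup.relIndex_dvd_of_le_left _ s.der_le_C)
  obtain ⟨ψ₁, hψ₁⟩ : T.Nonempty := Finset.card_pos.1 (Nat.pos_of_mul_pos_right
    (lt_of_lt_of_le (Nat.mul_pos (by omega) (relIndex_pos _ _)) hT))
  have sT2 := sTS.trans s12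
  have dT : ∀ ζ ∈ T, deg ζ = Nat.card W₁ * a := fun ζ hζ => deg_eq (by rw [(mT ζ hζ).2, Nat.cast_mul])
  have sumT : ∑ φ ∈ T, (deg φ : ℝ) ^ 2 / nrm φ = T.card * ((Nat.card W₁ * a : ℕ) : ℝ) ^ 2 := by
    rw [Finset.sum_congr rfl fun φ hφ => by rw [dT φ hφ, (IsIrr.dirr (mT φ hφ).1).nrm, div_one],
      Finset.sum_const, nsmul_eq_mul]
  have fpos : ∀ φ ∈ S, 0 < (deg φ : ℝ) ^ 2 / nrm φ := fun φ hφ =>
    div_pos (pow_pos (Nat.cast_pos.2 (posS φ hφ)) 2) (nrm_pos (hS.ne_zero φ hφ))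
  have key : ∀ χ ∈ S \ S₂, deg χ = Nat.card W₁ * cardUbar M U ∧ T.card * a = 2 * cardUbar M U ∧
      primeH M U - 1 = 2 * a ∧ ⁅U, U⁆.relIndex U = cardUbar M U ∧
      ∑ φ ∈ S₂ \ T, (deg φ : ℝ) ^ 2 / nrm φ = 0 := fun χ hχ => by
    obtain ⟨hχ1, hχ2⟩ := Finset.mem_sdiff.1 hχ
    have := mt (hS.extend h2 c2 coh2 hχ1 hχ2 (sT2 hψ₁) (dT _ hψ₁ ▸ hdvd χ hχ1)) (noext χ hχ)
    rw [not_lt, ← Finset.sum_sdiff sT2, sumT, dT _ hψ₁] at this
    exact arith_eq (by omega) Nat.card_pos upos hT (by omega) hut (hdeg χ hχ1)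
      (Finset.sum_nonneg fun φ hφ => (fpos φ (h2 (Finset.mem_sdiff.1 hφ).1)).le) this
  obtain ⟨dχ₀, cT, ep, et, e0⟩ := key χ₀ hχ₀
  obtain rfl : S₂ = T := by
    refine Finset.Subset.antisymm (Finset.sdiff_eq_empty_iff_subset.1 ?_) sT2
    by_contra hne
    exact (Finset.sum_pos (fun φ hφ => fpos φ (h2 (Finset.mem_sdiff.1 hφ).1))
      (Finset.nonempty_iff_ne_empty.2 hne)).ne' e0
  have eC : ⁅U, U⁆ = kerC M U := by
    have := Subgroup.relIndex_mul_relIndex _ _ _ s.der_le_C s.CU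
    rw [et, cardUbar, mul_eq_right₀ (relIndex_pos _ _).ne', Subgroup.relIndex_eq_one] at this
    exact le_antisymm s.der_le_C this
  have ua : cardUbar M U ≠ a := fun e => (Finset.mem_sdiff.1 hχ₀).2 (s12 (Finset.mem_filter.2
    ⟨(Finset.mem_sdiff.1 hχ₀).1, by rw [← coeS _ (Finset.mem_sdiff.1 hχ₀).1, dχ₀, e, Nat.cast_mul]⟩))
  have sCU₁ : kerC M U ≤ U ⊓ centQ H₁ (kerH0 M U) := le_inf s.CU (s.C_le_centQ h.le2)
  obtain ⟨k, hk⟩ : a ∣ cardUbar M U := h.a_def ▸ Subgroup.relIndex_dvd_of_le_left _ sCU₁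
  have k1 : 1 < k := by
    rcases k with _ | _ | k
    · omega
    · omega
    · omega
  -- (9.11.2)
  set U₁ := U ⊓ centQ H₁ (kerH0 M U) with hU₁
  have sU₁w : ∀ w ∈ W₁, U₁ :^ w ≤ U := fun w hw => conjg_le_of_mem_norm inf_le_left (s.nUW hw)
  have tiU : ∀ w ∈ W₁, w ≠ 1 → U₁ ⊓ U₁ :^ w = kerC M U := fun w wW w1 => by
    have sC : kerC M U ≤ U₁ ⊓ U₁ :^ w := le_inf sCU₁ (by
      rw [← conjg_of_mem_norm (s.nC (Subgroup.mem_sup_right wW))]; exact conjg_mono _ sCU₁)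
    obtain ⟨χ, hχ, dχ⟩ := hw w wW w1
    by_cases h2χ : χ ∈ S₂
    · exfalso
      rw [dT χ h2χ, mul_right_inj' Nat.card_pos.ne', ← h.a_def,
        ← Subgroup.relIndex_mul_relIndex _ _ _ inf_le_left inf_le_left, eq_comm,
        mul_eq_right₀ (relIndex_pos _ _).ne', Subgroup.relIndex_eq_one] at dχ
      have nw : w ∈ 𝒩(U₁) := by
        have := mem_norm_of_conjg_le (le_conjg_iff.1 (dχ.trans inf_le_right))
        exact inv_mem_iff.1 this
      have nW : W₁ ≤ 𝒩(U₁) := by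
        rw [eq_zpowers_of_card_prime s.prW wW w1]; exact Subgroup.zpowers_le_of_mem nw
      have : U₁ ≤ kerC M U := fun x hx => s.mem_C_of_forall h.le2 h.gen hx.1 fun w hw =>
        (conj_mem_of_mem_norm' (nW hw) hx).2
      exact ua (by rw [← h.a_def, cardUbar, le_antisymm sCU₁ this])
    · rw [(key χ (Finset.mem_sdiff.2 ⟨sCS hχ, h2χ⟩)).1, mul_right_inj' Nat.card_pos.ne', cardUbar,
        ← Subgroup.relIndex_mul_relIndex _ _ _ sC (inf_le_left.trans inf_le_left),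
        mul_eq_right₀ (relIndex_pos _ _).ne', Subgroup.relIndex_eq_one] at dχ
      exact le_antisymm dχ sC
  have hua : cardUbar M U ≤ a ^ 2 := by
    obtain ⟨w, wW, w1⟩ := exists_mem_ne_one s.ntW
    have e : (U₁ :^ w).relIndex U = a := by
      have := relIndex_conjg U₁ U w
      rw [conjg_of_mem_norm (s.nUW wW)] at this
      exact this.trans h.a_def
    rw [cardUbar, ← tiU w wW w1, sq]
    exact Subgroup.relIndex_inf_le.trans (by rw [e, h.a_def])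
  -- (9.11.3)
  have q3 := P.three_le1
  have hS4 : (2 * a + 1) ^ Nat.card W₁ = (((SP M (fittingHallOf M) (kerH0 M U ⊔ kerC M U)).filter
      fun ζ => IsIrrCharacter M ζ) \ S₂).card * Nat.card W₁ * cardUbar M U + 2 * a * Nat.card W₁ +
        2 * a * cardUbar M U + 1 := by
    have f1 : ∑ φ ∈ ((SP M (fittingHallOf M) (kerH0 M U ⊔ kerC M U)).filter
        fun ζ => IsIrrCharacter M ζ) \ S₂, (deg φ : ℝ) ^ 2 / nrm φ =
        (((SP M (fittingHallOf M) (kerH0 M U ⊔ kerC M U)).filter fun ζ => IsIrrCharacter M ζ) \ S₂).card *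
          ((Nat.card W₁ * cardUbar M U : ℕ) : ℝ) ^ 2 := by
      rw [← nsmul_eq_mul, ← Finset.sum_const]
      refine Finset.sum_congr rfl fun φ hφ => ?_
      have hφ' := Finset.mem_sdiff.1 hφ
      rw [(key φ (Finset.mem_sdiff.2 ⟨sCS (Finset.mem_filter.1 hφ'.1).1, hφ'.2⟩)).1,
        (IsIrr.dirr (Finset.mem_filter.1 hφ'.1).2).nrm, div_one]
    have f2 : ∑ φ ∈ (SP M (fittingHallOf M) (kerH0 M U)).filter fun ζ => ¬ IsIrrCharacter M ζ,
        (deg φ : ℝ) ^ 2 / nrm φ =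
        (2 * a : ℕ) * (((Nat.card W₁ * cardUbar M U : ℕ) : ℝ) ^ 2 / Nat.card W₁) := by
      rw [← ep, ← hr1, ← nsmul_eq_mul, ← Finset.sum_const]
      refine Finset.sum_congr rfl fun φ hφ => ?_
      have hφ' := Finset.mem_filter.1 hφ
      rw [hred φ hφ'.1 hφ'.2, deg_eq ((hr2 φ hφ'.1 hφ'.2).1.trans (Nat.cast_mul _ _).symm)]
    rw [← Finset.sum_filter_add_sum_filter_not _ (IsIrrCharacter M), ← Finset.sum_sdiff (TC eC), sumT,
      filt, f1, f2, show primeH M U = 2 * a + 1 by omega] at sumC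
    have e1 : (S₂.card : ℝ) * a = 2 * cardUbar M U := by exact_mod_cast cT
    have q0 : (Nat.card W₁ : ℝ) ≠ 0 := Nat.cast_ne_zero.2 Nat.card_pos.ne'
    have u0 : (cardUbar M U : ℝ) ≠ 0 := Nat.cast_ne_zero.2 upos.ne'
    rw [← Nat.cast_inj (R := ℝ)]
    refine mul_left_cancel₀ u0 ?_
    push_cast at sumC ⊢
    field_simp at sumC
    linear_combination (exp := 1) (Nat.card W₁ : ℝ) * a * e1 - sumC
  -- (9.11.4)
  have nX := normal_HV s sCU₁ inf_le_left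
  have nγ := nrm_indA_one nM nX (u := cardUbar M U) fun g hg hg' => by
    obtain ⟨w, wW, x, hx, rfl⟩ := (mem_sup_of_right_le_norm' s.defM.norm).1 (s.defM.sup_eq.ge hg)
    have w1 : w ≠ 1 := by rintro rfl; exact hg' (by simpa using hx)
    rw [conjg_mul, conjg_of_mem_norm (nX.2 hx), conjg_sup, conjg_of_mem_norm (s.nH (s.WM wW)),
      sup_inf_sup s inf_le_left (sU₁w w wW), tiU w wW w1, relIndex_sup s s.CU, cardUbar]
  rw [relIndex_sup s inf_le_left, h.a_def, s.idxK] at nγ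
  have sα : ∀ g : M, (g : G) ∉ FTsupp0 M → (indA (nX.1.trans nM.1) 1 - ψ₁) g = 0 := by
    refine D.supp_of_K ?_ fun g hg => ?_
    · rw [Pi.sub_apply, indA_one, ← Subgroup.relIndex_mul_relIndex _ _ _ nX.1 nM.1,
        relIndex_sup s inf_le_left, h.a_def, s.idxK, (mT _ hψ₁).2, Pi.one_apply]
      push_cast; ring
    · by_cases h1 : ψ₁ g = 0
      · rw [Pi.sub_apply, h1, sub_zero] at hg
        obtain ⟨x, hx⟩ : ∃ x, IsConj (Subgroup.inclusion (nX.1.trans nM.1) x) g := by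
          by_contra! hc
          exact hg (ind_eq_zero fun x hx => absurd hx (hc x))
        obtain ⟨c, rfl⟩ := isConj_iff.1 hx
        obtain ⟨y, hy, y1, e⟩ := exists_fixed s (lt_of_le_of_ne h.le1 fun e => by
          have := h.card
          rw [← e, Subgroup.relIndex_self] at this
          omega) h.le2 x.2
        refine ⟨(mem_range_incl _).2 (conj_mem_of_mem_norm (nM.2 c.2) (nX.1 x.2)),
          c * ⟨y, s.HM hy⟩ * c⁻¹, Subgroup.mem_subgroupOf.2 (conj_mem_of_mem_norm (s.nH c.2) hy),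
          fun e => y1 (by simpa using e), Subtype.ext ?_⟩
        change (c : G) * y * (c : G)⁻¹ * (c * x * (c : G)⁻¹) = c * x * (c : G)⁻¹ * (c * y * (c : G)⁻¹)
        rw [conj_mul, conj_mul, e]
      · exact supp _ (h2 hψ₁) g h1
  have zα : indA (nX.1.trans nM.1) 1 - ψ₁ ∈ ZIrr M :=
    sub_mem (ZIrr.ind (one_mem _) _) (hS.zirrS _ (h2 hψ₁))
  obtain ⟨χ, hχ, coh⟩ := extend_core hS h2 c2 Finset.sdiff_subset
    (fun χ hχ => Finset.mem_sdiff.2 ⟨hS.conj_mem χ (Finset.mem_sdiff.1 hχ).1, fun hc =>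
      (Finset.mem_sdiff.1 hχ).2 (conjFun_conjFun χ ▸ c2 _ hc)⟩) Finset.disjoint_sdiff
    (S₄ := ((SP M (fittingHallOf M) (kerH0 M U ⊔ kerC M U)).filter fun ζ => IsIrrCharacter M ζ) \ S₂)
    (Finset.sdiff_subset_sdiff ((Finset.filter_subset _ _).trans sCS) Finset.Subset.rfl)
    (fun ψ hψ => (mT ψ hψ).1) (fun ψ hψ => (Finset.mem_filter.1 (Finset.mem_sdiff.1 hψ).1).2) hψ₁ k1
    (Nat.eq_of_mul_eq_mul_right (show 0 < a by omega) (by rw [cT, hk]; ring))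
    (fun ψ hψ => (mT ψ hψ).2.trans (mT _ hψ₁).2.symm)
    (fun ψ hψ => by
      rw [← coeS _ (Finset.mem_sdiff.1 hψ).1, (key ψ hψ).1, (mT _ hψ₁).2, hk]; push_cast; ring)
    (Dade.dade_mem_ZIrr D.dade zα sα)
    (by
      rw [Dade.nrm_dade D.dade (ZIrr.mem_CF zα) sα, nrm_sub_of_orth (oγ _ le_sup_left _ (h2 hψ₁)), nγ,
        (IsIrr.dirr (mT _ hψ₁).1).nrm]
      exact arith_lt (by omega) q3 upos hua hS4)
    (fun β hβ _ => Dade.dade_iso' D.dade (ZIrr.mem_CF zα)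
      (CS_le_CF (fun φ hφ => IsChar.mem_CF (hS.char φ hφ)) hβ) sα)
    (fun ψ hψ => by
      rw [dot_sub_left, oγ _ le_sup_left _ (Finset.mem_sdiff.1 hψ).1, hS.orth _ (h2 hψ₁) _
        (Finset.mem_sdiff.1 hψ).1 fun e => (Finset.mem_sdiff.1 hψ).2 (e ▸ hψ₁), sub_self])
    (fun ψ hψ => by
      rw [dot_sub_left, oγ _ le_sup_left _ (h2 hψ), zero_sub]
      split_ifs with e
      · rw [← e, (IsIrr.dirr (mT _ hψ₁).1).dot_self]
      · rw [hS.orth _ (h2 hψ₁) _ (h2 hψ) e, neg_zero])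
  exact noext χ hχ coh

/-- Peterfalvi (9.11) -/
theorem Ptype_core_coherence :
    Coh (SP M (fittingHallOf M) (kerH0 M U ⊔ ⁅kerC M U, kerC M U⁆)) (tau0 M) := by
  by_cases gal : TypePGalois M U
  · obtain ⟨R, hS⟩ := subcoh maxM hP nt5 (kerH0 M U ⊔ ⁅kerC M U, kerC M U⁆)
    have h9 := (P09.typeP_Galois_characters maxM hP nt5 gal).2.1
    exact hS.uniform fun φ hφ ψ hψ => (h9 φ hφ).1.trans (h9 ψ hψ).1.symm
  · obtain ⟨H₁, a, h⟩ := P09.typeP_Galois_Pn maxM hP nt5 gal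
    obtain ⟨ha, -, hd1, hd2⟩ := P09.typeP_nonGalois_characters maxM hP nt5 h
    have hr := P09.typeP_reducible_core_Ind maxM hP nt5
    refine nonGal_coh maxM hP nt5 h ha hd1 hd2 hr.1 hr.2 fun w hw _ => ?_
    obtain ⟨χ, h1, h2⟩ := P09.typeP_nonGalois_pair maxM hP nt5 h hw
    exact ⟨χ, h1, deg_eq (h2.trans (Nat.cast_mul _ _).symm)⟩

end CA.PF.P09z
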