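import Cfsg.Agent.PF.I09

/-!
# Peterfalvi, section 10, part a: (10.3), (10.5) (first part), (10.9)
-/

set_option autoImplicit false
set_option linter.unusedSectionVars false
set_option linter.unusedVariables false

open scoped ComplexConjugate

open Cfsg CA.FG CA.BG CA.Chr

namespace CA.PF.P10

universe u

theorem exists_linMap_of_prime {X : Type*} [Group X] [Finite X] (hX : (Nat.card X).Prime)
    {j l : X →* ℂˣ} (hj : j ≠ 1) (hl : l ≠ 1) : ∃ σ : ℂ ≃+* ℂ, linMap σ j = l := by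
  have := Fact.mk hX
  have : IsCyclic X := isCyclic_of_prime_card rfl
  have : IsMulCommutative X := IsCyclic.isMulCommutative
  have h1 : l ∈ Subgroup.zpowers j := mem_zpowers_of_prime_card (card_lin (G := X)) hj
  obtain ⟨k, rfl⟩ := (mem_powers_iff_mem_zpowers.2 h1)
  have hk : k.Coprime (Nat.card X) := by
    rw [Nat.coprime_comm, hX.coprime_iff_not_dvd]
    rintro ⟨m, rfl⟩
    exact hl (by simp only [pow_mul, lin_pow_card_eq_one, one_pow])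
  obtain ⟨σ, hσ⟩ := exists_aut_pow hX.ne_zero hk
  exact ⟨σ, TIFam.linMap_eq_pow (lin_pow_card_eq_one j) hσ⟩

theorem exists_lin_ne {X : Type*} [Group X] [Finite X] [IsMulCommutative X] (h : 3 ≤ Nat.card X)
    (j l : X →* ℂˣ) : ∃ k : X →* ℂˣ, k ≠ j ∧ k ≠ l := by
  have : 2 < Fintype.card (X →* ℂˣ) := by rw [Fintype.card_eq_nat_card, card_lin]; omega
  obtain ⟨a, b, c, hab, hac, hbc⟩ := Fintype.two_lt_card_iff.1 this
  by_contra! H
  by_cases ha : a = j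
  · exact hbc ((H b (ha ▸ hab.symm)).trans (H c (ha ▸ hac.symm)).symm)
  · by_cases hb : b = j
    · exact hac ((H a ha).trans (H c (hb ▸ hbc.symm)).symm)
    · exact hab ((H a ha).trans (H b hb).symm)

variable {G : Type u} [Group G] [MinSimpleOdd G] {M W₁ U W₂ : Subgroup G}

theorem irr_orth_mu (maxM : IsCoatom M) (hP : IsTypePWith M W₁ U W₂) {H N : Subgroup G} {ζ : M → ℂ}
    (hζ : ζ ∈ SP M H N) (iζ : IsIrrCharacter M ζ) (i j) : ⟪ζ, muP hP i j⟫ = 0 := by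
  rcases SP_cases maxM hP hζ with ⟨k, -, rfl⟩ | h
  · exact absurd iζ ((FT_primeTI hP).muS_not_irr k)
  · exact h.2 i j

theorem wM_not_mem (hP : IsTypePWith M W₁ U W₂) {x : W₁} (hx : x ≠ 1) (y : W₂) :
    (wM hP (x, y) : G) ∉ ⁅M, M⁆ := fun h =>
  hx (((FT_primeTI hP).mem_range_iff x y).1 ((mem_range_incl _).2 h))

section
variable (maxM : IsCoatom M) (hP : IsTypePWith M W₁ U W₂) (gt2 : 2 < FTtype M)
include maxM hP gt2

theorem exists_typeII_partner : ∃ S V : Subgroup G, IsCoatom S ∧ IsTypePWith S W₂ V W₁ ∧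
    FTtype S = 2 ∧ TypePPair M S W₁ W₂ := by
  obtain ⟨S, pair, V, hS⟩ := FTtypeP_pair_witness maxM hP
  exact ⟨S, V, pair.maxT, hS, pair.type2.resolve_left (by omega), pair⟩

theorem FTtype345_core_prime : (Nat.card W₂).Prime := by
  obtain ⟨S, V, maxS, hS, t2, -⟩ := exists_typeII_partner maxM hP gt2
  exact (compl_of_typeII maxS hS t2).1.2.2.1

/-- Peterfalvi (10.3) -/
theorem FTtype345_constants : ∃ d δ n, Const345 hP d δ n := by
  have h := FT_primeTI hP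
  have pr := FTtype345_core_prime maxM hP gt2
  have := h.comm2
  obtain ⟨j₀, hj₀, -⟩ := exists_lin_ne h.toOddCop.three_le2 1 1
  obtain ⟨d, hd⟩ := IsChar.exists_deg (h.mu_char 1 j₀)
  obtain ⟨n, hn⟩ := h.mu_deg_mod 1 j₀
  have hd1 : 1 < d := by
    have h0 : d ≠ 0 := fun e => IsIrr.deg_ne_zero (h.mu_irr 1 j₀) (by rw [hd, e, Nat.cast_zero])
    have h1 : d ≠ 1 := by
      rintro rfl
      obtain ⟨l, hl⟩ := IsChar.exists_lin_of_deg_one (h.mu_char 1 j₀) (by rw [hd, Nat.cast_one])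
      obtain ⟨i, hi⟩ := h.exists_mu_of_range_le (h.mu_irr 1 j₀) (by
        rw [hl, range_incl, der_subgroupOf_self]; exact commutator_le_cfker_lin l)
      exact hj₀ (h.mu_eq_iff.1 hi).2
    omega
  have e : (d : ℤ) = del (wM hP) j₀ + n * Nat.card W₁ := by
    rw [hd] at hn; exact_mod_cast hn
  have hn0 : 0 ≤ n := by
    by_contra! hlt
    have : (0 : ℤ) ≤ Nat.card W₁ := Nat.cast_nonneg _
    rcases del_cases (wM hP) j₀ with h1 | h1 <;> nlinarith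
  lift n to ℕ using hn0
  refine ⟨d, del (wM hP) j₀, n, fun i j hj => ?_, fun j hj => ?_, hd1, e⟩
  · obtain ⟨σ, rfl⟩ := exists_linMap_of_prime pr hj₀ hj
    rw [muP, h.mu_deg i (linMap σ 1), ← h.mu_map, Function.comp_apply, hd]
    simp
  · obtain ⟨σ, rfl⟩ := exists_linMap_of_prime pr hj₀ hj
    exact h.del_map _ _

omit hP in
theorem SP_eq (N : Subgroup G) : SP M (sigmaCore M) N = SP M ⁅M, M⁆ N := by
  rw [FTcore_type_gt2 maxM gt2]

omit hP in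
theorem supp1_of_der {α : M → ℂ} (h1 : α 1 = 0) (h : ∀ a : M, (a : G) ∉ ⁅M, M⁆ → α a = 0) (a : M)
    (ha : (a : G) ∉ FTsupp1 M) : α a = 0 := by
  by_cases e : a = 1
  · rw [e, h1]
  · exact h a fun hc => ha ⟨FTcore_type_gt2 maxM gt2 ▸ hc, fun e' => e (Subtype.ext e')⟩

omit hP in
theorem supp0_of_der {α : M → ℂ} (h1 : α 1 = 0) (h : ∀ a : M, (a : G) ∉ ⁅M, M⁆ → α a = 0) (a : M)
    (ha : (a : G) ∉ FTsupp0 M) : α a = 0 :=
  supp1_of_der maxM gt2 h1 h a fun hc => ha (FTsupp1_sub0 maxM hc)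

theorem muS_mem {j : W₂ →* ℂˣ} (hj : j ≠ 1) : muS (wM hP) j ∈ SP M ⁅M, M⁆ ⊥ :=
  SD_mono (typeP_F_le_der hP) le_rfl (muS_mem_SP maxM hP hj)

theorem coh_orth_eta {S : Finset (M → ℂ)} (hS : S ⊆ SP M ⁅M, M⁆ ⊥) (hc : ∀ χ ∈ S, conjFun χ ∈ S)
    {ν : (M → ℂ) →ₗ[ℂ] (G → ℂ)} (hν : CohWith S (tau0 M) ν) {ζ : M → ℂ} (hζ : ζ ∈ S)
    (hi : IsIrrCharacter M ζ) (i j) : ⟪ν ζ, etaP hP i j⟫ = 0 :=
  coherent_ortho_cycTIiso maxM hP (SP_eq maxM gt2 ⊥ ▸ hS) hc hν hζ hi i j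

section
variable {d : ℕ} {δ : ℤ} {n : ℕ} (hc : Const345 hP d δ n) {ζ : M → ℂ} (hζ : ζ ∈ SP M ⁅M, M⁆ ⊥)
  (iζ : IsIrrCharacter M ζ) (dζ : ζ 1 = Nat.card W₁)

omit maxM gt2 in
include hc in
theorem sign_cases : δ = 1 ∨ δ = -1 := by
  have h := FT_primeTI hP
  have := h.comm2
  obtain ⟨j, hj, -⟩ := exists_lin_ne h.toOddCop.three_le2 1 1
  exact hc.sign j hj ▸ del_cases _ j

omit maxM gt2 in
include hc in
theorem sign_cases' : (δ : ℂ) = 1 ∨ (δ : ℂ) = -1 := by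
  rcases sign_cases hP hc with h | h <;> simp [h]

omit maxM gt2 in
include hc in
theorem ratio' : (d : ℂ) = δ + n * Nat.card W₁ := by exact_mod_cast hc.ratio

include hc hζ iζ dζ

theorem vchar_FTtype345_bridge (i j) : bridge345 hP δ n ζ i j ∈ ZIrr M :=
  have h := FT_primeTI hP
  sub_mem (sub_mem (h.mu_zirr i j) (ZIrr.intCast_smul (h.mu_zirr i 1) δ))
    (ZIrr.natCast_smul (IsIrr.mem_ZIrr iζ) n)

theorem bridge_CF (i j) : bridge345 hP δ n ζ i j ∈ CF M :=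
  ZIrr.mem_CF (vchar_FTtype345_bridge maxM hP gt2 hc hζ iζ dζ i j)

theorem bridge_W (i) {j} (hj : j ≠ 1) {x : W₁} (hx : x ≠ 1) (y : W₂) :
    bridge345 hP δ n ζ i j (wM hP (x, y)) = δ * ((i x : ℂ) * j y - i x) := by
  have h := FT_primeTI hP
  simp only [bridge345, Pi.sub_apply, Pi.smul_apply, smul_eq_mul, h.mu_on _ _ hx, hc.sign j hj,
    h.del_one, SD_eq_zero (der_normalIn M) hζ (wM_not_mem hP hx y)]
  simp; ring

/-- Peterfalvi (10.5), first part -/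
theorem supp_FTtype345_bridge (i) {j} (hj : j ≠ 1) (a : M) (ha : (a : G) ∉ FTsupp0 M) :
    bridge345 hP δ n ζ i j a = 0 := by
  have h := FT_primeTI hP
  have h1 : bridge345 hP δ n ζ i j 1 = 0 := by
    simp only [bridge345, Pi.sub_apply, Pi.smul_apply, smul_eq_mul, hc.deg i j hj, h.mu_one_deg, dζ,
      ratio' hP hc]
    ring
  refine (FT_prDade maxM hP).supp_of (bridge_CF maxM hP gt2 hc hζ iζ dζ i j) h1
    (fun g hg h0 => ⟨g, ?_, fun e => h0 (e ▸ h1), rfl⟩) (fun x hx => ?_) a ha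
  · rw [FTcore_type_gt2 maxM gt2]
    exact (mem_range_incl _).1 hg
  · rw [bridge_W maxM hP gt2 hc hζ iζ dζ i hj hx]; simp

theorem vchar_Dade_FTtype345_bridge (i) {j} (hj : j ≠ 1) :
    tau0 M (bridge345 hP δ n ζ i j) ∈ ZIrr G :=
  Dade.dade_mem_ZIrr (FT_Dade0_hyp maxM) (vchar_FTtype345_bridge maxM hP gt2 hc hζ iζ dζ i j)
    (supp_FTtype345_bridge maxM hP gt2 hc hζ iζ dζ i hj)

theorem dot_tau_bridge (i) {j} (hj : j ≠ 1) {β : M → ℂ} (hβ : β ∈ CF M) :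
    ⟪tau0 M (bridge345 hP δ n ζ i j), tau0 M β⟫ = ⟪bridge345 hP δ n ζ i j, β⟫ :=
  Dade.dade_iso' (FT_Dade0_hyp maxM) (bridge_CF maxM hP gt2 hc hζ iζ dζ i j) hβ
    (supp_FTtype345_bridge maxM hP gt2 hc hζ iζ dζ i hj)

theorem dot_bridge_irr (i j) {H N : Subgroup G} {ξ : M → ℂ} (hξ : ξ ∈ SP M H N)
    (iξ : IsIrrCharacter M ξ) : ⟪bridge345 hP δ n ζ i j, ξ⟫ = if ζ = ξ then -(n : ℂ) else 0 := by
  simp only [bridge345, dot_sub_left, dot_smul_left, dot_comm_zero (irr_orth_mu maxM hP hξ iξ _ _),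
    IsIrr.dot_eq iζ iξ]
  split_ifs <;> simp

theorem dot_bridge_muS (i) {j} (hj : j ≠ 1) (k) :
    ⟪bridge345 hP δ n ζ i j, muS (wM hP) k⟫ = (if j = k then 1 else 0) - if k = 1 then (δ : ℂ) else 0 := by
  have h := FT_primeTI hP
  have : ⟪ζ, muS (wM hP) k⟫ = 0 := by
    rw [muS, dot_sum_right]; exact Finset.sum_eq_zero fun l _ => irr_orth_mu maxM hP hζ iζ l k
  simp only [bridge345, dot_sub_left, dot_smul_left, h.dot_mu_muS, this, eq_comm (a := (1 : W₂ →* ℂˣ))]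
  split_ifs <;> simp

theorem norm_FTtype345_bridge (i) {j} (hj : j ≠ 1) :
    nrm (tau0 M (bridge345 hP δ n ζ i j)) = 2 + n ^ 2 := by
  have h := FT_primeTI hP
  rw [Dade.nrm_dade (FT_Dade0_hyp maxM) (bridge_CF maxM hP gt2 hc hζ iζ dζ i j)
    (supp_FTtype345_bridge maxM hP gt2 hc hζ iζ dζ i hj), bridge345, nrm_sub_of_orth, nrm_sub_of_orth,
    nrm_smul, nrm_smul, IsIrr.nrm (h.mu_irr _ _), IsIrr.nrm (h.mu_irr _ _), IsIrr.nrm iζ]
  · rcases sign_cases' hP hc with e | e <;> simp [e] <;> norm_num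
  · simp [dot_smul_right, h.dot_mu, hj]
  · simp [dot_smul_right, dot_sub_left, dot_smul_left, dot_comm_zero (irr_orth_mu maxM hP hζ iζ _ _)]

theorem bridge_split (i) {j} (hj : j ≠ 1) {X Y : G → ℂ} (e : tau0 M (bridge345 hP δ n ζ i j) = X + Y)
    (hY : Y ∈ ZIrr G) (oX : ⟪X, Y⟫ = 0) (nY : nrm Y = n ^ 2) (oY : ∀ k l, ⟪Y, etaP hP k l⟫ = 0) :
    X = (δ : ℂ) • (etaP hP i j - etaP hP i 1) := by
  have hf := FT_fam hP
  have eX : X = tau0 M (bridge345 hP δ n ζ i j) - Y := by rw [e, add_sub_cancel_right]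
  have nX : nrm X = 2 := by
    have := norm_FTtype345_bridge maxM hP gt2 hc hζ iζ dζ i hj
    rw [e, nrm_add_of_orth oX, nY] at this
    linarith
  refine hf.eq_signed_sub (eX ▸ sub_mem (vchar_Dade_FTtype345_bridge maxM hP gt2 hc hζ iζ dζ i hj) hY)
    nX (sign_cases' hP hc) hj fun x y hx hy => ?_
  rw [eX, Pi.sub_apply, hf.vanish_of_orth (ZIrr.mem_CF hY) oY hx hy,
    (FT_prDade maxM hP).dade_V (bridge_CF maxM hP gt2 hc hζ iζ dζ i j) hx hy,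
    bridge_W maxM hP gt2 hc hζ iζ dζ i hj hx, Pi.smul_apply, Pi.sub_apply, hf.eq_on _ _ hx hy,
    hf.eq_on _ _ hx hy]
  simp

/-- Peterfalvi (10.5), second part -/
theorem FTtype345_bridge_coherence {S₁ : Finset (M → ℂ)} {ν : (M → ℂ) →ₗ[ℂ] (G → ℂ)}
    (hν : CohWith S₁ (tau0 M) ν) (hS : S₁ ⊆ SP M ⁅M, M⁆ ⊥) (cS : ∀ χ ∈ S₁, conjFun χ ∈ S₁)
    (iS : ∀ χ ∈ S₁, IsIrrCharacter M χ) (i) {j} (hj : j ≠ 1) {X : G → ℂ} {Y : M → ℂ}
    (hY : Y ∈ ZS S₁) (e : tau0 M (bridge345 hP δ n ζ i j) = X + ν Y) (oX : ∀ χ ∈ S₁, ⟪ν χ, X⟫ = 0)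
    (nY : nrm Y = n ^ 2) : X = (δ : ℂ) • (etaP hP i j - etaP hP i 1) :=
  bridge_split maxM hP gt2 hc hζ iζ dζ i hj e (hν.zirr' hY)
    (dot_comm_zero (dot_map_CS_eq_zero ν oX (CS_of_ZS hY))) (by rw [hν.nrm (CS_of_ZS hY), nY])
    fun k l => dot_map_CS_eq_zero ν
      (fun χ hχ => coh_orth_eta maxM hP gt2 hS cS hν hχ (iS χ hχ) k l) (CS_of_ZS hY)

theorem def_tau_alpha {S₁ : Finset (M → ℂ)} {ν : (M → ℂ) →ₗ[ℂ] (G → ℂ)}
    (hν : CohWith S₁ (tau0 M) ν) (hS : S₁ ⊆ SP M ⁅M, M⁆ ⊥) (cS : ∀ χ ∈ S₁, conjFun χ ∈ S₁)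
    (hζ₁ : ζ ∈ S₁) (i) {j} (hj : j ≠ 1) (h : ⟪tau0 M (bridge345 hP δ n ζ i j), ν ζ⟫ = -n) :
    tau0 M (bridge345 hP δ n ζ i j) = (δ : ℂ) • (etaP hP i j - etaP hP i 1) - (n : ℂ) • ν ζ := by
  have hd := hν.dirr hζ₁ iζ
  rw [← bridge_split maxM hP gt2 hc hζ iζ dζ i hj
    (X := tau0 M (bridge345 hP δ n ζ i j) + (n : ℂ) • ν ζ) (Y := -((n : ℂ) • ν ζ)) (by simp)
    (neg_mem (ZIrr.natCast_smul hd.mem_ZIrr n))
    (by simp [dot_neg_right, dot_smul_right, dot_add_left, dot_smul_left, h, hd.dot_self])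
    (by simp [nrm_neg, nrm_smul, hd.nrm])
    (fun k l => by simp [dot_neg_left, dot_smul_left, coh_orth_eta maxM hP gt2 hS cS hν hζ₁ iζ])]
  simp

end

theorem mu0_sub_deg {ζ : M → ℂ} (dζ : ζ 1 = Nat.card W₁) : (muS (wM hP) 1 - ζ) 1 = 0 := by
  have h := FT_primeTI hP
  rw [Pi.sub_apply, h.muS_deg 1, h.mu_one_deg, dζ]; simp

theorem mu0_sub_off {ζ : M → ℂ} (hζ : ζ ∈ SP M ⁅M, M⁆ ⊥) (a : M) (ha : (a : G) ∉ ⁅M, M⁆) :
    (muS (wM hP) 1 - ζ) a = 0 := by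
  rw [Pi.sub_apply, (FT_primeTI hP).muS_eq_zero 1 (mt (mem_range_incl _).1 ha),
    SD_eq_zero (der_normalIn M) hζ ha, sub_zero]

/-- Peterfalvi (10.9) -/
theorem FTtype345_Dade_bridge0 {ζ : M → ℂ} (hζ : ζ ∈ SP M ⁅M, M⁆ ⊥) (iζ : IsIrrCharacter M ζ)
    (dζ : ζ 1 = Nat.card W₁) (h : Nat.card W₁ < Nat.card W₂) :
    ∃ χ, tau0 M (muS (wM hP) 1 - ζ) = ∑ i, etaP hP i 1 - χ ∧ Dirr χ ∧
      ∀ i j, ⟪χ, etaP hP i j⟫ = 0 := by
  have hT := FT_primeTI hP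
  have hf := FT_fam hP
  have hD := FT_Dade0_hyp maxM
  have zα := sub_mem (hT.muS_zirr 1) (IsIrr.mem_ZIrr iζ)
  have cα := ZIrr.mem_CF zα
  have sα := supp0_of_der maxM gt2 (mu0_sub_deg maxM hP gt2 dζ) (mu0_sub_off maxM hP gt2 hζ)
  set φ := tau0 M (muS (wM hP) 1 - ζ) with hφ
  have zφ : φ ∈ ZIrr G := Dade.dade_mem_ZIrr hD zα sα
  have o1 : ⟪muS (wM hP) 1, ζ⟫ = 0 := by
    rw [muS, dot_sum_left]
    exact Finset.sum_eq_zero fun l _ => dot_comm_zero (irr_orth_mu maxM hP hζ iζ l 1)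
  have nφ : nrm φ = (Nat.card W₁ + 1 : ℕ) := by
    rw [hφ, Dade.nrm_dade hD cα sα, nrm_sub_of_orth o1, hT.nrm_muS, IsIrr.nrm iζ]; simp
  have h1 : ⟪φ, etaP hP 1 1⟫ = 1 := by
    rw [hf.one, hφ, Dade.dot_dade_one hD cα sα, dot_sub_left, SD_dot_one (der_normalIn M) hζ,
      ← hT.mu_one_one, hT.dot_muS_mu]
    simp
  have nc := hf.NC_le_of_nrm zφ nφ.le
  have w1 := hT.toOddCop.three_le1
  have w2 := hT.toOddCop.card_ne
  have hV : ∀ x y, x ≠ 1 → y ≠ 1 → φ (wG hP (x, y)) = 0 := fun x y hx hy =>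
    (FT_prDade maxM hP).dade_vanish_V cα
      (fun g hg => mu0_sub_off maxM hP gt2 hζ g (mt (mem_range_incl _).2 hg)) x y hx hy
  rcases hf.small_NC (ZIrr.mem_CF zφ) hV (by omega) (by omega) with ⟨l, c, hl⟩ | ⟨k, c, hk⟩
  · have := hl 1 1
    rw [h1] at this
    obtain rfl : 1 = l := by_contra fun e => by simp [e] at this
    obtain rfl : 1 = c := by simpa using this
    have oχ : ∀ i j, ⟪∑ i, etaP hP i 1 - φ, etaP hP i j⟫ = 0 := fun i j => by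
      rw [dot_sub_left, hl, dot_sum_left]
      simp [hf.orth, ite_and, eq_comm (a := j)]
    refine ⟨∑ i, etaP hP i 1 - φ, by simp, ZIrr.dirr_of_nrm_one
      (sub_mem (sum_mem fun i _ => hf.zirr i 1) zφ) ?_, oχ⟩
    have e : φ = ∑ i, etaP hP i 1 - (∑ i, etaP hP i 1 - φ) := by simp
    have n2 : nrm (∑ i, etaP hP i 1) = Nat.card W₁ := by
      rw [nrm_sum_of_orth _ _ fun i _ k _ hik => by simp [hf.orth, hik]]
      simp [(hf.dirr _ _).nrm, hf.card_lin1]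
    rw [e, nrm_sub_of_orth (by
      rw [dot_sum_left]; exact Finset.sum_eq_zero fun i _ => dot_comm_zero (oχ i 1)), n2] at nφ
    push_cast at nφ
    linarith
  · have := hk 1 1
    rw [h1] at this
    obtain rfl : 1 = k := by_contra fun e => by simp [e] at this
    obtain rfl : 1 = c := by simpa using this
    have := hf.le_NC_of_row (θ := φ) (k := 1) fun j => by simp [hk]
    omega

end

end CA.PF.P10
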