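import Cfsg.Agent.PF.P10a

/-!
# Peterfalvi, section 10, part b: (10.5)-(10.8)
-/

set_option autoImplicit false
set_option linter.unusedSectionVars false
set_option linter.unusedVariables false

open scoped ComplexConjugate

open Cfsg CA.FG CA.BG CA.Chr

namespace CA.PF.P10

universe u

theorem card_dvd_relIndex_pred {G : Type*} [Group G] [Finite G] {K R N : Subgroup G} (nK : R ≤ 𝒩(K))
    (nsN : N ⊲ K) (nN : R ≤ 𝒩(N)) (co : (Nat.card K).Coprime (Nat.card R))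
    (h : ∀ x ∈ R, x ≠ 1 → K ⊓ 𝒞[x] ≤ N) : Nat.card R ∣ N.relIndex K - 1 := by
  have ti : N ⊓ R = ⊥ := inf_eq_bot_of_cop (co.coprime_dvd_left (Subgroup.card_dvd_of_le nsN.1))
  rw [← card_quot nsN.2, ← card_quot_of_inf_eq_bot nN ti]
  refine regular_norm_dvd_pred (quot_norm N nK) fun y hy nty => ?_
  obtain ⟨x, hx, rfl⟩ := mem_quot.1 hy
  have sx := Subgroup.zpowers_le.2 hx
  rw [← cent_zpowers, ← quot_zpowers, ← coprime_quotient_cent nsN.1 (sx.trans nN)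
    (co.coprime_dvd_right (Subgroup.card_dvd_of_le sx))
    (Or.inr (have := abelian_zpowers (x : G); inferInstance)), cent_zpowers]
  exact quot_eq_bot_of_le (h x hx fun e => nty (by rw [show x = 1 from Subtype.ext e, map_one]))

theorem two_mul_add_one_le {a b : ℕ} (ha : Odd a) (hb : Odd b) (h1 : 1 < b) (h : a ∣ b - 1) :
    2 * a + 1 ≤ b := by
  obtain ⟨k, hk⟩ := h
  obtain ⟨m, rfl⟩ := hb
  have h2 : Even (a * k) := by rw [← hk]; simp
  obtain ⟨l, rfl⟩ := (Nat.even_mul.1 h2).resolve_left (Nat.not_even_iff_odd.2 ha)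
  rcases l with _ | l
  · simp at hk; omega
  · have : a * (l + 1 + (l + 1)) = 2 * a + 2 * (a * l) := by ring
    omega

theorem ncard_le_nrm_indicator {X : Type*} [Finite X] {A B : Set X} (hAB : A ⊆ B) {χ : X → ℂ}
    (h : ∀ x ∈ A, 1 ≤ ‖χ x‖) : (A.ncard : ℝ) / Nat.card X ≤ nrm (B.indicator χ) := by
  cases nonempty_fintype X
  rw [← nrm_indicator_one, nrm_def, nrm_def]
  refine mul_le_mul_of_nonneg_left (Finset.sum_le_sum fun x _ => ?_) (by positivity)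
  by_cases hx : x ∈ A
  · rw [Set.indicator_of_mem hx, Set.indicator_of_mem (hAB hx)]
    simpa using one_le_pow₀ (n := 2) (h x hx)
  · rw [Set.indicator_of_notMem hx]; simp

variable {G : Type u} [Group G] [MinSimpleOdd G] {M W₁ U W₂ : Subgroup G}

theorem typeP_cent1_le_der2 (hP : IsTypePWith M W₁ U W₂) :
    ∀ x ∈ W₁, x ≠ 1 → ⁅M, M⁆ ⊓ 𝒞[x] ≤ ⁅⁅M, M⁆, ⁅M, M⁆⁆ := fun x hx ntx =>
  (hP.W₂_centralizer x hx ntx).le.trans (hP.W₂_le.trans inf_le_right)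

theorem typeP_coprime_der (hP : IsTypePWith M W₁ U W₂) :
    (Nat.card ↥⁅M, M⁆).Coprime (Nat.card W₁) := (FT_primeTI hP).hall.symm

theorem typeP_der2_lt (hP : IsTypePWith M W₁ U W₂) : ⁅⁅M, M⁆, ⁅M, M⁆⁆ < ⁅M, M⁆ :=
  der_lt_of_sol (sol_of_le (of_typeP_sol hP) (der_le M))
    (ne_bot_mono (typeP_W2_le_der hP) (typeP_W2_ne_bot hP))

theorem typeP_dvd_der_index (hP : IsTypePWith M W₁ U W₂) :
    Nat.card W₁ ∣ ⁅⁅M, M⁆, ⁅M, M⁆⁆.relIndex ⁅M, M⁆ - 1 :=
  have n1 := (typeP_W1_le hP).trans (der_normalIn M).2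
  card_dvd_relIndex_pred n1 (der_normalIn _) (norm_comm n1 n1) (typeP_coprime_der hP)
    (typeP_cent1_le_der2 hP)

theorem typeP_der_lb (hP : IsTypePWith M W₁ U W₂) :
    (2 * Nat.card W₁ + 1) * Nat.card W₂ ≤ Nat.card ↥⁅M, M⁆ := by
  have e := card_mul_relIndex (typeP_der2_lt hP).le
  have h1 : 1 < ⁅⁅M, M⁆, ⁅M, M⁆⁆.relIndex ⁅M, M⁆ := by
    have := relIndex_pos ⁅⁅M, M⁆, ⁅M, M⁆⁆ ⁅M, M⁆
    have := mt Subgroup.relIndex_eq_one.1 (typeP_der2_lt hP).not_ge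
    omega
  rw [← e, mul_comm]
  exact Nat.mul_le_mul (Subgroup.card_le_of_le (hP.W₂_le.trans inf_le_right))
    (two_mul_add_one_le (mFT_odd _) ((mFT_odd _).of_dvd_nat (Dvd.intro_left _ e)) h1
      (typeP_dvd_der_index hP))

theorem supp_sub_FTsupp (maxM : IsCoatom M) (hP : IsTypePWith M W₁ U W₂) {φ ψ : M → ℂ}
    (hφ : φ ∈ SP M (sigmaCore M) ⊥) (hψ : ψ ∈ SP M (sigmaCore M) ⊥) (hd : φ 1 = ψ 1) (a : M)
    (ha : (a : G) ∉ FTsupp M) : (φ - ψ) a = 0 := by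
  by_cases e : a = 1
  · rw [e, Pi.sub_apply, hd, sub_self]
  have key : ∀ θ ∈ SP M (sigmaCore M) ⊥, θ a = 0 := fun θ hθ => by_contra fun h0 => by
    obtain ⟨h1, y, hy, nty, c⟩ := SD_supp (der_normalIn M) (FTcore_normal M).2 (FTcore_sub_der1 maxM) hθ h0
    exact ha ⟨FTder_typeP (FTtypeP_neq1 maxM hP) ▸ h1, fun e' => e (Subtype.ext e'), y, hy, nty,
      Subgroup.mem_centralizer_singleton_iff.2 c.symm⟩
  rw [Pi.sub_apply, key φ hφ, key ψ hψ, sub_self]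

theorem typeP_Dade_disjoint (maxM : IsCoatom M) (hP : IsTypePWith M W₁ U W₂) {S : Subgroup G}
    (maxS : IsCoatom S) (t2 : FTtype S = 2) (notj : ∀ g, S ≠ M :^ g) :
    Disjoint (FTDadeSupp M (FTsupp1 M)) (FTDadeSupp S (FTsupp S)) := by
  by_contra h
  obtain ⟨g, x, hx, nC, sC⟩ := (FT_Dade_support_disjoint maxM maxS notj).2.1.2 h
  obtain ⟨-, uq, -, -, -, -, fr⟩ := FTsupport_facts maxM (FTsupp_sub0 M hx) nC
  obtain ⟨E, hE⟩ := fr (by rw [← eq_uniq_mmax uq (isCoatom_conjg.2 maxS) sC, FTtypeJ, t2])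
  exact typePF_exclusion hP E (Frobenius_of_typeF hE)

variable (maxM : IsCoatom M) (hP : IsTypePWith M W₁ U W₂) (gt2 : 2 < FTtype M)
  {d : ℕ} {δ : ℤ} {n : ℕ} (hc : Const345 hP d δ n) {ζ : M → ℂ} (hζ : ζ ∈ SP M ⁅M, M⁆ ⊥)
  (iζ : IsIrrCharacter M ζ) (dζ : ζ 1 = Nat.card W₁)
include maxM hP gt2 hc hζ iζ dζ

theorem muS_deg {j} (hj : j ≠ 1) : muS (wM hP) j 1 = d * ζ 1 := by
  have e : mu (wM hP) 1 j 1 = d := hc.deg 1 j hj
  rw [(FT_primeTI hP).muS_deg 1, e, dζ, mul_comm]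

theorem sum_bridge (j) : ∑ i, bridge345 hP δ n ζ i j =
    (muS (wM hP) j - (d : ℂ) • ζ) - (δ : ℂ) • (muS (wM hP) 1 - ζ) := by
  simp only [bridge345, Finset.sum_sub_distrib, ← Finset.smul_sum, Finset.sum_const, Finset.card_univ,
    (FT_fam hP).card_lin1, ratio' hP hc, muS, ← Nat.cast_smul_eq_nsmul ℂ]
  module

theorem two_le_ratio : 2 ≤ n := by
  have h := FT_primeTI hP
  have := h.comm2
  obtain ⟨j, hj, -⟩ := exists_lin_ne h.toOddCop.three_le2 1 1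
  have od : Odd d := (mFT_odd M).of_dvd_nat (deg_eq (hc.deg 1 j hj) ▸ IsIrr.deg_dvd_card (h.mu_irr 1 j))
  have e := hc.ratio
  have := hc.one_lt
  obtain ⟨a, ha⟩ := od
  obtain ⟨b, hb⟩ := mFT_odd W₁
  rw [hb] at e
  rcases n with _ | _ | n
  · rcases sign_cases hP hc with h | h <;> omega
  · rcases sign_cases hP hc with h | h <;> omega
  · omega

theorem dot_bridge_sub (i) {j} (hj : j ≠ 1) {k} (hk : k ≠ 1) :
    ⟪tau0 M (bridge345 hP δ n ζ i j), tau0 M (muS (wM hP) k - (d : ℂ) • ζ)⟫ =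
      (if j = k then 1 else 0) + d * n := by
  rw [dot_tau_bridge maxM hP gt2 hc hζ iζ dζ i hj
    (sub_mem ((FT_primeTI hP).muS_CF k) (Subalgebra.smul_mem _ (IsIrr.mem_CF iζ) _)), dot_sub_right,
    dot_smul_right, dot_bridge_muS maxM hP gt2 hc hζ iζ dζ i hj, dot_bridge_irr maxM hP gt2 hc hζ iζ dζ i j hζ iζ]
  simp [hk]

variable {ν : (M → ℂ) →ₗ[ℂ] (G → ℂ)} (hν : CohWith (SP M ⁅M, M⁆ ⊥) (tau0 M) ν)
include hν

theorem tau_muS_sub {j} (hj : j ≠ 1) :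
    tau0 M (muS (wM hP) j - (d : ℂ) • ζ) = ν (muS (wM hP) j) - (d : ℂ) • ν ζ :=
  hν.agree_sub_smul (muS_mem maxM hP gt2 hj) hζ (muS_deg maxM hP gt2 hc hζ iζ dζ hj)

theorem zeta_orth (i j) : ⟪ν ζ, etaP hP i j⟫ = 0 :=
  coh_orth_eta maxM hP gt2 subset_rfl (SD_conj (der_normalIn M)) hν hζ iζ i j

/-- Peterfalvi (10.5), second paragraph -/
theorem tau_alpha (i) {j} (hj : j ≠ 1) :
    tau0 M (bridge345 hP δ n ζ i j) = (δ : ℂ) • (etaP hP i j - etaP hP i 1) - (n : ℂ) • ν ζ := by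
  have h := FT_primeTI hP
  have := h.comm2
  refine def_tau_alpha maxM hP gt2 hc hζ iζ dζ hν subset_rfl (SD_conj (der_normalIn M)) hζ i hj ?_
  obtain ⟨k, hk, hkj⟩ := exists_lin_ne h.toOddCop.three_le2 1 j
  obtain ⟨z, hz⟩ := ZIrr.dot_int (vchar_Dade_FTtype345_bridge maxM hP gt2 hc hζ iζ dζ i hj) (hν.zirr ζ hζ)
  have e := dot_bridge_sub maxM hP gt2 hc hζ iζ dζ i hj hk
  rw [tau_muS_sub maxM hP gt2 hc hζ iζ dζ hν hk, dot_sub_right, dot_smul_right, hz, if_neg hkj.symm] at e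
  have e2 : ⟪tau0 M (bridge345 hP δ n ζ i j), ν (muS (wM hP) k)⟫ = ((d * (z + n) : ℤ) : ℂ) := by
    simp only [map_natCast] at e
    push_cast; linear_combination e
  have cs := norm_dot_sq_le (tau0 M (bridge345 hP δ n ζ i j)) (ν (muS (wM hP) k))
  rw [e2, norm_FTtype345_bridge maxM hP gt2 hc hζ iζ dζ i hj, hν.nrm (mem_CS (muS_mem maxM hP gt2 hk)),
    h.nrm_muS, Complex.norm_intCast, sq_abs] at cs
  have cs' : ((d : ℤ) * (z + n)) ^ 2 ≤ (2 + (n : ℤ) ^ 2) * Nat.card W₁ := by exact_mod_cast cs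
  have hn : (2 : ℤ) ≤ n := by exact_mod_cast two_le_ratio maxM hP gt2 hc hζ iζ dζ
  have hw : (3 : ℤ) ≤ Nat.card W₁ := by exact_mod_cast h.toOddCop.three_le1
  have : z + n = 0 := by
    by_contra h0
    have h1 : 1 ≤ (z + n) ^ 2 := by have := sq_pos_of_ne_zero h0; omega
    have h2 : (d : ℤ) ^ 2 ≤ (2 + (n : ℤ) ^ 2) * Nat.card W₁ := by nlinarith [sq_nonneg (d : ℤ)]
    have h3 : (n : ℤ) * Nat.card W₁ - 1 ≤ d := by
      have := hc.ratio; rcases sign_cases hP hc with h | h <;> omega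
    generalize (Nat.card W₁ : ℤ) = w at *
    have h4 : ((n : ℤ) * w - 1) ^ 2 ≤ (d : ℤ) ^ 2 := by
      have : 0 ≤ (n : ℤ) * w - 1 := by nlinarith
      nlinarith
    have h5 : 0 ≤ (n : ℤ) ^ 2 * (w - 1) - 2 * n - 2 := by nlinarith
    nlinarith
  rw [hz, show z = -n by omega]; simp

/-- Peterfalvi (10.6)(a), first part -/
theorem tau1_muS {j} (hj : j ≠ 1) : ν (muS (wM hP) j) = (δ : ℂ) • ∑ i, etaP hP i j := by
  have h := FT_primeTI hP
  have hf := FT_fam hP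
  have mj := muS_mem maxM hP gt2 hj
  rcases coherent_TIred maxM hP (SP_eq maxM gt2 ⊥).ge (SD_conj (der_normalIn M)) hν hζ iζ mj with h1 | h1
  · rw [h1, hc.sign j hj]
  · exfalso
    have e := dot_bridge_sub maxM hP gt2 hc hζ iζ dζ 1 hj hj
    have hj' : j ≠ j⁻¹ := (PrimeTI.inv_ne_self_of_odd (mFT_odd W₂) hj).symm
    rw [tau_muS_sub maxM hP gt2 hc hζ iζ dζ hν hj, tau_alpha maxM hP gt2 hc hζ iζ dζ hν 1 hj, h1.1] at e
    simp [dot_sub_left, dot_sub_right, dot_smul_left, dot_smul_right, dot_neg_right, dot_sum_right,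
      hf.orth, hj', hj, zeta_orth maxM hP gt2 hc hζ iζ dζ hν,
      dot_comm_zero (zeta_orth maxM hP gt2 hc hζ iζ dζ hν _ _), (hν.dirr hζ iζ).dot_self, mul_comm] at e

/-- Peterfalvi (10.6)(a), second part -/
theorem tau_mu0_sub : tau0 M (muS (wM hP) 1 - ζ) = ∑ i, etaP hP i 1 - ν ζ := by
  have h := FT_primeTI hP
  have := h.comm2
  obtain ⟨j, hj, -⟩ := exists_lin_ne h.toOddCop.three_le2 1 1
  have e := congrArg (tau0 M) (sum_bridge maxM hP gt2 hc hζ iζ dζ j)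
  rw [map_sum, map_sub, map_smul, tau_muS_sub maxM hP gt2 hc hζ iζ dζ hν hj,
    tau1_muS maxM hP gt2 hc hζ iζ dζ hν hj] at e
  simp only [tau_alpha maxM hP gt2 hc hζ iζ dζ hν _ hj, Finset.sum_sub_distrib, ← Finset.smul_sum,
    Finset.sum_const, Finset.card_univ, (FT_fam hP).card_lin1, ratio' hP hc,
    ← Nat.cast_smul_eq_nsmul ℂ] at e
  rcases sign_cases' hP hc with h1 | h1 <;> rw [h1] at e
  · linear_combination (norm := module) e
  · linear_combination (norm := module) -e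

/-- Peterfalvi (10.6)(b) -/
theorem one_le_zeta {g : G} (hg : g ∉ FTDadeSupp M (FTsupp1 M)) (co : (orderOf g).Coprime (Nat.card W₁)) :
    1 ≤ ‖ν ζ g‖ := by
  have h := FT_primeTI hP
  have hf := FT_fam hP
  have e := tau0_eq_zero maxM (sub_mem (h.muS_CF 1) (IsIrr.mem_CF iζ))
    (supp1_of_der maxM gt2 (mu0_sub_deg maxM hP gt2 dζ) (mu0_sub_off maxM hP gt2 hζ)) hg
  rw [tau_mu0_sub maxM hP gt2 hc hζ iζ dζ hν, Pi.sub_apply, sub_eq_zero, Finset.sum_apply] at e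
  choose f hf' using fun i : W₁ →* ℂˣ =>
    hf.int_of_coprime (i := i) (j := 1) Nat.card_pos.ne' (lin_pow_card_eq_one i) (one_pow _) co
  have f1 : f 1 = 1 := by have := hf' 1; rw [hf.one, Pi.one_apply] at this; exact_mod_cast this.symm
  have finv : ∀ i, f i⁻¹ = f i := fun i => by
    have := congrFun (hf.conjFun_eq i 1) g
    rw [conjFun_apply, inv_one, hf', hf', map_intCast] at this
    exact_mod_cast this.symm
  have hs : ((∑ i, f i : ℤ) : ZMod 2) = 1 := by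
    rw [← Finset.add_sum_erase _ _ (Finset.mem_univ 1), f1, Int.cast_add, Int.cast_sum,
      Finset.sum_involution (fun i _ => i⁻¹) (fun i _ => by rw [finv]; exact CharTwo.add_self_eq_zero _)
        (fun i hi _ => PrimeTI.inv_ne_self_of_odd (mFT_odd W₁) (Finset.ne_of_mem_erase hi))
        (fun i hi => by simpa using hi) (fun i _ => inv_inv i)]
    simp
  have h0 : ∑ i, f i ≠ 0 := fun h0 => by simp [h0] at hs
  simp only [hf'] at e
  rw [← e, ← Int.cast_sum, Complex.norm_intCast]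
  exact_mod_cast Int.one_le_abs h0

/-- Peterfalvi (10.7) -/
theorem Frob_der1_type2 {S V : Subgroup G} (maxS : IsCoatom S) (hS : IsTypePWith S W₂ V W₁)
    (t2 : FTtype S = 2) : IsFrob ⁅S, S⁆ (fittingHallOf S) V := by
  classical
  have nt5 : FTtype S ≠ 5 := by omega
  refine ((typeP_reducible_core_cases maxS hS nt5).resolve_left ?_).2.2.2.2 t2
  rintro ⟨lam, hl, il, dl, -⟩
  have hT := FT_primeTI hS
  have hf := FT_fam hP
  obtain ⟨c1, c2⟩ := typeP_reducible_core_Ind maxS hS nt5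
  obtain ⟨φ, hφ⟩ := Finset.card_pos.1 (c1 ▸ Nat.sub_pos_of_lt (Ptype_factor_prime maxS hS nt5).1.one_lt)
  obtain ⟨hφ, nφ⟩ := Finset.mem_filter.1 hφ
  have dφ := (c2 φ hφ nφ).1
  obtain ⟨r, hr, rfl⟩ := (SP_cases maxS hS hφ).resolve_right fun h => nφ h.1
  have s1 : ∀ {N : Subgroup G}, SP S (fittingHallOf S) N ⊆ SP S (sigmaCore S) ⊥ := fun {N} =>
    SD_mono (Fcore_le_FTcore maxS) bot_le
  have cj := SD_conj (H := sigmaCore S) (N := ⊥) (der_normalIn S)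
  have sT : ({lam, conjFun lam, muS (wM hS) r, conjFun (muS (wM hS) r)} : Finset _) ⊆
      SP S (sigmaCore S) ⊥ := by
    simp [Finset.insert_subset_iff, s1 hl, s1 hφ, cj _ (s1 hl), cj _ (s1 hφ)]
  have cT : ∀ χ ∈ ({lam, conjFun lam, muS (wM hS) r, conjFun (muS (wM hS) r)} : Finset _),
      conjFun χ ∈ ({lam, conjFun lam, muS (wM hS) r, conjFun (muS (wM hS) r)} : Finset _) := by
    simp [conjFun_conjFun]
  obtain ⟨R, hR, -⟩ := FTtypeP_subcoh maxS hS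
  obtain ⟨ν₂, hν₂⟩ := hR.uniform_sub sT cT (by
    have : ∀ χ ∈ ({lam, conjFun lam, muS (wM hS) r, conjFun (muS (wM hS) r)} : Finset _),
        χ 1 = lam 1 := by simp [conjFun_apply, dl, dφ]
    exact fun a ha b hb => (this a ha).trans (this b hb).symm)
  have := (FT_primeTI hP).comm2
  obtain ⟨s, hs, -⟩ := exists_lin_ne (FT_primeTI hP).toOddCop.three_le2 1 1
  have o : ⟪tau0 M (muS (wM hP) s - (d : ℂ) • ζ), tau0 S (muS (wM hS) r - lam)⟫ = 0 := by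
    refine dot_eq_zero_of_disjoint fun g => ?_
    by_cases hg : g ∈ FTDadeSupp M (FTsupp1 M)
    · exact Or.inr (tau0_eq_zero maxS (sub_mem (hT.muS_CF r) (IsIrr.mem_CF il))
        (supp_sub_FTsupp maxS hS (s1 hφ) (s1 hl) (dφ.trans dl.symm))
        (Set.disjoint_left.1 (typeP_Dade_disjoint maxM hP maxS t2
          (typeP_pair_notJ (of_typeP_pair maxM hP maxS hS))) hg))
    · refine Or.inl (tau0_eq_zero maxM
        (sub_mem ((FT_primeTI hP).muS_CF s) (Subalgebra.smul_mem _ (IsIrr.mem_CF iζ) _))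
        (supp1_of_der maxM gt2 (by simp [muS_deg maxM hP gt2 hc hζ iζ dζ hs]) fun a ha => ?_) hg)
      simp [SD_eq_zero (der_normalIn M) hζ ha, SD_eq_zero (der_normalIn M) (muS_mem maxM hP gt2 hs) ha]
  obtain ⟨z, hz⟩ := ZIrr.dot_int (hν.zirr ζ hζ) (hν₂.zirr lam (by simp))
  have ol : ∀ i j, ⟪etaP hP i j, ν₂ lam⟫ = 0 := fun i j => by
    rw [← etaP_swap hP hS]
    exact dot_comm_zero (coherent_ortho_cycTIiso maxS hS sT cT hν₂ (by simp) il j i)
  obtain ⟨ε, r', hε, e⟩ : ∃ (ε : ℤ) (r' : W₁ →* ℂˣ), (ε = 1 ∨ ε = -1) ∧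
      ν₂ (muS (wM hS) r) = (ε : ℂ) • ∑ j, etaP hP r' j := by
    simp only [← etaP_swap hP hS]
    rcases coherent_TIred maxS hS sT cT hν₂ (ζ := lam) (by simp) il (k := r) (by simp) with h | h
    · exact ⟨_, r, del_cases _ r, h⟩
    · exact ⟨-del (wM hS) r, r⁻¹, by rcases del_cases (wM hS) r with h | h <;> simp [h], by simp [h.1]⟩
  rw [tau_muS_sub maxM hP gt2 hc hζ iζ dζ hν hs, tau1_muS maxM hP gt2 hc hζ iζ dζ hν hs,
    hν₂.agree_sub (by simp) (by simp) (dφ.trans dl.symm), e] at o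
  simp only [dot_sub_left, dot_sub_right, dot_smul_left, dot_smul_right, dot_sum_left, dot_sum_right,
    hf.orth, ol, hz, zeta_orth maxM hP gt2 hc hζ iζ dζ hν, ite_and] at o
  simp at o
  have o' : ε * δ + d * z = 0 := by exact_mod_cast (by linear_combination o : (ε * δ + d * z : ℂ) = 0)
  have h1 : (d : ℤ) ∣ 1 := by
    rcases hε with rfl | rfl <;> rcases sign_cases hP hc with rfl | rfl
    exacts [⟨-z, by linarith⟩, ⟨z, by linarith⟩, ⟨z, by linarith⟩, ⟨-z, by linarith⟩]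
  have := Int.le_of_dvd one_pos h1
  have := hc.one_lt
  omega

end CA.PF.P10
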