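import Cfsg.Agent.PF.P10b

/-!
# Peterfalvi (10.8)
-/

set_option autoImplicit false
set_option linter.unusedSectionVars false
set_option linter.unusedVariables false

open scoped ComplexConjugate

open Cfsg CA.FG CA.BG CA.Chr

namespace CA.PF.P10

universe u

variable {G : Type u} [Group G] [MinSimpleOdd G] {M W₁ U W₂ : Subgroup G}

theorem typeII_cover {S V : Subgroup G} (maxS : IsCoatom S) (hS : IsTypePWith S W₂ V W₁)
    (t2 : FTtype S = 2) (fr : IsFrob ⁅S, S⁆ (fittingHallOf S) V) {g : G}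
    (co : ¬ (orderOf g).Coprime (Nat.card W₁)) :
    g ∈ classSupport (sharp (fittingHallOf S)) ⊤ ∪ classSupport (zHat W₂ W₁) ⊤ := by
  obtain ⟨p, hp, h1, h2⟩ := Nat.Prime.not_coprime_iff_dvd.1 co
  obtain ⟨x, hx, ox⟩ := exists_mem_orderOf_eq (H := Subgroup.zpowers g) hp (by rwa [Nat.card_zpowers])
  obtain ⟨P, sP⟩ := sylow_exists hp (fittingHallOf S)
  obtain ⟨y, -, hy⟩ := sylow_Jsub hp (sP.trans_isHall (FTcore_facts maxS).1 hp
    (h2.trans (Subgroup.card_dvd_of_le (typeP_W2_le_F hS))))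
    (pGrp_of_card_eq (H := Subgroup.zpowers x) hp (by rw [Nat.card_zpowers, ox])) le_top
  have xH : y * x * y⁻¹ ∈ fittingHallOf S := sP.le (hy (conj_mem_conjg y (Subgroup.mem_zpowers x)))
  have ntx : y * x * y⁻¹ ≠ 1 := fun e => hp.ne_one (by rw [← ox]; simpa using e)
  have ti : NormedTI (sharp (fittingHallOf S)) ⊤ S := by
    have := (FTtypeII_ker_TI maxS t2).2.2
    rwa [FTsupp1, FTcore_type_le2 maxS t2.le] at this
  have cg : y * g * y⁻¹ ∈ 𝒞[y * x * y⁻¹] := by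
    obtain ⟨k, rfl⟩ := hx
    rw [Subgroup.mem_centralizer_singleton_iff]; group
  have gS := NormedTI_cent_le ti ⟨xH, ntx⟩ cg
  have og : ∀ z : G, orderOf (z * g * z⁻¹) = orderOf g := fun z => (MulAut.conj z).orderOf_eq g
  by_cases hd : y * g * y⁻¹ ∈ ⁅S, S⁆
  · refine Or.inl ⟨_, ⟨Frobenius_cent1_ker fr xH ntx ⟨hd, cg⟩, fun e => hp.ne_one ?_⟩, y⁻¹, trivial,
      by group⟩
    rw [← og y, e, orderOf_one] at h1
    exact Nat.dvd_one.1 h1
  · obtain ⟨a, b, ha, c⟩ := (FT_primeTI hS).exists_conj_W (g := ⟨_, gS⟩) (by rwa [mem_range_incl])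
    obtain ⟨c, hc⟩ := isConj_iff.1 c
    have e : g = (y⁻¹ * c) * wG hS (a, b) * (y⁻¹ * c)⁻¹ := by
      have : (c : G) * wG hS (a, b) * (c : G)⁻¹ = y * g * y⁻¹ := congrArg Subtype.val hc
      rw [mul_inv_rev, inv_inv, show y⁻¹ * c * wG hS (a, b) * ((c : G)⁻¹ * y) =
        y⁻¹ * (c * wG hS (a, b) * (c : G)⁻¹) * y by group, this]; group
    refine Or.inr ⟨_, (exists_of_mem_zHat hS).2 ⟨a, b, ha, ?_, rfl⟩, _, trivial, e⟩
    rintro rfl
    refine co (((FT_primeTI hS).toOddCop.cop).coprime_dvd_left ?_)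
    rw [e, show ∀ z w : G, orderOf (z * w * z⁻¹) = orderOf w from fun z w => (MulAut.conj z).orderOf_eq w,
      wG_apply]
    simpa using orderOf_dvd_natCard a

theorem noncoh_arith {m w₁ w₂ h v : ℝ} (h1 : 3 ≤ w₁) (h2 : 3 ≤ w₂) (hm : (2 * w₁ + 1) * w₂ ≤ m)
    (hv : 2 * w₂ + 1 ≤ v) (hh : 1 ≤ h) :
    w₁ / m + (m - 1) / (m * w₁) + (h - 1) / (h * v * w₂) + (w₁ - 1) * (w₂ - 1) / (w₂ * w₁) < 1 := by
  have m0 : 0 < m := by nlinarith
  have a1 : w₁ / m ≤ 1 / (2 * w₂) := by rw [div_le_div_iff₀ m0 (by positivity)]; nlinarith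
  have a2 : (m - 1) / (m * w₁) ≤ 1 / w₁ := by
    rw [div_le_div_iff₀ (by positivity) (by positivity)]; nlinarith
  have a3 : (h - 1) / (h * v * w₂) ≤ 1 / (7 * w₂) := by
    have : 0 < v := by linarith
    rw [div_le_div_iff₀ (by positivity) (by positivity)]
    have : 7 * h ≤ h * v := by nlinarith
    nlinarith
  have a4 : (w₁ - 1) * (w₂ - 1) / (w₂ * w₁) = 1 - 1 / w₁ - 1 / w₂ + 1 / (w₁ * w₂) := by
    field_simp; ring
  have a5 : 1 / (w₁ * w₂) ≤ 1 / (3 * w₂) := by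
    rw [div_le_div_iff₀ (by positivity) (by positivity)]; nlinarith
  have a6 : 1 / (2 * w₂) + 1 / (7 * w₂) + 1 / (3 * w₂) < 1 / w₂ := by
    rw [← sub_pos, show 1 / w₂ - (1 / (2 * w₂) + 1 / (7 * w₂) + 1 / (3 * w₂)) = 1 / (42 * w₂) by
      field_simp; ring]
    positivity
  linarith

theorem div_card_eq {H : Subgroup G} {a : ℕ} : ((a * H.index : ℕ) : ℝ) / Nat.card G = a / Nat.card H := by
  have : (H.index : ℝ) ≠ 0 := Nat.cast_ne_zero.2 (index_pos H).ne'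
  rw [← H.card_mul_index]; push_cast; rw [mul_div_mul_right _ _ this]

/-- Peterfalvi (10.8) -/
theorem FTtype345_noncoherence (maxM : IsCoatom M) (gt2 : 2 < FTtype M) :
    ¬ Coh (SP M ⁅M, M⁆ ⊥) (tau0 M) := by
  rintro ⟨ν, hν⟩
  obtain ⟨W₁, U, W₂, hP⟩ := FTtypeP_witness maxM (by omega)
  obtain ⟨ζ, hζ, iζ, dζ⟩ := FTtypeP_ref_irr maxM hP
  replace hζ := SD_sub_bot hζ
  obtain ⟨d, δ, n, hc⟩ := FTtype345_constants maxM hP gt2
  obtain ⟨S, V, maxS, hS, t2, -⟩ := exists_typeII_partner maxM hP gt2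
  have fr := Frob_der1_type2 maxM hP gt2 hc hζ iζ dζ hν maxS hS t2
  have hD := FT_DadeInd_der maxM gt2
  have oc := (FT_primeTI hP).toOddCop
  have lb := typeP_der_lb hP
  obtain ⟨Γ, a, -, -, -, -, -, h6⟩ := hD.Dade_Ind1_sub_lin (mFT_odd M) hν hζ iζ
    (dζ.trans (by rw [typeP_relIndex_der hP]))
  rw [typeP_relIndex_der hP] at h6
  have h7 := (h6 (le_trans (Nat.le_mul_of_pos_right _ Nat.card_pos) lb)).1.trans
    (Dade.nrm_rho_le_indicator hD.dadeH (ZIrr.mem_CF (hν.zirr ζ hζ)))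
  set D := dsupp (sharp ⁅M, M⁆) (FTsig M) with hDd
  have h8 := nrm_indicator_add_compl D (ν ζ)
  rw [(hν.dirr hζ iζ).nrm] at h8
  set C₁ := classSupport (sharp (fittingHallOf S)) ⊤
  set C₂ := classSupport (zHat W₂ W₁) ⊤
  have h9 := ncard_le_nrm_indicator (A := (D ∪ (C₁ ∪ C₂))ᶜ) (B := Dᶜ) (χ := ν ζ)
    (Set.compl_subset_compl.2 Set.subset_union_left) fun x hx =>
      one_le_zeta maxM hP gt2 hc hζ iζ dζ hν
        (by rw [FTDadeSupp_eq, FTsupp1, FTcore_type_gt2 maxM gt2]; exact fun h => hx (Or.inl h))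
        (by_contra fun h => hx (Or.inr (typeII_cover maxS hS t2 fr h)))
  have ti : NormedTI (sharp (fittingHallOf S)) ⊤ S := by
    have := (FTtypeII_ker_TI maxS t2).2.2
    rwa [FTsupp1, FTcore_type_le2 maxS t2.le] at this
  have c0 : (D.ncard : ℝ) / Nat.card G = (Nat.card ↥⁅M, M⁆ - 1) / (Nat.card ↥⁅M, M⁆ * Nat.card W₁) := by
    rw [hDd, Dade.ncard_dsupp hD.dadeH, div_card_eq, ncard_sharp, ← (typeP_sdprod_M hP).card_mul,
      Nat.cast_sub Nat.card_pos]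
    simp
  have c1 : (C₁.ncard : ℝ) / Nat.card G = (Nat.card (fittingHallOf S) - 1) /
      (Nat.card (fittingHallOf S) * Nat.card V * Nat.card W₂) := by
    rw [P14.ncard_classSupport_normedTI ti, div_card_eq, ncard_sharp, ← (typeP_sdprod_M hS).card_mul,
      ← fr.1.card_mul, Nat.cast_sub Nat.card_pos]
    simp
  have c2 : (C₂.ncard : ℝ) / Nat.card G =
      (Nat.card W₁ - 1) * (Nat.card W₂ - 1) / (Nat.card W₂ * Nat.card W₁) := by
    rw [P14.ncard_classSupport_normedTI (snc_normedTI hS.selfNormalizing), div_card_eq,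
      P14.ncard_zHat (snc_dprod hS.selfNormalizing), ← (snc_dprod hS.selfNormalizing).card_mul,
      Nat.cast_mul, Nat.cast_sub Nat.card_pos, Nat.cast_sub Nat.card_pos, mul_comm]
    simp
  have fv := typeP_Frobenius_UW1 hS fr.2.2.1
  have hv := (IsFrob_index_bound fv (mFT_odd _)).2
  rw [fv.1.complIn.relIndex_left] at hv
  have key := noncoh_arith (m := Nat.card ↥⁅M, M⁆) (w₁ := Nat.card W₁) (w₂ := Nat.card W₂)
    (h := Nat.card (fittingHallOf S)) (v := Nat.card V) (by exact_mod_cast oc.three_le1)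
    (by exact_mod_cast oc.three_le2) (by exact_mod_cast lb) (by exact_mod_cast hv)
    (by exact_mod_cast Nat.card_pos)
  have c3 : (Nat.card G : ℝ) ≤ D.ncard + (C₁.ncard + C₂.ncard) + (D ∪ (C₁ ∪ C₂))ᶜ.ncard := by
    rw [← Set.ncard_add_ncard_compl (D ∪ (C₁ ∪ C₂))]
    exact_mod_cast Nat.add_le_add_right ((Set.ncard_union_le _ _).trans
      (Nat.add_le_add_left (Set.ncard_union_le _ _) _)) _
  have g0 : (0 : ℝ) < Nat.card G := by exact_mod_cast Nat.card_pos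
  rw [← one_le_div g0, add_div, add_div, add_div] at c3
  linarith

end CA.PF.P10
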