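import Cfsg.Agent.PF.P10c

/-!
# Peterfalvi (10.10)
-/

set_option autoImplicit false
set_option linter.unusedSectionVars false
set_option linter.unusedVariables false

open scoped ComplexConjugate

open Cfsg CA.FG CA.BG CA.Chr

namespace CA.PF.P10

universe u

variable {G : Type u} [Group G] [MinSimpleOdd G] {M W₁ U W₂ : Subgroup G}

theorem der2_deg (hP : IsTypePWith M W₁ U W₂) {φ : M → ℂ} (hφ : φ ∈ SP M ⁅M, M⁆ ⁅⁅M, M⁆, ⁅M, M⁆⁆) :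
    φ 1 = Nat.card W₁ := by
  obtain ⟨θ, iθ, -, h, rfl⟩ := mem_SD.1 hφ
  obtain ⟨l, rfl⟩ := IsIrr.exists_lin_of_commutator iθ (by rwa [← der_subgroupOf_self])
  rw [indA_one, typeP_relIndex_der hP]; simp

section
variable (maxM : IsCoatom M) (hP : IsTypePWith M W₁ U W₂) (gt2 : 2 < FTtype M)
  {d : ℕ} {δ : ℤ} {n : ℕ} (hc : Const345 hP d δ n)
include maxM hP gt2 hc

theorem muS_deg' {j} (hj : j ≠ 1) : muS (wM hP) j 1 = (Nat.card W₁ * d : ℕ) := by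
  have e : mu (wM hP) 1 j 1 = d := hc.deg 1 j hj
  rw [(FT_primeTI hP).muS_deg 1, e, Nat.cast_mul]

theorem der2_irr {φ : M → ℂ} (hφ : φ ∈ SP M ⁅M, M⁆ ⁅⁅M, M⁆, ⁅M, M⁆⁆) : IsIrrCharacter M φ := by
  rcases SP_cases maxM hP hφ with ⟨j, hj, rfl⟩ | h
  · have := (muS_deg' maxM hP gt2 hc hj).symm.trans (der2_deg hP hφ)
    rw [Nat.cast_inj, mul_eq_left₀ Nat.card_pos.ne'] at this
    exact absurd this hc.one_lt.ne'
  · exact h.1

/-- Peterfalvi (10.10.3), (10.10.4) -/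
theorem type5_coh (hn : n = 2) (hw : Nat.card W₁ < Nat.card W₂)
    (h8 : 8 ≤ (SP M ⁅M, M⁆ ⁅⁅M, M⁆, ⁅M, M⁆⁆).card)
    (cases : ∀ φ ∈ SP M ⁅M, M⁆ ⊥, φ ∈ SP M ⁅M, M⁆ ⁅⁅M, M⁆, ⁅M, M⁆⁆ ∨ ∃ j, j ≠ 1 ∧ φ = muS (wM hP) j) :
    Coh (SP M ⁅M, M⁆ ⊥) (tau0 M) := by
  classical
  subst hn
  have hT := FT_primeTI hP
  have hf := FT_fam hP
  have nD := der_normalIn M
  set S₁ := SP M ⁅M, M⁆ ⁅⁅M, M⁆, ⁅M, M⁆⁆ with hS₁
  have sS : S₁ ⊆ SP M ⁅M, M⁆ ⊥ := SD_sub_bot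
  have cS : ∀ χ ∈ S₁, conjFun χ ∈ S₁ := SD_conj nD
  have iS : ∀ χ ∈ S₁, IsIrrCharacter M χ := fun χ => der2_irr maxM hP gt2 hc
  have dS : ∀ χ ∈ S₁, χ 1 = Nat.card W₁ := fun χ => der2_deg hP
  obtain ⟨R, hR, -⟩ := FTtypeP_subcoh maxM hP
  obtain ⟨ν, hν⟩ := hR.uniform_sub (SP_eq maxM gt2 ⊥ ▸ sS) cS fun a ha b hb => (dS a ha).trans (dS b hb).symm
  obtain ⟨ζ, hζ₁⟩ := Finset.card_pos.1 (by omega : 0 < S₁.card)
  have hζ := sS hζ₁
  have iζ := iS ζ hζ₁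
  have dζ := dS ζ hζ₁
  have tα : ∀ i j, j ≠ 1 → tau0 M (bridge345 hP δ 2 ζ i j) =
      (δ : ℂ) • (etaP hP i j - etaP hP i 1) - ((2 : ℕ) : ℂ) • ν ζ := fun i j hj => by
    refine def_tau_alpha maxM hP gt2 hc hζ iζ dζ hν sS cS hζ₁ i hj ?_
    obtain ⟨z, hz⟩ := ZIrr.dot_int (vchar_Dade_FTtype345_bridge maxM hP gt2 hc hζ iζ dζ i hj)
      (hν.zirr ζ hζ₁)
    have h1 : ∀ ξ ∈ S₁.erase ζ, ‖⟪tau0 M (bridge345 hP δ 2 ζ i j), ν ξ⟫‖ ^ 2 = ((z + 2 : ℤ) : ℝ) ^ 2 := by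
      intro ξ hξ
      obtain ⟨ne, hξ⟩ := Finset.mem_erase.1 hξ
      have := dot_tau_bridge maxM hP gt2 hc hζ iζ dζ i hj
        (sub_mem (IsIrr.mem_CF (iS ξ hξ)) (IsIrr.mem_CF iζ))
      rw [hν.agree_sub hξ hζ₁ ((dS ξ hξ).trans dζ.symm), dot_sub_right, dot_sub_right, hz,
        dot_bridge_irr maxM hP gt2 hc hζ iζ dζ i j hξ (iS ξ hξ),
        dot_bridge_irr maxM hP gt2 hc hζ iζ dζ i j hζ iζ, if_neg ne.symm, if_pos rfl] at this
      rw [show ⟪tau0 M (bridge345 hP δ 2 ζ i j), ν ξ⟫ = ((z + 2 : ℤ) : ℂ) by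
        push_cast at this ⊢; linear_combination this, Complex.norm_intCast, sq_abs]
    have h2 := bessel_le (S₁.erase ζ) ν
      (fun ξ hξ => (hν.dirr (Finset.mem_of_mem_erase hξ) (iS ξ (Finset.mem_of_mem_erase hξ))).dot_self)
      (fun a ha b hb ne => (hν.iso a (Finset.mem_of_mem_erase ha) b (Finset.mem_of_mem_erase hb)).trans
        (SD_orth nD (Finset.mem_of_mem_erase ha) (Finset.mem_of_mem_erase hb) ne))
      (tau0 M (bridge345 hP δ 2 ζ i j))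
    rw [Finset.sum_congr rfl h1, norm_FTtype345_bridge maxM hP gt2 hc hζ iζ dζ i hj, Finset.sum_const,
      Finset.card_erase_of_mem hζ₁, nsmul_eq_mul] at h2
    have h3 : ((S₁.card - 1 : ℕ) : ℤ) * (z + 2) ^ 2 ≤ 2 + 2 ^ 2 := by exact_mod_cast h2
    have h4 : z + 2 = 0 := by
      by_contra h0
      have := sq_pos_of_ne_zero h0
      have : (7 : ℤ) ≤ (S₁.card - 1 : ℕ) := by omega
      nlinarith
    rw [hz, show z = -2 by omega]; simp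
  have := hT.comm2
  obtain ⟨j₀, hj₀, -⟩ := exists_lin_ne hT.toOddCop.three_le2 1 1
  have oζ : ∀ ξ ∈ S₁, ∀ i j, ⟪ν ξ, etaP hP i j⟫ = 0 := fun ξ hξ =>
    coh_orth_eta maxM hP gt2 sS cS hν hξ (iS ξ hξ)
  obtain ⟨χ, e0, dχ, oχ⟩ := FTtype345_Dade_bridge0 maxM hP gt2 hζ iζ dζ hw
  obtain rfl : ν ζ = χ := by
    refine (hν.dirr hζ₁ iζ).eq_of_dot_eq_one dχ ?_
    have := dot_tau_bridge maxM hP gt2 hc hζ iζ dζ 1 hj₀ (sub_mem (hT.muS_CF 1) (IsIrr.mem_CF iζ))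
    rw [e0, tα 1 j₀ hj₀, dot_sub_right (bridge345 hP δ 2 ζ 1 j₀), dot_bridge_muS maxM hP gt2 hc hζ iζ dζ 1 hj₀,
      dot_bridge_irr maxM hP gt2 hc hζ iζ dζ 1 j₀ hζ iζ] at this
    simp only [dot_sub_left, dot_sub_right, dot_smul_left, dot_sum_right, hf.orth, oζ ζ hζ₁,
      dot_comm_zero (oχ _ _), hj₀] at this
    simpa using this
  have tμ : ∀ j, j ≠ 1 → tau0 M (muS (wM hP) j - (d : ℂ) • ζ) + (d : ℂ) • ν ζ =
      (δ : ℂ) • ∑ i, etaP hP i j := fun j hj => by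
    have e := congrArg (tau0 M) (sum_bridge maxM hP gt2 hc hζ iζ dζ j)
    rw [map_sum, map_sub, map_smul, e0] at e
    simp only [tα _ j hj, Finset.sum_sub_distrib, ← Finset.smul_sum, Finset.sum_const, Finset.card_univ,
      hf.card_lin1, ← Nat.cast_smul_eq_nsmul ℂ] at e
    rw [ratio' hP hc] at e ⊢
    linear_combination (norm := module) -e
  have z0 : ζ 1 ≠ 0 := IsIrr.deg_ne_zero iζ
  set t : (M → ℂ) → G → ℂ := fun φ => tau0 M (φ - (φ 1 / ζ 1) • ζ) + (φ 1 / ζ 1) • ν ζ with ht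
  have t1 : ∀ φ ∈ S₁, t φ = ν φ := fun φ hφ => by
    simp only [ht]
    rw [hν.agree_sub_smul hφ hζ₁ (div_mul_cancel₀ _ z0).symm, sub_add_cancel]
  have t2 : ∀ j, j ≠ 1 → t (muS (wM hP) j) = (δ : ℂ) • ∑ i, etaP hP i j := fun j hj => by
    simp only [ht]
    rw [muS_deg maxM hP gt2 hc hζ iζ dζ hj, mul_div_cancel_right₀ _ z0, tμ j hj]
  have o1 : ∀ φ ∈ S₁, ∀ j, ⟪φ, muS (wM hP) j⟫ = 0 := fun φ hφ j => by
    rw [muS, dot_sum_right]; exact Finset.sum_eq_zero fun l _ => irr_orth_mu maxM hP hφ (iS φ hφ) l j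
  have o2 : ∀ φ ∈ S₁, ∀ j, ⟪ν φ, (δ : ℂ) • ∑ i, etaP hP i j⟫ = 0 := fun φ hφ j => by
    simp [dot_smul_right, dot_sum_right, oζ φ hφ]
  refine (cohWith_of_fun (fun φ => SD_ne_zero nD) (fun φ hφ ψ hψ => SD_orth nD hφ hψ)
    (tau0 M) t (fun φ hφ => ?_) (fun φ hφ ψ hψ => ?_) hζ z0 fun φ hφ => by
      rw [t1 ζ hζ₁]; simp only [ht, add_sub_cancel_right]).imp fun _ h => h.1
  · rcases cases φ hφ with h | ⟨j, hj, rfl⟩
    · rw [t1 φ h]; exact hν.zirr φ h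
    · rw [t2 j hj]; exact ZIrr.intCast_smul (sum_mem fun i _ => hf.zirr i j) δ
  · rcases cases φ hφ with h | ⟨j, hj, rfl⟩ <;> rcases cases ψ hψ with h' | ⟨k, hk, rfl⟩
    · rw [t1 φ h, t1 ψ h', hν.iso φ h ψ h']
    · rw [t1 φ h, t2 k hk, o1 φ h, o2 φ h]
    · rw [t1 ψ h', t2 j hj, dot_comm_zero (o1 ψ h' j), dot_comm_zero (o2 ψ h' j)]
    · rw [t2 j hj, t2 k hk, hT.dot_muS]
      rcases sign_cases' hP hc with e | e <;>
        simp [e, dot_neg_left, dot_neg_right, dot_sum_left, dot_sum_right, hf.orth, ite_and, hf.card_lin1]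

/-- Peterfalvi (10.10.2) -/
theorem type5_chars {p : ℕ} (hp : p.Prime) (oH : Nat.card ↥⁅M, M⁆ = p ^ 3) (h2 : ⁅⁅M, M⁆, ⁅M, M⁆⁆ = W₂)
    (oW : Nat.card W₂ = p) : d = p ∧ ∀ φ ∈ SP M ⁅M, M⁆ ⊥,
      φ ∈ SP M ⁅M, M⁆ ⁅⁅M, M⁆, ⁅M, M⁆⁆ ∨ ∃ j, j ≠ 1 ∧ φ = muS (wM hP) j := by
  classical
  have hT := FT_primeTI hP
  have hf := FT_fam hP
  have nD := der_normalIn M
  have nW : M ≤ 𝒩(W₂) := h2 ▸ norm_comm nD.2 nD.2
  have pd := FT_prDade_gen maxM hP nW le_rfl ((typeP_W2_le_F hP).trans (Fcore_le_FTcore maxM))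
  have sub : (Finset.univ.erase 1).image (muS (wM hP)) ⊆ SP M W₂ ⊥ := by
    intro φ hφ
    obtain ⟨j, hj, rfl⟩ := Finset.mem_image.1 hφ
    rw [SP, SD, Subgroup.bot_subgroupOf]; exact pd.muS_mem (Finset.ne_of_mem_erase hj)
  have hd : p ≤ d := by
    have := hT.comm2
    obtain ⟨j, hj, -⟩ := exists_lin_ne hT.toOddCop.three_le2 1 1
    have h1 := IsIrr.deg_dvd_card (hT.res_mu_irr 1 j)
    rw [deg_eq (n := d) (by simpa using hc.deg 1 j hj), oH] at h1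
    obtain ⟨k, -, rfl⟩ := (Nat.dvd_prime_pow hp).1 h1
    exact Nat.le_self_pow (by rintro rfl; exact absurd hc.one_lt (by simp)) p
  have w0 : (0 : ℝ) < Nat.card W₁ := by exact_mod_cast Nat.card_pos
  have p1 : (1 : ℝ) < p := by exact_mod_cast hp.one_lt
  have s1 := sum_SD_sq nD nW (N := ⊥) (norm_bot _) bot_le (typeP_W2_le_der hP)
  have e1 : (W₂.relIndex M : ℝ) = p ^ 2 * Nat.card W₁ := by
    have := card_mul_relIndex (typeP_W2_le hP)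
    rw [← (typeP_sdprod_M hP).card_mul, oH, oW, pow_succ', mul_assoc, Nat.mul_right_inj hp.ne_zero] at this
    exact_mod_cast this
  rw [Subgroup.relIndex_bot_left, e1, ← (typeP_sdprod_M hP).card_mul, oH,
    ← Finset.sum_sdiff sub, Finset.sum_image fun a _ b _ => hT.muS_inj,
    Finset.sum_congr rfl (g := fun _ => (Nat.card W₁ * d ^ 2 : ℝ)) (s₁ := Finset.univ.erase 1) fun j hj => by
      rw [deg_eq (muS_deg' maxM hP gt2 hc (Finset.ne_of_mem_erase hj)), hT.nrm_muS]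
      push_cast; field_simp,
    Finset.sum_const, Finset.card_erase_of_mem (Finset.mem_univ _), Finset.card_univ, hf.card_lin2, oW,
    nsmul_eq_mul, Nat.cast_sub hp.one_le] at s1
  push_cast at s1
  have pos : ∀ φ ∈ SP M W₂ ⊥ \ (Finset.univ.erase 1).image (muS (wM hP)), 0 < (deg φ : ℝ) ^ 2 / nrm φ :=
    fun φ hφ => have := (Finset.mem_sdiff.1 hφ).1
      div_pos (pow_pos (Nat.cast_pos.2 (SD_deg_pos nD this)) 2) (nrm_pos (SD_ne_zero nD this))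
  have hd' : (p : ℝ) ^ 2 ≤ d ^ 2 := by exact_mod_cast Nat.pow_le_pow_left hd 2
  have nn := Finset.sum_nonneg fun φ hφ => (pos φ hφ).le
  have k1 : ((p : ℝ) - 1) * Nat.card W₁ * (d ^ 2 - p ^ 2) ≤ 0 := by nlinarith
  have k2 : 0 < ((p : ℝ) - 1) * Nat.card W₁ := mul_pos (by linarith) w0
  have k3 : (d : ℝ) ^ 2 = p ^ 2 := le_antisymm (by nlinarith) hd'
  have k4 : SP M W₂ ⊥ \ (Finset.univ.erase 1).image (muS (wM hP)) = ∅ := by
    by_contra h0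
    have := Finset.sum_pos pos (Finset.nonempty_iff_ne_empty.2 h0)
    rw [k3] at s1
    nlinarith
  refine ⟨Nat.pow_left_injective two_ne_zero (by exact_mod_cast k3), fun φ hφ => ?_⟩
  obtain ⟨θ, iθ, h3, -, rfl⟩ := mem_SD.1 hφ
  refine (em _).imp (fun h => mem_SD.2 ⟨θ, iθ, h3, h, rfl⟩) fun h => ?_
  obtain ⟨j, hj, e⟩ := Finset.mem_image.1 (Finset.sdiff_eq_empty_iff_subset.1 k4
    (mem_SD.2 ⟨θ, iθ, h2 ▸ h, by simp, rfl⟩))
  exact ⟨j, Finset.ne_of_mem_erase hj, e.symm⟩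

end

/-- Peterfalvi (10.10) -/
theorem FTtype5_exclusion (maxM : IsCoatom M) : FTtype M ≠ 5 := fun t5 => by
  have gt2 : 2 < FTtype M := by omega
  have ncoh := FTtype345_noncoherence maxM gt2
  obtain ⟨W₁, U, W₂, hP⟩ := FTtypeP_witness maxM (by omega)
  obtain ⟨d, δ, n, hc⟩ := FTtype345_constants maxM hP gt2
  obtain ⟨-, rfl, hV⟩ := compl_of_typeV maxM hP t5
  have eH : fittingHallOf M = ⁅M, M⁆ := by simpa using (typeP_sdprod_der hP).sup_eq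
  have nD := der_normalIn M
  have nil : Group.IsNilpotent ↥⁅M, M⁆ := eH ▸ Fcore_nil M
  have oc := (FT_primeTI hP).toOddCop
  rw [eH] at hV
  rcases hV with ti | ⟨p, ⟨hp, pH⟩, -, hV⟩
  · exact ncoh (Sibley_coherence_prime (FT_DadeInd_der maxM gt2) (mFT_odd M) nil ti
      (FT_prDade_gen maxM hP nD.2 (typeP_W2_le_der hP) (FTcore_type_gt2 maxM gt2).ge)
      (FTtype345_core_prime maxM hP gt2) fun y => by simpa using (hP.W₂_le y.2).2)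
  obtain ⟨R, hR, -⟩ := FTtypeP_subcoh maxM hP
  rw [SP_eq maxM gt2] at hR
  obtain ⟨⟨-, ub⟩, q, hq, ⟨m, hm⟩, nab, nd⟩ := non_coherent_chief nD (sol_of_le (of_typeP_sol hP) nD.1) hR
    (mFT_odd M) (M := ⊥) (norm_bot _) bot_le (nil_quot _ nil) (by simpa using typeP_der2_lt hP)
    (Fcore_structure_a maxM).2.2.2 (by
      rw [sup_bot_eq]
      exact frob_mod_of_cent_le (typeP_sdprod_M hP) (typeP_coprime_der hP) (norm_comm nD.2 nD.2)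
        (der_le _) (typeP_cent1_le_der2 hP)) ncoh
  rw [Subgroup.relIndex_bot_left] at hm
  rw [sup_bot_eq, typeP_relIndex_der hP] at ub
  rw [typeP_relIndex_der hP] at nd
  obtain rfl : p = q := (Nat.prime_dvd_prime_iff_eq hp hq).1 (hp.dvd_of_dvd_pow (hm ▸ pH))
  have pD : IsPGrp p ⁅M, M⁆ := pGrp_of_card_eq_pow hp hm
  obtain ⟨oH, hw⟩ := hV.resolve_left nd
  rw [show pCoreOf p ⁅M, M⁆ = ⁅M, M⁆ from pcore_of_piGrp pD] at oH
  obtain ⟨-, oZ, eZ, -⟩ := p3group_extraspecial hp pD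
    (fun h => nab (comm_eq_bot_iff.2 (abelian_iff_le_cent.1 h)).le) oH.le
  rw [← eZ] at oZ
  have sW : W₂ ≤ ⁅⁅M, M⁆, ⁅M, M⁆⁆ := hP.W₂_le.trans inf_le_right
  have oW : Nat.card W₂ = p := ((Nat.dvd_prime hp).1 (oZ ▸ Subgroup.card_dvd_of_le sW)).resolve_left
    (by have := oc.three_le2; omega)
  have h2 : ⁅⁅M, M⁆, ⁅M, M⁆⁆ = W₂ := (Subgroup.eq_of_le_of_card_ge sW (by omega)).symm
  have i2 : ⁅⁅M, M⁆, ⁅M, M⁆⁆.relIndex ⁅M, M⁆ = p ^ 2 := by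
    have := card_mul_relIndex (der_le ⁅M, M⁆)
    rwa [oZ, oH, pow_succ', Nat.mul_right_inj hp.ne_zero] at this
  have w3 := oc.three_le1
  have ep : p + 1 = 2 * Nat.card W₁ := by
    have op : Odd p := oW ▸ mFT_odd W₂
    have h1 : 2 * Nat.card W₁ ∣ p + 1 := Nat.Coprime.mul_dvd_of_dvd_of_dvd
      (Nat.coprime_two_left.2 (mFT_odd W₁)) op.add_one.two_dvd hw
    have h3 := Nat.le_of_dvd (Nat.succ_pos p) h1
    obtain ⟨k, rfl⟩ := op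
    have : ¬ 2 * Nat.card W₁ + 1 ≤ 2 * k + 1 := fun h => by
      have := Nat.pow_le_pow_left h 2
      nlinarith
    omega
  obtain ⟨rfl, cases⟩ := type5_chars maxM hP gt2 hc hp oH h2 oW
  refine ncoh (type5_coh maxM hP gt2 hc ?_ (by omega) ?_ cases)
  · have e := hc.ratio
    rcases n with _ | _ | _ | n
    · rcases sign_cases hP hc with h | h <;> omega
    · rcases sign_cases hP hc with h | h <;> omega
    · rfl
    · push_cast at e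
      rcases sign_cases hP hc with h | h <;> nlinarith
  · have s1 := sum_SD_sq nD nD.2 (norm_comm nD.2 nD.2) (der_le _) le_rfl
    rw [Finset.sum_congr rfl (g := fun _ => (Nat.card W₁ : ℝ) ^ 2) fun φ hφ => by
      rw [deg_eq (der2_deg hP hφ), IsIrr.nrm (der2_irr maxM hP gt2 hc hφ), div_one], Finset.sum_const,
      ← Subgroup.relIndex_mul_relIndex _ _ _ (der_le _) nD.1, i2, typeP_relIndex_der hP, nsmul_eq_mul] at s1
    have s2 : (SP M ⁅M, M⁆ ⁅⁅M, M⁆, ⁅M, M⁆⁆).card * Nat.card W₁ ^ 2 + Nat.card W₁ = d ^ 2 * Nat.card W₁ := by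
      exact_mod_cast eq_sub_iff_add_eq.1 s1
    generalize (SP M ⁅M, M⁆ ⁅⁅M, M⁆, ⁅M, M⁆⁆).card = c at *
    obtain ⟨w, hw⟩ : ∃ w, Nat.card W₁ = w + 3 := ⟨_, (Nat.sub_add_cancel w3).symm⟩
    rw [hw] at s2 ep
    obtain rfl : d = 2 * w + 5 := by omega
    by_contra! h
    have : c * (w + 3) ^ 2 ≤ 7 * (w + 3) ^ 2 := Nat.mul_le_mul_right _ (by omega)
    nlinarith

end CA.PF.P10
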