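import Cfsg.Agent.PF.I10

/-!
# Peterfalvi, section 11, first part: (11.1) - (11.7)
-/

set_option autoImplicit false
set_option linter.unusedSectionVars false

open scoped ComplexConjugate commutatorElement

open Cfsg CA.FG CA.BG CA.Chr

namespace CA.PF.P11

universe u

/-- Peterfalvi (11.1) -/
theorem lbound_expn {p q : ℕ} (hp : 3 ≤ p) (hq : 3 ≤ q) (op : Odd p) (oq : Odd q) (hne : p ≠ q) :
    4 * q ^ 2 + 1 < p ^ q := by
  rcases hq.eq_or_lt with rfl | hq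
  · have : 5 ≤ p := by obtain ⟨k, rfl⟩ := op; omega
    calc 4 * 3 ^ 2 + 1 < 5 ^ 3 := by norm_num
      _ ≤ p ^ 3 := Nat.pow_le_pow_left this 3
  · have h5 : 5 ≤ q := by obtain ⟨k, rfl⟩ := oq; omega
    refine lt_of_lt_of_le ?_ (Nat.pow_le_pow_left hp q)
    clear hq oq hne
    induction q, h5 using Nat.le_induction with
    | base => norm_num
    | succ n hn ih => have := ih (by omega); rw [pow_succ 3]; nlinarith

section Form

variable {X : Type*} [Group X]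

theorem comm_mul_left_of_cent {x z y : X} (hz : z * y = y * z) : ⁅x * z, y⁆ = ⁅x, y⁆ := by
  simp only [commutatorElement_def]
  calc x * z * y * (x * z)⁻¹ * y⁻¹ = x * (z * y) * z⁻¹ * x⁻¹ * y⁻¹ := by group
    _ = x * y * x⁻¹ * y⁻¹ := by rw [hz]; group

theorem comm_pow_left_of_cent {x y : X} (h : x * ⁅x, y⁆ = ⁅x, y⁆ * x) (n : ℕ) :
    ⁅x ^ n, y⁆ = ⁅x, y⁆ ^ n := by
  induction n with
  | zero => simp
  | succ n ih =>
    have h' : Commute x (⁅x, y⁆ ^ n) := Commute.pow_right h n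
    calc ⁅x ^ (n + 1), y⁆ = x * ⁅x ^ n, y⁆ * x⁻¹ * ⁅x, y⁆ := by
          simp only [commutatorElement_def, pow_succ']; group
      _ = ⁅x, y⁆ ^ (n + 1) := by rw [ih, h'.eq, pow_succ]; group

theorem comm_pow_right_of_cent {x y : X} (h : y * ⁅x, y⁆ = ⁅x, y⁆ * y) (n : ℕ) :
    ⁅x, y ^ n⁆ = ⁅x, y⁆ ^ n := by
  have h' : y * ⁅y, x⁆ = ⁅y, x⁆ * y := by
    rw [← commutatorElement_inv]; exact (Commute.inv_right h).eq
  rw [← commutatorElement_inv, comm_pow_left_of_cent h', ← inv_pow, commutatorElement_inv]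

theorem comm_mul_right_of_cent {x z y : X} (hz : z * x = x * z) : ⁅x, y * z⁆ = ⁅x, y⁆ := by
  rw [← commutatorElement_inv, comm_mul_left_of_cent hz, commutatorElement_inv]

/-- the non-Galois case of (11.7) -/
theorem nonGal_aux [Finite X] {H Z U : Subgroup X} {w x : X} {p : ℕ} (hp : p.Prime)
    (hH : ⁅H, H⁆ ≤ Z) (sZ : Z ≤ H) (hZ : Z ≤ 𝒞(H)) (cU : U ≤ 𝒞(Z)) (hx : x ∈ H) (wH : w ∈ 𝒩(H))
    (wZ : w ∈ 𝒩(Z)) (wU : w ∈ 𝒩(U)) (ow : Odd (orderOf w)) (oU : Odd (Nat.card U))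
    (hu : ∀ u ∈ U, ∃ n : ℕ, ∃ z ∈ Z, u * x * u⁻¹ = x ^ n * z) (xp : x ^ p ∈ Z)
    (hc : ⁅x, w * x * w⁻¹⁆ ≠ 1) {u : X} (uU : u ∈ U) : u * x * u⁻¹ * x⁻¹ ∈ Z := by
  have : Fact p.Prime := ⟨hp⟩
  set y := w * x * w⁻¹ with hy
  have yH : y ∈ H := conj_mem_of_mem_norm wH hx
  have cZ : ⁅x, y⁆ ∈ Z := hH (Subgroup.commutator_mem_commutator hx yH)
  have cx : x * ⁅x, y⁆ = ⁅x, y⁆ * x := (comm_of_le_cent hZ cZ hx).symm
  have oc : orderOf ⁅x, y⁆ = p := orderOf_eq_prime (by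
    rw [← comm_pow_left_of_cent cx, commutatorElement_eq_one_iff_mul_comm]
    exact comm_of_le_cent hZ xp yH) hc
  have e1 : ∀ (n : ℕ), ∀ z ∈ Z, ⁅x ^ n * z, y⁆ = ⁅x, y⁆ ^ n := fun n z hz => by
    rw [comm_mul_left_of_cent (comm_of_le_cent hZ hz yH), comm_pow_left_of_cent cx]
  choose! k z hz hk using hu
  have uniq : ∀ v ∈ U, ∀ n : ℕ, ∀ z' ∈ Z, v * x * v⁻¹ = x ^ n * z' → (k v : ZMod p) = n :=
    fun v hv n z' hz' e => by
      rw [ZMod.natCast_eq_natCast_iff, ← oc, ← pow_eq_pow_iff_modEq, ← e1 _ _ (hz v hv), ← e1 _ _ hz',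
        ← hk v hv, e]
  have kmul : ∀ v ∈ U, ∀ v' ∈ U, (k (v * v') : ZMod p) = k v * k v' := fun v hv v' hv' => by
    rw [← Nat.cast_mul]
    refine uniq _ (mul_mem hv hv') _ (z v ^ k v' * z v') (mul_mem (pow_mem (hz v hv) _) (hz v' hv')) ?_
    have c1 : Commute (x ^ k v) (z v) := (comm_of_le_cent hZ (hz v hv) (pow_mem hx _)).symm
    calc v * v' * x * (v * v')⁻¹ = v * (v' * x * v'⁻¹) * v⁻¹ := by group
      _ = (v * x * v⁻¹) ^ k v' * (v * z v' * v⁻¹) := by rw [hk v' hv', conj_pow]; group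
      _ = _ := by
        rw [hk v hv, comm_of_le_cent cU hv (hz v' hv'), c1.mul_pow, pow_mul]; group
  have kone : (k 1 : ZMod p) = 1 := by
    simpa using uniq 1 (one_mem _) 1 1 (one_mem _) (by simp)
  have kinv : ∀ v ∈ U, (k v : ZMod p) * k (w⁻¹ * v * w) = 1 := fun v hv => by
    have hv' : w⁻¹ * v * w ∈ U := conj_mem_of_mem_norm' wU hv
    have e2 : v * y * v⁻¹ = y ^ k (w⁻¹ * v * w) * (w * z (w⁻¹ * v * w) * w⁻¹) := by
      calc v * y * v⁻¹ = w * (w⁻¹ * v * w * x * (w⁻¹ * v * w)⁻¹) * w⁻¹ := by rw [hy]; group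
        _ = _ := by rw [hk _ hv', hy, conj_pow]; group
    have hz2 : w * z (w⁻¹ * v * w) * w⁻¹ ∈ Z := conj_mem_of_mem_norm wZ (hz _ hv')
    have xH : x ^ k v * z v ∈ H := mul_mem (pow_mem hx _) (sZ (hz v hv))
    rw [← Nat.cast_mul, ← Nat.cast_one, ZMod.natCast_eq_natCast_iff, ← oc, ← pow_eq_pow_iff_modEq,
      pow_one, pow_mul, ← e1 _ _ (hz v hv), ← comm_pow_right_of_cent (comm_of_le_cent hZ
        (hH (Subgroup.commutator_mem_commutator xH yH)) yH).symm,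
      ← comm_mul_right_of_cent (comm_of_le_cent hZ hz2 xH), ← e2, ← hk v hv, ← conjugate_commutatorElement,
      comm_of_le_cent cU hv cZ, mul_inv_cancel_right]
  have kw2 : ∀ j : ℕ, ∀ v ∈ U, (k ((w ^ (2 * j))⁻¹ * v * w ^ (2 * j)) : ZMod p) = k v := fun j => by
    induction j with
    | zero => simp
    | succ j ih =>
      intro v hv
      have h1 : w⁻¹ * v * w ∈ U := conj_mem_of_mem_norm' wU hv
      have h2 : w⁻¹ * (w⁻¹ * v * w) * w ∈ U := conj_mem_of_mem_norm' wU h1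
      have e : (w ^ (2 * (j + 1)))⁻¹ * v * w ^ (2 * (j + 1)) =
          (w ^ (2 * j))⁻¹ * (w⁻¹ * (w⁻¹ * v * w) * w) * w ^ (2 * j) := by group
      rw [e, ih _ h2]
      have a1 := kinv v hv
      have a2 := kinv _ h1
      linear_combination (k v : ZMod p) * a2 - (k (w⁻¹ * (w⁻¹ * v * w) * w) : ZMod p) * a1
  have ksq : (k u : ZMod p) ^ 2 = 1 := by
    obtain ⟨j, hj⟩ := ow
    have e : w ^ (2 * (j + 1)) = w := by
      rw [show 2 * (j + 1) = orderOf w + 1 by omega, pow_succ, pow_orderOf_eq_one, one_mul]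
    have := kw2 (j + 1) u uU
    rw [e] at this
    rw [sq, ← kinv u uU, this]
  have kpow : ∀ n : ℕ, (k (u ^ n) : ZMod p) = (k u : ZMod p) ^ n := fun n => by
    induction n with
    | zero => simpa using kone
    | succ n ih => rw [pow_succ, kmul _ (pow_mem uU n) _ uU, ih, pow_succ]
  have k1 : (k u : ZMod p) = 1 := by
    obtain ⟨j, hj⟩ := oU
    have := kpow (Nat.card U)
    rw [pow_card_eq_one_of_mem uU, kone, hj, pow_succ, pow_mul, ksq, one_pow, one_mul] at this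
    exact this.symm
  rw [← Nat.cast_one, ZMod.natCast_eq_natCast_iff, Nat.ModEq, Nat.mod_eq_of_lt hp.one_lt] at k1
  have e : u * x * u⁻¹ * x⁻¹ = (x ^ p) ^ (k u / p) * z u := by
    rw [hk u uU, mul_assoc, comm_of_le_cent hZ (hz u uU) (inv_mem hx), ← pow_mul]
    conv_lhs => rw [← Nat.div_add_mod (k u) p, k1, pow_succ]
    group
  rw [e]
  exact mul_mem (pow_mem xp _) (hz u uU)

theorem nonGal_aux2 [Finite X] {H H₁ Z U : Subgroup X} {w : X} {p : ℕ} (hp : p.Prime)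
    (hH : ⁅H, H⁆ ≤ Z) (sZ : Z ≤ H₁) (sH₁ : H₁ ≤ H) (hZ : Z ≤ 𝒞(H)) (cU : U ≤ 𝒞(Z)) (wH : w ∈ 𝒩(H))
    (wZ : w ∈ 𝒩(Z)) (wU : w ∈ 𝒩(U)) (ow : Odd (orderOf w)) (oU : Odd (Nat.card U))
    (nU : U ≤ 𝒩(H₁)) (ind : Z.relIndex H₁ = p) (xp : ∀ x ∈ H, x ^ p ∈ Z)
    (hc : ¬ H₁ ≤ 𝒞(H₁ :^ w)) : ⁅U, H₁⁆ ≤ Z := by
  refine Subgroup.commutator_le.2 fun u hu x hx => ?_
  by_cases xZ : x ∈ Z
  · rw [commutatorElement_eq_one_iff_mul_comm.2 (comm_of_le_cent cU hu xZ)]; exact one_mem _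
  have hm := maximalIn_of_index_prime sZ (ind ▸ hp)
  have sx : Subgroup.zpowers x ≤ H₁ := (Subgroup.zpowers_le_of_mem hx)
  have e : H₁ = Subgroup.zpowers x ⊔ Z := by
    by_contra h
    exact xZ (hm.2 _ le_sup_right (lt_of_le_of_ne (sup_le sx sZ) (Ne.symm h)) ▸
      Subgroup.mem_sup_left (Subgroup.mem_zpowers x))
  have dec : ∀ g ∈ H₁, ∃ n : ℕ, ∃ z ∈ Z, g = x ^ n * z := fun g hg => by
    rw [e] at hg
    obtain ⟨a, ha, z, hz, rfl⟩ :=
      (mem_sup_of_left_le_norm (norm_of_cent' (hZ.trans (cent_anti (sx.trans sH₁))))).1 hg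
    obtain ⟨n, rfl⟩ := mem_powers_iff_mem_zpowers.2 ha
    exact ⟨n, z, hz, rfl⟩
  refine nonGal_aux hp hH (sZ.trans sH₁) hZ cU (sH₁ hx) wH wZ wU ow oU
    (fun v hv => dec _ (conj_mem_of_le_norm nU hv hx)) (xp x (sH₁ hx)) (fun h => hc ?_) hu
  refine le_cent_iff_forall.2 fun g hg g' hg' => ?_
  obtain ⟨g'', hg'', rfl⟩ := mem_conjg'.1 hg'
  obtain ⟨n, z, hz, rfl⟩ := dec g hg
  obtain ⟨m, z', hz', rfl⟩ := dec g'' hg''
  have c1 : Commute x (w * x * w⁻¹) := commutatorElement_eq_one_iff_mul_comm.1 h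
  have c2 : Commute z (w * (x ^ m * z') * w⁻¹) :=
    comm_of_le_cent hZ hz (conj_mem_of_mem_norm wH (sH₁ hg''))
  have c3 : Commute (w * z' * w⁻¹) x := comm_of_le_cent hZ (conj_mem_of_mem_norm wZ hz') (sH₁ hx)
  have e2 : w * (x ^ m * z') * w⁻¹ = (w * x * w⁻¹) ^ m * (w * z' * w⁻¹) := by rw [conj_pow]; group
  refine (Commute.mul_left (Commute.pow_left ?_ n) c2).eq
  rw [e2]
  exact (c1.pow_right m).mul_right c3.symm

theorem le_centQ {A U V : Subgroup X} (hA : A ≤ 𝒩(V)) (hU : U ≤ 𝒩(V)) :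
    A ≤ centQ U V ↔ ⁅A, U⁆ ≤ V := by
  rw [← quot_le_iff hA, quot_cent_iff hA hU]

theorem mem_centQ {U V : Subgroup X} {x : X} (hx : x ∈ 𝒩(V)) (hU : U ≤ 𝒩(V)) :
    x ∈ centQ U V ↔ ∀ y ∈ U, x * y * x⁻¹ * y⁻¹ ∈ V := by
  refine ⟨fun h y hy => (le_centQ (Subgroup.zpowers_le_of_mem hx) hU).1 (Subgroup.zpowers_le_of_mem h)
    (Subgroup.commutator_mem_commutator (Subgroup.mem_zpowers x) hy), fun h => mem_quotPre.2 ⟨hx, ?_⟩⟩
  rintro _ ⟨y, hy, rfl⟩
  have := (coset_eq_one_iff (x := ⟨x, hx⟩ * y * ⟨x, hx⟩⁻¹ * y⁻¹)).2 (h y hy)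
  simp only [map_mul, map_inv] at this
  exact (commutatorElement_eq_one_iff_mul_comm.1 this).symm

/-- the Galois case of (11.7) -/
theorem gal_aux [Finite X] {Z : Subgroup X} {χ : X → ℂ} (hχ : IsIrrCharacter X χ)
    (hZ : ∀ x, x ∈ Z ↔ ∀ y, x * y * x⁻¹ * y⁻¹ ∈ cfker χ) (hX : ∀ x y, x * y * x⁻¹ * y⁻¹ ∈ Z) :
    deg χ ^ 2 = Z.index := by
  classical
  have := Fintype.ofFinite X
  have h0 : ∀ x, x ∉ Z → χ x = 0 := fun x hx => by
    obtain ⟨y, hy⟩ := not_forall.1 (mt (hZ x).2 hx)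
    obtain ⟨c, hc⟩ := IsIrr.exists_central_scalar hχ ((hZ _).1 (hX y x))
    have h1 := hc x
    rw [inv_mul_cancel_right, CF_conj (IsIrr.mem_CF hχ)] at h1
    by_contra h2
    have c1 : c = 1 := by rwa [eq_comm, mul_eq_right₀ h2] at h1
    refine hy ?_
    have : y * x * y⁻¹ * x⁻¹ ∈ cfker χ := mem_cfker.2 fun z => by rw [hc, c1, one_mul]
    simpa [mul_assoc] using inv_mem this
  have h1 : ∑ g : X, ‖χ g‖ ^ 2 = Nat.card Z * (deg χ : ℝ) ^ 2 := by
    rw [← Finset.sum_subset (Finset.filter_subset (· ∈ Z) Finset.univ)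
      (fun x _ hx => by rw [h0 x (by simpa using hx)]; simp),
      Finset.sum_congr rfl fun x hx => by
        rw [IsIrr.norm_central hχ ((hZ x).1 (Finset.mem_filter.1 hx).2)],
      Finset.sum_const, nsmul_eq_mul, Nat.card_eq_fintype_card, Fintype.card_subtype]
  have h2 := (IsIrr.dirr hχ).nrm
  rw [nrm_def, h1, ← Z.card_mul_index, Nat.cast_mul] at h2
  have h3 : (Nat.card Z : ℝ) ≠ 0 := Nat.cast_ne_zero.2 Nat.card_pos.ne'
  have h4 : (Z.index : ℝ) ≠ 0 := Nat.cast_ne_zero.2 Z.index_ne_zero_of_finite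
  field_simp at h2
  exact_mod_cast h2

end Form

variable {G : Type u} [Group G] [MinSimpleOdd G] {M W₁ U W₂ : Subgroup G}

section TypeP

variable (hP : IsTypePWith M W₁ U W₂)
include hP

theorem C_norm : M ≤ 𝒩(U ⊓ 𝒞(fittingHallOf M)) := by
  obtain ⟨h1, h2⟩ := typeP_sdprod_UW1 hP
  refine h1.sup_eq.ge.trans (sup_le (norm_of_cent' inf_le_right) ?_)
  exact norm_inf h2.normal.2 (norm_cent h1.norm)

theorem relIndex_fitting : (fittingOf M).relIndex ⁅M, M⁆ = (U ⊓ 𝒞(fittingHallOf M)).relIndex U := by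
  have h := typeP_sdprod_der hP
  have e : ⁅M, M⁆ = U ⊔ fittingOf M := le_antisymm
    (h.sup_eq.ge.trans (sup_le ((Fcore_sub_Fitting M).trans le_sup_right) le_sup_left))
    (sup_le h.right_le hP.fitting_le)
  rw [e, relIndex_sup_of_left_le_norm ((h.right_le.trans (der_le M)).trans (fitting_norm M)),
    ← typeP_Fitting_inf_U hP, Subgroup.inf_relIndex_right]

theorem der2_le_fitting : ⁅⁅M, M⁆, ⁅M, M⁆⁆ ≤ fittingOf M := hP.derived_two_le.trans hP.fitting_eq.le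

/-- `W₁` acts regularly on the sections of `M'` above `W₂` -/
theorem card_dvd_relIndex_pred (pq : (Nat.card W₁).Prime) {N X : Subgroup G} (hX : X ≤ ⁅M, M⁆)
    (hN : N ≤ X) (nN : M ≤ 𝒩(N)) (nX : W₁ ≤ 𝒩(X)) (h2 : W₂ ≤ N) :
    Nat.card W₁ ∣ N.relIndex X - 1 := by
  have hW := typeP_W1_le hP
  have co : (Nat.card ↥⁅M, M⁆).Coprime (Nat.card W₁) :=
    typeP_relIndex_der hP ▸ (typeP_der_Hall hP).2
  have coX : (Nat.card X).Coprime (Nat.card W₁) := co.coprime_dvd_left (Subgroup.card_dvd_of_le hX)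
  have oW : Nat.card (W₁ /ₛ N) = Nat.card W₁ := card_quot_of_inf_eq_bot (hW.trans nN)
    (inf_eq_bot_of_cop (coX.coprime_dvd_left (Subgroup.card_dvd_of_le hN)))
  rw [← card_quot ((hX.trans (der_le M)).trans nN), ← oW]
  refine regular_norm_dvd_pred (quot_norm N nX) (semiprime_regular (semiprime_of_prime (oW ▸ pq)) ?_)
  rw [← coprime_quotient_cent hN (hW.trans nN) coX (Or.inr (sol_of_le (of_typeP_sol hP) hW))]
  exact quot_eq_bot_of_le ((inf_le_inf_right _ hX).trans ((typeP_cent_compl hP).le.trans h2))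

end TypeP

variable (maxM : IsCoatom M) (hP : IsTypePWith M W₁ U W₂) (gt2 : 2 < FTtype M)
include maxM hP gt2

theorem ntU : U ≠ ⊥ := (compl_of_typeII_IV maxM hP (FTtype5_exclusion maxM)).2.1

theorem pr_q : (Nat.card W₁).Prime := (FTtypeP_primes maxM hP).1

theorem pr_p : (Nat.card W₂).Prime := (FTtypeP_primes maxM hP).2

theorem def_p : primeH M U = Nat.card W₂ :=
  def_Ptype_factor_prime maxM hP (FTtype5_exclusion maxM) (pr_p maxM hP gt2)

theorem oHbar : (kerH0 M U).relIndex (fittingHallOf M) = Nat.card W₂ ^ Nat.card W₁ :=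
  def_p maxM hP gt2 ▸ (Ptype_Fcore_factor_facts maxM hP (FTtype5_exclusion maxM)).2.2

theorem H0_lt : kerH0 M U < fittingHallOf M :=
  (Ptype_Fcore_kernel_exists maxM hP (FTtype5_exclusion maxM)).1.2.1

theorem H0_norm : M ≤ 𝒩(kerH0 M U) :=
  (Ptype_Fcore_kernel_exists maxM hP (FTtype5_exclusion maxM)).1.2.2.1

theorem derH_le : ⁅fittingHallOf M, fittingHallOf M⁆ ≤ kerH0 M U :=
  (Ptype_factor_prime maxM hP (FTtype5_exclusion maxM)).2.1

theorem subcoh : ∃ R, Subcoh (SP M ⁅M, M⁆ ⊥) (tau0 M) R := by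
  obtain ⟨R, h, -⟩ := FTtypeP_subcoh maxM hP
  exact ⟨R, FTcore_type_gt2 maxM gt2 ▸ h⟩

theorem one_lt_u : 1 < (U ⊓ 𝒞(fittingHallOf M)).relIndex U := by
  refine lt_of_le_of_ne (relIndex_pos _ _) fun h => typeP_U_not_cent hP (ntU maxM hP gt2) ?_
  exact (Subgroup.relIndex_eq_one.1 h.symm).trans inf_le_right

/-- Peterfalvi (11.3) -/
theorem noncoherence : ¬ Coh (SP M ⁅M, M⁆ (kerH0 M U ⊔ (U ⊓ 𝒞(fittingHallOf M)))) (tau0 M) := by
  intro coh
  obtain ⟨R, hS⟩ := subcoh maxM hP gt2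
  have sH0 := (H0_lt maxM hP gt2).le
  have nH0C := norm_sup (H0_norm maxM hP gt2) (C_norm hP)
  refine FTtype345_noncoherence maxM gt2 (bounded_seqIndD_coherence (der_normalIn M)
    (sol_of_le (mmax_sol maxM) (der_le M)) hS (norm_bot M) (fitting_norm M) nH0C bot_le
    (typeP_Fitting hP ▸ sup_le_sup_right sH0 _) hP.fitting_le (nil_quot _ (fitting_nil M)) coh ?_)
  have e : fittingOf M = fittingHallOf M ⊔ (kerH0 M U ⊔ (U ⊓ 𝒞(fittingHallOf M))) := by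
    rw [typeP_Fitting hP, ← sup_assoc, sup_eq_left.2 sH0]
  have e2 : fittingHallOf M ⊓ (kerH0 M U ⊔ (U ⊓ 𝒞(fittingHallOf M))) = kerH0 M U := by
    rw [inf_sup_of_left_le (Or.inl ((sH0.trans (Fcore_le M)).trans (C_norm hP))) sH0, ← inf_assoc,
      (typeP_sdprod_der hP).inf_eq, bot_inf_eq, sup_bot_eq]
  rw [e, relIndex_sup_of_left_le_norm ((Fcore_le M).trans nH0C), ← Subgroup.inf_relIndex_left (fittingHallOf M), e2,
    oHbar maxM hP gt2, typeP_relIndex_der hP]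
  have h := (FT_primeTI hP).toOddCop
  exact lbound_expn h.three_le2 h.three_le1 h.odd2 h.odd1 (by have := h.card_ne; omega)

/-- Peterfalvi (11.4) -/
theorem bounded_proper_coherent {H₁ : Subgroup G} (nH₁ : M ≤ 𝒩(H₁)) (hH₁ : H₁ < ⁅M, M⁆)
    (coh : Coh (SP M ⁅M, M⁆ H₁) (tau0 M)) :
    H₁.relIndex ⁅M, M⁆ ≤ 2 * Nat.card W₁ * (fittingOf M).relIndex ⁅M, M⁆ + 1 := by
  obtain ⟨R, hS⟩ := subcoh maxM hP gt2
  have sH0 := (H0_lt maxM hP gt2).le
  have h := coherent_seqIndD_bound (der_normalIn M) (sol_of_le (mmax_sol maxM) (der_le M)) hS nH₁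
    (norm_sup (H0_norm maxM hP gt2) (C_norm hP)) (fitting_norm M) (fitting_norm M) hH₁
    (typeP_Fitting hP ▸ sup_le_sup_right sH0 _) le_rfl hP.fitting_le
    (by
      rw [typeP_Fitting hP, comm_sup_self_of_cent inf_le_right]
      exact sup_le_sup (derH_le maxM hP gt2) (der_le _))
    coh (noncoherence maxM hP gt2)
  rw [Subgroup.relIndex_self, Nat.cast_one, Real.sqrt_one, mul_one,
    ← Subgroup.relIndex_mul_relIndex _ _ _ hP.fitting_le (der_le M), typeP_relIndex_der hP,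
    sub_le_iff_le_add] at h
  have : (H₁.relIndex ⁅M, M⁆ : ℝ) ≤ ((2 * Nat.card W₁ * (fittingOf M).relIndex ⁅M, M⁆ + 1 : ℕ) : ℝ) := by
    push_cast at h ⊢; linarith
  exact_mod_cast this

omit maxM hP gt2 in
theorem deg_of_der2_le {N : Subgroup G} (hN : ⁅⁅M, M⁆, ⁅M, M⁆⁆ ≤ N) {φ : M → ℂ}
    (hφ : φ ∈ SP M ⁅M, M⁆ N) : φ 1 = ⁅M, M⁆.relIndex M := by
  obtain ⟨θ, h1, -, h3, rfl⟩ := mem_SD.1 hφ
  obtain ⟨l, rfl⟩ := IsIrr.exists_lin_of_commutator h1
    (der_subgroupOf_self ⁅M, M⁆ ▸ (Subgroup.comap_mono hN).trans h3)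
  rw [indA_one, lin_apply, map_one, Units.val_one, mul_one]

theorem coh_of_der2_le {N : Subgroup G} (hN : ⁅⁅M, M⁆, ⁅M, M⁆⁆ ≤ N) : Coh (SP M ⁅M, M⁆ N) (tau0 M) := by
  obtain ⟨R, hS⟩ := subcoh maxM hP gt2
  exact hS.uniform_sub SD_sub_bot (SD_conj (der_normalIn M)) fun φ hφ ψ hψ => by
    rw [deg_of_der2_le hN hφ, deg_of_der2_le hN hψ]

/-- Peterfalvi (11.5) -/
theorem der2 : ⁅⁅M, M⁆, ⁅M, M⁆⁆ = fittingOf M := by
  have sF := der2_le_fitting hP
  have nM2 : M ≤ 𝒩(⁅⁅M, M⁆, ⁅M, M⁆⁆) := norm_comm (der_normalIn M).2 (der_normalIn M).2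
  have u1 := one_lt_u maxM hP gt2
  rw [← relIndex_fitting hP] at u1
  have ltF : fittingOf M < ⁅M, M⁆ := lt_of_le_of_ne hP.fitting_le fun h => by
    rw [h, Subgroup.relIndex_self] at u1; exact lt_irrefl _ u1
  have h1 := bounded_proper_coherent maxM hP gt2 nM2 (sF.trans_lt ltF)
    (coh_of_der2_le maxM hP gt2 le_rfl)
  rw [← Subgroup.relIndex_mul_relIndex _ _ _ sF hP.fitting_le] at h1
  obtain ⟨c, hc⟩ := card_dvd_relIndex_pred hP (pr_q maxM hP gt2) hP.fitting_le sF nM2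
    ((typeP_W1_le hP).trans (fitting_norm M)) (hP.W₂_le.trans inf_le_right)
  have ok : Odd (⁅⁅M, M⁆, ⁅M, M⁆⁆.relIndex (fittingOf M)) :=
    (mFT_odd _).of_dvd_nat (Subgroup.relIndex_dvd_card _ _)
  refine le_antisymm sF (Subgroup.relIndex_eq_one.1 ?_)
  have oq := mFT_odd W₁
  generalize ⁅⁅M, M⁆, ⁅M, M⁆⁆.relIndex (fittingOf M) = k at *
  generalize (fittingOf M).relIndex ⁅M, M⁆ = u at *
  have kpos := ok.pos
  obtain rfl : k = Nat.card W₁ * c + 1 := by omega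
  obtain ⟨c, rfl⟩ : Even c := by
    rw [Nat.odd_add_one, Nat.not_odd_iff_even, Nat.even_mul] at ok
    exact ok.resolve_left (Nat.not_even_iff_odd.2 oq)
  rcases Nat.eq_zero_or_pos c with rfl | hc0
  · simp
  · have : Nat.card W₁ * u ≤ Nat.card W₁ * u * c := Nat.le_mul_of_pos_right _ hc0
    nlinarith

/-- Peterfalvi (11.6) -/
theorem C_eq : U ⊓ 𝒞(fittingHallOf M) = ⁅U, U⁆ := by
  have h := typeP_sdprod_der hP
  refine le_antisymm ?_ (le_inf (der_le U) (typeP_derU_cent hP))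
  have h1 : fittingOf M ≤ fittingHallOf M ⊔ ⁅U, U⁆ := by
    rw [← der2 maxM hP gt2, ← h.sup_eq, comm_sup_self h.norm]
    exact sup_le_sup_right (sup_le (der_le _) (comm_le_left h.norm)) _
  rw [← typeP_Fitting_inf_U hP]
  refine (le_inf inf_le_right (inf_le_left.trans h1)).trans ?_
  rw [inf_sup_of_right_le (Or.inr ((der_le U).trans h.norm)) (der_le U), inf_comm, h.inf_eq, bot_sup_eq]

theorem cH0U : U ≤ 𝒞(kerH0 M U) := by
  have sH0 := (H0_lt maxM hP gt2).le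
  obtain ⟨h1, -⟩ := typeP_sdprod_UW1 hP
  have co : (Nat.card (fittingHallOf M)).Coprime (Nat.card ↥(U ⊔ W₁)) :=
    h1.complIn.relIndex_left ▸ (Fcore_Hall M).2
  refine (Frobenius_Wielandt_fixpoint (typeP_Frobenius_UW1 hP (ntU maxM hP gt2))
    (h1.right_le.trans (H0_norm maxM hP gt2)) (co.coprime_dvd_left (Subgroup.card_dvd_of_le sH0))
    (sol_of_nil (nil_of_le (Fcore_nil M) sH0))).2.1 ?_
  have h2 := (Ptype_Fcore_factor_facts maxM hP (FTtype5_exclusion maxM)).2.1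
  have h3 := card_inf_mul_relIndex (kerH0 M U) W₂
  rw [h2, def_p maxM hP gt2, mul_eq_right₀ Nat.card_pos.ne', Subgroup.card_eq_one] at h3
  exact le_bot_iff.1 ((le_inf inf_le_left ((inf_le_inf_right _ sH0).trans
    (typeP_cent_core_compl hP).le)).trans h3.le)

theorem H0_eq : kerH0 M U = ⁅fittingHallOf M, fittingHallOf M⁆ := by
  have h := typeP_sdprod_der hP
  have sH0 := (H0_lt maxM hP gt2).le
  refine le_antisymm ?_ (derH_le maxM hP gt2)
  have nH := (der_normalIn (fittingHallOf M)).2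
  have nU : U ≤ 𝒩(⁅fittingHallOf M, fittingHallOf M⁆) := norm_comm h.norm h.norm
  have h1 : fittingHallOf M ≤ ⁅fittingHallOf M, fittingHallOf M⁆ ⊔ ⁅fittingHallOf M, U⁆ := by
    have s : ⁅fittingHallOf M, fittingHallOf M⁆ ⊔ ⁅fittingHallOf M, U⁆ ≤ fittingHallOf M :=
      sup_le (der_le _) (comm_le_left h.norm)
    have h2 : fittingHallOf M ≤ ⁅fittingHallOf M, fittingHallOf M⁆ ⊔ ⁅fittingHallOf M, U⁆ ⊔ ⁅U, U⁆ := by
      rw [← comm_sup_self h.norm, h.sup_eq, der2 maxM hP gt2]; exact Fcore_sub_Fitting M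
    refine (le_inf le_rfl h2).trans ?_
    rw [inf_sup_of_left_le (Or.inr (norm_of_cent ((typeP_derU_cent hP).trans (cent_anti s)))) s]
    exact sup_le le_rfl (((inf_le_inf_left _ (der_le U)).trans h.inf_eq.le).trans bot_le)
  rw [← quot_eq_bot_iff (sH0.trans nH), ← le_bot_iff, ← coprime_abel_cent_TI (quot_norm _ h.norm)
    (coprime_quot _ (typeP_coprime_HU hP)) (quot_der_abelian _), ← quot_comm nH nU]
  exact le_inf ((quot_le_quot_iff (sH0.trans nH) ((comm_le_left h.norm).trans nH)).2 (sH0.trans h1))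
    (quot_cent _ (le_cent_symm (cH0U maxM hP gt2)))

theorem kerC_eq : kerC M U = U ⊓ 𝒞(fittingHallOf M) := by
  have sH0 := (H0_lt maxM hP gt2).le
  have sC : kerC M U ≤ U := inf_le_left
  refine le_antisymm (le_inf sC ?_)
    (Ptype_Fcompl_kernel_normal maxM hP (FTtype5_exclusion maxM)).2.2.2.2.2.1
  refine stable_factor_cent (sC.trans (cH0U maxM hP gt2)) sH0 ?_
    ((typeP_coprime_HU hP).coprime_dvd_right (Subgroup.card_dvd_of_le sC))
  rw [Subgroup.commutator_comm, ← le_centQ ((sC.trans ((typeP_U_le_der hP).trans (der_le M))).trans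
    (H0_norm maxM hP gt2)) ((Fcore_le M).trans (H0_norm maxM hP gt2))]
  exact inf_le_right

/-- Peterfalvi (11.5), (11.6) -/
theorem FTtype34_facts : ⁅⁅M, M⁆, ⁅M, M⁆⁆ = fittingOf M ∧ kerC M U = U ⊓ 𝒞(fittingHallOf M) ∧
    kerC M U = ⁅U, U⁆ :=
  ⟨der2 maxM hP gt2, kerC_eq maxM hP gt2, (kerC_eq maxM hP gt2).trans (C_eq maxM hP gt2)⟩

theorem H0_eq_bot : kerH0 M U = ⊥ := by
  by_contra nt
  have nt5 := FTtype5_exclusion maxM
  have sH0 := (H0_lt maxM hP gt2).le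
  have nH0 := H0_norm maxM hP gt2
  have sHM := Fcore_le M
  have sUM := (typeP_U_le_der hP).trans (der_le M)
  have sWM := typeP_W1_le hP
  have ltN := nil_comm_lt (Fcore_nil M) sH0 le_rfl (sHM.trans nH0) nt
  have nN : M ≤ 𝒩(⁅kerH0 M U, fittingHallOf M⁆) := norm_comm nH0 (Fcore_norm M)
  have dH := H0_eq maxM hP gt2
  have cU := cH0U maxM hP gt2
  have oH := oHbar maxM hP gt2
  have pp := pr_p maxM hP gt2
  set N := ⁅kerH0 M U, fittingHallOf M⁆ with hN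
  by_cases gal : TypePGalois M U
  · obtain ⟨g, hg, gN⟩ := SetLike.exists_of_lt ltN
    have := normalSub (K := N) (sHM.trans nN)
    obtain ⟨χ, hχ, kN, kg⟩ := exists_irr_not_mem_ker (N.subgroupOf (fittingHallOf M))
      (g := ⟨g, sH0 hg⟩) gN
    have := cfker_normal (IsIrr.mem_CF hχ)
    set K := (cfker χ).map (fittingHallOf M).subtype ⊓ kerH0 M U with hK
    have nKH : fittingHallOf M ≤ 𝒩(K) := norm_inf (normalIn_map_subtype _).2 (sHM.trans nH0)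
    have nKU : U ≤ 𝒩(K) := norm_of_cent (cU.trans (cent_anti inf_le_right))
    have mK : ∀ x : fittingHallOf M, (x : G) ∈ kerH0 M U → ((x : G) ∈ K ↔ x ∈ cfker χ) := fun x hx =>
      ⟨fun ⟨⟨y, hy, e⟩, _⟩ => (Subtype.ext e : y = x) ▸ hy, fun h => ⟨⟨x, h, rfl⟩, hx⟩⟩
    have eX : fittingHallOf M ⊓ centQ (fittingHallOf M) K = kerH0 M U := by
      refine gal _ (le_inf sH0 ((le_centQ (sH0.trans nKH) nKH).2 fun y hy => ?_))
        (lt_of_le_of_ne inf_le_left fun h => kg ((mK _ hg).1 ?_)) (norm_inf (sUM.trans (Fcore_norm M))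
          (le_norm_quotPre nKU (norm_cent (quot_norm K (sUM.trans (Fcore_norm M))))))
      · exact (mK ⟨y, sH0 (ltN.le hy)⟩ (ltN.le hy)).2 (kN hy)
      · exact (le_centQ nKH nKH).1 (h.ge.trans inf_le_right) (dH.le hg)
    have cm : ∀ x y : fittingHallOf M, ((x * y * x⁻¹ * y⁻¹ : fittingHallOf M) : G) ∈ kerH0 M U :=
      fun x y => dH.ge (Subgroup.commutator_mem_commutator x.2 y.2)
    have h := gal_aux (Z := (kerH0 M U).subgroupOf (fittingHallOf M)) hχ (fun x => by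
      rw [Subgroup.mem_subgroupOf, ← eX, Subgroup.mem_inf, mem_centQ (nKH x.2) nKH]
      exact ⟨fun h y => (mK _ (cm x y)).1 (h.2 y y.2),
        fun h => ⟨x.2, fun y hy => (mK _ (cm x ⟨y, hy⟩)).2 (h _)⟩⟩) cm
    have h2 := congrArg (fun n => n.factorization (Nat.card W₂)) (h.trans oH)
    simp only [Nat.factorization_pow, Finsupp.smul_apply, smul_eq_mul, pp.factorization_self,
      mul_one] at h2
    exact Nat.not_even_iff_odd.2 (mFT_odd W₁) ⟨_, h2.symm.trans (two_mul _)⟩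
  · obtain ⟨H₁, a, h⟩ := typeP_Galois_Pn maxM hP nt5 gal
    have sH₁ := h.le2.trans sHM
    have sw : ∀ w : W₁, H₁ :^ (w : G) ≤ M := fun w => (h.gen ▸ le_iSup (fun w : W₁ => H₁ :^ (w : G)) w :
      H₁ :^ (w : G) ≤ fittingHallOf M).trans sHM
    obtain ⟨w, hw⟩ : ∃ w : W₁, ¬ ⁅H₁, H₁ :^ (w : G)⁆ ≤ N := by
      by_contra! hc
      refine ltN.not_ge (dH.le.trans ?_)
      conv_lhs => rw [← h.gen]
      refine comm_iSup_left_le (fun w => (sw w).trans nN) fun w => ?_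
      rw [Subgroup.commutator_comm]
      refine comm_iSup_left_le (fun w => (sw w).trans nN) fun w' => ?_
      have h1 := conjg_mono (w' : G) (hc (w'⁻¹ * w))
      rwa [conjg_comm, ← conjg_mul, conjg_of_mem_norm (nN (sWM w'.2)), Subgroup.coe_mul,
        Subgroup.coe_inv, mul_inv_cancel_left] at h1
    have wN : (w : G) ∈ 𝒩(N) := nN (sWM w.2)
    have wW : coset N ⟨w, wN⟩ ∈ W₁ /ₛ N := mem_quot_of_mem wN w.2
    have key := nonGal_aux2 (H := fittingHallOf M /ₛ N) (H₁ := H₁ /ₛ N) (Z := kerH0 M U /ₛ N)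
      (U := U /ₛ N) (w := coset N ⟨w, wN⟩) (Ptype_factor_prime maxM hP nt5).1
      (by rw [← quot_comm (sHM.trans nN) (sHM.trans nN)]; exact quot_mono N dH.ge)
      (quot_mono N h.le1) (quot_mono N h.le2)
      ((quot_cent_iff ((sH0.trans sHM).trans nN) (sHM.trans nN)).2 le_rfl) (quot_cent N cU)
      (quot_norm N (sWM.trans (Fcore_norm M)) wW) (quot_norm N (sWM.trans nH0) wW)
      (quot_norm N hP.U_normal wW)
      ((odd_quot N (mFT_odd W₁)).of_dvd_nat (orderOf_dvd_card_of_mem wW)) (odd_quot N (mFT_odd U))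
      (quot_norm N h.norm) ((relIndex_quot ltN.le h.le1 (sH₁.trans nN)).trans h.card)
      (by
        rintro _ ⟨x, hx, rfl⟩
        rw [← map_pow]
        exact (coset_mem_quot_iff ltN.le).2 ((Ptype_factor_prime maxM hP nt5).2.2 x hx))
      (by rwa [← quot_conjg, quot_cent_iff (sH₁.trans nN) ((sw w).trans nN)])
    rw [← quot_comm (sUM.trans nN) (sH₁.trans nN),
      quot_le_quot_iff' ((comm_le_of_le sUM sH₁).trans nN) ltN.le,
      ← le_centQ (sUM.trans nH0) (sH₁.trans nH0)] at key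
    have := h.one_lt
    rw [← h.a_def, inf_eq_left.2 key, Subgroup.relIndex_self] at this
    exact lt_irrefl _ this

/-- Peterfalvi (11.7) -/
theorem FTtype34_Fcore_kernel_trivial : IsElementaryAbelian (Nat.card W₂) (fittingHallOf M) ∧
    Nat.card (fittingHallOf M) = Nat.card W₂ ^ Nat.card W₁ ∧ kerH0 M U = ⊥ := by
  have h := H0_eq_bot maxM hP gt2
  have h1 := Ptype_factor_prime maxM hP (FTtype5_exclusion maxM)
  have h2 := oHbar maxM hP gt2
  rw [h, def_p maxM hP gt2] at h1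
  rw [h, Subgroup.relIndex_bot_left] at h2
  exact ⟨⟨der_eq_bot_iff.1 (le_bot_iff.1 h1.2.1), h1.2.2⟩, h2, h⟩

end CA.PF.P11
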