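import Cfsg.Agent.PF.I11

/-!
# Peterfalvi, section 12, part a: general lemmas.
-/

set_option autoImplicit false
set_option linter.unusedSectionVars false

open scoped ComplexConjugate

open Cfsg CA.FG CA.BG

namespace CA.Chr

variable {G : Type*} [Group G] [Finite G]

theorem ONS.orth_of_dot_sum {R : Finset (G → ℂ)} (h : ONS R) {ψ : G → ℂ} (hψ : Dirr ψ)
    (h0 : ⟪∑ α ∈ R, α, ψ⟫ = 0) : ∀ α ∈ R, ⟪α, ψ⟫ = 0 := by
  classical
  intro α hα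
  rcases (h.dirr α hα).dot_cases hψ with ⟨rfl, -⟩ | ⟨e, -⟩ | ⟨-, -, e⟩
  · rw [h.dot_sum le_rfl hα, if_pos hα] at h0
    exact absurd h0 one_ne_zero
  · rw [← neg_eq_iff_eq_neg] at e
    rw [← e, dot_neg_right, h.dot_sum le_rfl hα, if_pos hα, neg_eq_zero] at h0
    exact absurd h0 one_ne_zero
  · exact e

section
variable {L : Type*} [Group L] [Finite L]

open Classical in
/-- subcoherence for multiplicity-free sums of irreducible characters -/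
theorem Subcoh.of_sum {X S : Finset (L → ℂ)} {τ : (L → ℂ) →ₗ[ℂ] (G → ℂ)}
    {R : (L → ℂ) → Finset (G → ℂ)} (h : Subcoh X τ R) (irr : ∀ φ ∈ X, IsIrrCharacter L φ)
    (hS : ∀ χ ∈ S, χ = ∑ φ ∈ X.filter (fun φ => ⟪χ, φ⟫ ≠ 0), φ) (char : ∀ χ ∈ S, IsCharacter L χ)
    (cm : ∀ χ ∈ S, conjFun χ ∈ S) (cn : ∀ χ ∈ S, conjFun χ ≠ χ)
    (orth : ∀ χ ∈ S, ∀ φ ∈ S, χ ≠ φ → ⟪χ, φ⟫ = 0) :
    Subcoh S τ fun χ => (X.filter fun φ => ⟪χ, φ⟫ ≠ 0).biUnion R := by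
  have zs : ∀ χ ∈ S, χ ∈ ZS X := fun χ hχ => by
    rw [hS χ hχ]; exact Submodule.sum_mem _ fun φ hφ => mem_ZS (Finset.mem_filter.1 hφ).1
  have cs : ∀ α ∈ CS S, α ∈ CS X := fun α hα =>
    Submodule.span_le.2 (fun χ hχ => CS_of_ZS (zs χ hχ)) hα
  have zs' : ∀ α ∈ ZS S, α ∈ ZS X := fun α hα => Submodule.span_le.2 (fun χ hχ => zs χ hχ) hα
  have k1 : ∀ χ ∈ S, ∀ χ' ∈ S, χ ≠ χ' → ∀ φ ∈ X, ⟪χ, φ⟫ ≠ 0 → ⟪χ', φ⟫ = 0 :=
    fun χ hχ χ' hχ' e φ hφ h1 => (IsChar.dot_eq_zero_or (char _ hχ) (char _ hχ') (orth _ hχ _ hχ' e)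
      (irr _ hφ)).resolve_left h1
  have k2 : ∀ χ ∈ S, ∀ χ' ∈ S, χ ≠ conjFun χ' → ∀ φ ∈ X, ⟪χ, φ⟫ ≠ 0 → ⟪χ', conjFun φ⟫ = 0 :=
    fun χ hχ χ' hχ' e φ hφ h1 => by
      have := k1 χ hχ _ (cm _ hχ') e φ hφ h1
      rwa [dot_conjFun_left, map_eq_zero] at this
  have k3 : ∀ χ ∈ S, ∀ φ ∈ X.filter (fun φ => ⟪χ, φ⟫ ≠ 0), ∀ φ' ∈ X.filter (fun φ => ⟪χ, φ⟫ ≠ 0),
      φ ≠ φ' → ∀ α ∈ R φ, ∀ β ∈ R φ', ⟪α, β⟫ = 0 := fun χ hχ φ hφ φ' hφ' e => by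
    rw [Finset.mem_filter] at hφ hφ'
    refine h.disj _ hφ'.1 _ hφ.1 e fun f => hφ.2 ?_
    rw [f]
    exact k2 χ hχ χ hχ (cn χ hχ).symm _ hφ'.1 hφ'.2
  refine ⟨⟨fun α hα β hβ => h.iso α (cs α hα) β (cs β hβ), fun α hα => h.zirr α (zs' α hα),
    fun α hα => h.one α (cs α hα)⟩, char, cm, cn, orth, fun χ hχ => ⟨fun α hα => ?_,
      fun α hα β hβ e => ?_⟩, fun χ hχ => ?_, fun χ hχ χ' hχ' e1 e2 α hα β hβ => ?_⟩
  · obtain ⟨φ, hφ, hα⟩ := Finset.mem_biUnion.1 hα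
    exact (h.ons φ (Finset.mem_filter.1 hφ).1).dirr α hα
  · obtain ⟨φ, hφ, hα⟩ := Finset.mem_biUnion.1 hα
    obtain ⟨φ', hφ', hβ⟩ := Finset.mem_biUnion.1 hβ
    by_cases f : φ = φ'
    · subst f
      exact (h.ons φ (Finset.mem_filter.1 hφ).1).orth α hα β hβ e
    · exact k3 χ hχ φ hφ φ' hφ' f α hα β hβ
  · rw [Finset.sum_biUnion fun φ hφ φ' hφ' e => Finset.disjoint_left.2 fun α hα hα' => by
      have := k3 χ hχ φ hφ φ' hφ' e α hα α hα'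
      rw [(h.ons φ (Finset.mem_filter.1 hφ).1).dot_self α hα] at this
      exact one_ne_zero this, ← Finset.sum_congr rfl fun φ hφ => h.sum_eq φ (Finset.mem_filter.1 hφ).1,
      ← map_sum, Finset.sum_sub_distrib, ← conjFun_sum, ← hS χ hχ]
  · obtain ⟨φ, hφ, hα⟩ := Finset.mem_biUnion.1 hα
    obtain ⟨φ', hφ', hβ⟩ := Finset.mem_biUnion.1 hβ
    rw [Finset.mem_filter] at hφ hφ'
    refine h.disj _ hφ'.1 _ hφ.1 (fun f => hφ'.2 ?_) (fun f => ?_) α hα β hβ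
    · rw [← f]; exact k1 χ' hχ' χ hχ e1 φ hφ.1 hφ.2
    · have := k2 χ' hχ' χ hχ e2 φ hφ.1 hφ.2
      rw [f, conjFun_conjFun] at this
      exact hφ'.2 this

variable {H : Type*} [Group H] [Finite H] (f : H →* L) [hf : NormalInj f]

theorem exists_inertia_factor {θ : H → ℂ} (hθ : IsIrrCharacter H θ)
    (hab : ∀ a ∈ inertia f θ, ∀ b ∈ inertia f θ, a * b * a⁻¹ * b⁻¹ ∈ f.range) :
    ∃ i : H →* inertia f θ, (inertia f θ).subtype.comp i = f ∧ commutator (inertia f θ) ≤ i.range ∧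
      i.range.index ∣ f.range.index := by
  have le := range_le_inertia f (IsIrr.mem_CF hθ)
  let i : H →* inertia f θ := f.codRestrict _ fun x => le ⟨x, rfl⟩
  have r : i.range = f.range.subgroupOf (inertia f θ) := by
    ext x
    exact ⟨fun ⟨y, e⟩ => ⟨y, congrArg Subtype.val e⟩, fun ⟨y, e⟩ => ⟨y, Subtype.ext e⟩⟩
  refine ⟨i, rfl, ?_, ?_⟩
  · rw [r, commutator_def, Subgroup.commutator_le]
    exact fun a _ b _ => hab a a.2 b b.2
  · rw [r]; exact Subgroup.relIndex_dvd_index_of_le le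

theorem deg_eq_of_inertia_abelian {θ : H → ℂ} (hθ : IsIrrCharacter H θ)
    (hab : ∀ a ∈ inertia f θ, ∀ b ∈ inertia f θ, a * b * a⁻¹ * b⁻¹ ∈ f.range) {φ ψ : L → ℂ}
    (hφ : IsIrrCharacter L φ) (hψ : IsIrrCharacter L ψ) (h1 : ⟪φ ∘ f, θ⟫ ≠ 0) (h2 : ⟪ψ ∘ f, θ⟫ ≠ 0) :
    φ 1 = ψ 1 := by
  obtain ⟨i, e, hc, -⟩ := exists_inertia_factor f hθ hab
  generalize hT : inertia f θ = T at i e hc
  subst e
  haveI := NormalInj.of_comp i T.subtype T.subtype_injective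
  have hI : inertia (T.subtype.comp i) θ ≤ T.subtype.range := by rw [hT]; simp
  obtain ⟨φ', a1, a2, rfl⟩ := clifford_corr_surj i T.subtype T.subtype_injective hθ hI hφ h1
  obtain ⟨ψ', b1, b2, rfl⟩ := clifford_corr_surj i T.subtype T.subtype_injective hθ hI hψ h2
  obtain ⟨l, -, rfl⟩ := exists_lin_mul_of_over i hc hθ (by
    rw [inertia_comp i T.subtype, hT]; simp) a1 b1 a2 b2
  simp [ind_subtype_one]

theorem ind_eq_sum_of_Hall {θ : H → ℂ} (hθ : IsIrrCharacter H θ)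
    (hab : ∀ a ∈ inertia f θ, ∀ b ∈ inertia f θ, a * b * a⁻¹ * b⁻¹ ∈ f.range)
    (cop : (Nat.card H).Coprime f.range.index) :
    ∃ C : Finset (L → ℂ), (∀ φ ∈ C, IsIrrCharacter L φ) ∧ ind f θ = ∑ φ ∈ C, φ := by
  classical
  obtain ⟨i, e, hc, hd⟩ := exists_inertia_factor f hθ hab
  generalize hT : inertia f θ = T at i e hc hd
  subst e
  haveI := NormalInj.of_comp i T.subtype T.subtype_injective
  obtain ⟨C, h1, h2, -, h3⟩ := ind_Hall_central_inertia i T.subtype T.subtype_injective hθ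
    (by rw [hT]; simp) hc (cop.coprime_dvd_right hd)
  refine ⟨C.image (ind T.subtype), fun φ hφ => ?_, ?_⟩
  · obtain ⟨ψ, hψ, rfl⟩ := Finset.mem_image.1 hφ
    exact (h1 ψ hψ).2.2
  · rw [← ind_comp, h3, map_sum, Finset.sum_image h2]

theorem res_eq_of_deg_eq {θ : H → ℂ} (hθ : IsIrrCharacter H θ) {φ ψ : L → ℂ}
    (hφ : IsIrrCharacter L φ) (hψ : IsIrrCharacter L ψ) (h1 : ⟪φ ∘ f, θ⟫ ≠ 0) (h2 : ⟪ψ ∘ f, θ⟫ ≠ 0)
    (hd : φ 1 = ψ 1) : ⟪φ ∘ f, θ⟫ = ⟪ψ ∘ f, θ⟫ ∧ φ ∘ f = ψ ∘ f := by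
  have e : ⟪φ ∘ f, θ⟫ = ⟪ψ ∘ f, θ⟫ := by
    rw [clifford_deg f hφ hθ h1, clifford_deg f hψ hθ h2] at hd
    exact mul_right_cancel₀ (by exact_mod_cast (index_pos _).ne')
      (mul_right_cancel₀ (IsIrr.dirr hθ).deg_ne_zero hd)
  exact ⟨e, by rw [clifford f hφ hθ h1, clifford f hψ hθ h2, e]⟩

open Classical in
/-- a class function whose coefficients are constant on the fibres over `Irr(H)` agrees outside `H` with
its `L/H`-part -/
theorem apply_eq_sum_ker {F : L → ℂ} (hF : F ∈ CF L)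
    (hc : ∀ θ, IsIrrCharacter H θ → θ ≠ 1 → ∀ φ ψ, IsIrrCharacter L φ → IsIrrCharacter L ψ →
      ⟪φ ∘ f, θ⟫ ≠ 0 → ⟪ψ ∘ f, θ⟫ ≠ 0 → φ 1 = ψ 1 ∧ ⟪F, φ⟫ = ⟪F, ψ⟫) {x : L} (hx : x ∉ f.range) :
    F x = ∑ φ ∈ (irr L).filter (fun φ => f.range ≤ cfker φ), ⟪F, φ⟫ * φ x := by
  suffices F = ∑ φ ∈ (irr L).filter (fun φ => f.range ≤ cfker φ), ⟪F, φ⟫ • φ +
      ∑ χ ∈ seqInd f (· ≠ 1), (⟪F, χ⟫ / nrm χ) • χ by
    conv_lhs => rw [this]
    rw [Pi.add_apply, Finset.sum_apply, Finset.sum_apply, Finset.sum_eq_zero (s := seqInd _ _)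
      fun χ hχ => by simp [seqInd_eq_zero hχ hx], add_zero]
    rfl
  refine CF_ext hF (add_mem (sum_mem fun φ hφ => Subalgebra.smul_mem _
    (IsIrr.mem_CF (mem_irr.1 (Finset.mem_filter.1 hφ).1)) _)
    (sum_mem fun χ hχ => Subalgebra.smul_mem _ (seqInd_CF hχ) _)) fun φ hφ => ?_
  rw [dot_add_left, dot_sum_left, dot_sum_left]
  simp only [dot_smul_left]
  by_cases hk : f.range ≤ cfker φ
  · rw [Finset.sum_eq_single_of_mem φ (Finset.mem_filter.2 ⟨mem_irr.2 hφ, hk⟩) fun ψ hψ e => by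
      rw [IsIrr.dot_ne (mem_irr.1 (Finset.mem_filter.1 hψ).1) hφ e, mul_zero], IsIrr.dot_self hφ,
      Finset.sum_eq_zero, mul_one, add_zero]
    intro χ hχ
    obtain ⟨θ, hθ, h1, rfl⟩ := mem_seqInd.1 hχ
    have : φ ∘ f = φ 1 • 1 := by
      ext z; simpa using cfker_apply (hk ⟨z, rfl⟩)
    rw [frob_rec _ _ (IsIrr.mem_CF hφ), this, dot_smul_right, IsIrr.dot_ne hθ (mem_irr.1 one_mem_irr) h1]
    simp
  obtain ⟨θ, hθ, h1, h2⟩ := exists_constt_res_ne_one f hφ hk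
  have h3 : ⟪φ, ind f θ⟫ ≠ 0 := by rwa [frob_rec' _ _ (IsIrr.mem_CF hφ)]
  have hm : ind f θ ∈ seqInd f (· ≠ 1) := ind_mem_seqInd hθ h1
  rw [Finset.sum_eq_zero fun ψ hψ => by
      rw [IsIrr.dot_ne (mem_irr.1 (Finset.mem_filter.1 hψ).1) hφ fun e =>
        hk (e ▸ (Finset.mem_filter.1 hψ).2), mul_zero], zero_add,
    Finset.sum_eq_single_of_mem _ hm fun χ hχ e => by
      rw [(IsChar.dot_eq_zero_or (seqInd_char hχ) (seqInd_char hm) (seqInd_orth hχ hm e) hφ).resolve_right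
        fun z => h3 (dot_comm_zero z), mul_zero]]
  have e1 : ⟪F, ind f θ⟫ = ⟪F, φ⟫ * ∑ ψ ∈ irr L, ⟪ψ, ind f θ⟫ := by
    rw [parseval hF, Finset.mul_sum]
    refine Finset.sum_congr rfl fun ψ hψ => ?_
    have hψ := mem_irr.1 hψ
    by_cases z : ⟪ψ, ind f θ⟫ = 0
    · simp [z]
    · rw [(hc θ hθ h1 φ ψ hφ hψ h2 (by rwa [frob_rec' _ _ (IsIrr.mem_CF hψ)] at z)).2]
  have e2 : (nrm (ind f θ) : ℂ) = ⟪ind f θ, φ⟫ * ∑ ψ ∈ irr L, ⟪ψ, ind f θ⟫ := by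
    rw [← dot_self, parseval (ind_mem_CF _ _), Finset.mul_sum]
    refine Finset.sum_congr rfl fun ψ hψ => ?_
    have hψ := mem_irr.1 hψ
    by_cases z : ⟪ψ, ind f θ⟫ = 0
    · simp [z]
    · rw [frob_rec' _ _ (IsIrr.mem_CF hψ)] at z
      rw [← conj_dot ψ, ← conj_dot φ, frob_rec' _ _ (IsIrr.mem_CF hψ), frob_rec' _ _ (IsIrr.mem_CF hφ),
        (res_eq_of_deg_eq f hθ hφ hψ h2 z (hc θ hθ h1 φ ψ hφ hψ h2 z).1).1]
  have e3 : (nrm (ind f θ) : ℂ) ≠ 0 := by exact_mod_cast (nrm_pos (seqInd_ne_zero hm)).ne'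
  rw [div_mul_eq_mul_div, eq_div_iff e3, e1, e2]
  ring

end

theorem exists_cent_of_conj {H : Subgroup G} {u y h : G} (hu : u ∈ 𝒩(H))
    (cop : (orderOf u).Coprime (Nat.card H)) (hy : y ∈ H) (hy1 : y ≠ 1) (hh : h ∈ H)
    (e : h * y * h⁻¹ = u * y * u⁻¹) : ∃ z ∈ H, z ≠ 1 ∧ u ∈ 𝒞[z] := by
  obtain ⟨x, hx, c, hc, e1, e2⟩ := exists_conj_cent_coset H hu cop (inv_mem hh)
  refine ⟨x * y * x⁻¹, mul_mem (mul_mem hx hy) (inv_mem hx), by simpa using hy1, ?_⟩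
  refine Subgroup.zpowers_le.2 (?_ : c * u ∈ _) (mem_zpowers_mul_of_coprime' e1
    (cop.symm.coprime_dvd_left (orderOf_dvd_card_of_mem hc)))
  rw [← e2, Subgroup.mem_centralizer_singleton_iff]
  calc x * (h⁻¹ * u) * x⁻¹ * (x * y * x⁻¹) = x * h⁻¹ * (u * y * u⁻¹) * u * x⁻¹ := by group
    _ = _ := by rw [← e]; group

/-- the group-theoretic core of (12.12) -/
theorem regular_p2_dvd {p : ℕ} (hp : p.Prime) {T E : Subgroup G} (abT : IsElementaryAbelian p T)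
    (oT : Nat.card T = p ^ 2) (nTE : E ≤ 𝒩(T)) (reg : Semiregular T E) (abE : IsMulCommutative E)
    {x : G} (hx : x ∈ T) (hN : E ⊓ 𝒩(Subgroup.zpowers x) = ⊥) :
    Nat.card E ∣ p - 1 ∨ Nat.card E ∣ p + 1 := by
  have cT := abelian_iff_forall.1 abT.1
  have cE := abelian_iff_forall.1 abE
  by_cases h : ∃ y ∈ E, y ≠ 1 ∧ ∃ t ∈ T, t ≠ 1 ∧ ∃ n : ℕ, y * t ^ n * y⁻¹ = t
  · left
    obtain ⟨y, hy, hy1, t, ht, ht1, n, e⟩ := h
    let V : Subgroup G :=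
      { carrier := {u | u ∈ T ∧ y * u ^ n * y⁻¹ = u}
        mul_mem' := fun {a b} ha hb => ⟨mul_mem ha.1 hb.1, by
          rw [Commute.mul_pow (cT a ha.1 b hb.1)]
          conv_rhs => rw [← ha.2, ← hb.2]
          group⟩
        one_mem' := ⟨one_mem _, by simp⟩
        inv_mem' := fun {a} ha => ⟨inv_mem ha.1, by
          conv_rhs => rw [← ha.2]
          group⟩ }
    have sV : V ≤ T := fun u hu => hu.1
    have nV : E ≤ 𝒩(V) := fun g hg => mem_norm_of_forall fun u hu =>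
      ⟨conj_mem_of_le_norm nTE hg hu.1, by
        conv_rhs => rw [← hu.2]
        rw [conj_pow, ← mul_assoc, ← mul_assoc, cE y hy g hg, mul_assoc, ← mul_inv_rev, cE y hy g hg]
        group⟩
    have lt : V < T := sV.lt_of_ne fun f => hy1 <| by
      have h1 := (f.ge hx).2
      rw [← inv_eq_one, ← Subgroup.mem_bot, ← hN]
      refine Subgroup.mem_inf.2 ⟨inv_mem hy, mem_norm_of_forall fun u ⟨k, hk⟩ => ?_⟩
      have : y⁻¹ * x * y⁻¹⁻¹ = x ^ n := by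
        conv_lhs => rw [← h1]
        group
      rw [← hk, ← conj_zpow, this]
      exact zpow_mem (pow_mem (Subgroup.mem_zpowers x) n) k
    obtain ⟨k, hk2, hk⟩ := (Nat.dvd_prime_pow hp).1 (oT ▸ Subgroup.card_dvd_of_le sV)
    have h1 := one_lt_card (ne_bot_of_mem (H := V) ⟨ht, e⟩ ht1)
    have h2 := card_lt_of_lt lt
    have := regular_norm_dvd_pred nV (semiregularS reg sV le_rfl)
    rw [hk] at h1 h2 this
    rw [oT, Nat.pow_lt_pow_iff_right hp.one_lt] at h2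
    obtain rfl : k = 1 := by
      rcases k with _ | k
      · simp at h1
      · omega
    rwa [pow_one] at this
  right
  push Not at h
  haveI : Fact p.Prime := ⟨hp⟩
  have ot : ∀ t : {t : G // t ∈ T ∧ t ≠ 1}, orderOf t.1 = p := fun t => abelem_orderOf hp abT t.2.1 t.2.2
  letI : MulAction (E × (ZMod p)ˣ) {t : G // t ∈ T ∧ t ≠ 1} :=
    { smul := fun g t => ⟨g.1 * t.1 ^ (g.2 : ZMod p).val * (g.1 : G)⁻¹,
        conj_mem_of_le_norm nTE g.1.2 (pow_mem t.2.1 _), by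
          rw [Ne, conj_eq_one_iff, ← orderOf_dvd_iff_pow_eq_one, ot, ← ZMod.natCast_eq_zero_iff]
          simp⟩
      one_smul := fun t => Subtype.ext (by
        change ((1 : E) : G) * t.1 ^ ((1 : (ZMod p)ˣ) : ZMod p).val * ((1 : E) : G)⁻¹ = t
        simp [ZMod.val_one])
      mul_smul := fun a b t => Subtype.ext (by
        change ((a.1 * b.1 : E) : G) * t.1 ^ ((a.2 * b.2 : (ZMod p)ˣ) : ZMod p).val *
          ((a.1 * b.1 : E) : G)⁻¹ = a.1 * (b.1 * t.1 ^ (b.2 : ZMod p).val * (b.1 : G)⁻¹) ^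
            (a.2 : ZMod p).val * (a.1 : G)⁻¹
        rw [Units.val_mul, ZMod.val_mul, conj_pow, ← pow_mul, mul_comm (ZMod.val _),
          ← pow_mod_orderOf t.1 (_ * _), ot]
        simp [mul_assoc]) }
  have fr : ∀ t : {t : G // t ∈ T ∧ t ≠ 1}, MulAction.stabilizer (E × (ZMod p)ˣ) t = ⊥ := by
    intro t
    refine eq_bot_iff.2 fun g hg => Subgroup.mem_bot.2 ?_
    have e : g.1 * t.1 ^ (g.2 : ZMod p).val * (g.1 : G)⁻¹ = t := congrArg Subtype.val hg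
    have e1 : (g.1 : G) = 1 := by
      by_contra f
      exact h _ g.1.2 f _ t.2.1 t.2.2 _ e
    rw [e1, one_mul, inv_one, mul_one] at e
    refine Prod.ext (Subtype.ext e1) (Units.ext ?_)
    have : t.1 ^ (g.2 : ZMod p).val = t.1 ^ 1 := by rw [e, pow_one]
    rw [pow_eq_pow_iff_modEq, ot, ← ZMod.natCast_eq_natCast_iff] at this
    simpa using this
  have c := Nat.card_congr (MulAction.selfEquivOrbitsQuotientProd fr)
  have c2 : Nat.card {t : G // t ∈ T ∧ t ≠ 1} = p ^ 2 - 1 := oT ▸ ncard_sharp T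
  rw [c2, Nat.card_prod, Nat.card_prod, Nat.card_eq_fintype_card (α := (ZMod p)ˣ), ZMod.card_units,
    show p ^ 2 - 1 = (p + 1) * (p - 1) by simpa using Nat.sq_sub_sq p 1, ← mul_assoc] at c
  exact Dvd.intro_left _ (Nat.eq_of_mul_eq_mul_right (by have := hp.two_le; omega) c).symm

end CA.Chr
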