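import Cfsg.Agent.PF.P12a

/-!
# Peterfalvi, section 12, part b: (12.2) - (12.6).
-/

set_option autoImplicit false
set_option linter.unusedSectionVars false

open scoped ComplexConjugate

open Cfsg CA.FG CA.BG CA.Chr

namespace CA.PF.P12

universe u

theorem dot_tau_sub_of_orth {G L : Type*} [Group G] [Finite G] [Group L] [Finite L]
    {S : Finset (L → ℂ)} {τ : (L → ℂ) →ₗ[ℂ] (G → ℂ)} {R : (L → ℂ) → Finset (G → ℂ)}
    (h : Subcoh S τ R) {ψ : G → ℂ} {χ φ : L → ℂ} (hχ : χ ∈ S) (hφ : φ ∈ S) (hd : χ 1 = φ 1)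
    (o1 : ∀ α ∈ R χ, ⟪α, ψ⟫ = 0) (o2 : ∀ α ∈ R φ, ⟪α, ψ⟫ = 0) : ⟪τ (χ - φ), ψ⟫ = 0 := by
  by_cases e1 : φ = χ
  · simp [e1]
  by_cases e2 : φ = conjFun χ
  · rw [e2, h.sum_eq χ hχ, dot_sum_left, Finset.sum_eq_zero o1]
  obtain ⟨E, hE, E', hE', e, -⟩ := h.tau_sub_eq hχ hφ e1 e2 hd
  rw [e, dot_sub_left, dot_sum_left, dot_sum_left, Finset.sum_eq_zero fun α hα => o1 α (hE hα),
    Finset.sum_eq_zero fun α hα => o2 α (hE' hα), sub_zero]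

variable {G : Type u} [Group G] [MinSimpleOdd G] {L : Subgroup G}

theorem typeF_inertia {U : Subgroup G} (h : OfTypeF L U) {θ : fittingHallOf L → ℂ}
    (hθ : IsIrrCharacter _ θ) (h1 : θ ≠ 1) :
    ∀ a ∈ inertia (Subgroup.inclusion (Fcore_normal L).1) θ,
      ∀ b ∈ inertia (Subgroup.inclusion (Fcore_normal L).1) θ,
        a * b * a⁻¹ * b⁻¹ ∈ (Subgroup.inclusion (Fcore_normal L).1).range := by
  obtain ⟨⟨-, -, sd⟩, ⟨U₁, n₁, ab, hU₁⟩, -⟩ := h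
  have cop := (Fcore_Hall L).2
  rw [sd.1.relIndex_left] at cop
  have key : ∀ a ∈ inertia (Subgroup.inclusion (Fcore_normal L).1) θ,
      (a : G) ∈ fittingHallOf L ⊔ U₁ := by
    intro a ha
    obtain ⟨k, hk, u, hu, e⟩ := sd.1.2.2.2 a a.2
    rw [e]
    refine Subgroup.mul_mem_sup hk ?_
    have h2 : (⟨u, sd.right_le hu⟩ : L) ∈ inertia (Subgroup.inclusion (Fcore_normal L).1) θ := by
      have := mul_mem (inv_mem (range_le_inertia _ (IsIrr.mem_CF hθ) ⟨⟨k, hk⟩, rfl⟩)) ha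
      convert this using 1
      exact Subtype.ext (by simp [e])
    by_contra hn
    refine not_mem_inertia_of_no_fixed_class _ (fun y hy => ?_) hθ h1 h2
    by_contra hy1
    obtain ⟨c, hc⟩ := isConj_iff.1 hy
    have e2 := congrArg Subtype.val ((cj_eq_iff _).1 hc.symm)
    obtain ⟨z, hz, hz1, hc⟩ := exists_cent_of_conj (sd.norm hu)
      (cop.symm.coprime_dvd_left (orderOf_dvd_card_of_mem hu)) y.2 (fun f => hy1 (Subtype.ext f)) c.2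
      e2.symm
    exact hn (hU₁ z hz hz1 ⟨hu, hc⟩)
  intro a ha b hb
  refine (mem_range_incl _).2 (SDProd.der_le (sdprod_mk (n₁.1.trans sd.norm) rfl ?_) ab
    (Subgroup.commutator_mem_commutator (key a ha) (key b hb)))
  exact eq_bot_iff.2 ((inf_le_inf_left _ n₁.1).trans sd.inf_eq.le)

theorem type1_supp (maxL : IsCoatom L) (t1 : FTtype L = 1) {φ : L → ℂ} (hφ : IsIrrCharacter L φ)
    (hk : ¬ (fittingHallOf L).subgroupOf L ≤ cfker φ) {a : L} (h1 : a ≠ 1) (ha : φ a ≠ 0) :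
    (a : G) ∈ FTsupp0 L := by
  haveI := normalSub (Fcore_norm L)
  obtain ⟨x, hx, hx1, e⟩ := IsIrr.mem_centSupp hφ hk ha
  refine FTsupp_sub0 L ⟨by rw [FTder_type1 t1]; exact a.2, fun f => h1 (Subtype.ext f), x,
    Fcore_le_FTcore maxL hx, fun f => hx1 (Subtype.ext f), ?_⟩
  exact Subgroup.mem_centralizer_singleton_iff.2 (congrArg Subtype.val e).symm

/-- Peterfalvi (12.2), (12.3) in the form needed later -/
theorem type1_orth (maxL : IsCoatom L) (t1 : FTtype L = 1) {ψ : G → ℂ} (hψ : Dirr ψ)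
    (h : ∀ χ ∈ SF L, ⟪tau0 L (χ - conjFun χ), ψ⟫ = 0) :
    (∀ φ₁ φ₂, IsIrrCharacter L φ₁ → IsIrrCharacter L φ₂ →
      ¬ (fittingHallOf L).subgroupOf L ≤ cfker φ₁ → ¬ (fittingHallOf L).subgroupOf L ≤ cfker φ₂ →
      φ₁ 1 = φ₂ 1 → ⟪tau0 L (φ₁ - φ₂), ψ⟫ = 0) ∧
    ∀ χ₁ ∈ SF L, ∀ χ₂ ∈ SF L, χ₁ 1 = χ₂ 1 → ⟪tau0 L (χ₁ - χ₂), ψ⟫ = 0 := by
  classical
  have hn := Fcore_normal L
  haveI := normalSub hn.2
  obtain ⟨U, hU⟩ := (FTtype1_iff_typeF maxL).1 t1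
  set X := (irr L).filter fun φ => ¬ (fittingHallOf L).subgroupOf L ≤ cfker φ with hX
  have mX : ∀ φ, φ ∈ X ↔ IsIrrCharacter L φ ∧ ¬ (fittingHallOf L).subgroupOf L ≤ cfker φ := fun φ => by
    rw [hX, Finset.mem_filter, mem_irr]
  obtain ⟨R, hR⟩ := irr_subcoh (S := X) (Dade.isoOn (FT_Dade0_hyp maxL)
    (fun φ hφ => IsIrr.mem_ZIrr ((mX φ).1 hφ).1) fun φ hφ a h1 ha => by
      by_contra f
      exact ha (type1_supp maxL t1 ((mX φ).1 hφ).1 ((mX φ).1 hφ).2 h1 f))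
    (fun φ hφ => ((mX φ).1 hφ).1)
    (fun φ hφ => (mX _).2 ⟨IsIrr.conjFun ((mX φ).1 hφ).1, cfker_conjFun φ ▸ ((mX φ).1 hφ).2⟩)
    fun φ hφ e => ((mX φ).1 hφ).2 (by
      rw [IsIrr.eq_one_of_conj_eq (mFT_odd L) ((mX φ).1 hφ).1 e]; exact fun _ _ _ => rfl)
  have hS := hR.of_sum (S := SF L) (fun φ hφ => ((mX φ).1 hφ).1) (fun χ hχ => by
      obtain ⟨θ, hθ, h1, rfl⟩ := mem_SD_self_bot.1 hχ
      obtain ⟨C, hC, e⟩ := ind_eq_sum_of_Hall _ hθ (typeF_inertia hU hθ h1)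
        (by rw [index_range_incl]; exact (Fcore_Hall L).2)
      have d : ∀ φ, IsIrrCharacter L φ → ⟪indA hn.1 θ, φ⟫ = if φ ∈ C then 1 else 0 := fun φ hφ => by
        rw [e, dot_sum_left, Finset.sum_congr rfl fun ψ hψ => IsIrr.dot_eq (hC ψ hψ) hφ]
        simp
      refine e.trans (Finset.sum_congr ?_ fun _ _ => rfl)
      ext φ
      rw [Finset.mem_filter, mX]
      refine ⟨fun hφ => ?_, fun ⟨⟨h2, _⟩, h3⟩ => by simpa [d φ h2] using h3⟩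
      have h2 : ⟪indA hn.1 θ, φ⟫ ≠ 0 := by simp [d φ (hC φ hφ), hφ]
      refine ⟨⟨hC φ hφ, ?_⟩, h2⟩
      rw [le_cfker_iff_constt _ (subOf_le_range hn.1 le_rfl) (hC φ hφ) hθ (by
        rw [← frob_rec' _ _ (IsIrr.mem_CF (hC φ hφ))]; exact fun z => h2 (dot_comm_zero z)), comap_incl]
      exact (not_le_cfker_iff_ne_one hθ).2 h1)
    (fun χ hχ => SD_char hn hχ) (SD_conj hn) (SD_conj_ne hn (mFT_odd L)) fun χ hχ φ hφ => SD_orth hn hχ hφ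
  have o1 := fun χ hχ => (hS.ons χ hχ).orth_of_dot_sum hψ (hS.sum_eq χ hχ ▸ h χ hχ)
  have o2 : ∀ φ ∈ X, ∀ α ∈ R φ, ⟪α, ψ⟫ = 0 := fun φ hφ α hα => by
    obtain ⟨θ, hθ, h1, h2⟩ := exists_constt_res_ne_one (Subgroup.inclusion hn.1) ((mX φ).1 hφ).1
      (by rw [range_incl]; exact ((mX φ).1 hφ).2)
    refine o1 _ (mem_SD_self_bot.2 ⟨θ, hθ, h1, rfl⟩) α (Finset.mem_biUnion.2 ⟨φ,
      Finset.mem_filter.2 ⟨hφ, fun z => h2 ?_⟩, hα⟩)
    rw [← frob_rec' _ _ (IsIrr.mem_CF ((mX φ).1 hφ).1)]; exact dot_comm_zero z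
  exact ⟨fun φ₁ φ₂ i1 i2 k1 k2 hd => dot_tau_sub_of_orth hR ((mX _).2 ⟨i1, k1⟩) ((mX _).2 ⟨i2, k2⟩) hd
      (o2 _ ((mX _).2 ⟨i1, k1⟩)) (o2 _ ((mX _).2 ⟨i2, k2⟩)),
    fun χ₁ h1 χ₂ h2 hd => dot_tau_sub_of_orth hS h1 h2 hd (o1 _ h1) (o1 _ h2)⟩

/-- Peterfalvi (12.4) -/
theorem type1_ortho_constant (maxL : IsCoatom L) (t1 : FTtype L = 1) {ψ : G → ℂ} (hψ : Dirr ψ)
    (h : ∀ χ ∈ SF L, ⟪tau0 L (χ - conjFun χ), ψ⟫ = 0) {x k : G} (hx : x ∈ L)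
    (hxH : x ∉ fittingHallOf L) (hk : k ∈ fittingHallOf L) : ψ (x * k) = ψ x := by
  classical
  have hn := Fcore_normal L
  haveI := normalSub hn.2
  obtain ⟨U, hU⟩ := (FTtype1_iff_typeF maxL).1 t1
  have cf := ZIrr.mem_CF hψ.mem_ZIrr
  have key := fun {y : L} (hy : y ∉ _) => apply_eq_sum_ker (Subgroup.inclusion hn.1)
    (CF_comp cf L.subtype) (fun θ hθ h1 φ₁ φ₂ i1 i2 o1 o2 => by
      have hd := deg_eq_of_inertia_abelian _ hθ (typeF_inertia hU hθ h1) i1 i2 o1 o2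
      have k : ∀ φ, IsIrrCharacter L φ → ⟪φ ∘ Subgroup.inclusion hn.1, θ⟫ ≠ 0 →
          ¬ (fittingHallOf L).subgroupOf L ≤ cfker φ := fun φ i o => by
        rw [le_cfker_iff_constt _ (subOf_le_range hn.1 le_rfl) i hθ o, comap_incl]
        exact (not_le_cfker_iff_ne_one hθ).2 h1
      have e := (type1_orth maxL t1 hψ h).1 φ₁ φ₂ i1 i2 (k _ i1 o1) (k _ i2 o2) hd
      rw [Dade.dade_eq_ind (FT_Dade0_hyp maxL) (sub_mem (IsIrr.mem_CF i1) (IsIrr.mem_CF i2)),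
        frob_rec _ _ cf, dot_eq_zero_comm, dot_sub_right, sub_eq_zero] at e
      · exact ⟨hd, e⟩
      intro a ha
      have ha1 : (a : G) ∉ fittingHallOf L := fun f => ha <| by
        have := congrFun (res_eq_of_deg_eq _ hθ i1 i2 o1 o2 hd).2 ⟨a, f⟩
        exact sub_eq_zero.2 this
      have a1 : a ≠ 1 := fun f => ha1 (by simp [f])
      have hA : (a : G) ∈ FTsupp0 L := by
        by_cases z : φ₁ a = 0
        · exact type1_supp maxL t1 i2 (k _ i2 o2) a1 fun z' => ha (by simp [z, z'])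
        · exact type1_supp maxL t1 i1 (k _ i1 o1) a1 z
      refine ⟨hA, Dade.H_eq_bot_of_cent_le (FT_Dade0_hyp maxL) hA ?_⟩
      by_contra f
      exact ha1 (FTcore_type_le2 maxL (by omega) ▸ (FTsupport_facts maxL hA f).1.1)) hy
  have e1 := key (y := ⟨x, hx⟩) fun f => hxH ((mem_range_incl _).1 f)
  have e2 := key (y := ⟨x, hx⟩ * ⟨k, hn.1 hk⟩) fun f => hxH (by
    simpa using mul_mem ((mem_range_incl _).1 f) (inv_mem hk))
  refine e2.trans (Eq.trans (Finset.sum_congr rfl fun φ hφ => ?_) e1.symm)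
  have hφ' := Finset.mem_filter.1 hφ
  have hk' : (⟨k, hn.1 hk⟩ : L) ∈ cfker φ := hφ'.2 ⟨⟨k, hk⟩, rfl⟩
  rw [cfker_mul' (IsIrr.mem_CF (mem_irr.1 hφ'.1)) hk']

/-- Peterfalvi (12.5) -/
theorem type1_invDade_ortho_constant (maxL : IsCoatom L) (t1 : FTtype L = 1) {ψ : G → ℂ}
    (hψ : Dirr ψ) (h : ∀ χ ∈ SF L, ⟪tau0 L (χ - conjFun χ), ψ⟫ = 0) : ∃ c : ℂ, ∀ x : L,
      (x : G) ∈ fittingHallOf L → (x : G) ∉ ⁅fittingHallOf L, fittingHallOf L⁆ →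
        rho (sharp (fittingHallOf L)) L (FTsig L) ψ x = c := by
  classical
  have hD := FT_DadeInd_F maxL
  have hn := hD.normal
  have o := (type1_orth maxL t1 hψ h).2
  set H := fittingHallOf L
  have cf := ZIrr.mem_CF hψ.mem_ZIrr
  have cr := Dade.rho_mem_CF hD.dadeH cf
  set F := rho (sharp H) L (FTsig L) ψ ∘ Subgroup.inclusion hn.1 with hF
  have k : ∀ φ₁ φ₂, IsIrrCharacter H φ₁ → IsIrrCharacter H φ₂ → φ₁ ≠ 1 → φ₂ ≠ 1 → φ₁ 1 = φ₂ 1 →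
      ⟪F, φ₁⟫ = ⟪F, φ₂⟫ := fun φ₁ φ₂ i1 i2 n1 n2 hd => by
    have m1 : indA hn.1 φ₁ ∈ SF L := mem_SD_self_bot.2 ⟨_, i1, n1, rfl⟩
    have m2 : indA hn.1 φ₂ ∈ SF L := mem_SD_self_bot.2 ⟨_, i2, n2, rfl⟩
    have d : indA hn.1 φ₁ 1 = indA hn.1 φ₂ 1 := by rw [indA_one, indA_one, hd]
    have := o _ m1 _ m2 d
    rw [hD.dade_eq (sub_mem (mem_CS (SD_sub_ST _ _ _ m1)) (mem_CS (SD_sub_ST _ _ _ m2)))
      (sub_eq_zero.2 d), Dade.dade_rec hD.dadeH (sub_mem (ind_mem_CF _ _) (ind_mem_CF _ _)) cf,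
      dot_eq_zero_comm, dot_sub_right, frob_rec' _ _ cr, frob_rec' _ _ cr, sub_eq_zero] at this
    exact this
  set N := (iD H).range
  have lin1 : ∀ φ ∈ (irr H).filter fun φ => N ≤ cfker φ, φ 1 = 1 := fun φ hφ => by
    rw [Finset.mem_filter] at hφ
    obtain ⟨l, rfl⟩ := IsIrr.exists_lin_of_comm (mem_irr.1 hφ.1) fun x y => hφ.2
      ((mem_range_incl _).2 (Subgroup.commutator_mem_commutator x.2 y.2))
    simp
  obtain ⟨c, hc⟩ : ∃ c, ∀ φ ∈ (irr H).filter fun φ => N ≤ cfker φ, φ ≠ 1 → ⟪F, φ⟫ = c := by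
    by_cases e : ∃ φ ∈ (irr H).filter fun φ => N ≤ cfker φ, φ ≠ 1
    · obtain ⟨φ₀, h0, h1⟩ := e
      exact ⟨_, fun φ hφ h2 => k φ φ₀ (mem_irr.1 (Finset.mem_filter.1 hφ).1)
        (mem_irr.1 (Finset.mem_filter.1 h0).1) h2 h1 (by rw [lin1 _ hφ, lin1 _ h0])⟩
    · exact ⟨0, fun φ hφ h1 => (e ⟨φ, hφ, h1⟩).elim⟩
  refine ⟨⟪F, 1⟫ - c, fun x hx hx' => ?_⟩
  have hx'' : (⟨x, hx⟩ : H) ∉ N := fun f => hx' ((mem_range_incl (der_normalIn H).1 (x := ⟨x, hx⟩)).1 f)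
  have e1 := apply_eq_sum_ker (iD H) (CF_comp cr (Subgroup.inclusion hn.1))
    (fun θ hθ h1 φ₁ φ₂ i1 i2 o1 o2 => by
      have hd := deg_eq_of_inertia_abelian _ hθ (fun a _ b _ =>
        (mem_range_incl _).2 (Subgroup.commutator_mem_commutator a.2 b.2)) i1 i2 o1 o2
      have n : ∀ φ : H → ℂ, ⟪φ ∘ iD H, θ⟫ ≠ 0 → φ ≠ 1 := by
        rintro _ o rfl
        exact o (IsIrr.dot_ne (mem_irr.1 one_mem_irr) hθ h1.symm)
      exact ⟨hd, k _ _ i1 i2 (n _ o1) (n _ o2) hd⟩) hx''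
  have e2 := sum_deg_mul_irr_ker N ⟨x, hx⟩
  have m : (1 : H → ℂ) ∈ (irr H).filter fun φ => N ≤ cfker φ :=
    Finset.mem_filter.2 ⟨one_mem_irr, fun _ _ _ => rfl⟩
  rw [if_neg hx'', ← Finset.add_sum_erase _ _ m, Finset.sum_congr rfl fun φ hφ => by
    rw [lin1 φ (Finset.mem_of_mem_erase hφ), one_mul]] at e2
  rw [← Finset.add_sum_erase _ _ m, Finset.sum_congr rfl fun φ hφ => by
    rw [hc φ (Finset.mem_of_mem_erase hφ) (Finset.ne_of_mem_erase hφ)], ← Finset.mul_sum] at e1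
  refine e1.trans ?_
  simp only [Pi.one_apply, mul_one] at e2 ⊢
  linear_combination c * e2

/-- Peterfalvi (12.6) -/
theorem FT_seqInd_Frobenius_coherence (maxL : IsCoatom L) {E : Subgroup G}
    (frob : IsFrob L (fittingHallOf L) E) :
    (∀ χ ∈ SF L, IsIrrCharacter L χ) ∧ Coh (SF L) (tau0 L) := by
  refine ⟨IsFrob_irr frob, ?_⟩
  have hD := FT_DadeInd_F maxL
  have hn := hD.normal
  obtain ⟨U, hU⟩ := (FTtype1P maxL).1 (FTsupp_Frobenius maxL frob).1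
  obtain ⟨R, hS⟩ := irr_subcoh (hD.isoOn.mono (SD_sub_ST _ (fittingHallOf L) ⊥)) (IsFrob_irr frob)
    (SD_conj hn) (SD_conj_ne hn (mFT_odd L))
  rcases (compl_of_typeI frob.1 hU).2 with ti | ⟨ab, -⟩ | ⟨h, -⟩
  · exact Sibley_coherence_Frob hD (mFT_odd L) (Fcore_nil L) ti frob
  · have := (der_eq_bot_iff.2 ab).le
    exact hS.uniform fun φ hφ ψ hψ => by
      rw [SD_deg_of_der_le hn this φ hφ, SD_deg_of_der_le hn this ψ hψ]
  by_contra nc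
  have nil := Fcore_nil L
  obtain ⟨-, p, hp, ⟨m, hm⟩, nab, nd⟩ := non_coherent_chief hn inferInstance hS (mFT_odd L)
    (norm_bot _) bot_le (nil_quot _ nil) (by simpa using der_lt_of_sol inferInstance frob.2.1)
    (hn.1.lt_of_ne fun e => frob.2.2.1 (by
      rw [← frob.1.inf_eq, inf_eq_right.2 (frob.1.right_le.trans e.ge)]))
    (frob_mod_of_cent_le frob.1 (Frobenius_coprime frob) (norm_sup (norm_comm hn.2 hn.2) (norm_bot _))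
      (sup_le (der_le _) bot_le) fun x hx hx1 => by rw [frob.2.2.2 x hx hx1]; exact bot_le) nc
  rw [Subgroup.relIndex_bot_left] at hm
  refine nd ?_
  haveI := odd_regular_Zgroup (mFT_odd E) frob.2.1 frob.1.norm frob.2.2.2
  rw [frob.1.1.relIndex_left, ← IsZGroup.exponent_eq_card]
  refine h p ⟨hp, hm ▸ dvd_pow_self _ ?_⟩
  rintro rfl
  exact frob.2.1 (Subgroup.card_eq_one.1 hm)

end CA.PF.P12
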