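import Cfsg.Agent.PF.P12b

/-!
# Peterfalvi, section 12, part c: the group-theoretic part (12.8) - (12.12).
-/

set_option autoImplicit false
set_option linter.unusedSectionVars false

open Cfsg CA.FG CA.BG CA.Chr

namespace CA.PF.P12

universe u

variable {G : Type u} [Group G] [MinSimpleOdd G]

theorem frob_semiregular {L H E X : Subgroup G} (h : IsFrob L H E) (sXL : X ≤ L) (ti : H ⊓ X = ⊥) :
    Semiregular H X := by
  intro x hx x1
  rw [eq_bot_iff]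
  rintro y ⟨hy, cy⟩
  by_contra y1
  have : x ∈ H := Frobenius_cent1_ker h hy y1 ⟨sXL hx, mem_cent_singleton_comm.1 cy⟩
  exact x1 (Subgroup.mem_bot.1 (ti ▸ ⟨this, hx⟩))

theorem two_mul_le_of_odd_dvd {a n : ℕ} (oa : Odd a) (en : Even n) (n0 : 0 < n) (h : a ∣ n) :
    2 * a ≤ n :=
  Nat.le_of_dvd n0 (Nat.Coprime.mul_dvd_of_dvd_of_dvd (Nat.coprime_two_left.2 oa) en.two_dvd h)

theorem compl_pRank {p : ℕ} (pp : p.Prime) {M K U : Subgroup G} (hallK : IsHallOf K M)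
    (d : SDProd K U M) (h : ¬ p ∣ Nat.card K) : pRank p U = pRank p M :=
  p_rank_Hall pp (d.complIn.pHall_compl hallK.pHall) fun hc => h hc.2

theorem exists_mem_orderOf_of_exp {U U₀ : Subgroup G} (e : Monoid.exponent U₀ = Monoid.exponent U)
    {q : ℕ} (qq : q.Prime) (h : q ∣ Nat.card U) : ∃ u ∈ U₀, orderOf u = q := by
  refine exists_mem_orderOf_eq qq (Dvd.dvd.trans ?_ (Group.exponent_dvd_nat_card (G := U₀)))
  obtain ⟨x, hx, ox⟩ := exists_mem_orderOf_eq qq h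
  rw [e, ← ox, ← Subgroup.orderOf_mk x hx]
  exact Monoid.order_dvd_exponent _

section Witness

variable {p : ℕ} (pp : p.Prime) {M P₀ : Subgroup G} (maxM : IsCoatom M) (t1 : FTtype M = 1)
  (rM : 2 ≤ pRank p M) (p'K : ¬ p ∣ Nat.card (fittingHallOf M)) (sylP : IsSylowOf p P₀ M)
include pp maxM t1 rM p'K sylP

theorem not_frob : ¬ ∃ E, IsFrob M (fittingHallOf M) E := by
  rintro ⟨E, frob⟩
  have := rank_le_one_of_zgroup (odd_regular_Zgroup (mFT_odd E) frob.2.1 frob.1.norm frob.2.2.2)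
  have h2 := p_rank_le_rank pp E
  rw [compl_pRank pp (Fcore_Hall M) frob.1 p'K] at h2
  omega

/-- Peterfalvi (12.9) -/
theorem witness : IsMulCommutative P₀ ∧ pRank p P₀ = 2 ∧
    ∃ L, IsCoatom L ∧ P₀ ≤ sigmaCore L ∧ ∃ x ∈ P₀, x ≠ 1 ∧ x ^ p = 1 ∧
      ¬ (fittingHallOf M ⊓ 𝒞[x] ≤ ⁅fittingHallOf M, fittingHallOf M⁆) ∧
      𝒩(Subgroup.zpowers x) ≤ M ∧ ¬ 𝒞[x] ≤ L := by
  have hallK := (Fcore_Hall M).pHall
  have co : (Nat.card (fittingHallOf M)).Coprime (Nat.card P₀) :=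
    (sylP.pGrp.coprime_of_not_dvd p'K).symm
  obtain ⟨U, hallU, sPU⟩ := Hall_superset (mmax_sol maxM) sylP.le
    (piGrp_compl_primesOf_iff.2 co.symm)
  have d := hallK.sdprod (Fcore_norm M) hallU
  obtain ⟨h1, h2, -⟩ := FTtypeI_II_facts maxM (by omega) (U := U) (by rwa [FTder_type1 t1])
  obtain ⟨ab, rk⟩ := h1 p P₀ pp (IsPiHallOf.of_le sylP sPU hallU.le)
  have r2 : pRank p P₀ = 2 :=
    le_antisymm ((p_rank_le_rank pp _).trans rk) (p_rank_Sylow pp sylP ▸ rM)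
  have pP : p ∣ Nat.card P₀ := (pRank_pos_iff pp).1 (by omega)
  obtain ⟨L₀, maxL₀, hL₀⟩ := FTcore_primes pp (pP.trans (Subgroup.card_subgroup_dvd_card P₀))
  obtain ⟨P, sylL⟩ := sylow_exists pp (sigmaCore L₀)
  obtain ⟨y, -, hy⟩ := sylow_subJ pp (sylL.trans_isHall (FTcore_facts maxL₀).2.1 pp hL₀) sylP.pGrp le_top
  have sPL : P₀ ≤ sigmaCore (L₀ :^ y) := by rw [MsigmaJ]; exact hy.trans (conjg_mono y sylL.le)
  refine ⟨ab, r2, L₀ :^ y, isCoatom_conjg.2 maxL₀, sPL, ?_⟩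
  have EA := ohm1_pnElem_of_abelian pp ab
  rw [r2] at EA
  have : ¬ ∀ a ∈ ohm1 p P₀, a ≠ 1 → fittingHallOf M ⊓ 𝒞[a] ≤ ⁅fittingHallOf M, fittingHallOf M⁆ :=
    fun h => (der_lt_of_sol (mFT_sol (sub_mmax_proper maxM (Fcore_le M))) (mmax_Fcore_neq1 maxM)).not_ge
      (coprime_abelian_gen_cent1_le EA.abelian (EA.not_cyclic pp le_rfl)
        ((EA.le.trans sylP.le).trans (Fcore_norm M))
        (co.coprime_dvd_right (Subgroup.card_dvd_of_le EA.le)) h)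
  push Not at this
  obtain ⟨x, hx, x1, nC⟩ := this
  have xP := EA.le hx
  have ntx : Subgroup.zpowers x ≠ ⊥ := by rwa [Ne, Subgroup.zpowers_eq_bot]
  have uC := h2 (Subgroup.zpowers x) ntx (Subgroup.zpowers_le.2 (sPU xP))
    (by rw [cent_zpowers]; exact fun e => nC (e ▸ bot_le))
  refine ⟨x, xP, x1, EA.abelem.2 x hx, nC, sub_uniq_mmax uC (cent_le_norm _) (mFT_norm_proper ntx
    (sub_mmax_proper maxM (Subgroup.zpowers_le.2 (sylP.le xP)))), fun h => ?_⟩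
  rw [eq_uniq_mmax uC (isCoatom_conjg.2 maxL₀) (cent_zpowers x ▸ h), FTcore_type_le2 maxM (by omega)]
    at sPL
  exact p'K (pP.trans (Subgroup.card_dvd_of_le sPL))

end Witness

section Main

variable {p : ℕ} (pp : p.Prime)
  (IH : ∀ q < p, q.Prime → ∀ M : Subgroup G, IsCoatom M → FTtype M = 1 → 2 ≤ pRank q M →
    q ∣ Nat.card (fittingHallOf M))
  {P₀ L : Subgroup G} {x : G} (pP : IsPGrp p P₀) (r2 : pRank p P₀ = 2) (maxL : IsCoatom L)
  (sPL : P₀ ≤ sigmaCore L) (xP : x ∈ P₀) (x1 : x ≠ 1) (nCL : ¬ 𝒞[x] ≤ L)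
include pp pP r2 maxL sPL xP x1 nCL

theorem L_type1 : FTtype L = 1 := by
  by_contra t
  obtain ⟨W₁, U, W₂, hP⟩ := FTtypeP_witness maxL t
  have t5 := FTtype5_exclusion maxL
  suffices h : P₀ ≤ fittingHallOf L from nCL (NormedTI_cent_le
    (compl_of_typeII_IV maxL hP t5).2.2.2 ⟨Fcore_sub_Fitting L (h xP), x1⟩)
  by_cases t2 : FTtype L ≤ 2
  · rwa [FTcore_type_le2 maxL t2] at sPL
  replace t2 := not_le.1 t2
  rw [FTcore_type_gt2 maxL t2] at sPL
  obtain ⟨-, -, t3, gal⟩ := FTtype34_structure maxL hP t2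
  by_cases hp : p ∣ Nat.card (fittingHallOf L)
  · exact (Fcore_Hall L).pHall.le_of_normal (Fcore_norm L) (pP.piGrp ⟨pp, hp⟩) (sPL.trans (der_le L))
  · exfalso
    have c := (typeP_Galois_P maxL hP t5 gal).2.1
    rw [(FTtype34_facts maxL hP t2).2.2, comm_eq_bot_iff.2
      (abelian_iff_le_cent.1 (compl_of_typeIII maxL hP t3).2.1)] at c
    have h1 := pRank_le_one_of_cyclic pp c
    rw [pRank_quot_of_inf_eq_bot p (norm_bot _) (bot_inf_eq _), compl_pRank pp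
      ((Fcore_Hall L).pHall.of_le (typeP_F_le_der hP) (der_le L)).isHallOf (typeP_sdprod_der hP) hp] at h1
    have := pRank_mono pp sPL
    omega

theorem P_le_H : P₀ ≤ fittingHallOf L := by
  rwa [FTcore_type_le2 maxL (by rw [L_type1 pp pP r2 maxL sPL xP x1 nCL]; omega)] at sPL

include IH in
/-- Peterfalvi (12.10) -/
theorem L_frob : ∃ E, IsFrob L (fittingHallOf L) E := by
  have t1 := L_type1 pp pP r2 maxL sPL xP x1 nCL
  have sPH := P_le_H pp pP r2 maxL sPL xP x1 nCL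
  obtain ⟨U, tF, cs⟩ := (FTtype1P maxL).1 t1
  refine ⟨U, (typeF_Frobenius_iff tF).2 (P10.odd_rank1_Zgroup (rank_le_iff.2 fun q qq => ?_))⟩
  obtain ⟨⟨-, -, d⟩, -, U₀, sU₀, eU₀, frob⟩ := tF
  by_contra hq
  have qU : q ∣ Nat.card U := (pRank_pos_iff qq).1 (by omega)
  have co : (Nat.card (fittingHallOf L)).Coprime (Nat.card U) := d.complIn.relIndex_left ▸ (Fcore_Hall L).2
  have pH : p ∣ Nat.card (fittingHallOf L) :=
    ((pRank_pos_iff pp).1 (by omega)).trans (Subgroup.card_dvd_of_le sPH)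
  have op : Odd p := (mFT_odd _).of_dvd_nat pH
  have oq : Odd q := (mFT_odd _).of_dvd_nat qU
  have p2 := pp.two_le
  suffices h : q < p from qq.one_lt.ne' (Nat.eq_one_of_dvd_coprimes co
    (IH q h qq L maxL t1 ((not_le.1 hq).trans_le (pRank_mono qq d.right_le))) qU)
  obtain ⟨u, hu, ou⟩ := exists_mem_orderOf_of_exp eU₀ qq qU
  rcases cs with ti | ⟨cH, rH⟩ | ⟨h, -⟩
  · exact absurd (NormedTI_cent_le ti ⟨sPH xP, x1⟩) nCL
  · have oT := p_rank_abelian pp cH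
    rw [le_antisymm ((p_rank_le_rank pp _).trans rH.le) (r2 ▸ pRank_mono pp sPH)] at oT
    have sU := Subgroup.zpowers_le.2 hu
    have dv := regular_norm_dvd_pred (norm_ohm1 p (sU.trans frob.1.norm))
      (semiregularS frob.2.2.2 (ohm1_le p _) sU)
    rw [oT, Nat.card_zpowers, ou, ← one_pow 2, Nat.sq_sub_sq] at dv
    rcases (Nat.Prime.dvd_mul qq).1 dv with h | h
    · have := two_mul_le_of_odd_dvd oq op.add_one (by omega) h
      omega
    · have := Nat.le_of_dvd (by omega) h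
      omega
  · have h1 : q ∣ Monoid.exponent U := by
      rw [← ou, ← Subgroup.orderOf_mk u (sU₀ hu)]; exact Monoid.order_dvd_exponent _
    have := Nat.le_of_dvd (by omega) (h1.trans (h p ⟨pp, pH⟩))
    omega

variable {M E : Subgroup G} (maxM : IsCoatom M) (t1 : FTtype M = 1)
  (p'K : ¬ p ∣ Nat.card (fittingHallOf M)) (sylP : IsSylowOf p P₀ M)
  (nC : ¬ (fittingHallOf M ⊓ 𝒞[x] ≤ ⁅fittingHallOf M, fittingHallOf M⁆))
  (sNM : 𝒩(Subgroup.zpowers x) ≤ M) (frob : IsFrob L (fittingHallOf L) E)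
include maxM sNM frob

/-- Peterfalvi (12.11), first part -/
theorem base_eq : sigBase x = M ∧ SDProd (fittingHallOf M) (L ⊓ M) M := by
  have xH := P_le_H pp pP r2 maxL sPL xP x1 nCL xP
  obtain ⟨-, uC, ⟨d, -⟩, -⟩ := FTsupport_facts maxL
    (FTsupp1_sub0 maxL (Fcore_sub_FTsupp1 maxL ⟨xH, x1⟩)) nCL
  have e := eq_uniq_mmax uC maxM (cent_zpowers x ▸ (cent_le_norm _).trans sNM)
  exact ⟨e.symm, e ▸ d⟩

include sylP in
theorem pcore_inf : P₀ ≤ pCoreOf p (fittingHallOf L) ∧ pCoreOf p (fittingHallOf L) ⊓ M = P₀ := by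
  have h := nilpotent_le_pcore (Fcore_nil L) (P_le_H pp pP r2 maxL sPL xP x1 nCL) pP
  exact ⟨h, IsPiHallOf.eq_of_le sylP ((pcore_piGrp _ _).inf_left _) (le_inf h sylP.le) inf_le_right⟩

include t1 p'K sylP nC in
/-- Peterfalvi (12.11), second part -/
theorem inf_le_H : L ⊓ M ≤ fittingHallOf L := by
  have sPH := P_le_H pp pP r2 maxL sPL xP x1 nCL
  have d := (base_eq pp pP r2 maxL sPL xP x1 nCL maxM sNM frob).2
  obtain ⟨-, eP⟩ := pcore_inf pp pP r2 maxL sPL xP x1 nCL maxM sylP sNM frob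
  obtain ⟨U, tF⟩ := (FTtype1_iff_typeF maxM).1 t1
  obtain ⟨⟨ntK, -, -⟩, ⟨U₁, -, cU₁, hU₁⟩, U₀, sU₀, eU₀, frobK⟩ := compl_of_typeF d tF
  have sPLM : P₀ ≤ L ⊓ M := le_inf (sPH.trans (Fcore_le L)) sylP.le
  refine (Fcore_Hall L).pHall.le_of_normal (Fcore_norm L) (fun q qq hq => ⟨qq, ?_⟩) inf_le_left
  by_contra qH
  obtain ⟨A, sA, oA⟩ := exists_le_card_eq_prime qq hq
  have ntA := ne_bot_of_card_prime (oA ▸ qq)
  have nP : A ≤ 𝒩(P₀) := eP ▸ norm_inf (norm_pcore _ ((sA.trans inf_le_left).trans (Fcore_norm L)))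
    (norm_of_le (sA.trans inf_le_right))
  have reg := semiregularS (frob_semiregular frob (sA.trans inf_le_left) (inf_eq_bot_of_cop
    (oA ▸ ((Nat.Prime.coprime_iff_not_dvd qq).2 qH).symm))) sPH le_rfl
  have sPA := sup_le sPLM sA
  have w := (Frobenius_Wielandt_fixpoint (isFrob_sup nP reg (ne_bot_of_mem xP x1) ntA)
    (sPA.trans d.norm) ((d.complIn.relIndex_left ▸ (Fcore_Hall M).2 :
      (Nat.card (fittingHallOf M)).Coprime (Nat.card ↥(L ⊓ M))).coprime_dvd_right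
        (Subgroup.card_dvd_of_le sPA)) (mFT_sol (sub_mmax_proper maxM (Fcore_le M)))).2.1
  have ntC : fittingHallOf M ⊓ 𝒞(A) ≠ ⊥ := fun h => by
    obtain ⟨u, hu, ou⟩ := exists_mem_orderOf_of_exp eU₀ pp
      (((pRank_pos_iff pp).1 (by omega)).trans (Subgroup.card_dvd_of_le sPLM))
    obtain ⟨m, hm, h2⟩ := sylow_Jsub pp sylP (Q := Subgroup.zpowers u)
      (pGrp_of_card_eq pp (by rw [Nat.card_zpowers, ou])) (Subgroup.zpowers_le.2 (sU₀ hu).2)
    have h3 := h2.trans (w h)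
    rw [← conjg_of_mem_norm (Fcore_norm M hm), conjg_le_cent_iff] at h3
    refine ntK ?_
    rw [← frobK.2.2.2 u hu fun e => pp.one_lt.ne' (by rw [← ou, e, orderOf_one]), left_eq_inf,
      ← cent_zpowers]
    exact le_cent_symm h3
  obtain ⟨y, hy, y1⟩ := exists_mem_ne_one ntC
  obtain ⟨z, hz, z1⟩ := exists_mem_ne_one (H := fittingHallOf M ⊓ 𝒞[x]) fun e => nC (e ▸ bot_le)
  obtain ⟨a, ha, a1⟩ := exists_mem_ne_one ntA
  have aU := hU₁ y hy.1 y1 ⟨sA ha, mem_cent_singleton_comm.1 (cent_le_cent_singleton ha hy.2)⟩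
  have xU := hU₁ z hz.1 z1 ⟨sPLM xP, mem_cent_singleton_comm.1 hz.2⟩
  exact x1 (Subgroup.mem_bot.1 (reg a ha a1 ▸ ⟨xP, Subgroup.mem_centralizer_singleton_iff.2
    (abelian_iff_forall.1 cU₁ x xU a aU)⟩))

include t1 p'K sylP nC in
/-- Peterfalvi (12.12) -/
theorem compl_le (ab : IsMulCommutative P₀) (xp : x ^ p = 1) : 2 * Nat.card E ≤ p + 1 := by
  have sLM := inf_le_H pp pP r2 maxL sPL xP x1 nCL maxM t1 p'K sylP nC sNM frob
  obtain ⟨sP, eP⟩ := pcore_inf pp pP r2 maxL sPL xP x1 nCL maxM sylP sNM frob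
  have sPH := P_le_H pp pP r2 maxL sPL xP x1 nCL
  have pH : p ∣ Nat.card (fittingHallOf L) :=
    ((pRank_pos_iff pp).1 (by omega)).trans (Subgroup.card_dvd_of_le sPH)
  have op : Odd p := (mFT_odd _).of_dvd_nat pH
  have p2 := pp.two_le
  set P := pCoreOf p (fittingHallOf L)
  have pP' : IsPGrp p P := pcore_piGrp _ _
  have sZ : 𝒵(P) ≤ P₀ := eP ▸ le_inf inf_le_left (inf_le_right.trans
    ((cent_anti (Subgroup.zpowers_le.2 (sP xP))).trans ((cent_le_norm _).trans sNM)))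
  have EA := ohm1_pnElem_of_abelian pp ab
  rw [r2] at EA
  have sT := ohm1_mono p sZ
  have abT := ohm1_center_abelem p P
  have ntT : ohm1 p 𝒵(P) ≠ ⊥ :=
    ohm1_ne_bot (pP'.inf_left _) (center_nil_ne_bot (IsPGrp.nil pP') (ne_bot_of_mem (sP xP) x1))
  have nP : E ≤ 𝒩(P) := norm_pcore _ frob.1.norm
  have nT : E ≤ 𝒩(ohm1 p 𝒵(P)) := norm_ohm1 p (norm_inf nP (norm_cent nP))
  have reg := semiregularS frob.2.2.2 ((ohm1_le p _).trans (sZ.trans sPH)) le_rfl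
  set T := ohm1 p 𝒵(P)
  suffices h : Nat.card E ∣ p - 1 ∨ Nat.card E ∣ p + 1 by
    rcases h with h | h
    · have := two_mul_le_of_odd_dvd (mFT_odd E) (Nat.Odd.sub_odd op odd_one) (by omega) h
      omega
    · exact two_mul_le_of_odd_dvd (mFT_odd E) op.add_one (by omega) h
  obtain ⟨n, hn⟩ := abelem_card pp abT
  have le2 : Nat.card T ≤ p ^ 2 := EA.card ▸ Subgroup.card_le_of_le sT
  have n2 : n ≤ 2 := (Nat.pow_le_pow_iff_right pp.one_lt).1 (hn ▸ le2)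
  have n0 : n ≠ 0 := by
    rintro rfl
    exact (one_lt_card ntT).ne' hn
  obtain rfl | rfl : n = 1 ∨ n = 2 := by omega
  · have := regular_norm_dvd_pred nT reg
    rw [hn, pow_one] at this
    exact Or.inl this
  · have eT : T = ohm1 p P₀ := Subgroup.eq_of_le_of_card_ge sT (by rw [EA.card, hn])
    refine regular_p2_dvd pp abT hn nT reg ?_ (x := x) (eT ▸ mem_ohm1 xP xp) ?_
    · rw [abelian_iff_le_cent, ← comm_eq_bot_iff, eq_bot_iff, ← cent_semiregular (semiregular_sym reg) le_rfl ntT]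
      exact le_inf (der_le E) (charf'_abelem2_der1_cent pp abT le2 nT (mFT_odd E) fun h =>
        pp.one_lt.ne' (Nat.eq_one_of_dvd_coprimes (Frobenius_coprime frob) pH h))
    · rw [eq_bot_iff, ← frob.1.inf_eq]
      exact le_inf ((inf_le_inf frob.1.right_le sNM).trans sLM) inf_le_left

end Main

/-- Peterfalvi (12.8) - (12.12) -/
theorem counter_group (G : Type u) [Group G] [MinSimpleOdd G]
    (h : ∃ M : Subgroup G, IsCoatom M ∧ FTtype M = 1 ∧ ¬ ∃ E, IsFrob M (fittingHallOf M) E) :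
    ∃ (M L E : Subgroup G) (p : ℕ) (x : G), IsCoatom M ∧ FTtype M = 1 ∧
      (¬ ∃ E, IsFrob M (fittingHallOf M) E) ∧ IsCoatom L ∧ IsFrob L (fittingHallOf L) E ∧
      (∀ g, L ≠ M :^ g) ∧ p.Prime ∧ orderOf x = p ∧ x ∈ fittingHallOf L ∧ x ∈ M ∧
      x ∉ fittingHallOf M ∧ ¬ 𝒞[x] ≤ L ∧ sigBase x = M ∧
      ¬ (fittingHallOf M ⊓ 𝒞[x] ≤ ⁅fittingHallOf M, fittingHallOf M⁆) ∧ L ⊓ M ≤ fittingHallOf L ∧
      p ^ 2 ∣ Nat.card (fittingHallOf L) ∧ 2 * Nat.card E ≤ p + 1 := by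
  classical
  have ex : ∃ p : ℕ, p.Prime ∧ ∃ M : Subgroup G, IsCoatom M ∧ FTtype M = 1 ∧ 2 ≤ pRank p M ∧
      ¬ p ∣ Nat.card (fittingHallOf M) := by
    obtain ⟨M, maxM, t1, nf⟩ := h
    obtain ⟨U, tF⟩ := (FTtype1_iff_typeF maxM).1 t1
    have : ¬ rank U ≤ 1 := fun h => nf ⟨U, (typeF_Frobenius_iff tF).2 (P10.odd_rank1_Zgroup h)⟩
    obtain ⟨p, pp, hp⟩ := le_rank_iff.1 (not_le.1 this)
    have d := tF.1.2.2
    refine ⟨p, pp, M, maxM, t1, hp.trans (pRank_mono pp d.right_le), fun hd => pp.one_lt.ne' ?_⟩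
    exact Nat.eq_one_of_dvd_coprimes (d.complIn.relIndex_left ▸ (Fcore_Hall M).2) hd
      ((pRank_pos_iff pp).1 (by omega))
  obtain ⟨pp, M, maxM, t1, rM, p'K⟩ := Nat.find_spec ex
  have IH : ∀ q < Nat.find ex, q.Prime → ∀ M : Subgroup G, IsCoatom M → FTtype M = 1 → 2 ≤ pRank q M →
      q ∣ Nat.card (fittingHallOf M) := fun q hq qq M a b c =>
    by_contra fun d => Nat.find_min ex hq ⟨qq, M, a, b, c, d⟩
  set p := Nat.find ex
  obtain ⟨P₀, sylP⟩ := sylow_exists pp M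
  obtain ⟨ab, r2, L, maxL, sPL, x, xP, x1, xp, nC, sNM, nCL⟩ := witness pp maxM t1 rM p'K sylP
  have pP := sylP.pGrp
  obtain ⟨E, frob⟩ := L_frob pp IH pP r2 maxL sPL xP x1 nCL
  have sPH := P_le_H pp pP r2 maxL sPL xP x1 nCL
  have p2 : p ^ 2 ∣ Nat.card (fittingHallOf L) :=
    (r2 ▸ pow_pRank_dvd_card pp P₀).trans (Subgroup.card_dvd_of_le sPH)
  have ox := orderOf_eq_of_pow_prime pp xp x1
  refine ⟨M, L, E, p, x, maxM, t1, not_frob pp maxM t1 rM p'K sylP, maxL, frob, fun g e => p'K ?_, pp,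
    ox, sPH xP, sylP.le xP, fun hx => p'K (ox ▸ orderOf_dvd_card_of_mem hx), nCL,
    (base_eq pp pP r2 maxL sPL xP x1 nCL maxM sNM frob).1, nC,
    inf_le_H pp pP r2 maxL sPL xP x1 nCL maxM t1 p'K sylP nC sNM frob, p2,
    compl_le pp pP r2 maxL sPL xP x1 nCL maxM t1 p'K sylP nC sNM frob ab xp⟩
  rw [e, FcoreJ, card_conjg] at p2
  exact (dvd_pow_self p two_ne_zero).trans p2

end CA.PF.P12
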