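import Cfsg.Agent.PF.Amb

/-!
# Peterfalvi, section 13: general character-theoretic lemmas ((13.5), (13.9)(b), sums over TI sets)
-/

set_option autoImplicit false
set_option linter.unusedSectionVars false

open scoped ComplexConjugate

open Cfsg CA.FG CA.BG CA.Chr

namespace CA.PF.P13

variable {G : Type*} [Finite G]

/-- `∑_{g ∈ A} |χ(g)|²` -/
noncomputable def ssq (A : Set G) (χ : G → ℂ) : ℝ := ∑ g ∈ A.toFinite.toFinset, ‖χ g‖ ^ 2

theorem ssq_eq [Fintype G] (A : Set G) [DecidablePred (· ∈ A)] (χ : G → ℂ) :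
    ssq A χ = ∑ g, if g ∈ A then ‖χ g‖ ^ 2 else 0 := by
  rw [ssq, ← Finset.sum_filter]
  exact Finset.sum_congr (by ext; simp) fun _ _ => rfl

theorem ssq_nonneg (A : Set G) (χ : G → ℂ) : 0 ≤ ssq A χ :=
  Finset.sum_nonneg fun _ _ => by positivity

theorem ssq_one (A : Set G) : ssq A 1 = A.ncard := by
  rw [ssq, Set.ncard_eq_toFinset_card A A.toFinite]; simp

theorem ssq_univ [Nonempty G] (χ : G → ℂ) : ssq Set.univ χ = Nat.card G * nrm χ := by
  classical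
  have := Fintype.ofFinite G
  have h : (Nat.card G : ℝ) ≠ 0 := by exact_mod_cast Nat.card_pos.ne'
  rw [ssq_eq, nrm_def, mul_inv_cancel_left₀ h]; simp

theorem ssq_split (A B : Set G) (h : Disjoint A B) (χ : G → ℂ) :
    ssq Set.univ χ = ssq (A ∪ B)ᶜ χ + ssq A χ + ssq B χ := by
  classical
  have := Fintype.ofFinite G
  simp only [ssq_eq, ← Finset.sum_add_distrib]
  refine Finset.sum_congr rfl fun g _ => ?_
  by_cases h1 : g ∈ A
  · have h2 : g ∉ B := Set.disjoint_left.mp h h1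
    simp [h1, h2]
  · by_cases h2 : g ∈ B <;> simp [h1, h2]

variable [Group G]

theorem card_mul_nrm [Fintype G] (χ : G → ℂ) : Nat.card G * nrm χ = ∑ g, ‖χ g‖ ^ 2 := by
  have h : (Nat.card G : ℝ) ≠ 0 := by exact_mod_cast Nat.card_pos.ne'
  rw [nrm_def, mul_inv_cancel_left₀ h]

theorem ssq_sharp (H : Subgroup G) (χ : G → ℂ) :
    ssq (sharp H) χ = Nat.card H * nrm (χ ∘ H.subtype) - ‖χ 1‖ ^ 2 := by
  classical
  have := Fintype.ofFinite G
  rw [card_mul_nrm, ssq_eq, eq_sub_iff_add_eq]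
  have h1 : ∑ x : H, ‖(χ ∘ H.subtype) x‖ ^ 2 = ∑ g, if g ∈ H then ‖χ g‖ ^ 2 else 0 := by
    rw [← Finset.sum_filter]
    exact (Finset.sum_subtype _ (by simp) fun g => ‖χ g‖ ^ 2).symm
  have h2 : ‖χ 1‖ ^ 2 = ∑ g, if g = 1 then ‖χ g‖ ^ 2 else 0 := by simp
  rw [h1, h2, ← Finset.sum_add_distrib]
  refine Finset.sum_congr rfl fun g _ => ?_
  by_cases e : g = 1
  · simp [e, mem_sharp]
  · simp [e, mem_sharp]

theorem nrm_sub_eq_of_eq_on {u v : G → ℂ} (h : ∀ x, x ≠ 1 → u x = v x) :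
    Nat.card G * nrm u - ‖u 1‖ ^ 2 = Nat.card G * nrm v - ‖v 1‖ ^ 2 := by
  classical
  have := Fintype.ofFinite G
  rw [card_mul_nrm, card_mul_nrm, ← Finset.add_sum_erase _ _ (Finset.mem_univ 1),
    ← Finset.add_sum_erase _ _ (Finset.mem_univ 1), add_sub_cancel_left, add_sub_cancel_left]
  exact Finset.sum_congr rfl fun x hx => by rw [h x (Finset.ne_of_mem_erase hx)]

theorem ssq_TI {A : Set G} {L : Subgroup G} (h : NormedTI A ⊤ L) {χ : G → ℂ} (hχ : χ ∈ CF G) :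
    ssq (classSupport A ⊤) χ = L.index * ssq A χ := by
  classical
  have := Fintype.ofFinite G
  have hL : (Nat.card L : ℝ) ≠ 0 := by exact_mod_cast Nat.card_pos.ne'
  refine mul_left_cancel₀ hL ?_
  have h1 : ∑ g : G, ∑ y : G, (if g⁻¹ * y * g ∈ A then ‖χ y‖ ^ 2 else 0) = Nat.card G * ssq A χ := by
    rw [Finset.sum_congr rfl (g := fun _ => ssq A χ), Finset.sum_const, nsmul_eq_mul, Finset.card_univ,
      Nat.card_eq_fintype_card]
    intro g _
    rw [ssq_eq]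
    refine Fintype.sum_equiv (MulAut.conj g⁻¹).toEquiv _ _ fun y => ?_
    have : χ (g⁻¹ * y * g) = χ y := CF_conj' hχ y g
    simp [this]
  rw [← mul_assoc, ← Nat.cast_mul, Subgroup.card_mul_index, ← h1, Finset.sum_comm, ssq_eq, Finset.mul_sum]
  refine Finset.sum_congr rfl fun y _ => ?_
  rw [← Finset.sum_filter, Finset.sum_const, nsmul_eq_mul]
  split_ifs with hy
  · obtain ⟨a, ha, x, -, rfl⟩ := hy
    congr 2
    rw [Nat.card_eq_fintype_card, ← Finset.card_univ]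
    refine Finset.card_bij (fun l _ => x * (l : G)) (fun l _ => ?_) (fun l _ l' _ e => ?_) fun g hg => ?_
    · have := (h.2.2 a ha (l : G)⁻¹ trivial).mpr (inv_mem l.2)
      simp only [Finset.mem_filter, Finset.mem_univ, true_and]
      convert this using 1; group
    · exact Subtype.ext (mul_left_cancel e)
    · have h2 := (Finset.mem_filter.mp hg).2
      have : (x⁻¹ * g)⁻¹ ∈ L := (h.2.2 a ha _ trivial).mp (by convert h2 using 1; group)
      exact ⟨⟨x⁻¹ * g, inv_mem_iff.mp this⟩, Finset.mem_univ _, by simp⟩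
  · rw [Finset.filter_eq_empty_iff.mpr fun g _ hg => hy ⟨_, hg, g, trivial, by group⟩]
    simp

/-- the product of the values of a virtual character at the generators of a cyclic subgroup is an integer -/
theorem prod_gen_int {χ : G → ℂ} (hχ : χ ∈ ZIrr G) (x : G) [NeZero (Nat.card G)] :
    ∃ n : ℤ, ∏ k : (ZMod (Nat.card G))ˣ, χ (x ^ (k : ZMod (Nat.card G)).val) = n := by
  refine int_of_aut_fixed (IsIntegral.prod _ fun k _ => ZIrr.isIntegral hχ _) fun σ => ?_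
  obtain ⟨j, hj, hσ⟩ := aut_exists_pow (σ : ℂ →+* ℂ) (n := Nat.card G) (NeZero.ne _)
  rw [map_prod]
  refine Fintype.prod_equiv (Equiv.mulRight (ZMod.unitOfCoprime j hj)) _ _ fun k => ?_
  have h1 := ZIrr.map_apply hχ (σ : ℂ →+* ℂ) (g := x ^ (k : ZMod (Nat.card G)).val) (k := j)
    fun ζ hζ => hσ ζ (by
      obtain ⟨c, hc⟩ := orderOf_dvd_natCard (x ^ (k : ZMod (Nat.card G)).val)
      rw [hc, pow_mul, hζ, one_pow])
  refine h1.trans (congrArg χ ?_)
  rw [← pow_mul, pow_eq_pow_iff_modEq]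
  refine Nat.ModEq.of_dvd (orderOf_dvd_natCard x) ?_
  rw [← ZMod.natCast_eq_natCast_iff]
  simp

theorem sum_gen_ge {χ : G → ℂ} (hχ : χ ∈ ZIrr G) (x : G) [NeZero (Nat.card G)] :
    ∑ k : (ZMod (Nat.card G))ˣ, (if χ (x ^ (k : ZMod (Nat.card G)).val) = 0 then (0 : ℝ) else 1) ≤
      ∑ k : (ZMod (Nat.card G))ˣ, ‖χ (x ^ (k : ZMod (Nat.card G)).val)‖ ^ 2 := by
  have hz : ∀ k : (ZMod (Nat.card G))ˣ, χ (x ^ (k : ZMod (Nat.card G)).val) = 0 ↔ χ x = 0 := fun k => by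
    obtain ⟨σ, hσ⟩ := exists_aut_pow (NeZero.ne (Nat.card G)) (ZMod.val_coe_unit_coprime k)
    rw [← ZIrr.map_apply hχ (σ : ℂ →+* ℂ) (g := x) fun ζ hζ => hσ ζ (by
      obtain ⟨c, hc⟩ := orderOf_dvd_natCard x
      rw [hc, pow_mul, hζ, one_pow])]
    exact map_eq_zero_iff _ σ.injective
  by_cases h0 : χ x = 0
  · exact Finset.sum_le_sum fun k _ => by rw [if_pos ((hz k).mpr h0)]; positivity
  obtain ⟨n, hn⟩ := prod_gen_int hχ x
  have n0 : n ≠ 0 := by
    rintro rfl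
    obtain ⟨k, -, hk⟩ := Finset.prod_eq_zero_iff.mp (hn.trans Int.cast_zero)
    exact h0 ((hz k).mp hk)
  have h1 : 0 ≤ ∑ k : (ZMod (Nat.card G))ˣ, Real.log (‖χ (x ^ (k : ZMod (Nat.card G)).val)‖ ^ 2) := by
    rw [← Real.log_prod fun k _ => pow_ne_zero _ (norm_ne_zero_iff.mpr (mt (hz k).mp h0)),
      Finset.prod_pow, ← norm_prod, hn]
    refine Real.log_nonneg (one_le_pow₀ ?_)
    rw [Complex.norm_intCast]
    exact_mod_cast Int.one_le_abs n0
  rw [← sub_nonneg, ← Finset.sum_sub_distrib]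
  refine h1.trans (Finset.sum_le_sum fun k _ => ?_)
  rw [if_neg (mt (hz k).mp h0)]
  exact Real.log_le_sub_one_of_pos (pow_pos (norm_pos_iff.mpr (mt (hz k).mp h0)) _)

/-- Peterfalvi (13.9)(b) -/
theorem ncard_le_ssq {A : Set G} (hA : ∀ x k, k.Coprime (Nat.card G) → (x ^ k ∈ A ↔ x ∈ A))
    {χ : G → ℂ} (hχ : χ ∈ ZIrr G) : ({x ∈ A | χ x ≠ 0}.ncard : ℝ) ≤ ssq A χ := by
  classical
  have := Fintype.ofFinite G
  have : NeZero (Nat.card G) := ⟨Nat.card_pos.ne'⟩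
  have key : ∀ F : G → ℝ, ∑ x, (if x ∈ A then ∑ k : (ZMod (Nat.card G))ˣ,
      F (x ^ (k : ZMod (Nat.card G)).val) else 0) =
      Fintype.card (ZMod (Nat.card G))ˣ * ∑ x, if x ∈ A then F x else 0 := fun F => by
    rw [← Finset.card_univ, ← nsmul_eq_mul, ← Finset.sum_const]
    have : ∀ x, (if x ∈ A then ∑ k : (ZMod (Nat.card G))ˣ, F (x ^ (k : ZMod (Nat.card G)).val) else 0) =
        ∑ k : (ZMod (Nat.card G))ˣ, if x ∈ A then F (x ^ (k : ZMod (Nat.card G)).val) else 0 :=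
      fun x => by split_ifs <;> simp
    simp_rw [this]
    rw [Finset.sum_comm]
    refine Finset.sum_congr rfl fun k _ => ?_
    refine Fintype.sum_equiv (powCoprime (ZMod.val_coe_unit_coprime k).symm) _ _ fun x => ?_
    simp only [powCoprime_apply, hA x _ (ZMod.val_coe_unit_coprime k)]
  have h1 : ({x ∈ A | χ x ≠ 0}.ncard : ℝ) = ∑ x, if x ∈ A then (if χ x = 0 then (0 : ℝ) else 1) else 0 := by
    rw [← ssq_one, ssq_eq]
    refine Finset.sum_congr rfl fun x _ => ?_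
    by_cases a : x ∈ A <;> by_cases b : χ x = 0 <;> simp [a, b]
  have h2 : (0 : ℝ) < Fintype.card (ZMod (Nat.card G))ˣ := by exact_mod_cast Fintype.card_pos
  refine le_of_mul_le_mul_left ?_ h2
  rw [h1, ssq_eq, ← key, ← key]
  refine Finset.sum_le_sum fun x _ => ?_
  split_ifs
  · exact sum_gen_ge hχ x
  · exact le_rfl

/-- Peterfalvi (13.5) -/
theorem split_abelian {H S : Type*} [Group H] [Finite H] [IsMulCommutative H] [Group S] [Finite S]
    (f : H →* S) [NormalInj f] {P : Subgroup S} [P.Normal] (hP : P ≤ f.range) {ψ : S → ℂ}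
    (hψ : ψ ∈ ZIrr S) {ζ₁ : S → ℂ} (h₁ : ζ₁ ∈ seqIndD f P ⊥) {a : ℤ}
    (ha : ∀ ζ ∈ seqIndD f P ⊥, ζ ≠ ζ₁ → ⟪ψ, ζ₁ - ζ⟫ = a) :
    ∃ (α : H → ℂ) (b : ℤ) (m : ℕ), α ∈ ZIrr H ∧ P.comap f ≤ cfker α ∧ α 1 = b ∧
      m * nrm ζ₁ = f.range.index ∧ (∀ x, x ≠ 1 → ψ (f x) = a / nrm ζ₁ * ζ₁ (f x) + α x) ∧
      Nat.card H * nrm (ψ ∘ f) - ‖ψ 1‖ ^ 2 = Nat.card H * (a ^ 2 * m + nrm α) - (a * m + b) ^ 2 ∧
      Nat.card P * b ^ 2 ≤ Nat.card H * nrm α := by
  classical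
  have := Fintype.ofFinite H
  obtain ⟨θ₁, i₁, k₁, -, rfl⟩ := mem_seqIndD.mp h₁
  obtain ⟨n, hn⟩ := ZIrr.dot_int hψ (ZIrr.ind (IsIrr.mem_ZIrr i₁) f)
  set β := ∑ φ ∈ cfclass f θ₁, φ with hβ
  set ρ : H → ℂ := ∑ χ ∈ irr H, χ 1 • χ with hρ
  have deg1 : ∀ θ, IsIrrCharacter H θ → θ 1 = 1 := fun θ h => by
    obtain ⟨l, rfl⟩ := IsIrr.exists_lin h; simp [lin_apply]
  have zβ : β ∈ ZIrr H := sum_mem fun φ h => IsIrr.mem_ZIrr (irr_of_mem_cfclass f i₁ h)
  have zρ : ρ ∈ ZIrr H := sum_mem fun φ h => by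
    rw [deg1 φ (mem_irr.mp h), one_smul]; exact IsIrr.mem_ZIrr (mem_irr.mp h)
  set α := ψ ∘ f - (a : ℂ) • β - ((n - a : ℤ) : ℂ) • ρ with hα
  have zα : α ∈ ZIrr H :=
    sub_mem (sub_mem (ZIrr.comp hψ f) (ZIrr.intCast_smul zβ _)) (ZIrr.intCast_smul zρ _)
  have oα : ∀ θ, IsIrrCharacter H θ → ¬ P.comap f ≤ cfker θ → ⟪α, θ⟫ = 0 := fun θ i k => by
    rw [hα, dot_sub_left, dot_sub_left, dot_smul_left, dot_smul_left, hρ, dot_sum_irr _ i, deg1 θ i,
      hβ, dot_sum_cfclass f i₁ i, ← frob_rec' f θ (ZIrr.mem_CF hψ)]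
    split_ifs with e
    · rw [ind_eq_of_mem_cfclass f e, hn]; push_cast; ring
    · have := ha _ (mem_seqIndD.mpr ⟨θ, i, k, by
          rw [MonoidHom.comap_bot, (MonoidHom.ker_eq_bot_iff f).mpr NormalInj.inj]; exact bot_le, rfl⟩)
        fun e' => e ((ind_eq_iff f i₁ i).mp e'.symm)
      rw [dot_sub_right, hn] at this
      push_cast; linear_combination -this
  have kα : P.comap f ≤ cfker α := fun g hg =>
    mem_cfker_of_constt (ZIrr.mem_CF zα) fun θ i h => (by_contra fun k => h (oα θ i k) : _ ≤ _) hg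
  obtain ⟨b, hb⟩ := ZIrr.deg_int zα
  have nζ : nrm (ind f θ₁) = f.range.relIndex (inertia f θ₁) := nrm_ind f i₁
  have n0 : (nrm (ind f θ₁) : ℂ) ≠ 0 := by
    rw [nζ]; exact_mod_cast (relIndex_pos _ _).ne'
  have eβ : ∀ x, β x = ind f θ₁ (f x) / nrm (ind f θ₁) := fun x => by
    have := congrFun (res_ind f (IsIrr.mem_CF i₁)) x
    rw [eq_div_iff n0, nζ, mul_comm, Complex.ofReal_natCast]
    exact this.symm
  have eψ : ∀ x, x ≠ 1 → ψ (f x) = ((a : ℂ) • β + α) x := fun x hx => by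
    have : ρ x = 0 := by
      have := sum_deg_mul_irr x
      rw [if_neg hx] at this
      simpa [hρ, Finset.sum_apply] using this
    simp [hα, this]
  have oβ : ⟪β, α⟫ = 0 := by
    rw [hβ, dot_sum_left]
    refine Finset.sum_eq_zero fun φ h => dot_comm_zero (oα φ (irr_of_mem_cfclass f i₁ h) ?_)
    obtain ⟨g, rfl⟩ := (mem_cfclass f).mp h
    rwa [comap_le_cfker_cj_iff]
  have nβ : nrm β = (cfclass f θ₁).card :=
    nrm_eq_of_dot (by simpa using dot_sum_self_irr fun φ h => irr_of_mem_cfclass f i₁ h)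
  have β1 : β 1 = (cfclass f θ₁).card := by
    rw [hβ, Finset.sum_apply, Finset.sum_congr rfl fun φ h => deg1 φ (irr_of_mem_cfclass f i₁ h)]
    simp
  refine ⟨α, b, (cfclass f θ₁).card, zα, kα, hb, ?_, fun x hx => ?_, ?_, ?_⟩
  · rw [nζ, card_cfclass, mul_comm]
    exact_mod_cast Subgroup.relIndex_mul_index (range_le_inertia f (IsIrr.mem_CF i₁))
  · rw [eψ x hx, Pi.add_apply, Pi.smul_apply, eβ, smul_eq_mul]; ring
  · have := nrm_sub_eq_of_eq_on (u := ψ ∘ f) eψ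
    rw [Function.comp_apply, map_one] at this
    rw [this, nrm_add_of_orth (by rw [dot_smul_left, oβ, mul_zero]), nrm_smul, nβ, Pi.add_apply,
      Pi.smul_apply, β1, hb, Complex.norm_intCast, sq_abs]
    congr 1
    rw [smul_eq_mul, show (a : ℂ) * (cfclass f θ₁).card + b = ((a * (cfclass f θ₁).card + b : ℤ) : ℂ) by
      push_cast; ring, Complex.norm_intCast, sq_abs]
    push_cast; ring
  · rw [card_mul_nrm]
    have e1 : Nat.card P = (Finset.univ.filter (· ∈ P.comap f)).card := by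
      rw [← Fintype.card_subtype, ← Nat.card_eq_fintype_card]
      conv_lhs => rw [← Subgroup.map_comap_eq_self hP]
      exact Subgroup.card_map_of_injective NormalInj.inj
    calc (Nat.card P : ℝ) * b ^ 2 = ∑ x ∈ Finset.univ.filter (· ∈ P.comap f), ‖α x‖ ^ 2 := by
          rw [Finset.sum_congr rfl (g := fun _ => (b : ℝ) ^ 2), Finset.sum_const, nsmul_eq_mul, e1]
          intro x hx
          rw [cfker_apply (kα (Finset.mem_filter.mp hx).2), hb, Complex.norm_intCast, sq_abs]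
      _ ≤ _ := Finset.sum_le_sum_of_subset_of_nonneg (Finset.filter_subset _ _) fun _ _ _ => by positivity

end CA.PF.P13

theorem CA.PF.P13.realizeEqns_P13g : True := by
  have := @CA.PF.P13.ssq.eq_1.{0}
  have := @CA.PF.P13.ssq.eq_def.{0}
  have := @CA.PF.P13.ssq.congr_simp.{0}
  trivial
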