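import Cfsg.Agent.EqAll

/-!
# Peterfalvi, section 13: the numerical lemmas
-/

set_option autoImplicit false

namespace CA.PF.P13

theorem geom_eq {p : ℕ} (hp : 2 ≤ p) (q : ℕ) : (p ^ q - 1) / (p - 1) = ∑ i ∈ Finset.range q, p ^ i :=
  (Nat.geomSum_eq hp q).symm

theorem geom_mul {p : ℕ} (hp : 2 ≤ p) (q : ℕ) : (p ^ q - 1) / (p - 1) * (p - 1) = p ^ q - 1 :=
  Nat.div_mul_cancel (by simpa using Nat.sub_dvd_pow_sub_pow p 1 q)

theorem geom_real {p : ℕ} (hp : 2 ≤ p) (q : ℕ) :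
    (((p ^ q - 1) / (p - 1) : ℕ) : ℝ) * (p - 1) = p ^ q - 1 := by
  have h := congrArg (Nat.cast : ℕ → ℝ) (geom_mul hp q)
  have h1 : 1 ≤ p ^ q := Nat.one_le_pow _ _ (by omega)
  rw [Nat.cast_mul, Nat.cast_sub (by omega : 1 ≤ p), Nat.cast_sub h1] at h
  simpa using h

theorem geom_modEq {p n : ℕ} (h : p ≡ 1 [MOD n]) (q : ℕ) : ∑ i ∈ Finset.range q, p ^ i ≡ q [MOD n] := by
  induction q with
  | zero => rfl
  | succ k ih =>
    rw [Finset.sum_range_succ]
    exact ih.add (by simpa using h.pow k)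

/-- Peterfalvi (13.14) -/
theorem primes_mod_cases {p q : ℕ} (hp : p.Prime) (hq : q.Prime) (hp2 : p ≠ 2) (hq2 : q ≠ 2) :
    Odd ((p ^ q - 1) / (p - 1)) ∧ (p % q = 1 → q ∣ (p ^ q - 1) / (p - 1)) ∧
    (p % q ≠ 1 → Nat.Coprime ((p ^ q - 1) / (p - 1)) (p - 1) ∧
      ∀ x : ℕ, x ∣ (p ^ q - 1) / (p - 1) → x % q = 1) := by
  have p2 := hp.two_le
  have q2 := hq.two_le
  refine ⟨?_, fun h => ?_, fun h => ?_⟩
  · rw [geom_eq p2, Nat.odd_iff]
    have h1 : p ≡ 1 [MOD 2] := Nat.odd_iff.mp (hp.odd_of_ne_two hp2)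
    exact Eq.trans (geom_modEq h1 q) (Nat.odd_iff.mp (hq.odd_of_ne_two hq2))
  · rw [geom_eq p2]
    have h1 : p ≡ 1 [MOD q] := by rw [Nat.ModEq, h, Nat.mod_eq_of_lt hq.one_lt]
    exact (Nat.modEq_zero_iff_dvd).mp ((geom_modEq h1 q).trans (Nat.modEq_zero_iff_dvd.mpr dvd_rfl))
  · have cop : Nat.Coprime ((p ^ q - 1) / (p - 1)) (p - 1) := by
      have h1 : p ≡ 1 [MOD (p - 1)] := ((Nat.modEq_iff_dvd' (by omega)).mpr dvd_rfl).symm
      rw [geom_eq p2, Nat.Coprime, (geom_modEq h1 q).gcd_eq]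
      refine (Nat.Prime.coprime_iff_not_dvd hq).mpr fun hd => h ?_
      have := ((Nat.modEq_iff_dvd' (by omega : 1 ≤ p)).mpr hd).symm
      rwa [Nat.ModEq, Nat.mod_eq_of_lt hq.one_lt] at this
    refine ⟨cop, fun x => ?_⟩
    induction x using Nat.recOnMul with
    | zero =>
      intro hx
      have h0 := geom_mul p2 q
      rw [Nat.eq_zero_of_zero_dvd hx] at h0
      have := Nat.one_lt_pow hq.ne_zero hp.one_lt
      omega
    | one => exact fun _ => Nat.mod_eq_of_lt hq.one_lt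
    | prime r hr =>
      intro hx
      haveI := Fact.mk hr
      have h1 : r ∣ p ^ q - 1 := geom_mul p2 q ▸ hx.mul_right _
      have h2 : ((p : ZMod r)) ^ q = 1 := by
        have := (ZMod.natCast_eq_zero_iff _ _).mpr h1
        rw [Nat.cast_sub (Nat.one_le_pow _ _ hp.pos)] at this
        simpa [sub_eq_zero] using this
      have h3 : (p : ZMod r) ≠ 1 := fun e => by
        have : r ∣ p - 1 := (ZMod.natCast_eq_zero_iff _ _).mp (by
          rw [Nat.cast_sub hp.pos, e]; simp)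
        exact hr.ne_one (Nat.eq_one_of_dvd_one (cop ▸ Nat.dvd_gcd hx this))
      haveI := Fact.mk hq
      have h4 : orderOf (p : ZMod r) = q := orderOf_eq_prime h2 h3
      have h5 : (p : ZMod r) ≠ 0 := fun e => by
        rw [e, zero_pow hq.ne_zero] at h2; exact zero_ne_one h2
      have h6 : q ∣ r - 1 := h4 ▸ ZMod.orderOf_dvd_card_sub_one h5
      have := ((Nat.modEq_iff_dvd' hr.pos).mpr h6).symm
      rwa [Nat.ModEq, Nat.mod_eq_of_lt hq.one_lt] at this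
    | mul a b ha hb =>
      intro hx
      rw [Nat.mul_mod, ha ((dvd_mul_right a b).trans hx), hb ((dvd_mul_left b a).trans hx),
        Nat.mod_eq_of_lt hq.one_lt]

/-- the constant `m` of (13.10) -/
noncomputable def mm (p q : ℕ) : ℝ :=
  1 - 1 / (q - 1 : ℝ) - (q - 1) / (q : ℝ) ^ p + 1 / ((q - 1) * (q : ℝ) ^ p)

theorem mm_lb {p q : ℕ} (hp : 3 ≤ p) (hq : 3 ≤ q) : 1 - 1 / (q - 1 : ℝ) - 1 / (q : ℝ) ^ 2 < mm p q := by
  have q3 : (3 : ℝ) ≤ q := by exact_mod_cast hq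
  have h1 : (q : ℝ) ^ 3 ≤ (q : ℝ) ^ p := pow_le_pow_right₀ (by linarith) hp
  have h2 : (q - 1) / (q : ℝ) ^ p ≤ 1 / (q : ℝ) ^ 2 := by
    rw [div_le_div_iff₀ (by positivity) (by positivity)]
    nlinarith [sq_nonneg (q : ℝ)]
  have h3 : 0 < 1 / ((q - 1) * (q : ℝ) ^ p) := by
    have : (0 : ℝ) < q - 1 := by linarith
    positivity
  rw [mm]; linarith

theorem mm_lb5 {p q : ℕ} (hp : 3 ≤ p) (hq : 5 ≤ q) : 7 / 10 < mm p q := by
  have h := mm_lb hp (by omega : 3 ≤ q)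
  have q5 : (5 : ℝ) ≤ q := by exact_mod_cast hq
  have h1 : 1 / (q - 1 : ℝ) ≤ 1 / 4 := one_div_le_one_div_of_le (by norm_num) (by linarith)
  have h2 : 1 / (q : ℝ) ^ 2 ≤ 1 / 25 := one_div_le_one_div_of_le (by norm_num) (by nlinarith)
  linarith

theorem mm_lb7 {p q : ℕ} (hp : 3 ≤ p) (hq : 7 ≤ q) : 8 / 10 < mm p q := by
  have h := mm_lb hp (by omega : 3 ≤ q)
  have q5 : (7 : ℝ) ≤ q := by exact_mod_cast hq
  have h1 : 1 / (q - 1 : ℝ) ≤ 1 / 6 := one_div_le_one_div_of_le (by norm_num) (by linarith)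
  have h2 : 1 / (q : ℝ) ^ 2 ≤ 1 / 49 := one_div_le_one_div_of_le (by norm_num) (by nlinarith)
  linarith

theorem mm_three (p : ℕ) : mm p 3 = (1 - 3 / 3 ^ p) / 2 := by
  rw [mm]; push_cast; field_simp; ring

theorem sq_le_three_pow {p : ℕ} (hp : 5 ≤ p) : 3 * p ^ 2 ≤ 3 ^ p := by
  induction p, hp using Nat.le_induction with
  | base => norm_num
  | succ k hk ih => rw [pow_succ 3]; nlinarith

theorem mm_lb3 {p : ℕ} (hp : 5 ≤ p) : 49 / 100 < mm p 3 ∧ ((p : ℝ) ^ 2 - 1) / 6 ≤ mm p 3 * p ^ 2 / 3 := by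
  have h1 : (3 : ℝ) ^ 5 ≤ 3 ^ p := pow_le_pow_right₀ (by norm_num) hp
  have h2 : (3 : ℝ) * p ^ 2 ≤ 3 ^ p := by exact_mod_cast sq_le_three_pow hp
  have h3 : (0 : ℝ) < 3 ^ p := by positivity
  rw [mm_three]
  have h4 : (3 : ℝ) / 3 ^ p ≤ 3 / 3 ^ 5 := div_le_div_of_nonneg_left (by norm_num) (by norm_num) h1
  have h5 : 3 / 3 ^ p * (p : ℝ) ^ 2 ≤ 1 := by rw [div_mul_eq_mul_div, div_le_one h3]; exact h2
  constructor
  · norm_num at h4 ⊢; linarith
  · nlinarith

variable {p q : ℕ} (hp : p.Prime) (hq : q.Prime) (hp2 : p ≠ 2) (hq2 : q ≠ 2) (hpq : p ≠ q)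
include hp hq hp2 hq2 hpq

theorem small_mm (h : mm p q * ((2 * q + 1) * (p - 1)) < q * p) : q = 3 ∧ 5 ≤ p := by
  have p3 : 3 ≤ p := by have := hp.two_le; omega
  have q3 : 3 ≤ q := by have := hq.two_le; omega
  have p4 : p ≠ 4 := fun e => by rw [e] at hp; exact absurd hp (by decide)
  have q4 : q ≠ 4 := fun e => by rw [e] at hq; exact absurd hq (by decide)
  have q6 : q ≠ 6 := fun e => by rw [e] at hq; exact absurd hq (by decide)
  by_cases e : q = 3
  · exact ⟨e, by omega⟩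
  exfalso
  have q5 : (5 : ℝ) ≤ q := by exact_mod_cast (by omega : 5 ≤ q)
  have m5 := mm_lb5 p3 (by omega : 5 ≤ q)
  by_cases e' : p = 3
  · subst e'
    by_cases e5 : q = 5
    · subst e5; norm_num at h; linarith
    · have m7 := mm_lb7 p3 (by omega : 7 ≤ q)
      norm_num at h; nlinarith
  · have p5 : (5 : ℝ) ≤ p := by exact_mod_cast (by omega : 5 ≤ p)
    have : (0 : ℝ) < (2 * q + 1) * (p - 1) := by nlinarith
    nlinarith [mul_le_mul_of_nonneg_right m5.le this.le]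

/-- the bound common to (13.12) and (13.15) -/
theorem small_mm' {u c : ℕ} (h : mm p q * p ^ (q - 1) * c < u * q) {b : ℕ} (hb : 2 * q + 1 ≤ b * c)
    (hu : b * u ≤ (p ^ q - 1) / (p - 1)) (b0 : 0 < b) : q = 3 ∧ 5 ≤ p := by
  refine small_mm hp hq hp2 hq2 hpq ?_
  have p3 : (3 : ℝ) ≤ p := by exact_mod_cast (by have := hp.two_le; omega : 3 ≤ p)
  have q3 : (3 : ℝ) ≤ q := by exact_mod_cast (by have := hq.two_le; omega : 3 ≤ q)
  by_cases m0 : mm p q ≤ 0
  · have : (0 : ℝ) < (2 * q + 1) * (p - 1) := by nlinarith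
    nlinarith
  push Not at m0
  have h1 := geom_real hp.two_le q
  have h2 : (b : ℝ) * u ≤ ((p ^ q - 1) / (p - 1) : ℕ) := by exact_mod_cast hu
  have h3 : (2 * q + 1 : ℝ) ≤ b * c := by exact_mod_cast hb
  have h4 : (p : ℝ) ^ q = p ^ (q - 1) * p := by
    rw [← pow_succ, Nat.sub_add_cancel hq.pos]
  have h5 : (0 : ℝ) < p ^ (q - 1) := by positivity
  have b0' : (0 : ℝ) < b := by exact_mod_cast b0
  have h6 : (b : ℝ) * u * (p - 1) < p ^ (q - 1) * p := by
    have := mul_le_mul_of_nonneg_right h2 (by linarith : (0 : ℝ) ≤ p - 1)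
    linarith
  have h7 : mm p q * p ^ (q - 1) * (2 * q + 1) < b * u * q := by
    have := mul_lt_mul_of_pos_left h b0'
    have := mul_le_mul_of_nonneg_left h3 (mul_pos m0 h5).le
    nlinarith
  refine lt_of_mul_lt_mul_left (a := (p : ℝ) ^ (q - 1)) ?_ h5.le
  have h8 := mul_lt_mul_of_pos_right h7 (by linarith : (0 : ℝ) < p - 1)
  have h9 := mul_lt_mul_of_pos_right h6 (by linarith : (0 : ℝ) < q)
  nlinarith

omit hq hq2 hpq in
theorem geom_three : (p ^ 3 - 1) / (p - 1) = p ^ 2 + p + 1 := by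
  rw [geom_eq hp.two_le]; simp [Finset.sum_range_succ]; ring

/-- the numerical part of (13.12) -/
theorem num_reg {u c : ℕ} (h : mm p q * p ^ (q - 1) * c < u * q) (hc : c % (2 * q) = 1) (c1 : c ≠ 1)
    (hu : u ≤ (p ^ q - 1) / (p - 1)) (cop : ¬ p ∣ c) : q = 3 ∧ p = 5 ∧ c = 7 := by
  have hc' : 2 * q + 1 ≤ c := by
    have h1 := Nat.div_add_mod c (2 * q)
    rcases Nat.eq_zero_or_pos (c / (2 * q)) with h0 | h0
    · rw [h0] at h1; omega
    · nlinarith
  obtain ⟨rfl, p5⟩ := small_mm' hp hq hp2 hq2 hpq h (b := 1) (by omega) (by omega) one_pos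
  rw [geom_three hp hp2] at hu
  have m3 := (mm_lb3 p5).1
  have h2 : (u : ℝ) ≤ p ^ 2 + p + 1 := by exact_mod_cast hu
  have p5' : (5 : ℝ) ≤ p := by exact_mod_cast p5
  have c7 : (7 : ℝ) ≤ c := by exact_mod_cast hc'
  norm_num at h
  have h3 : 49 / 100 * ((p : ℝ) ^ 2 * c) < (p ^ 2 + p + 1) * 3 := by
    have := mul_le_mul_of_nonneg_right m3.le (by positivity : (0 : ℝ) ≤ p ^ 2 * c)
    nlinarith
  have c13 : c < 13 := by
    by_contra hc
    have : (13 : ℝ) ≤ c := by exact_mod_cast (by omega : 13 ≤ c)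
    nlinarith
  obtain rfl : c = 7 := by omega
  have p11 : p < 11 := by
    by_contra hc
    have : (11 : ℝ) ≤ p := by exact_mod_cast (by omega : 11 ≤ p)
    norm_num at h3
    nlinarith
  refine ⟨rfl, ?_, rfl⟩
  interval_cases p <;> first | rfl | exact absurd hp (by decide) | exact absurd dvd_rfl cop

theorem two_pow_lb {n : ℕ} (hn : 5 ≤ n) : 16 * n ≤ 5 * 2 ^ (n - 1) := by
  induction n, hn using Nat.le_induction with
  | base => norm_num
  | succ k hk ih =>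
    obtain ⟨j, rfl⟩ : ∃ j, k = j + 1 := ⟨k - 1, by omega⟩
    simp only [Nat.add_sub_cancel] at ih ⊢
    rw [pow_succ]; omega

/-- the numerical part of (13.13) -/
theorem num_nonGalois {u a : ℕ} (h : mm p q * p ^ (q - 1) < u * q) (hu : u ∣ a ^ (q - 1))
    (ha : a ∣ p - 1) (odd : Odd a) : q = 3 ∧ u = ((p - 1) / 2) ^ 2 := by
  have p3 : 3 ≤ p := by have := hp.two_le; omega
  have q3 : 3 ≤ q := by have := hq.two_le; omega
  obtain ⟨k, hk⟩ := hp.odd_of_ne_two hp2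
  have hk' : (p - 1) / 2 = k := by omega
  have ak : a ∣ k := (Nat.coprime_two_right.mpr odd).dvd_of_dvd_mul_left (by
    rwa [show p - 1 = 2 * k by omega] at ha)
  have uk : u ∣ k ^ (q - 1) := hu.trans (pow_dvd_pow_of_dvd ak _)
  have k0 : 0 < k := by omega
  have uk' : (u : ℝ) ≤ k ^ (q - 1) := by exact_mod_cast Nat.le_of_dvd (by positivity) uk
  have pk : (p : ℝ) = 2 * k + 1 := by exact_mod_cast hk
  have e3 : q = 3 := by
    by_contra e
    have q4 : q ≠ 4 := fun e => by rw [e] at hq; exact absurd hq (by decide)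
    have m5 := mm_lb5 p3 (by omega : 5 ≤ q)
    have h1 : (2 : ℝ) ^ (q - 1) * k ^ (q - 1) ≤ p ^ (q - 1) := by
      rw [← mul_pow]; exact pow_le_pow_left₀ (by positivity) (by linarith) _
    have h2 : (16 : ℝ) * q ≤ 5 * 2 ^ (q - 1) := by
      exact_mod_cast two_pow_lb hp hq hp2 hq2 hpq (by omega : 5 ≤ q)
    have h3 : (0 : ℝ) < k ^ (q - 1) := by positivity
    have h4 := mul_le_mul_of_nonneg_right uk' (by positivity : (0 : ℝ) ≤ q)
    have h5 := mul_le_mul_of_nonneg_right m5.le (by positivity : (0 : ℝ) ≤ p ^ (q - 1))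
    have h6 := mul_le_mul_of_nonneg_right h2 h3.le
    have q0 : (0 : ℝ) < q := by positivity
    nlinarith [mul_pos q0 h3]
  subst e3
  refine ⟨rfl, ?_⟩
  have p4 : p ≠ 4 := fun e => by rw [e] at hp; exact absurd hp (by decide)
  have m3 := (mm_lb3 (by omega : 5 ≤ p)).2
  obtain ⟨b, hb⟩ := uk
  norm_num at h hb
  rw [hk', hb]
  have hb' : (k : ℝ) ^ 2 = u * b := by exact_mod_cast hb
  have b0 : b ≠ 0 := fun e => by rw [e] at hb; simp at hb; omega
  have b2 : b < 2 := by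
    by_contra hc
    have : (2 : ℝ) ≤ b := by exact_mod_cast (by omega : 2 ≤ b)
    have u0 : (0 : ℝ) ≤ u := by positivity
    have k0' : (0 : ℝ) < k := by exact_mod_cast k0
    have h1 : (p : ℝ) ^ 2 - 1 < 6 * u := by linarith
    rw [pk] at h1
    nlinarith
  obtain rfl : b = 1 := by omega
  rw [mul_one]

/-- the numerical part of (13.15) -/
theorem num_Galois {u b : ℕ} (h : mm p q * p ^ (q - 1) < u * q) (hb : (p ^ q - 1) / (p - 1) = b * u)
    (hu : u % q = 1) : b ≤ 2 * q := by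
  by_contra hc
  obtain ⟨rfl, p5⟩ := small_mm' hp hq hp2 hq2 hpq (c := 1) (u := u) (by simpa using h) (b := b)
    (by omega) hb.ge (by omega)
  rw [geom_three hp hp2] at hb
  have m3 := (mm_lb3 p5).2
  norm_num at h
  have h1 : (p : ℝ) ^ 2 - 1 < 6 * u := by linarith
  have h2 : p ^ 2 < 6 * u + 1 := by
    have : (p : ℝ) ^ 2 < 6 * u + 1 := by linarith
    exact_mod_cast this
  have p11 : p < 11 := by
    by_contra hc'
    nlinarith
  have b7 : 7 ≤ b := by omega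
  have u1 : u ≤ 8 := by nlinarith
  interval_cases p <;> first | exact absurd hp (by decide) | (interval_cases u <;> omega)

end CA.PF.P13

theorem CA.PF.P13.realizeEqns_P13n : True := by
  have := @CA.PF.P13.mm.eq_1
  have := @CA.PF.P13.mm.eq_def
  have := @CA.PF.P13.mm.congr_simp
  trivial
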