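import Cfsg.Agent.PF.I12
import Cfsg.Agent.PF.P13n
import Cfsg.Agent.PF.P13g

/-!
# Peterfalvi (13.2), (13.3)
-/

set_option autoImplicit false
set_option linter.unusedSectionVars false

open scoped ComplexConjugate

open Cfsg CA.FG CA.BG CA.Chr

namespace CA.PF.P13

universe u

variable {G : Type u} [Group G] [MinSimpleOdd G] {S W₁ U W₂ : Subgroup G} (maxS : IsCoatom S)
  (hP : IsTypePWith S W₁ U W₂)
include maxS hP

theorem type_cases : FTtype S = 2 ∨ 2 < FTtype S := by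
  have := FTtypeP_neq1 maxS hP
  have := (FTtype_range S).1
  omega

theorem pr_q : (Nat.card W₁).Prime := (FTtypeP_primes maxS hP).1
theorem pr_p : (Nat.card W₂).Prime := (FTtypeP_primes maxS hP).2
omit maxS hP in
theorem card_ne_two (W : Subgroup G) : Nat.card W ≠ 2 := mFT_prime_ne_two dvd_rfl
theorem p_ne_q : Nat.card W₂ ≠ Nat.card W₁ := fun e => by
  have := snc_coprime hP.selfNormalizing
  rw [e, Nat.coprime_self] at this
  exact (pr_q maxS hP).ne_one this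
theorem three_le_q : 3 ≤ Nat.card W₁ := by
  have := (pr_q maxS hP).two_le; have := card_ne_two W₁; omega
theorem three_le_p : 3 ≤ Nat.card W₂ := by
  have := (pr_p maxS hP).two_le; have := card_ne_two W₂; omega

theorem primeH_eq : primeH S U = Nat.card W₂ :=
  def_Ptype_factor_prime maxS hP (FTtype5_exclusion maxS) (pr_p maxS hP)

theorem abelP : IsElementaryAbelian (Nat.card W₂) (fittingHallOf S) ∧
    Nat.card (fittingHallOf S) = Nat.card W₂ ^ Nat.card W₁ := by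
  rcases type_cases maxS hP with h | h
  · exact ⟨(FTtypeII_prime_facts maxS hP h).1, (FTtypeII_prime_facts maxS hP h).2.1⟩
  · exact ⟨(FTtype34_Fcore_kernel_trivial maxS hP h).1, (FTtype34_Fcore_kernel_trivial maxS hP h).2.1⟩

theorem kerH0_eq : kerH0 S U = ⊥ := by
  have h1 := (Ptype_Fcore_factor_facts maxS hP (FTtype5_exclusion maxS)).2.2
  have h2 := card_mul_relIndex (Ptype_Fcore_kernel_exists maxS hP (FTtype5_exclusion maxS)).1.2.1.le
  rw [h1, primeH_eq maxS hP, ← (abelP maxS hP).2] at h2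
  exact Subgroup.card_eq_one.mp ((Nat.mul_eq_right Nat.card_pos.ne').mp h2)

theorem kerC_eq : kerC S U = U ⊓ 𝒞(fittingHallOf S) := by
  rw [kerC, kerH0_eq maxS hP]
  refine le_antisymm (le_inf inf_le_left ?_) (le_inf inf_le_left ?_)
  · exact comm_eq_bot_iff.mp (le_bot_iff.mp ((P15.le_centQ_iff (norm_bot _) (norm_bot _)).mp inf_le_right))
  · exact (P15.le_centQ_iff (norm_bot _) (norm_bot _)).mpr (comm_eq_bot_iff.mpr inf_le_right).le

theorem type23 : (FTtype S = 2 ∨ FTtype S = 3) ∧ (Nat.card W₁ < Nat.card W₂ → FTtype S = 2) := by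
  rcases type_cases maxS hP with h | h
  · exact ⟨Or.inl h, fun _ => h⟩
  · obtain ⟨-, h1, h2, -⟩ := FTtype34_structure maxS hP h
    exact ⟨Or.inr h2, fun h3 => absurd h1 h3.asymm⟩

theorem abelU : IsMulCommutative U := by
  rcases (type23 maxS hP).1 with h | h
  · exact (compl_of_typeII maxS hP h).2.1
  · exact (compl_of_typeIII maxS hP h).2.1

theorem ntU : U ≠ ⊥ := (compl_of_typeII_IV maxS hP (FTtype5_exclusion maxS)).2.1

theorem tiH : NormedTI (sharp (fittingOf S)) ⊤ S :=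
  (compl_of_typeII_IV maxS hP (FTtype5_exclusion maxS)).2.2.2

theorem frobUW1 : IsFrob (U ⊔ W₁) U W₁ := typeP_Frobenius_UW1 hP (ntU maxS hP)

theorem card_U : Nat.card ↥(U ⊓ 𝒞(fittingHallOf S)) * cardUbar S U = Nat.card U := by
  rw [cardUbar, kerC_eq maxS hP]; exact card_mul_relIndex inf_le_left

omit maxS hP in
theorem u_pos : 0 < cardUbar S U := relIndex_pos _ _

theorem nonGal_dvd {H₁ : Subgroup G} {a : ℕ} (h : NonGal S W₁ U H₁ a) :
    cardUbar S U ∣ a ^ (Nat.card W₁ - 1) ∧ a ∣ Nat.card W₂ - 1 ∧ Odd a := by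
  refine ⟨?_, primeH_eq maxS hP ▸ h.dvd, ?_⟩
  · obtain ⟨f, hf⟩ := h.emb
    rw [cardUbar, Subgroup.relIndex, ← hf, Subgroup.index_ker]
    refine (Subgroup.card_subgroup_dvd_card _).trans ?_
    rw [Nat.card_fun, Nat.card_congr Multiplicative.toAdd, Nat.card_zmod, Nat.card_eq_fintype_card,
      Fintype.card_fin]
  · rw [← h.a_def]
    exact (mFT_odd U).of_dvd_nat (Subgroup.relIndex_dvd_card _ _)

/-- Peterfalvi (13.2)(c) -/
theorem u_le : cardUbar S U ≤ (Nat.card W₂ ^ Nat.card W₁ - 1) / (Nat.card W₂ - 1) := by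
  have p3 := three_le_p maxS hP
  have q3 := three_le_q maxS hP
  rw [geom_eq (by omega)]
  by_cases h : TypePGalois S U
  · have := (typeP_Galois_P maxS hP (FTtype5_exclusion maxS) h).2.2.2
    rw [primeH_eq maxS hP, geom_eq (by omega)] at this
    exact Nat.le_of_dvd (Finset.sum_pos (fun _ _ => by positivity) ⟨0, Finset.mem_range.mpr (by omega)⟩) this
  · obtain ⟨H₁, a, h⟩ := typeP_Galois_Pn maxS hP (FTtype5_exclusion maxS) h
    obtain ⟨h1, h2, h3⟩ := nonGal_dvd maxS hP h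
    calc _ ≤ a ^ (Nat.card W₁ - 1) := Nat.le_of_dvd (pow_pos h3.pos _) h1
      _ ≤ Nat.card W₂ ^ (Nat.card W₁ - 1) :=
        Nat.pow_le_pow_left ((Nat.le_of_dvd (by omega) h2).trans (Nat.sub_le _ _)) _
      _ ≤ _ := Finset.single_le_sum (f := fun i => Nat.card W₂ ^ i) (fun _ _ => Nat.zero_le _)
        (Finset.mem_range.mpr (by omega))

theorem kerH0C'_eq : kerH0 S U ⊔ ⁅kerC S U, kerC S U⁆ = ⊥ := by
  rw [kerH0_eq maxS hP, bot_sup_eq, comm_eq_bot_iff, ← abelian_iff_le_cent]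
  exact abelian_of_le (abelU maxS hP) inf_le_left

/-- Peterfalvi (13.2)(d) -/
theorem cohS : Coh (SP S (fittingHallOf S) ⊥) (tau0 S) :=
  kerH0C'_eq maxS hP ▸ Ptype_core_coherence maxS hP (FTtype5_exclusion maxS)

theorem cent_le_of_A0 {x : G} (hx : x ∈ FTsupp0 S) : 𝒞[x] ≤ S := by
  by_contra h
  obtain ⟨-, h1, -, -, ⟨h2, h3⟩, h4, h5⟩ := FTsupport_facts maxS hx h
  by_cases e : FTtype (sigBase x) = 2
  · obtain ⟨E, hE⟩ := h5 e
    exact FTtypeP_neq1 maxS hP (FTsupp_Frobenius maxS hE).1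
  · have := (FTtype_range (sigBase x)).1
    obtain ⟨E, hE⟩ := FTtype1_Frobenius h1.1 (by omega)
    exact h3 (Fcore_sub_FTsupp1 h1.1 ((FTsupp_Frobenius h1.1 hE).2 ▸ h2))

/-- Peterfalvi (13.2)(e) -/
theorem tiA0 : NormedTI (FTsupp0 S) ⊤ S := by
  refine ⟨(FTsupp1_nonempty maxS).mono (FTsupp1_sub0 maxS), le_top, fun a ha g _ =>
    ⟨fun h => ?_, fun h => FTsupp0_norm h ha⟩⟩
  obtain ⟨x, hx, e⟩ := FTsupp0_fusion maxS ha h
  have : x⁻¹ * g ∈ S := cent_le_of_A0 maxS hP ha (Subgroup.mem_centralizer_singleton_iff.mpr (by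
    calc x⁻¹ * g * a = x⁻¹ * (g * a * g⁻¹) * g := by group
      _ = _ := by rw [← e]; group))
  simpa using mul_mem hx this

theorem Fit_eq : fittingHallOf S ⊔ kerC S U = fittingOf S := by
  rw [kerC_eq maxS hP, typeP_Fitting hP]

theorem abelH : IsMulCommutative (fittingOf S) := by
  rw [typeP_Fitting hP]
  exact abelian_sup (abelP maxS hP).1.1 (abelian_of_le (abelU maxS hP) inf_le_left)
    (le_cent_symm inf_le_right)

theorem card_H : Nat.card (fittingOf S) =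
    Nat.card W₂ ^ Nat.card W₁ * Nat.card ↥(U ⊓ 𝒞(fittingHallOf S)) := by
  rw [← (typeP_Fitting_dprod hP).card_mul, (abelP maxS hP).2]

theorem card_der : Nat.card ↥⁅S, S⁆ = Nat.card (fittingOf S) * cardUbar S U := by
  rw [← (typeP_sdprod_der hP).card_mul, card_H maxS hP, (abelP maxS hP).2, mul_assoc, card_U maxS hP]

theorem card_S : Nat.card S = Nat.card (fittingOf S) * (cardUbar S U * Nat.card W₁) := by
  rw [← (typeP_sdprod_M hP).card_mul, card_der maxS hP, mul_assoc]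

theorem index_H : (fittingOf S).relIndex S = cardUbar S U * Nat.card W₁ :=
  Nat.eq_of_mul_eq_mul_left Nat.card_pos ((card_mul_relIndex (fitting_le S)).trans (card_S maxS hP))

theorem deg_ST {φ : S → ℂ} (h : φ ∈ ST (fitting_normal S).1) : φ 1 = cardUbar S U * Nat.card W₁ := by
  obtain ⟨θ, hθ, rfl⟩ := mem_ST.mp h
  have := abelH maxS hP
  obtain ⟨l, rfl⟩ := IsIrr.exists_lin hθ
  rw [indA_one, index_H maxS hP]; simp [lin_apply]

theorem ST_of_indLin {φ : S → ℂ} (h : IsIndLin S (fittingHallOf S ⊔ kerC S U) φ) :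
    φ ∈ ST (fitting_normal S).1 := by
  rw [Fit_eq maxS hP] at h
  obtain ⟨_, l, rfl⟩ := h
  exact mem_ST.mpr ⟨_, lin_irr l, rfl⟩

/-- Peterfalvi (13.3)(a) -/
theorem muS_ST {j : W₂ →* ℂˣ} (hj : j ≠ 1) : muS (wM hP) j ∈ ST (fitting_normal S).1 :=
  ST_of_indLin maxS hP ((typeP_reducible_core_Ind maxS hP (FTtype5_exclusion maxS)).2 _
    (kerH0_eq maxS hP ▸ muS_mem_SP maxS hP hj) ((FT_primeTI hP).muS_not_irr j)).2.2

theorem FTprTIred1 {j : W₂ →* ℂˣ} (hj : j ≠ 1) : muS (wM hP) j 1 = cardUbar S U * Nat.card W₁ :=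
  deg_ST maxS hP (muS_ST maxS hP hj)

theorem FTprTIirr1 (i) {j : W₂ →* ℂˣ} (hj : j ≠ 1) : muP hP i j 1 = cardUbar S U := by
  have h := FTprTIred1 maxS hP hj
  rw [(FT_primeTI hP).muS_deg i, mul_comm] at h
  exact mul_right_cancel₀ (by exact_mod_cast Nat.card_pos.ne') h

theorem q_dvd_U : Nat.card W₁ ∣ Nat.card U - 1 := Frobenius_dvd_ker1 (frobUW1 maxS hP)

omit maxS in
theorem q_dvd_C : Nat.card W₁ ∣ Nat.card ↥(U ⊓ 𝒞(fittingHallOf S)) - 1 :=
  regular_norm_dvd_pred (norm_inf hP.U_normal (norm_cent ((typeP_W1_le hP).trans (Fcore_norm S))))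
    (semiregularS (typeP_semiregular_U hP) inf_le_left le_rfl)

theorem u_mod : cardUbar S U % Nat.card W₁ = 1 := by
  have h1 : _ ≡ 1 [MOD _] := ((Nat.modEq_iff_dvd' Nat.card_pos).mpr (q_dvd_U maxS hP)).symm
  have h2 : _ ≡ 1 [MOD _] := ((Nat.modEq_iff_dvd' Nat.card_pos).mpr (q_dvd_C hP)).symm
  have h3 := h2.mul_right (cardUbar S U)
  rw [card_U maxS hP, one_mul] at h3
  exact Eq.trans (h3.symm.trans h1) (Nat.mod_eq_of_lt (pr_q maxS hP).one_lt)

/-- Peterfalvi (13.3)(c), first part -/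
theorem FTprTIsign (j : W₂ →* ℂˣ) : del (wM hP) j = 1 := by
  by_cases hj : j = 1
  · rw [hj, (FT_primeTI hP).del_one]
  obtain ⟨n, hn⟩ := (FT_primeTI hP).mu_deg_mod 1 j
  replace hn := (FTprTIirr1 maxS hP 1 hj).symm.trans hn
  refine (del_cases _ j).resolve_right fun e => ?_
  have h1 : (cardUbar S U : ℤ) = -1 + n * Nat.card W₁ := by rw [e] at hn; exact_mod_cast hn
  have h2 := Nat.div_add_mod (cardUbar S U) (Nat.card W₁)
  rw [u_mod maxS hP] at h2
  have h3 : (Nat.card W₁ : ℤ) ∣ 2 := ⟨n - (cardUbar S U / Nat.card W₁ : ℕ), by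
    have : (Nat.card W₁ : ℤ) * (cardUbar S U / Nat.card W₁ : ℕ) + 1 = cardUbar S U := by exact_mod_cast h2
    linear_combination this + h1⟩
  have := Int.le_of_dvd (by norm_num) h3
  have := three_le_q maxS hP
  omega

omit maxS hP in
/-- `𝒮` contains an irreducible character induced from the Fitting subgroup -/
def HasInd (S : Subgroup G) : Prop :=
  ∃ φ ∈ SP S (fittingHallOf S) ⊥, IsIrrCharacter S φ ∧ φ ∈ ST (fitting_normal S).1

/-- Peterfalvi (13.3)(b) -/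
theorem noInd_facts (h : ¬ HasInd S) : TypePGalois S U ∧ U ⊓ 𝒞(fittingHallOf S) = ⊥ ∧
    cardUbar S U = (Nat.card W₂ ^ Nat.card W₁ - 1) / (Nat.card W₂ - 1) ∧
    ∀ φ ∈ SP S (fittingHallOf S) ⊥, ∃ j, j ≠ 1 ∧ φ = muS (wM hP) j := by
  rcases typeP_reducible_core_cases maxS hP (FTtype5_exclusion maxS) with ⟨ζ, h1, h2, -, h3⟩ | ⟨gal, -⟩
  · exact absurd ⟨ζ, kerH0C'_eq maxS hP ▸ h1, h2, ST_of_indLin maxS hP h3⟩ h
  obtain ⟨-, h1, h2⟩ := typeP_Galois_characters maxS hP (FTtype5_exclusion maxS) gal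
  rw [kerH0C'_eq maxS hP] at h1 h2
  have red : ∀ φ ∈ SP S (fittingHallOf S) ⊥, ¬ IsIrrCharacter S φ := fun φ a b =>
    h ⟨φ, a, b, ST_of_indLin maxS hP (h1 φ a).2⟩
  obtain ⟨h3, h4, -⟩ := h2 red
  exact ⟨gal, kerC_eq maxS hP ▸ h3, primeH_eq maxS hP ▸ h4,
    fun φ a => (SP_cases maxS hP a).resolve_right fun b => red φ a b.1⟩

end CA.PF.P13

theorem CA.PF.P13.realizeEqns_P13a : True := by
  have := @CA.PF.P13.HasInd.eq_1.{0}
  have := @CA.PF.P13.HasInd.eq_def.{0}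
  have := @CA.PF.P13.HasInd.congr_simp.{0}
  trivial
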