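import Cfsg.Agent.PF.P13a

/-!
# Peterfalvi (13.4) - (13.10)
-/

set_option autoImplicit false
set_option linter.unusedSectionVars false

open scoped ComplexConjugate

open Cfsg CA.FG CA.BG CA.Chr

namespace CA.PF.P13

universe u

variable {G : Type u} [Group G] [MinSimpleOdd G] {S W₁ U W₂ : Subgroup G} (maxS : IsCoatom S)
  (hP : IsTypePWith S W₁ U W₂)
include maxS hP

omit maxS hP in
theorem exists_lin_ne (W : Subgroup G) (hW : (Nat.card W).Prime) : ∃ i : W →* ℂˣ, i ≠ 1 := by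
  have := abelian_of_cyclic (isCyclic_of_card_prime hW)
  obtain ⟨x, hx, h1⟩ := exists_mem_ne_one (ne_bot_of_card_prime hW)
  obtain ⟨l, hl⟩ := exists_lin_ne_one (G := W) (g := ⟨x, hx⟩) fun e => h1 (congrArg Subtype.val e)
  exact ⟨l, fun e => hl (by rw [e]; rfl)⟩

omit maxS hP in
theorem exists_ne_one_sub (W : Subgroup G) (hW : (Nat.card W).Prime) : ∃ x : W, x ≠ 1 := by
  obtain ⟨x, hx, h1⟩ := exists_mem_ne_one (ne_bot_of_card_prime hW)
  exact ⟨⟨x, hx⟩, fun e => h1 (congrArg Subtype.val e)⟩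

omit hP in
theorem S_sub_core : SP S (fittingHallOf S) ⊥ ⊆ SP S (sigmaCore S) ⊥ :=
  SD_mono (Fcore_le_FTcore maxS) le_rfl

omit maxS in
theorem mem_S1 {φ : S → ℂ} (h : φ ∈ SP S (fittingHallOf S) ⊥) (h' : φ ∈ ST (fitting_normal S).1) :
    φ ∈ SD (fitting_normal S).1 (fittingHallOf S) ⊥ :=
  (mem_SD_iff_cfker (fitting_normal S) (Fcore_norm S) (norm_bot S) (Fcore_sub_Fitting S) bot_le h').mpr
    ((mem_SD_iff_cfker (der_normalIn S) (Fcore_norm S) (norm_bot S) (typeP_F_le_der hP) bot_le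
      (SD_sub_ST _ _ _ h)).mp h)

omit maxS in
theorem S1_sub_CS {ζ : S → ℂ} (h : ζ ∈ SD (fitting_normal S).1 (fittingHallOf S) ⊥) :
    ζ ∈ CS (SP S (fittingHallOf S) ⊥) := by
  classical
  obtain ⟨θ, iθ, kθ, -, rfl⟩ := mem_SD.mp h
  have nH : fittingOf S ⊲ ⁅S, S⁆ := (fitting_normal S).of_le hP.fitting_le (der_le S)
  have := nInj nH
  have := normalSub ((der_le S).trans (Fcore_norm S))
  rw [← indA_indA nH.1 (der_le S), CF_expand (ind_mem_CF _ θ), map_sum]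
  refine Submodule.sum_mem _ fun χ hχ => ?_
  rw [map_smul]
  by_cases e : ⟪indA nH.1 θ, χ⟫ = 0
  · rw [e, zero_smul]; exact zero_mem _
  refine CS_smul _ (mem_CS (mem_SD.mpr ⟨χ, mem_irr.mp hχ, fun k => kθ ?_, by simp, rfl⟩))
  rw [frob_rec _ _ (IsIrr.mem_CF (mem_irr.mp hχ))] at e
  exact (le_cfker_iff_constt _ (subOf_le_range nH.1 (Fcore_sub_Fitting S)) (mem_irr.mp hχ) iθ
    fun e' => e (dot_comm_zero e')).mp k

theorem tau_eq_ind {α : S → ℂ} (hα : α ∈ CS (ST (fitting_normal S).1)) (h1 : α 1 = 0) :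
    tau0 S α = ind S.subtype α := (FT_DadeInd_Fit maxS).dade_eq_ind (tiH maxS hP) hα h1

theorem tau_vanish {α : S → ℂ} (hα : α ∈ CS (ST (fitting_normal S).1)) (h1 : α 1 = 0) {g : G}
    (hg : g ∉ classSupport (sharp (fittingOf S)) ⊤) : tau0 S α g = 0 := by
  rw [tau_eq_ind maxS hP hα h1]
  refine ind_eq_zero fun x hx => (FT_DadeInd_Fit maxS).supp hα h1 x fun h => hg ?_
  obtain ⟨c, rfl⟩ := isConj_iff.mp hx
  exact ⟨x, h, c, trivial, rfl⟩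

theorem sub_mem_ST {φ ψ : S → ℂ} (h : φ ∈ ST (fitting_normal S).1) (h' : ψ ∈ ST (fitting_normal S).1) :
    φ - ψ ∈ CS (ST (fitting_normal S).1) ∧ (φ - ψ) 1 = 0 :=
  ⟨sub_mem (mem_CS h) (mem_CS h'), by rw [Pi.sub_apply, deg_ST maxS hP h, deg_ST maxS hP h', sub_self]⟩

/-- Peterfalvi (13.5) -/
theorem split1 {ν : (S → ℂ) →ₗ[ℂ] (G → ℂ)}
    (hν : ∀ α ∈ CS (SP S (fittingHallOf S) ⊥), α 1 = 0 → ν α = tau0 S α) {ζ₁ : S → ℂ}
    (h₁ : ζ₁ ∈ SD (fitting_normal S).1 (fittingHallOf S) ⊥) {χ : G → ℂ} (hχ : χ ∈ ZIrr G) {a : ℤ}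
    (ha : ⟪χ, ν ζ₁⟫ = a)
    (ho : ∀ ζ ∈ SD (fitting_normal S).1 (fittingHallOf S) ⊥, ζ ≠ ζ₁ → ⟪χ, ν ζ⟫ = 0) :
    ∃ (b : ℤ) (m t : ℕ), m * nrm ζ₁ = cardUbar S U * Nat.card W₁ ∧
      (∀ x : S, (x : G) ∈ sharp (fittingHallOf S) → χ x = a / nrm ζ₁ * ζ₁ x + b) ∧
      ssq (sharp (fittingOf S)) χ = Nat.card (fittingOf S) * (a ^ 2 * m + t) - (a * m + b) ^ 2 ∧
      (Nat.card (fittingHallOf S) * b ^ 2 : ℝ) ≤ Nat.card (fittingOf S) * t ∧ (t = 1 → b ^ 2 = 1) := by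
  have := abelH maxS hP
  have := normalSub (Fcore_norm S)
  have e : SD (fitting_normal S).1 (fittingHallOf S) ⊥ =
      seqIndD (Subgroup.inclusion (fitting_normal S).1) ((fittingHallOf S).subgroupOf S) ⊥ := by
    rw [SD, Subgroup.bot_subgroupOf]
  obtain ⟨α, b, m, zα, kα, hb, h1, h2, h3, h4⟩ := split_abelian (Subgroup.inclusion (fitting_normal S).1)
    (subOf_le_range _ (Fcore_sub_Fitting S)) (ZIrr.comp hχ S.subtype) (e ▸ h₁) (a := a) fun ζ hζ ne => by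
      rw [← e] at hζ
      obtain ⟨h5, h6⟩ := sub_mem_ST maxS hP (SD_sub_ST _ _ _ h₁) (SD_sub_ST _ _ _ hζ)
      rw [← frob_rec' _ _ (ZIrr.mem_CF hχ), ← tau_eq_ind maxS hP h5 h6,
        ← hν _ (sub_mem (S1_sub_CS hP h₁) (S1_sub_CS hP hζ)) h6, map_sub, dot_sub_right, ha, ho ζ hζ ne,
        sub_zero]
  obtain ⟨t, ht⟩ := ZIrr.nrm_nat zα
  refine ⟨b, m, t, ?_, fun x hx => ?_, ?_, ?_, fun t1 => ?_⟩
  · rw [h1, index_range_incl, index_H maxS hP, Nat.cast_mul]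
  · have := h2 ⟨x, Fcore_sub_Fitting S hx.1⟩ fun e => hx.2 (congrArg Subtype.val e)
    rw [cfker_apply (kα (show (⟨x, Fcore_sub_Fitting S hx.1⟩ : fittingOf S) ∈ _ from hx.1)), hb] at this
    exact this
  · rw [ssq_sharp, ← ht]; exact h3
  · rwa [card_subgroupOf (Fcore_le S), ht] at h4
  · obtain ⟨ε, ψ, hε, iψ, rfl⟩ := (ZIrr.dirr_of_nrm_one zα (by rw [ht, t1, Nat.cast_one])).exists_sign
    obtain ⟨l, rfl⟩ := IsIrr.exists_lin iψ
    have : (b : ℂ) = ε := by rw [← hb]; simp [lin_apply]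
    obtain rfl : b = ε := by exact_mod_cast this
    rcases hε with rfl | rfl <;> norm_num

theorem two_u_le : 2 * cardUbar S U + 1 ≤ Nat.card (fittingHallOf S) := by
  have h1 := u_le maxS hP
  have h2 := geom_mul (pr_p maxS hP).two_le (Nat.card W₁)
  have h3 := three_le_p maxS hP
  have h4 : 1 ≤ Nat.card W₂ ^ Nat.card W₁ := Nat.one_le_pow _ _ (by omega)
  rw [(abelP maxS hP).2]
  have := Nat.mul_le_mul h1 (by omega : 2 ≤ Nat.card W₂ - 1)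
  omega

theorem int2_lb (b : ℤ) : (2 * cardUbar S U * b : ℝ) ≤ (Nat.card (fittingHallOf S) - 1) * b ^ 2 := by
  have h1 : (2 * cardUbar S U + 1 : ℝ) ≤ Nat.card (fittingHallOf S) := by exact_mod_cast two_u_le maxS hP
  have h2 : (b : ℝ) ≤ b ^ 2 := by exact_mod_cast Int.le_self_sq b
  have h3 : (0 : ℝ) ≤ cardUbar S U := by positivity
  nlinarith [sq_nonneg (b : ℝ)]

omit maxS in
theorem congr_W {ε : ℂ} (hε : IsPrimitiveRoot ε (Nat.card W₁)) {φ : S → ℂ} (hφ : φ ∈ ZIrr S) (y : W₁)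
    (x : W₂) : ∃ ω : ℂ, IsIntegral ℤ ω ∧ φ (wM hP (y, x)) - φ (wM hP (1, x)) = (1 - ε) * ω := by
  rw [hom_prod_mk]
  refine ZIrr.congr_mod_prim hφ Nat.card_pos.ne' hε ?_ (by rw [← hom_prod_mk, ← hom_prod_mk'])
  rw [← map_pow, Prod.pow_mk, pow_card_eq_one', one_pow]; exact map_one _

omit maxS in
theorem W2_sharp {x : W₂} (hx : x ≠ 1) : (wM hP (1, x) : G) ∈ sharp (fittingHallOf S) := by
  simpa [mem_sharp] using ⟨typeP_W2_le_F hP x.2, hx⟩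

variable {ν : (S → ℂ) →ₗ[ℂ] (G → ℂ)} {φ : S → ℂ}

section
variable (hν : CohWith (SP S (fittingHallOf S) ⊥) (tau0 S) ν)
  (hφ : φ ∈ SP S (fittingHallOf S) ⊥) (iφ : IsIrrCharacter S φ)
include hν hφ iφ

theorem coh_orth (i j) : ⟪ν φ, etaP hP i j⟫ = 0 :=
  coherent_ortho_cycTIiso maxS hP (S_sub_core maxS) (SD_conj (der_normalIn S)) hν hφ iφ i j

theorem coh_mu {j} (hj : j ≠ 1) : ∃ (ε : ℂ) (k : W₂ →* ℂˣ), (ε = 1 ∨ ε = -1) ∧ (k = j ∨ k = j⁻¹) ∧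
    ν (muS (wM hP) j) = ε • ∑ i, etaP hP i k := by
  rcases coherent_TIred maxS hP (S_sub_core maxS) (SD_conj (der_normalIn S)) hν hφ iφ
    (muS_mem_SP maxS hP hj) with h | ⟨h, -⟩
  · exact ⟨_, j, del_cases' _ j, Or.inl rfl, h⟩
  · exact ⟨-1, j⁻¹, Or.inr rfl, Or.inr rfl, by rw [h, FTprTIsign maxS hP]; simp⟩

/-- Peterfalvi (13.6) -/
theorem sum_Ind_lb (hφ' : φ ∈ ST (fitting_normal S).1) :
    (Nat.card S : ℝ) - (cardUbar S U * Nat.card W₁) ^ 2 ≤ ssq (sharp (fittingOf S)) (ν φ) := by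
  obtain ⟨b, m, t, h1, h2, h3, h4, -⟩ := split1 maxS hP hν.agree (mem_S1 hP hφ hφ') (hν.zirr φ hφ) (a := 1)
    (by rw [hν.iso φ hφ φ hφ, IsIrr.dot_self iφ, Int.cast_one]) fun ζ hζ ne => by
      rw [hν.iso' (mem_CS hφ) (S1_sub_CS hP hζ)]
      exact ST_orth (fitting_normal S) hφ' (SD_sub_ST _ _ _ hζ) ne.symm
  rw [IsIrr.nrm iφ] at h1 h2
  obtain ⟨x, hx⟩ := exists_ne_one_sub W₂ (pr_p maxS hP)
  obtain ⟨y, hy⟩ := exists_ne_one_sub W₁ (pr_q maxS hP)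
  have hε := Complex.isPrimitiveRoot_exp _ (pr_q maxS hP).ne_zero
  obtain ⟨ω₁, i₁, e₁⟩ := congr_W hP hε (ZIrr.comp (hν.zirr φ hφ) S.subtype) y x
  obtain ⟨ω₂, i₂, e₂⟩ := congr_W hP hε (IsIrr.mem_ZIrr iφ) y x
  have v₁ : ν φ (wG hP (y, x)) = 0 := (FT_fam hP).vanish_of_orth (ZIrr.mem_CF (hν.zirr φ hφ))
    (coh_orth maxS hP hν hφ iφ) hy hx
  have v₂ : φ (wM hP (y, x)) = 0 := SD_eq_zero (der_normalIn S) hφ fun h =>
    hy (((FT_primeTI hP).mem_range_iff y x).mp ((mem_range_incl _).mpr h))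
  obtain ⟨b', rfl⟩ : (Nat.card W₁ : ℤ) ∣ b := prime_dvd_of_one_sub_dvd (pr_q maxS hP) hε (i₂.sub i₁) (by
    have e₃ := h2 _ (W2_sharp hP hx)
    have e₄ : (ν φ ∘ S.subtype) (wM hP (y, x)) = 0 := v₁
    have e₅ : (ν φ ∘ S.subtype) (wM hP (1, x)) = ν φ (wM hP (1, x)) := rfl
    rw [e₄, e₅, e₃] at e₁
    rw [v₂] at e₂
    push_cast at e₁
    linear_combination e₂ - e₁)
  have h5 := mul_le_mul_of_nonneg_left (int2_lb maxS hP b') (sq_nonneg (Nat.card W₁ : ℝ))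
  rw [h3, card_S maxS hP]
  rw [mul_one] at h1
  push_cast at h4 ⊢
  rw [h1]
  nlinarith

/-- Peterfalvi (13.7) -/
theorem sum_eta10_lb (i : W₁ →* ℂˣ) :
    (Nat.card (fittingOf S) : ℝ) - 1 ≤ ssq (sharp (fittingOf S)) (etaP hP i 1) := by
  have o : ∀ ζ ∈ SD (fitting_normal S).1 (fittingHallOf S) ⊥, ⟪etaP hP i 1, ν ζ⟫ = 0 := fun ζ hζ => by
    refine dot_comm_zero (dot_map_CS_eq_zero ν (fun ψ hψ => ?_) (S1_sub_CS hP hζ))
    rcases SP_cases maxS hP hψ with ⟨j, hj, rfl⟩ | ⟨h, -⟩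
    · obtain ⟨ε, k, -, hk, e⟩ := coh_mu maxS hP hν hφ iφ hj
      have : k ≠ 1 := by rcases hk with rfl | rfl; exacts [hj, inv_ne_one.mpr hj]
      rw [e, dot_smul_left, dot_sum_left]
      simp [(FT_fam hP).orth, this]
    · exact coh_orth maxS hP hν hψ h i 1
  obtain ⟨j, hj⟩ := exists_lin_ne W₂ (pr_p maxS hP)
  have hμ := mem_S1 hP (muS_mem_SP maxS hP hj) (muS_ST maxS hP hj)
  obtain ⟨b, m, t, -, h2, h3, h4, h5⟩ := split1 maxS hP hν.agree hμ ((FT_fam hP).zirr i 1) (a := 0)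
    (by rw [o _ hμ, Int.cast_zero]) fun ζ hζ _ => o ζ hζ
  obtain ⟨x, hx⟩ := exists_ne_one_sub W₂ (pr_p maxS hP)
  obtain ⟨y, hy⟩ := exists_ne_one_sub W₁ (pr_q maxS hP)
  have hε := Complex.isPrimitiveRoot_exp _ (pr_q maxS hP).ne_zero
  obtain ⟨ω₁, i₁, e₁⟩ := congr_W hP hε (ZIrr.comp ((FT_fam hP).zirr i 1) S.subtype) y x
  obtain ⟨ω₂, i₂, e₂⟩ := one_sub_dvd_of_pow_eq_one (pr_q maxS hP).ne_zero hε (z := i y) (by
    rw [← Units.val_pow_eq_pow_val, ← map_pow, pow_card_eq_one', map_one, Units.val_one])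
  have b0 : b ≠ 0 := by
    rintro rfl
    have : (Nat.card W₁ : ℤ) ∣ 1 := prime_dvd_of_one_sub_dvd (pr_q maxS hP) hε (i₁.sub i₂) (by
      have e₃ := h2 _ (W2_sharp hP hx)
      have e₄ : (etaP hP i 1 ∘ S.subtype) (wM hP (y, x)) = _ := (FT_fam hP).eq_on i 1 hy hx
      have e₅ : (etaP hP i 1 ∘ S.subtype) (wM hP (1, x)) = etaP hP i 1 (wM hP (1, x)) := rfl
      rw [e₄, e₅, e₃] at e₁
      simp only [MonoidHom.one_apply, Units.val_one, mul_one, Int.cast_zero, zero_div, zero_mul,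
        add_zero, sub_zero] at e₁
      push_cast
      linear_combination e₁ - e₂)
    exact (pr_q maxS hP).ne_one (Nat.eq_one_of_dvd_one (by exact_mod_cast this))
  have b1 : (1 : ℝ) ≤ b ^ 2 := by exact_mod_cast (one_le_sq_iff_one_le_abs b).mpr (Int.one_le_abs b0)
  have p2 : (2 : ℝ) ≤ Nat.card (fittingHallOf S) := by
    exact_mod_cast one_lt_card (mmax_Fcore_neq1 maxS)
  have h0 : (0 : ℝ) < Nat.card (fittingOf S) := by exact_mod_cast Nat.card_pos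
  rw [h3]
  push_cast
  rcases (by omega : t = 0 ∨ t = 1 ∨ 2 ≤ t) with rfl | rfl | t2
  · rw [Nat.cast_zero] at h4
    nlinarith
  · have : (b : ℝ) ^ 2 = 1 := by exact_mod_cast h5 rfl
    rw [Nat.cast_one]
    nlinarith
  · have : (2 : ℝ) ≤ t := by exact_mod_cast t2
    nlinarith

/-- Peterfalvi (13.9)(a) -/
theorem cover_G0 (hφ' : φ ∈ ST (fitting_normal S).1) {i₀ : W₁ →* ℂˣ} (hi₀ : i₀ ≠ 1) {x : G}
    (hx : x ∉ classSupport (sharp (fittingOf S)) ⊤) : etaP hP i₀ 1 x ≠ 0 ∨ ν φ x ≠ 0 := by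
  by_contra hc
  obtain ⟨h1, h2⟩ := not_or.mp hc
  rw [not_not] at h1 h2
  have F := FT_fam hP
  have cq : Nat.card (W₁ →* ℂˣ) = Nat.card W₁ := by rw [← F.card_lin1, Nat.card_eq_fintype_card]
  have h3 : ∀ i, i ≠ 1 → etaP hP i 1 x = 0 := fun i hi => by
    have := Fact.mk (pr_q maxS hP)
    obtain ⟨k, rfl⟩ := mem_powers_of_prime_card cq (g' := i) hi₀
    have hq : i₀ ^ Nat.card W₁ = 1 := lin_pow_card_eq_one i₀
    obtain ⟨σ, hσ⟩ := F.exists_aut_pow (j := 1) (k := k) (pr_q maxS hP).ne_zero hq (one_pow _)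
      (((pr_q maxS hP).coprime_iff_not_dvd.mpr fun ⟨c, e⟩ => hi (by
        simp only [e, pow_mul, hq, one_pow])).symm)
    rw [one_pow] at hσ
    simp only [hσ, Function.comp_apply, h1, map_zero]
  obtain ⟨j, hj⟩ := exists_lin_ne W₂ (pr_p maxS hP)
  obtain ⟨ε, k, hε, hk, e⟩ := coh_mu maxS hP hν hφ iφ hj
  have h4 : ∑ i, etaP hP i k x = 0 := by
    obtain ⟨a, b⟩ := sub_mem_ST maxS hP (muS_ST maxS hP hj) hφ'
    have := tau_vanish maxS hP a b hx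
    rw [hν.agree_sub (muS_mem_SP maxS hP hj) hφ (sub_eq_zero.mp b), Pi.sub_apply, h2, sub_zero, e,
      Pi.smul_apply, Finset.sum_apply, smul_eq_mul] at this
    rcases hε with rfl | rfl <;> simpa using this
  have h5 : ∀ i, 1 - etaP hP i 1 x - etaP hP 1 k x + etaP hP i k x = 0 := fun i => by
    refine (congrFun (F.ind_al i k) x).symm.trans (ind_eq_zero fun w hw => by_contra fun h => ?_)
    have := F.eq_on i₀ 1 (al_supp i k w h).1 (al_supp i k w h).2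
    rw [CF_isConj (F.mem_CF i₀ 1) hw, h1] at this
    simpa using this.symm
  have h6 := Finset.sum_eq_zero (s := Finset.univ) fun i _ => h5 i
  rw [Finset.sum_add_distrib, h4, Finset.sum_sub_distrib, Finset.sum_sub_distrib,
    Finset.sum_eq_single 1 (fun i _ hi => h3 i hi) (by simp), F.one] at h6
  simp only [Finset.sum_const, Finset.card_univ, F.card_lin1, nsmul_eq_mul, mul_one, Pi.one_apply,
    add_zero] at h6
  have q0 : (Nat.card W₁ : ℂ) ≠ 0 := by exact_mod_cast Nat.card_pos.ne'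
  have h7 := int_dvd_of_isIntegral_div (a := Nat.card W₁ - 1) (b := Nat.card W₁)
    (by exact_mod_cast Nat.card_pos.ne') (by
      convert ZIrr.isIntegral (F.zirr 1 k) x using 1
      push_cast
      rw [div_eq_iff q0]; linear_combination h6)
  have h8 : (Nat.card W₁ : ℤ) ∣ 1 := by simpa using dvd_sub (dvd_refl _) h7
  exact (pr_q maxS hP).ne_one (Nat.eq_one_of_dvd_one (by exact_mod_cast h8))

end

/-- Peterfalvi (13.8), when `𝒮` only contains reducible characters -/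
theorem sum_eta01_lb (red : ∀ φ ∈ SP S (fittingHallOf S) ⊥, ∃ j, j ≠ 1 ∧ φ = muS (wM hP) j)
    {j : W₂ →* ℂˣ} (hj : j ≠ 1) :
    (Nat.card ↥⁅S, S⁆ : ℝ) - cardUbar S U ^ 2 ≤ ssq (sharp (fittingOf S)) (etaP hP 1 j) := by
  have F := FT_fam hP
  have T := FT_primeTI hP
  have q0 : (Nat.card W₁ : ℂ) ≠ 0 := by exact_mod_cast Nat.card_pos.ne'
  let ν : (S → ℂ) →ₗ[ℂ] (G → ℂ) :=
    ∑ k, (dotLeft (muS (wM hP) k)).smulRight ((Nat.card W₁ : ℂ)⁻¹ • ∑ i, etaP hP i k)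
  have ν1 : ∀ ζ, ⟪ν ζ, etaP hP 1 j⟫ = ⟪ζ, muS (wM hP) j⟫ / Nat.card W₁ := fun ζ => by
    simp [ν, dot_sum_left, dot_smul_left, F.orth, ite_and, div_eq_mul_inv]
  have ν2 : ∀ k, ν (muS (wM hP) k) = ∑ i, etaP hP i k := fun k => by
    simp [ν, T.dot_muS, smul_smul, q0]
  have d : ∀ k, k ≠ 1 → muS (wM hP) k 1 = muS (wM hP) j 1 := fun k hk => by
    rw [FTprTIred1 maxS hP hk, FTprTIred1 maxS hP hj]
  have d0 : muS (wM hP) j 1 ≠ 0 := ST_deg_ne_zero (fitting_normal S) (muS_ST maxS hP hj)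
  have hμ := mem_S1 hP (muS_mem_SP maxS hP hj) (muS_ST maxS hP hj)
  obtain ⟨b, m, t, h1, -, h3, h4, -⟩ := split1 maxS hP (ν := ν) (fun α hα h1 =>
    lin_eq_of_base d0 (fun φ hφ => by
      obtain ⟨k, hk, rfl⟩ := red φ hφ
      rw [d k hk, div_self d0, one_smul, (FT_prDadeF maxS hP).dade_muS_sub hk hj (d k hk), map_sub, ν2, ν2,
        FTprTIsign maxS hP, Int.cast_one, one_smul]) hα h1) hμ (F.zirr 1 j) (a := 1)
    (dot_comm_of_int (by rw [ν1, T.dot_muS, if_pos rfl, div_self q0, Int.cast_one])) fun ζ hζ ne =>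
      dot_comm_zero (by rw [ν1, SD_orth (fitting_normal S) hζ hμ ne, zero_div])
  rw [T.nrm_muS] at h1
  have h2 : (m : ℝ) = cardUbar S U := mul_right_cancel₀ (by exact_mod_cast Nat.card_pos.ne') h1
  have h5 := int2_lb maxS hP b
  rw [h3, card_der maxS hP, h2]
  push_cast
  nlinarith

omit maxS hP in
theorem pow_mem_ccl {H : Subgroup G} (x : G) (k : ℕ) (hk : k.Coprime (Nat.card G)) :
    x ^ k ∈ classSupport (sharp H) ⊤ ↔ x ∈ classSupport (sharp H) ⊤ := by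
  have key : ∀ (y : G) (n : ℕ), y ∈ classSupport (sharp H) ⊤ → y ^ n ≠ 1 →
      y ^ n ∈ classSupport (sharp H) ⊤ := by
    rintro _ n ⟨a, ha, g, -, rfl⟩ h
    rw [conj_pow] at h ⊢
    exact ⟨a ^ n, ⟨pow_mem ha.1 n, fun e => h (by rw [e]; group)⟩, g, trivial, rfl⟩
  have ne : ∀ y ∈ classSupport (sharp H) ⊤, y ≠ 1 := by
    rintro _ ⟨a, ha, g, -, rfl⟩ h
    exact ha.2 (by simpa using h)
  obtain ⟨m, hm⟩ := exists_pow_eq_self_of_coprime (hk.coprime_dvd_right (orderOf_dvd_natCard x))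
  refine ⟨fun h => hm ▸ key _ m h ?_, fun h => key _ k h fun e => ne x h ?_⟩
  · rw [hm]; rintro rfl; exact ne _ h (one_pow k)
  · rw [← hm, e, one_pow]

variable {T V : Subgroup G} (maxT : IsCoatom T) (hT : IsTypePWith T W₂ V W₁)
include maxT hT

theorem disj_Fit : Disjoint (classSupport (sharp (fittingOf S)) ⊤) (classSupport (sharp (fittingOf T)) ⊤) := by
  rw [Set.disjoint_left]
  rintro _ ⟨a, ha, g, -, rfl⟩ ⟨b, hb, h, -, e⟩
  have h1 : fittingHallOf S :^ (h⁻¹ * g) ≤ T := by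
    refine le_trans ?_ (NormedTI_cent_le (tiH maxT hT) hb)
    rw [show b = h⁻¹ * g * a * (h⁻¹ * g)⁻¹ by
      rw [show b = h⁻¹ * (h * b * h⁻¹) * h by group, ← e]; group, ← conjg_cent1]
    exact conjg_mono _ ((Fcore_sub_Fitting S).trans ((abelian_iff_le_cent.mp (abelH maxS hP)).trans
      (cent_le_cent_singleton ha.1)))
  have h2 := Subgroup.card_dvd_of_le h1
  have h3 := (typeP_der_Hall hT).2
  rw [typeP_relIndex_der hT] at h3
  rw [card_conjg, (abelP maxS hP).2, ← (typeP_sdprod_M hT).card_mul] at h2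
  have h4 := Nat.le_of_dvd Nat.card_pos ((h3.symm.pow_left _).dvd_of_dvd_mul_left h2)
  have h5 := Nat.pow_lt_pow_right (pr_p maxS hP).one_lt (pr_q maxS hP).one_lt
  rw [pow_one] at h5
  omega

theorem tau_orth {α : S → ℂ} (hα : α ∈ CS (ST (fitting_normal S).1) ∧ α 1 = 0) {β : T → ℂ}
    (hβ : β ∈ CS (ST (fitting_normal T).1) ∧ β 1 = 0) : ⟪tau0 S α, tau0 T β⟫ = 0 :=
  dot_eq_zero_of_disjoint fun g => by
    by_cases h : g ∈ classSupport (sharp (fittingOf S)) ⊤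
    · exact Or.inr (tau_vanish maxT hT hβ.1 hβ.2 (Set.disjoint_left.mp (disj_Fit maxS hP maxT hT) h))
    · exact Or.inl (tau_vanish maxS hP hα.1 hα.2 h)

/-- Peterfalvi (13.4) -/
theorem noInd_T (h : HasInd S) : ¬ HasInd T := by
  rintro ⟨θ, hθ, iθ, hθ'⟩
  obtain ⟨φ, hφ, iφ, hφ'⟩ := h
  obtain ⟨ν, hν⟩ := cohS maxS hP
  obtain ⟨ν', hν'⟩ := cohS maxT hT
  have aux : ∀ {S W₁ U W₂ : Subgroup G} (maxS : IsCoatom S) (hP : IsTypePWith S W₁ U W₂)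
      {ν : (S → ℂ) →ₗ[ℂ] (G → ℂ)} {φ : S → ℂ} (hν : CohWith (SP S (fittingHallOf S) ⊥) (tau0 S) ν)
      (hφ : φ ∈ SP S (fittingHallOf S) ⊥) (iφ : IsIrrCharacter S φ) (hφ' : φ ∈ ST (fitting_normal S).1),
      Dirr (ν φ) ∧ Dirr (ν (conjFun φ)) ∧ ⟪ν φ, ν (conjFun φ)⟫ = 0 ∧
      tau0 S (φ - conjFun φ) = ν φ - ν (conjFun φ) ∧ ν φ 1 = ν (conjFun φ) 1 := by
    intro S W₁ U W₂ maxS hP ν φ hν hφ iφ hφ'
    have c := SD_conj (der_normalIn S) φ hφ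
    have e := hν.agree_sub hφ c (sub_eq_zero.mp (sub_mem_ST maxS hP hφ' (ST_conj (fitting_normal S) hφ')).2)
    refine ⟨hν.dirr hφ iφ, hν.dirr c (IsIrr.conjFun iφ), ?_, e, ?_⟩
    · rw [hν.iso _ hφ _ c]
      exact SD_orth (der_normalIn S) hφ c (SD_conj_ne (der_normalIn S) (mFT_odd S) φ hφ).symm
    · rw [← sub_eq_zero, ← Pi.sub_apply, ← e]; exact Dade.dade_one (FT_Dade0_hyp maxS) _
  obtain ⟨a1, a2, a3, a4, a5⟩ := aux maxS hP hν hφ iφ hφ'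
  obtain ⟨b1, b2, b3, b4, b5⟩ := aux maxT hT hν' hθ iθ hθ'
  have o := (dirr_diff_ortho a1 a2 b1 b2 a3 b3 (by
    rw [← a4, ← b4]
    exact tau_orth maxS hP maxT hT (sub_mem_ST maxS hP hφ' (ST_conj (fitting_normal S) hφ'))
      (sub_mem_ST maxT hT hθ' (ST_conj (fitting_normal T) hθ'))) a5 b5).1
  obtain ⟨j, hj⟩ := exists_lin_ne W₂ (pr_p maxS hP)
  obtain ⟨i, hi⟩ := exists_lin_ne W₁ (pr_q maxS hP)
  obtain ⟨ε, k, hε, -, e⟩ := coh_mu maxS hP hν hφ iφ hj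
  obtain ⟨ε', l, hε', -, e'⟩ := coh_mu maxT hT hν' hθ iθ hi
  have s1 := sub_mem_ST maxS hP (muS_ST maxS hP hj) hφ'
  have s2 := sub_mem_ST maxT hT (muS_ST maxT hT hi) hθ'
  have o2 := tau_orth maxS hP maxT hT s1 s2
  have o3 := fun i j => coh_orth maxS hP hν hφ iφ i j
  have o4 : ∀ i j, ⟪etaP hP i j, ν' θ⟫ = 0 := fun i j => by
    rw [← etaP_swap hP hT]; exact dot_comm_zero (coh_orth maxT hT hν' hθ iθ j i)
  rw [hν.agree_sub (muS_mem_SP maxS hP hj) hφ (sub_eq_zero.mp s1.2),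
    hν'.agree_sub (muS_mem_SP maxT hT hi) hθ (sub_eq_zero.mp s2.2), e, e'] at o2
  simp only [etaP_swap hP hT, dot_sub_left, dot_sub_right, dot_smul_left, dot_smul_right, dot_sum_left,
    dot_sum_right, o, o3, o4, (FT_fam hP).orth, ite_and] at o2
  rcases hε with rfl | rfl <;> rcases hε' with rfl | rfl <;> simp at o2

/-- Peterfalvi (13.10) -/
theorem ratio_lb (h : HasInd S) :
    mm (Nat.card W₂) (Nat.card W₁) * Nat.card W₂ ^ (Nat.card W₁ - 1) *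
      Nat.card ↥(U ⊓ 𝒞(fittingHallOf S)) < cardUbar S U * Nat.card W₁ := by
  obtain ⟨-, D1, hv, red⟩ := noInd_facts maxT hT (noInd_T maxS hP maxT hT h)
  obtain ⟨φ, hφ, iφ, hφ'⟩ := h
  obtain ⟨ν, hν⟩ := cohS maxS hP
  obtain ⟨i, hi⟩ := exists_lin_ne W₁ (pr_q maxS hP)
  have F := FT_fam hP
  set A := classSupport (sharp (fittingOf S)) ⊤
  set B := classSupport (sharp (fittingOf T)) ⊤
  have split : ∀ χ ∈ CF G, nrm χ = 1 → (Nat.card G : ℝ) = ssq (A ∪ B)ᶜ χ +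
      S.index * ssq (sharp (fittingOf S)) χ + T.index * ssq (sharp (fittingOf T)) χ := fun χ hχ n => by
    rw [← ssq_TI (tiH maxS hP) hχ, ← ssq_TI (tiH maxT hT) hχ, ← ssq_split _ _ (disj_Fit maxS hP maxT hT),
      ssq_univ, n, mul_one]
  have e0 := split 1 (one_mem _) (IsIrr.nrm one_irr)
  have e1 := split _ (ZIrr.mem_CF (hν.zirr φ hφ)) (hν.dirr hφ iφ).nrm
  have e2 := split _ (F.mem_CF i 1) (F.dirr i 1).nrm
  have l1 := sum_Ind_lb maxS hP hν hφ iφ hφ'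
  have l2 := sum_eta10_lb maxS hP hν hφ iφ i
  have l3 := sum_eta01_lb maxT hT red hi
  rw [etaP_swap hP hT] at l3
  have cl : ∀ x k, k.Coprime (Nat.card G) → (x ^ k ∈ (A ∪ B)ᶜ ↔ x ∈ (A ∪ B)ᶜ) := fun x k hk => by
    simp only [Set.mem_compl_iff, Set.mem_union, A, B, pow_mem_ccl x k hk]
  have l4 := ncard_le_ssq cl (hν.zirr φ hφ)
  have l5 := ncard_le_ssq cl (F.zirr i 1)
  have l6 : (A ∪ B)ᶜ.ncard + 1 ≤ {x ∈ (A ∪ B)ᶜ | ν φ x ≠ 0}.ncard + {x ∈ (A ∪ B)ᶜ | etaP hP i 1 x ≠ 0}.ncard := by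
    rw [← Set.ncard_union_add_ncard_inter]
    refine Nat.add_le_add (Set.ncard_le_ncard fun x hx => ?_) ((Set.ncard_pos).mpr ⟨1, ?_⟩)
    · rcases cover_G0 maxS hP hν hφ iφ hφ' hi fun h => hx (Or.inl h) with h | h
      exacts [Or.inr ⟨hx, h⟩, Or.inl ⟨hx, h⟩]
    · have : (1 : G) ∈ (A ∪ B)ᶜ := by
        rintro (⟨a, ha, g, -, e⟩ | ⟨a, ha, g, -, e⟩) <;> exact ha.2 (by simpa using e.symm)
      exact ⟨⟨this, (hν.dirr hφ iφ).deg_ne_zero⟩, this, (F.dirr i 1).deg_ne_zero⟩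
  have l7 := (Nat.cast_le (α := ℝ)).mpr l6
  rw [Nat.cast_add, Nat.cast_add, Nat.cast_one] at l7
  rw [ssq_one, ssq_one, ssq_one, ncard_sharp, ncard_sharp, Nat.cast_pred Nat.card_pos,
    Nat.cast_pred Nat.card_pos] at e0
  have cS : (S.index : ℝ) * Nat.card S = Nat.card G := by exact_mod_cast S.index_mul_card
  have cT : (T.index : ℝ) * Nat.card T = Nat.card G := by exact_mod_cast T.index_mul_card
  have s0 : (0 : ℝ) < S.index := by exact_mod_cast index_pos S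
  have t0 : (0 : ℝ) < T.index := by exact_mod_cast index_pos T
  have cK : Nat.card (fittingOf T) = Nat.card W₁ ^ Nat.card W₂ := by
    rw [card_H maxT hT, D1, Subgroup.card_bot, mul_one]
  have gv := geom_real (pr_q maxS hP).two_le (Nat.card W₂)
  rw [← hv] at gv
  have m1 := mul_le_mul_of_nonneg_left l1 s0.le
  have m2 := mul_le_mul_of_nonneg_left l2 s0.le
  have m3 := mul_le_mul_of_nonneg_left l3 t0.le
  rw [card_der maxT hT, cK] at m3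
  rw [cK] at e0
  rw [card_S maxT hT, cK] at cT
  rw [mul_sub, cS] at m1
  rw [card_S maxS hP, card_H maxS hP] at cS
  push_cast at e0 m3 cT cS
  set p : ℝ := ((Nat.card W₂ : ℕ) : ℝ) with hp
  set q : ℝ := ((Nat.card W₁ : ℕ) : ℝ) with hq
  set u : ℝ := ((cardUbar S U : ℕ) : ℝ) with hu
  set v : ℝ := ((cardUbar T V : ℕ) : ℝ)
  set c : ℝ := ((Nat.card ↥(U ⊓ 𝒞(fittingHallOf S)) : ℕ) : ℝ)
  set k : ℝ := q ^ Nat.card W₂
  have q3 : 3 ≤ q := by rw [hq]; exact_mod_cast three_le_q maxS hP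
  have p3 : 3 ≤ p := by rw [hp]; exact_mod_cast three_le_p maxS hP
  have u0 : 0 < u := by rw [hu]; exact_mod_cast u_pos
  have k0 : 0 < k := by positivity
  have hm : mm (Nat.card W₂) (Nat.card W₁) * k = k - v - (q - 1) := by
    have : q - 1 ≠ 0 := by linarith
    have hv' : v = (k - 1) / (q - 1) := by rw [eq_div_iff this, gv]
    rw [mm, hv', ← hq]; field_simp; ring
  have pq : p ^ Nat.card W₁ = p ^ (Nat.card W₁ - 1) * p := by
    rw [← pow_succ, Nat.sub_add_cancel Nat.card_pos]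
  have k1 : T.index * (v * (k - v - (q - 1))) < S.index * (u * q) ^ 2 := by
    have := mul_nonneg t0.le (ssq_nonneg (sharp (fittingOf T)) (ν φ))
    have : T.index * (v * (q - 1)) = T.index * (k - 1) := by rw [gv]
    linarith
  have k2 : T.index * (v * k) = S.index * (p ^ (Nat.card W₁ - 1) * c * (u * q)) := by
    refine mul_right_cancel₀ (by linarith : p ≠ 0) ?_
    rw [pq] at cS
    linarith
  rw [← hm] at k1
  refine lt_of_mul_lt_mul_left (a := S.index * (u * q)) ?_ (by positivity)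
  have k3 := congrArg (· * mm (Nat.card W₂) (Nat.card W₁)) k2
  linarith

end CA.PF.P13
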