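import Cfsg.Agent.PF.P13b

/-!
# Peterfalvi (13.12) - (13.17)
-/

set_option autoImplicit false
set_option linter.unusedSectionVars false

open scoped ComplexConjugate

open Cfsg CA.FG CA.BG CA.Chr

namespace CA.PF.P13

universe u

variable {G : Type u} [Group G] [MinSimpleOdd G] {S W₁ U W₂ : Subgroup G} (maxS : IsCoatom S)
  (hP : IsTypePWith S W₁ U W₂)
include maxS hP

theorem ratio (h : HasInd S) : mm (Nat.card W₂) (Nat.card W₁) * Nat.card W₂ ^ (Nat.card W₁ - 1) *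
    Nat.card ↥(U ⊓ 𝒞(fittingHallOf S)) < cardUbar S U * Nat.card W₁ := by
  obtain ⟨T, pair, V, hT⟩ := FTtypeP_pair_witness maxS hP
  exact ratio_lb maxS hP pair.maxT hT h

theorem coprime_pU : (Nat.card W₂).Coprime (Nat.card U) := by
  have := typeP_coprime_HU hP
  rwa [(abelP maxS hP).2, Nat.coprime_pow_left_iff Nat.card_pos] at this

theorem gal_dvd (h : TypePGalois S U) :
    cardUbar S U ∣ (Nat.card W₂ ^ Nat.card W₁ - 1) / (Nat.card W₂ - 1) :=
  primeH_eq maxS hP ▸ (typeP_Galois_P maxS hP (FTtype5_exclusion maxS) h).2.2.2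

/-- Peterfalvi (13.12) -/
theorem FTtypeP_reg_Fcore : U ⊓ 𝒞(fittingHallOf S) = ⊥ := by
  by_cases h : HasInd S
  swap
  · exact (noInd_facts maxS hP h).2.1
  by_contra ntC
  have c2 : 2 ∣ Nat.card ↥(U ⊓ 𝒞(fittingHallOf S)) - 1 :=
    even_iff_two_dvd.mp (Nat.Odd.sub_odd (mFT_odd _) odd_one)
  have c3 := Nat.Coprime.mul_dvd_of_dvd_of_dvd (Nat.coprime_two_left.mpr (mFT_odd W₁)) c2 (q_dvd_C hP)
  have q3 := three_le_q maxS hP
  obtain ⟨hq, hp, hc⟩ := num_reg (pr_p maxS hP) (pr_q maxS hP) (card_ne_two _) (card_ne_two _)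
    (p_ne_q maxS hP) (ratio maxS hP h)
    (Eq.trans ((Nat.modEq_iff_dvd' Nat.card_pos).mpr c3).symm (Nat.mod_eq_of_lt (by omega)))
    (one_lt_card ntC).ne' (u_le maxS hP) fun d => (pr_p maxS hP).ne_one
      ((coprime_pU maxS hP).eq_one_of_dvd (d.trans (Subgroup.card_dvd_of_le inf_le_left)))
  have co : Nat.Coprime 7 (cardUbar S U) := by
    by_cases gal : TypePGalois S U
    · have := gal_dvd maxS hP gal
      rw [hq, hp] at this
      exact Nat.Coprime.coprime_dvd_right this (by norm_num)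
    · obtain ⟨H₁, a, ha⟩ := typeP_Galois_Pn maxS hP (FTtype5_exclusion maxS) gal
      obtain ⟨h1, h2, -⟩ := nonGal_dvd maxS hP ha
      rw [hp] at h2
      exact Nat.Coprime.coprime_dvd_right h1
        (Nat.Coprime.pow_right _ (Nat.Coprime.coprime_dvd_right h2 (by norm_num)))
  have hall : IsHallOf (U ⊓ 𝒞(fittingHallOf S)) U :=
    ⟨inf_le_left, by rw [hc, ← kerC_eq maxS hP]; exact co⟩
  have nC : U ⊔ W₁ ≤ 𝒩(U ⊓ 𝒞(fittingHallOf S)) :=
    kerC_eq maxS hP ▸ (Ptype_Fcompl_kernel_normal maxS hP (FTtype5_exclusion maxS)).1.2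
  have nCS : U ⊓ 𝒞(fittingHallOf S) ⊲ S := by
    refine ⟨inf_le_left.trans ((typeP_U_le_der hP).trans (der_le S)), ?_⟩
    conv_lhs => rw [← (typeP_sdprod_UW1 hP).1.sup_eq]
    exact sup_le (norm_of_cent' inf_le_right) nC
  refine (compl_of_typeII maxS hP ((type23 maxS hP).2 (by omega))).2.2.1 ?_
  rw [← mmax_normal maxS nCS ntC, ← hall.pHall.pcore_eq (le_sup_left.trans nC)]
  exact norm_pcore _ le_rfl

theorem Ptype_Fcompl_kernel_trivial : kerC S U = ⊥ ∧ cardUbar S U = Nat.card U := by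
  have := card_U maxS hP
  rw [FTtypeP_reg_Fcore maxS hP, Subgroup.card_bot, one_mul] at this
  exact ⟨(kerC_eq maxS hP).trans (FTtypeP_reg_Fcore maxS hP), this⟩

theorem ratio' (h : HasInd S) : mm (Nat.card W₂) (Nat.card W₁) * Nat.card W₂ ^ (Nat.card W₁ - 1) <
    cardUbar S U * Nat.card W₁ := by
  have := ratio maxS hP h
  rwa [FTtypeP_reg_Fcore maxS hP, Subgroup.card_bot, Nat.cast_one, mul_one] at this

/-- Peterfalvi (13.13) -/
theorem FTtypeP_nonGalois_facts (h : ¬ TypePGalois S U) :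
    Nat.card W₁ = 3 ∧ Nat.card U = ((Nat.card W₂ - 1) / 2) ^ 2 := by
  obtain ⟨H₁, a, ha⟩ := typeP_Galois_Pn maxS hP (FTtype5_exclusion maxS) h
  obtain ⟨h1, h2, h3⟩ := nonGal_dvd maxS hP ha
  rw [← (Ptype_Fcompl_kernel_trivial maxS hP).2]
  exact num_nonGalois (pr_p maxS hP) (pr_q maxS hP) (card_ne_two _) (card_ne_two _) (p_ne_q maxS hP)
    (ratio' maxS hP (by_contra fun n => h (noInd_facts maxS hP n).1)) h1 h2 h3

/-- Peterfalvi (13.15) -/
theorem card_FTtypeP_Galois_compl (h : TypePGalois S U) :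
    Nat.card U = if Nat.card W₂ % Nat.card W₁ = 1 then
      (Nat.card W₂ ^ Nat.card W₁ - 1) / (Nat.card W₂ - 1) / Nat.card W₁
    else (Nat.card W₂ ^ Nat.card W₁ - 1) / (Nat.card W₂ - 1) := by
  obtain ⟨o, h1, h2⟩ := primes_mod_cases (pr_p maxS hP) (pr_q maxS hP) (card_ne_two _) (card_ne_two _)
  have hu := u_mod maxS hP
  have q3 := three_le_q maxS hP
  have nd : ¬ Nat.card W₁ ∣ cardUbar S U := fun d => by rw [Nat.mod_eq_zero_of_dvd d] at hu; omega
  rw [← (Ptype_Fcompl_kernel_trivial maxS hP).2]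
  by_cases hI : HasInd S
  swap
  · have e := (noInd_facts maxS hP hI).2.2.1
    rw [if_neg fun a => nd (e ▸ h1 a), e]
  obtain ⟨b, hb⟩ := gal_dvd maxS hP h
  rw [mul_comm] at hb
  have b2 := num_Galois (pr_p maxS hP) (pr_q maxS hP) (card_ne_two _) (card_ne_two _) (p_ne_q maxS hP)
    (ratio' maxS hP hI) hb hu
  have ob : Odd b := Nat.Odd.of_mul_left (hb ▸ o)
  have oq := mFT_odd W₁
  split_ifs with a
  · obtain ⟨k, rfl⟩ := ((pr_q maxS hP).dvd_mul.mp (hb ▸ h1 a)).resolve_right nd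
    have ok := Nat.Odd.of_mul_right ob
    have k2 : k ≤ 2 := Nat.le_of_mul_le_mul_left (b2.trans_eq (mul_comm _ _)) (by omega)
    obtain rfl : k = 1 := by rw [Nat.odd_iff] at ok; omega
    rw [hb, mul_one, Nat.mul_div_cancel_left _ (by omega)]
  · have h3 := (h2 a).2 b ⟨_, hb⟩
    have h4 := Nat.div_add_mod b (Nat.card W₁)
    generalize b / Nat.card W₁ = k at h4
    have k2 : k < 2 := Nat.lt_of_mul_lt_mul_left (a := Nat.card W₁) (by omega)
    rw [Nat.odd_iff] at ob oq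
    obtain rfl : b = 1 := by interval_cases k <;> omega
    rw [hb, one_mul]

theorem coprime_P_UW1 : (Nat.card (fittingHallOf S)).Coprime (Nat.card ↥(U ⊔ W₁)) :=
  (typeP_sdprod_UW1 hP).1.complIn.relIndex_left ▸ (Fcore_Hall S).2

theorem norm_W2_le : 𝒩(W₂) ≤ S := fun g hg => by
  obtain ⟨x, hx, x1⟩ := exists_mem_ne_one (typeP_W2_ne_bot hP)
  have sA : sharp W₂ ⊆ FTsupp0 S := fun y hy =>
    FTsupp1_sub0 maxS (Fcore_sub_FTsupp1 maxS ⟨typeP_W2_le_F hP hy.1, hy.2⟩)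
  exact ((tiA0 maxS hP).2.2 x (sA ⟨hx, x1⟩) g trivial).mp
    (sA ⟨conj_mem_of_mem_norm hg hx, by simpa using x1⟩)

theorem norm_U_W2 : U ⊓ 𝒩(W₂) = ⊥ := by
  by_contra ntK
  have cW := (snc_dprod hP.selfNormalizing).cent
  have frob := Frobenius_subl (frobUW1 maxS hP) ntK inf_le_left
    (norm_inf hP.U_normal (norm_of_le (norm_of_cent' cW)))
  have cK : U ⊓ 𝒩(W₂) ≤ 𝒞(W₂) := by
    rw [← Frobenius_commg frob]
    exact (Subgroup.commutator_mono inf_le_right (norm_of_cent' cW)).trans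
      (der_le_cent_of_cyclic (typeP_W2_cyclic hP) le_rfl)
  have le : U ⊓ 𝒩(W₂) ⊔ W₁ ≤ U ⊔ W₁ := sup_le_sup_right inf_le_left _
  have h := (Frobenius_Wielandt_fixpoint frob (le.trans (typeP_sdprod_UW1 hP).1.norm)
    ((coprime_P_UW1 maxS hP).coprime_dvd_right (Subgroup.card_dvd_of_le le))
    (sol_of_nil (Fcore_nil S))).1
  rw [cent_sup, inf_left_comm, typeP_cent_core_compl hP, inf_eq_right.mpr (le_cent_symm cK)] at h
  have h1 := Subgroup.eq_of_le_of_card_ge inf_le_left (Nat.eq_of_mul_eq_mul_left (pow_pos Nat.card_pos _) h).le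
  refine ntK (le_bot_iff.mp ?_)
  rw [← FTtypeP_reg_Fcore maxS hP]
  exact le_inf inf_le_left (le_cent_symm (h1 ▸ inf_le_right))

/-- Peterfalvi (13.16) -/
theorem FTtypeP_norm_cent_compl :
    SDProd (fittingHallOf S) W₁ 𝒩(W₂) ∧ SDProd (fittingHallOf S) W₁ 𝒞(W₂) := by
  have cW := le_cent_symm (snc_dprod hP.selfNormalizing).cent
  have cP : fittingHallOf S ≤ 𝒞(W₂) :=
    (abelian_iff_le_cent.mp (abelP maxS hP).1.1).trans (cent_anti (typeP_W2_le_F hP))
  have key : ∀ X, 𝒞(W₂) ≤ X → X ≤ 𝒩(W₂) → SDProd (fittingHallOf S) W₁ X := fun X h1 h2 => by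
    have h3 := (typeP_sdprod_UW1 hP).1.restrict_left (cP.trans h1) (h2.trans (norm_W2_le maxS hP))
    have h4 := ((typeP_sdprod_UW1 hP).2.restrict_right (le_inf (cW.trans h1) le_sup_right) inf_le_right).sup_eq
    have h5 : X ⊓ (U ⊔ W₁) ⊓ U = ⊥ := le_bot_iff.mp
      ((le_inf inf_le_right (inf_le_left.trans (inf_le_left.trans h2))).trans (norm_U_W2 maxS hP).le)
    rwa [← h4, h5, bot_sup_eq] at h3
  exact ⟨key _ (cent_le_norm _) le_rfl, key _ le_rfl (cent_le_norm _)⟩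

theorem coprime_qU : (Nat.card U).Coprime (Nat.card W₁) := Frobenius_coprime (frobUW1 maxS hP)

theorem hallU : IsHallOf U S := by
  refine ⟨(typeP_U_le_der hP).trans (der_le S), ?_⟩
  rw [← Subgroup.relIndex_mul_relIndex U ⁅S, S⁆ S (typeP_U_le_der hP) (der_le S), hP.U_compl.relIndex_right,
    typeP_relIndex_der hP]
  exact (typeP_coprime_HU hP).symm.mul_right (coprime_qU maxS hP)

theorem U_le_of_norm {X : Subgroup G} (h1 : U ≤ 𝒩(X)) (h2 : W₁ ≤ X) : U ≤ X := by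
  rw [← Frobenius_commg (frobUW1 maxS hP)]
  exact (Subgroup.commutator_mono le_rfl h2).trans (comm_le_right h1)

/-- Peterfalvi (13.17) -/
theorem FTtypeII_support_facts {T L : Subgroup G} (h : FTtype S = 2) (pair : TypePPair S T W₁ W₂)
    (maxL : IsCoatom L) (hL : 𝒩(U) ≤ L) :
    (∃ E, IsFrob L (fittingHallOf L) E) ∧ U ≤ fittingHallOf L ∧
    (SDProd (fittingHallOf L) W₁ L ∨
      ∃ y ∈ fittingHallOf T, SDProd (fittingHallOf L) (W₁ ⊔ W₂ :^ y) L) := by
  obtain ⟨V, hT⟩ := typeP_pairW (typeP_pair_sym pair)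
  have sU : U ≤ L := Subgroup.le_normalizer.trans hL
  have sW : W₁ ≤ L := hP.U_normal.trans hL
  have L1 : FTtype L = 1 := by
    by_contra n
    obtain ⟨g, rfl | rfl⟩ := pair.conj L maxL n
    · obtain ⟨x, hx, e⟩ := Hall_subJ (mmax_sol maxL) ((hallU maxS hP).pHall.conjg g) sU
        (hallU maxS hP).pHall.piGrp
      replace e := Subgroup.eq_of_le_of_card_ge e (by rw [card_conjg, card_conjg])
      rw [e, ← conjg_norm, ← conjg_norm, conjg_le_iff_of_mem_norm (Subgroup.le_normalizer hx),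
        conjg_le_conjg] at hL
      exact (compl_of_typeII maxS hP h).2.2.1 hL
    · have e := (abelP maxL (conj_of_typeP hT g)).2
      rw [card_conjg W₁] at e
      have h1 := le_of_coprime_relIndex sW (Fcore_norm _)
        ((Nat.coprime_pow_left_iff Nat.card_pos _ _).mp (e ▸ (Fcore_Hall _).2))
      have h2 := Subgroup.card_dvd_of_le (U_le_of_norm maxS hP (sU.trans (Fcore_norm _)) h1)
      rw [e] at h2
      exact (one_lt_card (ntU maxS hP)).ne' (((coprime_qU maxS hP).pow_right _).eq_one_of_dvd h2)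
  obtain ⟨E₀, frob₀⟩ := FTtype1_Frobenius maxL L1
  have co : (Nat.card W₁).Coprime (Nat.card (fittingHallOf L)) := by
    have := FTcore_coprime pair.maxT maxL fun g e => pair.T_ne_one (by rw [← FTtypeJ T g, ← e, L1])
    rw [FTcore_type_le2 maxL (by omega)] at this
    exact this.coprime_dvd_left
      (Subgroup.card_dvd_of_le ((typeP_W2_le_F hT).trans (Fcore_le_FTcore pair.maxT)))
  obtain ⟨x, hx, x1⟩ := exists_mem_ne_one hP.W₁_ne
  obtain ⟨k, hk, hxk⟩ := Frobenius_partition frob₀ (sW hx) fun a =>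
    x1 (Subgroup.mem_bot.mp (inf_eq_bot_of_cop co ▸ Subgroup.mem_inf.mpr ⟨hx, a⟩))
  have frob := P16.isFrob_conjg frob₀ k
  rw [conjg_of_mem (Fcore_le L hk), conjg_of_mem hk] at frob
  generalize E₀ :^ k = E at frob hxk
  have sWE : W₁ ≤ E := by
    rw [eq_zpowers_of_card_prime (pr_q maxS hP) hx x1]; exact Subgroup.zpowers_le_of_mem hxk
  have nW := prime_odd_regular_normal (pr_q maxS hP) (mFT_odd E) sWE frob.2.1 frob.1.norm frob.2.2.2
  have nHW : L ≤ 𝒩(fittingHallOf L ⊔ W₁) := by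
    conv_lhs => rw [← frob.1.sup_eq]
    exact sup_le (norm_of_le le_sup_left) (norm_sup frob.1.norm nW.2)
  have nH : W₁ ≤ 𝒩(fittingHallOf L) := sW.trans (Fcore_norm L)
  refine ⟨⟨E, frob⟩, le_of_coprime_relIndex (U_le_of_norm maxS hP (sU.trans nHW) le_sup_right)
    (sup_le Subgroup.le_normalizer nH) ?_, ?_⟩
  · rw [relIndex_sup_of_right_le_norm nH]
    exact (coprime_qU maxS hP).coprime_dvd_right (Subgroup.relIndex_dvd_card _ _)
  have dN := (FTtypeP_norm_cent_compl pair.maxT hT).1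
  have abQ := (abelP pair.maxT hT).1
  have hQE : fittingHallOf T ⊓ E = W₁ := by
    have ab := abelem_of_le abQ (inf_le_left : fittingHallOf T ⊓ E ≤ _)
    have sW' : W₁ ≤ fittingHallOf T ⊓ E := le_inf (typeP_W2_le_F hT) sWE
    exact (Subgroup.eq_of_le_of_card_ge sW' (card_eq_of_abelem_of_cyclic (pr_q maxS hP) ab
      (abelian_regular_cyclic ab.1 frob.2.1 (inf_le_right.trans frob.1.norm)
        (semiregularS frob.2.2.2 le_rfl inf_le_right)) (ne_bot_mono sW' hP.W₁_ne)).le).symm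
  have cE := card_inf_mul_relIndex (fittingHallOf T) E
  have d := relIndex_dvd_of_le_norm nW.2 dN.normal.2
  rw [dN.complIn.relIndex_left] at d
  rw [hQE] at cE
  rcases (Nat.dvd_prime (pr_p maxS hP)).mp d with d | d
  · rw [d, mul_one] at cE
    exact Or.inl (Subgroup.eq_of_le_of_card_ge sWE cE.ge ▸ frob.1)
  · obtain ⟨X, sX, oX⟩ := exists_le_card_eq_prime (pr_p maxS hP) (Dvd.intro_left _ (d ▸ cE))
    obtain ⟨y, hy, rfl⟩ := SchurZassenhaus_trans_abelian abQ.1 dN.norm ((sX.trans nW.2).trans dN.sup_eq.ge)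
      (by rw [(abelP pair.maxT hT).2]; exact (snc_coprime hP.selfNormalizing).pow_left _) oX
    refine Or.inr ⟨y, hy, Subgroup.eq_of_le_of_card_ge (sup_le sWE sX) ?_ ▸ frob.1⟩
    rw [card_sup_of_inf_eq_bot (Or.inr (sX.trans nW.2))
      (inf_eq_bot_of_cop (oX ▸ snc_coprime hP.selfNormalizing)), oX, ← cE, d]

end CA.PF.P13
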