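import Cfsg.Agent.PF.P13c

/-!
# Peterfalvi (13.18)
-/

set_option autoImplicit false
set_option linter.unusedSectionVars false

open scoped ComplexConjugate

open Cfsg CA.FG CA.BG CA.Chr

namespace CA.PF.P13

universe u

variable {G : Type u} [Group G] [MinSimpleOdd G] {S W₁ U W₂ : Subgroup G} (maxS : IsCoatom S)
  (hP : IsTypePWith S W₁ U W₂)
include maxS hP

omit maxS in
theorem normP_W1 : W₁ ≤ 𝒩(fittingHallOf S) := (typeP_W1_le hP).trans (Fcore_norm S)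

omit maxS in
theorem sdprod_PW1 : SDProd (fittingHallOf S) W₁ (fittingHallOf S ⊔ W₁) :=
  sdprod_mk (normP_W1 hP) rfl
    (le_bot_iff.mp ((inf_le_inf_left _ le_sup_right).trans (typeP_sdprod_UW1 hP).1.inf_eq.le))

omit maxS in
theorem gam_one : indA (FW1_le hP) 1 1 = Nat.card U := by
  have h1 := card_mul_relIndex (FW1_le hP)
  have h2 := (typeP_sdprod_UW1 hP).1.card_mul
  rw [← (typeP_sdprod_UW1 hP).2.card_mul, ← h1, ← (sdprod_PW1 hP).card_mul, mul_assoc,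
    mul_comm (Nat.card U)] at h2
  rw [indA_one, ← Nat.eq_of_mul_eq_mul_left Nat.card_pos (Nat.eq_of_mul_eq_mul_left Nat.card_pos h2)]
  simp

omit maxS in
theorem gam_ker : (fittingHallOf S).subgroupOf S ≤ cfker (indA (FW1_le hP) 1) :=
  have := normalSub (Fcore_norm S)
  le_cfker_ind _ (subOf_le_range _ le_sup_left) (Subgroup.inclusion_injective _) (by simp [cfker_one])

theorem gam_W1 {w : S} (hw : (w : G) ∈ W₁) (w1 : w ≠ 1) : indA (FW1_le hP) 1 w = 1 := by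
  refine ind_apply_TI (Subgroup.inclusion_injective (FW1_le hP)) (one_mem _)
    ⟨w, Subgroup.mem_sup_right hw⟩ fun x b _ e => (mem_range_incl _).mpr ?_
  have hx : (x : G) ∈ fittingHallOf S ⊔ (U ⊔ W₁) := by rw [(typeP_sdprod_UW1 hP).1.sup_eq]; exact x.2
  obtain ⟨c, hc, a, ha, e1⟩ := (mem_sup_of_right_le_norm' (typeP_sdprod_UW1 hP).1.norm).mp hx
  have h1 : c⁻¹ * w * c ∈ (U ⊔ W₁) ⊓ (fittingHallOf S ⊔ W₁) := by
    refine Subgroup.mem_inf.mpr ⟨mul_mem (mul_mem (inv_mem hc) (Subgroup.mem_sup_right hw)) hc, ?_⟩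
    have e2 : (b : G) = (x : G)⁻¹ * w * x := congrArg Subtype.val e
    have : c⁻¹ * w * c = a * b * a⁻¹ := by rw [e2, ← e1]; group
    rw [this]
    exact mul_mem (mul_mem (Subgroup.mem_sup_left ha) b.2) (Subgroup.mem_sup_left (inv_mem ha))
  rw [inf_sup_of_right_le (Or.inr (normP_W1 hP)) le_sup_right, inf_comm,
    (typeP_sdprod_UW1 hP).1.inf_eq, bot_sup_eq] at h1
  have h2 : c ∈ W₁ := by_contra fun n => w1 (Subtype.ext (Subgroup.mem_bot.mp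
    (Frobenius_compl_TI (frobUW1 maxS hP) hc n ▸ Subgroup.mem_inf.mpr ⟨hw, mem_conjg.mpr h1⟩)))
  rw [← e1]
  exact mul_mem (Subgroup.mem_sup_right h2) (Subgroup.mem_sup_left ha)

omit maxS in
theorem gam_zero {x : S} (h1 : (x : G) ∈ ⁅S, S⁆) (h2 : (x : G) ∉ fittingHallOf S) :
    indA (FW1_le hP) 1 x = 0 := by
  refine ind_eq_zero fun y hy => absurd ?_ h2
  obtain ⟨c, rfl⟩ := isConj_iff.mp hy
  have h3 : (y : G) ∈ ⁅S, S⁆ ⊓ (fittingHallOf S ⊔ W₁) :=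
    ⟨by simpa [mul_assoc] using conj_mem_of_le_norm' (der_normalIn S).2 c.2 h1, y.2⟩
  rw [inf_sup_of_left_le (Or.inr (normP_W1 hP)) (typeP_F_le_der hP), hP.W₁_compl.inf_eq, sup_bot_eq] at h3
  exact conj_mem_of_le_norm (Fcore_norm S) c.2 h3

theorem Fit_eq_P : fittingOf S = fittingHallOf S := by
  rw [typeP_Fitting hP, FTtypeP_reg_Fcore maxS hP, sup_bot_eq]

theorem mu_zero {j : W₂ →* ℂˣ} (hj : j ≠ 1) {x : S} (h1 : (x : G) ∈ ⁅S, S⁆)
    (h2 : (x : G) ∉ fittingHallOf S) : muP hP 1 j x = 0 := by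
  have h3 := congrFun ((FT_primeTI hP).muS_res j) ⟨x, h1⟩
  have h4 := ST_eq_zero (fitting_normal S) (muS_ST maxS hP hj) (Fit_eq_P maxS hP ▸ h2 :)
  exact (mul_eq_zero.mp (h3.symm.trans h4)).resolve_left card_ne_zero

omit maxS in
theorem bridge_zirr (j) : bridgeP hP j ∈ ZIrr S :=
  sub_mem (ZIrr.ind (IsIrr.dirr one_irr).mem_ZIrr _) ((FT_primeTI hP).mu_zirr 1 j)

theorem bridge_supp {j : W₂ →* ℂˣ} (hj : j ≠ 1) (a : S) (h : bridgeP hP j a ≠ 0) :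
    (a : G) ∈ sharp (fittingHallOf S) ∨ (a : G) ∈ classSupport (zHat W₁ W₂) S := by
  by_cases h1 : (a : G) ∈ ⁅S, S⁆
  · refine Or.inl ⟨by_contra fun n => h ?_, fun e => h ?_⟩
    · rw [bridgeP, Pi.sub_apply, gam_zero hP h1 n, mu_zero maxS hP hj h1 n, sub_zero]
    · rw [bridgeP, Pi.sub_apply, (Subtype.ext e : a = 1), gam_one hP, FTprTIirr1 maxS hP 1 hj,
        (Ptype_Fcompl_kernel_trivial maxS hP).2, sub_self]
  obtain ⟨x, y, hx, hc⟩ := (FT_primeTI hP).exists_conj_W (mt (mem_range_incl _).mp h1)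
  by_cases hy : y = 1
  · refine absurd ?_ h
    rw [← CF_isConj (ZIrr.mem_CF (bridge_zirr hP j)) hc, hy, bridgeP, Pi.sub_apply, muP,
      (FT_primeTI hP).mu_on 1 j hx, FTprTIsign maxS hP, gam_W1 maxS hP (by simp [coe_wM])
        fun e => hx (congrArg Prod.fst ((FT_primeTI hP).inj (e.trans (map_one _).symm)))]
    simp
  · obtain ⟨c, rfl⟩ := isConj_iff.mp hc
    exact Or.inr ⟨_, (exists_of_mem_zHat hP).mpr ⟨x, y, hx, hy, rfl⟩, c, c.2, rfl⟩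

theorem bridge_A0 {j : W₂ →* ℂˣ} (hj : j ≠ 1) (a : S) (h : (a : G) ∉ FTsupp0 S) :
    bridgeP hP j a = 0 := by
  by_contra n
  rcases bridge_supp maxS hP hj a n with h1 | h1
  · exact h (FTsupp1_sub0 maxS (Fcore_sub_FTsupp1 maxS h1))
  · exact h (FTtypeP_supp0_def maxS hP ▸ Or.inr h1)

theorem nrm_gam : nrm (indA (FW1_le hP) 1) = (Nat.card U - 1) / Nat.card W₁ + 1 := by
  have d := sdprod_PW1 hP
  have e : indA (FW1_le hP) 1 ∘ Subgroup.inclusion (FW1_le hP) =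
      (((Nat.card U - 1) / Nat.card W₁ : ℝ) : ℂ) • indA d.normal.1 1 + 1 := by
    funext y
    simp only [Function.comp_apply, Pi.add_apply, Pi.smul_apply, Pi.one_apply, smul_eq_mul]
    by_cases hy : (y : G) ∈ fittingHallOf S
    · have : (Nat.card W₁ : ℂ) ≠ 0 := card_ne_zero
      rw [indA_one_apply d.normal hy, d.complIn.relIndex_left, cfker_apply (gam_ker hP hy), gam_one hP]
      push_cast
      field_simp
      ring
    · obtain ⟨a, ha, w, hw, e⟩ := (mem_sup_of_right_le_norm d.norm).mp y.2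
      have e1 : Subgroup.inclusion (FW1_le hP) y = ⟨a, Fcore_le S ha⟩ * ⟨w, typeP_W1_le hP hw⟩ :=
        Subtype.ext e.symm
      rw [indA_eq_zero d.normal _ hy, e1, cfker_mul (gam_ker hP ha), gam_W1 maxS hP hw fun e2 =>
        hy (by rw [← e, show w = 1 from congrArg Subtype.val e2, mul_one]; exact ha)]
      simp
  refine nrm_eq_of_dot ?_
  rw [frob_rec' _ _ (ind_mem_CF _ _), e, dot_add_left, dot_smul_left, dot_ind_one, dot_one_one]
  simp [dot_one_one]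

theorem nrm_bridge {j : W₂ →* ℂˣ} (hj : j ≠ 1) :
    nrm (bridgeP hP j) = (Nat.card U - 1) / Nat.card W₁ + 2 := by
  rw [bridgeP, nrm_sub_of_orth (by_contra fun n => (FT_prDadeF maxS hP).not_le_cfker_mu 1 hj
    ((gam_ker hP).trans (cfker_le_constt (ind_mem_CF _ _) ((FT_primeTI hP).mu_irr 1 j) n))),
    nrm_gam maxS hP, IsIrr.nrm ((FT_primeTI hP).mu_irr 1 j)]
  ring

theorem tau_bridge_zirr {j : W₂ →* ℂˣ} (hj : j ≠ 1) : tau0 S (bridgeP hP j) ∈ ZIrr G :=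
  Dade.dade_mem_ZIrr (FT_Dade0_hyp maxS) (bridge_zirr hP j) (bridge_A0 maxS hP hj)

theorem tau_bridge_sub {j k : W₂ →* ℂˣ} (hj : j ≠ 1) (hk : k ≠ 1) :
    tau0 S (bridgeP hP j) - tau0 S (bridgeP hP k) = etaP hP 1 k - etaP hP 1 j := by
  rw [← map_sub, bridgeP, bridgeP, sub_sub_sub_cancel_left, (FT_prDade maxS hP).dade_mu_sub hk hj
    ((FTprTIirr1 maxS hP 1 hk).trans (FTprTIirr1 maxS hP 1 hj).symm), FTprTIsign maxS hP]
  simp

theorem tau_bridge_one {j : W₂ →* ℂˣ} (hj : j ≠ 1) : ⟪tau0 S (bridgeP hP j), 1⟫ = 1 := by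
  rw [Dade.dot_dade_one (FT_Dade0_hyp maxS) (ZIrr.mem_CF (bridge_zirr hP j)) (bridge_A0 maxS hP hj),
    bridgeP, dot_sub_left, dot_ind_one, dot_one_one, ← (FT_primeTI hP).mu_one_one,
    (FT_primeTI hP).dot_mu]
  simp [hj]

omit maxS in
theorem tau_bridge_conj (j : W₂ →* ℂˣ) : conjFun (tau0 S (bridgeP hP j)) = tau0 S (bridgeP hP j⁻¹) := by
  rw [← dade_conjFun, bridgeP, bridgeP, conjFun_sub, ← ind_conjFun, conjFun_one,
    (FT_primeTI hP).mu_conj, inv_one]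

theorem bridge_gap : ∃ Γ : G → ℂ, (∀ j, j ≠ 1 → tau0 S (bridgeP hP j) - 1 + etaP hP 1 j = Γ) ∧
    Γ ∈ ZIrr G ∧ ⟪Γ, 1⟫ = 0 ∧ conjFun Γ = Γ ∧
    ∀ X Y : G → ℂ, Γ = X + Y → ⟪X, Y⟫ = 0 → (∀ i j, ⟪Y, etaP hP i j⟫ = 0) →
      nrm Y ≤ (Nat.card U - 1) / Nat.card W₁ := by
  obtain ⟨k, hk⟩ := exists_lin_ne W₂ (pr_p maxS hP)
  have F := FT_fam hP
  have hΓ : ∀ j, j ≠ 1 → tau0 S (bridgeP hP j) - 1 + etaP hP 1 j =
      tau0 S (bridgeP hP k) - 1 + etaP hP 1 k := fun j hj => by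
    linear_combination tau_bridge_sub maxS hP hj hk
  have hz : tau0 S (bridgeP hP k) - 1 + etaP hP 1 k ∈ ZIrr G :=
    add_mem (sub_mem (tau_bridge_zirr maxS hP hk) (IsIrr.dirr one_irr).mem_ZIrr) (F.zirr 1 k)
  have h1 : ⟪etaP hP 1 k, 1⟫ = 0 := by rw [F.dot_one]; simp [hk]
  have hc : conjFun (tau0 S (bridgeP hP k) - 1 + etaP hP 1 k) = tau0 S (bridgeP hP k) - 1 + etaP hP 1 k := by
    rw [conjFun_add, conjFun_sub, tau_bridge_conj hP, conjFun_one, F.conjFun_eq, inv_one,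
      hΓ _ (inv_ne_one.mpr hk)]
  refine ⟨_, hΓ, hz, by rw [dot_add_left, dot_sub_left, tau_bridge_one maxS hP hk, dot_one_one, h1]; simp,
    hc, fun X Y e o oY => ?_⟩
  have n0 := Dade.nrm_dade (FT_Dade0_hyp maxS) (ZIrr.mem_CF (bridge_zirr hP k)) (bridge_A0 maxS hP hk)
  rw [nrm_bridge maxS hP hk] at n0
  have n1 := nrm_sub_of_dot_one dot_one_one (tau_bridge_one maxS hP hk)
  generalize hΓ' : tau0 S (bridgeP hP k) - 1 + etaP hP 1 k = Γ at *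
  have a1 := (ZIrr.coe_zdot hz (F.zirr 1 k)).symm
  generalize zdot Γ (etaP hP 1 k) = a at a1
  have a2 : ⟪Γ, etaP hP 1 k⁻¹⟫ = a := by
    rw [← hc, ← inv_one, ← F.conjFun_eq, dot_conjFun, a1, map_intCast]
  have n2 := nrm_sub Γ (etaP hP 1 k)
  rw [a1, (F.dirr 1 k).nrm, ← hΓ', add_sub_cancel_right, n1, hΓ', Complex.intCast_re, e,
    nrm_add_of_orth o] at n2
  rw [e, dot_add_left, oY, add_zero] at a1 a2
  have b := F.bessel {(1, k), (1, k⁻¹)} X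
  rw [Finset.sum_pair (by simpa using (PrimeTI.inv_ne_self_of_odd (mFT_odd W₂) hk).symm), a1, a2,
    Complex.norm_intCast, sq_abs] at b
  have : (a : ℝ) ≤ a ^ 2 := by exact_mod_cast Int.le_self_sq a
  linarith

/-- Peterfalvi (13.18) -/
theorem FTtypeP_bridge_facts :
    (∀ j, j ≠ 1 → ∀ a : S, bridgeP hP j a ≠ 0 → (a : G) ∈ FTsupp0 S ∧
      ((a : G) ∈ sharp (fittingHallOf S) ∨ (a : G) ∈ classSupport (zHat W₁ W₂) S)) ∧
    (∀ j, j ≠ 1 → nrm (bridgeP hP j) = (Nat.card U - 1) / Nat.card W₁ + 2) ∧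
    (∃ Γ : G → ℂ, (∀ j, j ≠ 1 → tau0 S (bridgeP hP j) - 1 + etaP hP 1 j = Γ) ∧ Γ ∈ ZIrr G ∧
      ⟪Γ, 1⟫ = 0 ∧ conjFun Γ = Γ ∧
      ∀ X Y : G → ℂ, Γ = X + Y → ⟪X, Y⟫ = 0 → (∀ i j, ⟪Y, etaP hP i j⟫ = 0) →
        nrm Y ≤ (Nat.card U - 1) / Nat.card W₁) ∧
    Nat.card W₁ ∣ Nat.card U - 1 :=
  ⟨fun _ hj a h => ⟨by_contra fun n => h (bridge_A0 maxS hP hj a n), bridge_supp maxS hP hj a h⟩,
    fun _ => nrm_bridge maxS hP, bridge_gap maxS hP, q_dvd_U maxS hP⟩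

end CA.PF.P13
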