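/-
Peterfalvi section 14: arithmetic lemmas.
-/
import Mathlib

set_option autoImplicit false

namespace CA.PF.P14

theorem succ_pow_le {q n : ℕ} (hq : 3 ≤ q) (hn : q + 1 ≤ n) : (n + 1) ^ (q + 1) ≤ q * n ^ (q + 1) := by
  have n0 : (0 : ℝ) < n := by exact_mod_cast (by omega : 0 < n)
  have h1 : ((n : ℝ) + 1) ≤ n * Real.exp (1 / n) := by
    have := Real.add_one_le_exp (1 / n : ℝ)
    calc (n : ℝ) + 1 = n * (1 / n + 1) := by field_simp; ring
      _ ≤ _ := by gcongr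
  have h2 : Real.exp (1 / n) ^ (q + 1) ≤ q := by
    rw [← Real.exp_nat_mul]
    have : ((q + 1 : ℕ) : ℝ) * (1 / n) ≤ 1 := by
      rw [mul_one_div, div_le_one n0]; exact_mod_cast hn
    have h3 : (3 : ℝ) ≤ q := by exact_mod_cast hq
    linarith [Real.exp_le_exp.2 this, Real.exp_one_lt_d9]
  have : ((n : ℝ) + 1) ^ (q + 1) ≤ q * n ^ (q + 1) := by
    calc ((n : ℝ) + 1) ^ (q + 1) ≤ (n * Real.exp (1 / n)) ^ (q + 1) := by gcongr
      _ = Real.exp (1 / n) ^ (q + 1) * n ^ (q + 1) := by rw [mul_pow, mul_comm]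
      _ ≤ _ := by gcongr
  exact_mod_cast this

theorem base_pow_lt {q : ℕ} (hq : q = 3 ∨ 5 ≤ q) : (q + 2) ^ (q + 1) < q ^ (q + 3) := by
  rcases hq with rfl | hq
  · norm_num
  have q5 : (5 : ℝ) ≤ q := by exact_mod_cast hq
  have n0 : (0 : ℝ) < q := by linarith
  have h1 : ((q : ℝ) + 2) ≤ q * Real.exp (2 / q) := by
    have := Real.add_one_le_exp (2 / q : ℝ)
    calc (q : ℝ) + 2 = q * (2 / q + 1) := by field_simp; ring
      _ ≤ _ := by gcongr
  have h2 : Real.exp (2 / q) ^ (q + 1) < q ^ 2 := by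
    rw [← Real.exp_nat_mul]
    have : ((q + 1 : ℕ) : ℝ) * (2 / q) ≤ (3 : ℕ) * 1 := by
      rw [← mul_div_assoc, div_le_iff₀ n0]; push_cast; linarith
    have h3 := Real.exp_le_exp.2 this
    rw [Real.exp_nat_mul 1 3] at h3
    have h4 : Real.exp 1 ^ 3 ≤ 2.7182818286 ^ 3 := by
      gcongr; exact Real.exp_one_lt_d9.le
    have h5 : (2.7182818286 : ℝ) ^ 3 < 25 := by norm_num
    nlinarith
  have : ((q : ℝ) + 2) ^ (q + 1) < q ^ (q + 3) := by
    calc ((q : ℝ) + 2) ^ (q + 1) ≤ (q * Real.exp (2 / q)) ^ (q + 1) := by gcongr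
      _ = Real.exp (2 / q) ^ (q + 1) * q ^ (q + 1) := by rw [mul_pow, mul_comm]
      _ < q ^ 2 * q ^ (q + 1) := by gcongr
      _ = _ := by ring
  exact_mod_cast this

/-- (14.8)(a) -/
theorem pow_lt_pow {q p : ℕ} (hq : q = 3 ∨ 5 ≤ q) (hp : q + 2 ≤ p) : p ^ (q + 1) < q ^ (p + 1) := by
  have q3 : 3 ≤ q := by omega
  induction p, hp using Nat.le_induction with
  | base => exact base_pow_lt hq
  | succ n hn ih =>
    calc (n + 1) ^ (q + 1) ≤ q * n ^ (q + 1) := succ_pow_le q3 (by omega)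
      _ < q * q ^ (n + 1) := by gcongr
      _ = _ := by ring

theorem geom_mul {p : ℕ} (hp : 2 ≤ p) (q : ℕ) : (p ^ q - 1) / (p - 1) * (p - 1) = p ^ q - 1 :=
  Nat.div_mul_cancel (by simpa using Nat.sub_dvd_pow_sub_pow p 1 q)

theorem geom_succ {p : ℕ} (hp : 2 ≤ p) (q : ℕ) :
    (p ^ (q + 1) - 1) / (p - 1) = p * ((p ^ q - 1) / (p - 1)) + 1 := by
  rw [← Nat.geomSum_eq hp, ← Nat.geomSum_eq hp, geom_sum_succ]

theorem geom_ge {p : ℕ} (hp : 2 ≤ p) (q : ℕ) : p ^ q ≤ (p ^ (q + 1) - 1) / (p - 1) := by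
  rw [← Nat.geomSum_eq hp, geom_sum_succ']; omega

theorem geom_gt {p : ℕ} (hp : 2 ≤ p) {q : ℕ} (hq : 1 ≤ q) : p ^ q < (p ^ (q + 1) - 1) / (p - 1) := by
  obtain ⟨r, rfl⟩ := Nat.exists_eq_add_of_le' hq
  rw [geom_succ hp]
  have := Nat.mul_le_mul_left p (geom_ge hp r)
  rw [← pow_succ'] at this
  omega

theorem geom_mod {p : ℕ} (hp : 2 ≤ p) {q : ℕ} (hq : 1 ≤ q) : (p ^ q - 1) / (p - 1) ≡ 1 [MOD p] := by
  obtain ⟨r, rfl⟩ := Nat.exists_eq_add_of_le' hq
  rw [geom_succ hp]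
  exact (Nat.modEq_zero_iff_dvd.2 (Dvd.intro _ rfl)).add_right 1

theorem geom_dvd {p q : ℕ} (hp : 2 ≤ p) (h : p % q = 1) : q ∣ (p ^ q - 1) / (p - 1) := by
  rw [← Nat.geomSum_eq hp, ← ZMod.natCast_eq_zero_iff]
  have : (p : ZMod q) = 1 := by rw [← ZMod.natCast_mod, h, Nat.cast_one]
  simp [this]

/-- (14.8)(b) -/
theorem v1p_gt_u1q {q p u : ℕ} (hq : q = 3 ∨ 5 ≤ q) (hp : q + 2 ≤ p)
    (hu : u ≤ (p ^ q - 1) / (p - 1)) :
    ((u : ℝ) - 1) / q < ((((q ^ p - 1) / (q - 1) : ℕ) : ℝ) - 1) / p := by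
  have h := pow_lt_pow hq hp
  have q3 : 3 ≤ q := by omega
  have e1 := geom_mul (p := p) (by omega) q
  have e2 := geom_mul (p := q) (by omega) p
  set nU := (p ^ q - 1) / (p - 1)
  set nV := (q ^ p - 1) / (q - 1)
  have a1 : 1 ≤ p ^ q := Nat.one_le_pow _ _ (by omega)
  have a2 : 1 ≤ q ^ p := Nat.one_le_pow _ _ (by omega)
  have e1' : (nU : ℝ) * (p - 1) = p ^ q - 1 := by
    have : ((nU * (p - 1) : ℕ) : ℝ) = (p ^ q - 1 : ℕ) := by rw [e1]
    rwa [Nat.cast_mul, Nat.cast_sub (by omega), Nat.cast_sub a1, Nat.cast_pow, Nat.cast_one] at this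
  have e2' : (nV : ℝ) * (q - 1) = q ^ p - 1 := by
    have : ((nV * (q - 1) : ℕ) : ℝ) = (q ^ p - 1 : ℕ) := by rw [e2]
    rwa [Nat.cast_mul, Nat.cast_sub (by omega), Nat.cast_sub a2, Nat.cast_pow, Nat.cast_one] at this
  have h' : (p : ℝ) ^ q * p < q ^ p * q := by rw [← pow_succ, ← pow_succ]; exact_mod_cast h
  have q3' : (3 : ℝ) ≤ q := by exact_mod_cast q3
  have hp' : (q : ℝ) + 2 ≤ p := by exact_mod_cast hp
  have hu' : (u : ℝ) ≤ nU := by exact_mod_cast hu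
  have nU1 : (1 : ℝ) ≤ nU := by
    have : (p : ℝ) ^ 1 ≤ p ^ q := pow_le_pow_right₀ (by linarith) (by omega)
    nlinarith
  rw [div_lt_div_iff₀ (by linarith) (by linarith)]
  have k1 : ((nU : ℝ) - 1) * p * (q - 1) < (nV - 1) * q * (q - 1) := by
    have : ((nU : ℝ) - 1) * p * (q - 1) ≤ (nU - 1) * p * (p - 1) := by gcongr; linarith
    nlinarith
  have k2 := lt_of_mul_lt_mul_right k1 (by linarith)
  nlinarith

theorem sq_lt_pow {q p : ℕ} (hq : 3 ≤ q) (hp : 7 ≤ p) : p ^ 2 < q ^ (p - 3) := by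
  refine lt_of_lt_of_le ?_ (Nat.pow_le_pow_left hq _)
  induction p, hp using Nat.le_induction with
  | base => norm_num
  | succ n hn ih =>
    rw [show n + 1 - 3 = n - 3 + 1 by omega, pow_succ 3]
    nlinarith

theorem le_pow_sub_three {q p : ℕ} (hq : 3 ≤ q) (hp : 5 ≤ p) : p ≤ q ^ (p - 3) := by
  refine le_trans ?_ (Nat.pow_le_pow_left hq _)
  induction p, hp using Nat.le_induction with
  | base => norm_num
  | succ n hn ih =>
    rw [show n + 1 - 3 = n - 3 + 1 by omega, pow_succ 3]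
    omega

theorem sq_mul_le_geom {q p : ℕ} (hq : 3 ≤ q) (hp : 5 ≤ p) : q ^ 2 * p ≤ (q ^ p - 1) / (q - 1) := by
  obtain ⟨r, rfl⟩ : ∃ r, p = r + 1 := ⟨p - 1, by omega⟩
  refine le_trans ?_ (geom_ge (by omega) r)
  calc q ^ 2 * (r + 1) ≤ q ^ 2 * q ^ (r + 1 - 3) := by gcongr; exact le_pow_sub_three hq hp
    _ = q ^ r := by rw [← pow_add]; congr 1; omega

/-- second case of (14.14) -/
theorem three_five {q p : ℕ} (hq : 3 ≤ q) (hp : q + 2 ≤ p) (op : Odd p)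
    (h : (q ^ p - 1) / (q - 1) ≤ p * q * (p * q - 1) + 1) : q = 3 ∧ p = 5 := by
  by_cases h7 : 7 ≤ p
  · exfalso
    obtain ⟨r, rfl⟩ : ∃ r, p = r + 1 := ⟨p - 1, by omega⟩
    have h1 := geom_gt (p := q) (by omega) (q := r) (by omega)
    have h2 := sq_lt_pow hq h7
    have h3 : q ^ r = q ^ 2 * q ^ (r + 1 - 3) := by rw [← pow_add]; congr 1; omega
    have h4 : (r + 1) * q * ((r + 1) * q - 1) ≤ (r + 1) * q * ((r + 1) * q) :=
      Nat.mul_le_mul_left _ (Nat.sub_le _ _)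
    have h5 : q ^ 2 * (r + 1) ^ 2 < q ^ 2 * q ^ (r + 1 - 3) := by gcongr
    nlinarith
  · obtain ⟨k, rfl⟩ := op
    omega

theorem odd_modEq_ge {x n : ℕ} (ox : Odd x) (on : Odd n) (h : x ≡ 1 [MOD n]) (h1 : 1 < x) :
    2 * n + 1 ≤ x := by
  obtain ⟨m, hm⟩ := (Nat.modEq_iff_dvd' h1.le).1 h.symm
  have h2 : Even (n * m) := hm ▸ Nat.Odd.sub_odd ox odd_one
  obtain ⟨k, rfl⟩ := (Nat.even_mul.1 h2).resolve_left (Nat.not_even_iff_odd.2 on)
  have : k ≠ 0 := by rintro rfl; omega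
  have : n * 2 ≤ n * (k + k) := Nat.mul_le_mul_left _ (by omega)
  omega

theorem modEq_one_of_mul {u x n : ℕ} (hu : u ≡ 1 [MOD n]) (h : u * x ≡ 1 [MOD n]) : x ≡ 1 [MOD n] := by
  have := (hu.mul_right x).symm.trans h
  rwa [one_mul] at this

/-- the arithmetic of (14.15) -/
theorem arith15 {p q u x : ℕ} (pp : p.Prime) (hq : 3 ≤ q) (hp : q + 2 ≤ p) (op : Odd p) (oq : Odd q)
    (ox : Odd x) (h1 : p % q = 1) (hu : q * u = (p ^ q - 1) / (p - 1)) (uq : u ≡ 1 [MOD q])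
    (hp1 : u * x ≡ 1 [MOD p]) (hq1 : u * x ≡ 1 [MOD q]) (ub : u * x ≤ p * q * (p * q - 1) + 1) :
    False := by
  have xq := modEq_one_of_mul uq hq1
  have xp : x ≡ q [MOD p] := by
    have a := (geom_mod (p := p) (by omega) (q := q) (by omega)).mul_right x
    have b := hp1.mul_left q
    rw [← hu, one_mul] at a
    rw [← mul_assoc, mul_one] at b
    exact a.symm.trans b
  have e : x = p * (x / p) + q := by
    have := Nat.div_add_mod x p
    rw [xp, Nat.mod_eq_of_lt (by omega)] at this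
    exact this.symm
  set n := x / p
  have nq : n ≡ 1 [MOD q] := by
    have a : p ≡ 1 [MOD q] := by rw [Nat.ModEq, h1, Nat.mod_eq_of_lt (by omega)]
    refine modEq_one_of_mul a ?_
    rw [e] at xq
    exact (Nat.ModEq.symm (by simp [Nat.ModEq])).trans xq
  have ne : Even n := by
    rw [e, Nat.odd_add'] at ox
    exact (Nat.even_mul.1 (ox.1 oq)).resolve_left (Nat.not_even_iff_odd.2 op)
  have n1 : q + 1 ≤ n := by
    have n0 : 1 ≤ n := by
      by_contra h0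
      have : n = 0 := Nat.eq_zero_of_not_pos h0
      rw [this, Nat.ModEq, Nat.zero_mod, Nat.mod_eq_of_lt (by omega)] at nq
      omega
    obtain ⟨m, hm⟩ := (Nat.modEq_iff_dvd' n0).1 nq.symm
    have : m ≠ 0 := by
      rintro rfl
      have : n = 1 := by omega
      rw [this] at ne
      exact absurd ne (by decide)
    have : q * 1 ≤ q * m := Nat.mul_le_mul_left _ (by omega)
    omega
  have x1 : p * (q + 1) + q ≤ x := by rw [e]; gcongr
  obtain ⟨r, rfl⟩ : ∃ r, q = r + 1 := ⟨q - 1, by omega⟩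
  have g := geom_ge (p := p) (by omega) r
  rw [← hu] at g
  have h4 : p * (r + 1) * (p * (r + 1) - 1) + 1 ≤ p * (r + 1) * (p * (r + 1)) := by
    have : 1 ≤ p * (r + 1) := Nat.mul_pos (by omega) (by omega)
    obtain ⟨t, ht⟩ := Nat.exists_eq_add_of_le' this
    rw [ht, Nat.add_sub_cancel]; nlinarith
  have h5 : p ^ r * p ≤ p * (r + 1) * (p * (r + 1)) := by
    calc p ^ r * p ≤ (r + 1) * u * p := by gcongr
      _ = u * (p * (r + 1)) := by ring
      _ ≤ u * x := by gcongr; nlinarith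
      _ ≤ _ := ub.trans h4
  have r2 : r = 2 := by
    by_contra hr
    have : p ^ 3 ≤ p ^ r := Nat.pow_le_pow_right pp.pos (by omega)
    have h6 : p * (r + 1) * (p * (r + 1)) < p * p * (p * p) := by gcongr <;> omega
    nlinarith
  subst r2
  have p9 : p ≤ 9 := by nlinarith
  have p7 : p = 7 := by
    obtain ⟨k, rfl⟩ := op
    omega
  subst p7
  norm_num at hu x1 ub
  have : u = 19 := by omega
  subst this
  omega

/-- the final inequality of (14.11.4) -/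
theorem arith114 {p q u v k : ℝ} (hq : 3 ≤ q) (hp : q < p) (hu : 2 * q < u) (hv : q ^ 2 * p ≤ v)
    (hk : 2 * p * v < k) {a b c : ℝ} (ha : a ≤ 1 / (p * q)) (hb : b ≤ 1 / (u * q))
    (hc : c ≤ 1 / (v * p)) (h : 1 - p * q / k ≤ a + (p - 1) * (q - 1) / (p * q) + b + c) : False := by
  have p0 : 0 < p := by linarith
  have q0 : 0 < q := by linarith
  have v0 : 2 * q < v := by nlinarith
  have k0 : 0 < k := by nlinarith
  have h1 : p * q / k ≤ 1 / (2 * (p * q)) := by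
    rw [div_le_div_iff₀ k0 (by positivity)]; nlinarith
  have h2 : 1 / (u * q) ≤ 1 / (6 * q) := by
    apply one_div_le_one_div_of_le (by positivity); nlinarith
  have h3 : 1 / (v * p) ≤ 1 / (2 * (p * q)) := by
    apply one_div_le_one_div_of_le (by positivity); nlinarith
  have h4 : 1 ≤ 1 / (2 * (p * q)) + 1 / (p * q) + (p - 1) * (q - 1) / (p * q) + 1 / (6 * q) +
      1 / (2 * (p * q)) := by linarith
  have h5 : 1 / (2 * (p * q)) + 1 / (p * q) + (p - 1) * (q - 1) / (p * q) + 1 / (6 * q) +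
      1 / (2 * (p * q)) = (p * q + 3 - q - 5 * p / 6) / (p * q) := by field_simp; ring
  rw [h5, le_div_iff₀ (by positivity)] at h4
  linarith

end CA.PF.P14
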