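/-
Peterfalvi section 14: group-theoretic lemmas valid for both members of a type `P` pair.
-/
import Cfsg.Agent.PF.I13
import Cfsg.Agent.PF.P14a
import Cfsg.Agent.BG.AppC2

set_option autoImplicit false
set_option linter.unusedSectionVars false

open scoped ComplexConjugate

open Cfsg CA.FG CA.BG CA.Chr

namespace CA.PF.P14

universe u

variable {G : Type u} [Group G] [MinSimpleOdd G]

theorem frob_semiregular {L H E X : Subgroup G} (h : IsFrob L H E) (sXL : X ≤ L) (ti : H ⊓ X = ⊥) :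
    Semiregular H X := by
  intro x hx x1
  rw [eq_bot_iff]
  rintro y ⟨hy, cy⟩
  by_contra y1
  have : x ∈ H := Frobenius_cent1_ker h hy y1 ⟨sXL hx, Subgroup.mem_centralizer_singleton_iff.2
    (Subgroup.mem_centralizer_singleton_iff.1 cy).symm⟩
  exact x1 (Subgroup.mem_bot.1 (ti ▸ ⟨this, hx⟩))

theorem frob_index_dvd {L H E : Subgroup G} (h : IsFrob L H E) : H.relIndex L ∣ Nat.card H - 1 := by
  rw [h.1.complIn.relIndex_left]; exact Frobenius_dvd_ker1 h

theorem modEq_of_dvd_pred {n m : ℕ} (h : n ∣ m - 1) (m0 : 0 < m) : m ≡ 1 [MOD n] :=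
  ((Nat.modEq_iff_dvd' m0).2 h).symm

theorem regular_modEq {K X : Subgroup G} (hn : X ≤ 𝒩(K)) (h : Semiregular K X) :
    Nat.card K ≡ 1 [MOD Nat.card X] := modEq_of_dvd_pred (regular_norm_dvd_pred hn h) Nat.card_pos

theorem type1_data {L E : Subgroup G} (maxL : IsCoatom L) (frob : IsFrob L (fittingHallOf L) E) :
    ∃ ν, CohWith (SF L) (tau0 L) ν ∧ ∃ φ ∈ SF L, φ 1 = (fittingHallOf L).relIndex L := by
  obtain ⟨-, ν, hν⟩ := FT_seqInd_Frobenius_coherence maxL frob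
  obtain ⟨φ, hφ, dφ, -⟩ := exists_lin_SD_of_sol (Fcore_normal L)
    (mFT_sol (sub_mmax_proper maxL (Fcore_le L))) (bot_lt_iff_ne_bot.2 frob.2.1) (norm_bot _)
  exact ⟨ν, hν, φ, hφ, by rw [← dφ, SD_coe_deg (Fcore_normal L) hφ]⟩

section One

variable {S W₁ U W₂ : Subgroup G} (maxS : IsCoatom S) (hS : IsTypePWith S W₁ U W₂)
include maxS hS

theorem W1_three : Nat.card W₁ = 3 ∨ 5 ≤ Nat.card W₁ := by
  have h1 := (FTtypeP_primes maxS hS).1
  obtain ⟨k, hk⟩ := mFT_odd W₁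
  have := h1.two_le
  omega

theorem W2_three : Nat.card W₂ = 3 ∨ 5 ≤ Nat.card W₂ := by
  have h1 := (FTtypeP_primes maxS hS).2
  obtain ⟨k, hk⟩ := mFT_odd W₂
  have := h1.two_le
  omega

theorem Fitting_eq : fittingOf S = fittingHallOf S := by
  rw [typeP_Fitting hS, FTtypeP_reg_Fcore maxS hS, sup_bot_eq]

theorem U_le : Nat.card U ≤ (Nat.card W₂ ^ Nat.card W₁ - 1) / (Nat.card W₂ - 1) := by
  have := (FTtypeP_facts maxS hS).2.2.1
  rwa [(Ptype_Fcompl_kernel_trivial maxS hS).2] at this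

theorem U_modEq : Nat.card U ≡ 1 [MOD Nat.card W₁] :=
  modEq_of_dvd_pred (Frobenius_dvd_ker1 (FTtypeP_facts maxS hS).1.2.2.1) Nat.card_pos

theorem U_gt : 2 * Nat.card W₁ + 1 ≤ Nat.card U :=
  odd_modEq_ge (mFT_odd _) (mFT_odd _) (U_modEq maxS hS)
    (one_lt_card (FTtypeP_facts maxS hS).1.2.2.1.2.1)

theorem card_S : Nat.card S = Nat.card (fittingHallOf S) * (Nat.card U * Nat.card W₁) := by
  rw [← (typeP_sdprod_UW1 hS).1.card_mul, ← (typeP_sdprod_UW1 hS).2.card_mul]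

theorem galois_semiregular (gal : TypePGalois S U) : Semiregular (fittingHallOf S) U := by
  obtain ⟨⟨F, _, _, φ, ψ, η, h⟩, -⟩ := typeP_Galois_P maxS hS (FTtype5_exclusion maxS) gal
  intro u hu u1
  rw [eq_bot_iff]
  rintro x ⟨hx, cx⟩
  have e := h.act_U u hu x hx
  rw [← Subgroup.mem_centralizer_singleton_iff.1 cx, mul_inv_cancel_right] at e
  by_contra x1
  have : φ x ≠ 0 := by
    rw [Ne, h.φ_ker x hx, (Ptype_Fcore_kernel_trivial maxS hS).1]; exact x1
  have := (h.ψ_ker u hu).1 (mul_right_cancel₀ this (e.symm.trans (one_mul _).symm))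
  rw [(Ptype_Fcompl_kernel_trivial maxS hS).1] at this
  exact u1 this

theorem galois_cyclic (gal : TypePGalois S U) : IsCyclic U :=
  abelian_regular_cyclic (FTtypeP_facts maxS hS).1.2.2.2 (mmax_Fcore_neq1 maxS)
    (typeP_sdprod_der hS).norm (galois_semiregular maxS hS gal)

theorem coprime_Galois_core (gal : TypePGalois S U) {g : G}
    (nW : g ∉ classSupport (zHat W₁ W₂) ⊤) (nP : g ∉ classSupport (sharp (fittingHallOf S)) ⊤) :
    (orderOf g).Coprime (Nat.card W₂) := by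
  have pp := (FTtypeP_primes maxS hS).2
  obtain ⟨-, ⟨abP, oP⟩, -, -, ti⟩ := FTtypeP_facts maxS hS
  set p := Nat.card W₂
  rw [Nat.coprime_comm, pp.coprime_iff_not_dvd]
  intro pg
  have pP : IsPGrp p (fittingHallOf S) := pGrp_of_card_eq_pow pp oP
  have pdP : p ∣ Nat.card (fittingHallOf S) := by
    rw [oP]; exact dvd_pow_self _ (Nat.card_pos (α := W₁)).ne'
  have sylP : IsSylowOf p (fittingHallOf S) ⊤ := by
    refine sylow_mk le_top pP fun h => ?_
    exact pp.one_lt.ne' (Nat.eq_one_of_dvd_coprimes (FTcore_facts maxS).1.2 pdP h)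
  set a := g ^ (orderOf g / p) with ha
  have oa : orderOf a = p := orderOf_pow_orderOf_div (orderOf_pos g).ne' pg
  obtain ⟨x, -, hx⟩ := sylow_Jsub pp sylP (Q := Subgroup.zpowers a)
    (pGrp_of_card_eq pp (by rw [Nat.card_zpowers, oa])) le_top
  have a1 : x * a * x⁻¹ ∈ sharp (fittingHallOf S) := by
    refine ⟨hx (conj_mem_conjg x (Subgroup.mem_zpowers a)), fun h => ?_⟩
    have : a = 1 := by simpa using h
    rw [this, orderOf_one] at oa
    exact pp.one_lt.ne oa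
  have cg : x * g * x⁻¹ ∈ 𝒞[x * a * x⁻¹] := by
    rw [Subgroup.mem_centralizer_singleton_iff, ha, ← conj_pow]
    exact (Commute.self_pow _ _).eq
  have gS : x * g * x⁻¹ ∈ S :=
    NormedTI_cent_le ti (FTsupp1_sub0 maxS (Fcore_sub_FTsupp1 maxS a1)) cg
  have og : orderOf (x * g * x⁻¹) = orderOf g := (MulAut.conj x).orderOf_eq g
  have back : ∀ {A : Set G} {y : G}, y ∈ classSupport A ⊤ → y = x * g * x⁻¹ → g ∈ classSupport A ⊤ := by
    rintro A y ⟨b, hb, z, -, e⟩ rfl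
    refine ⟨b, hb, x⁻¹ * z, trivial, ?_⟩
    calc g = x⁻¹ * (x * g * x⁻¹) * x := by group
      _ = _ := by rw [e]; group
  by_cases gD : x * g * x⁻¹ ∈ ⁅S, S⁆
  · have frob := isFrob_sup (typeP_sdprod_der hS).norm (galois_semiregular maxS hS gal)
      (mmax_Fcore_neq1 maxS) (FTtypeP_facts maxS hS).1.2.2.1.2.1
    rw [(typeP_sdprod_der hS).sup_eq] at frob
    refine nP (back ⟨_, ⟨Frobenius_cent1_ker frob a1.1 a1.2 ⟨gD, cg⟩, fun h => ?_⟩, 1, trivial,
      by group⟩ rfl)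
    rw [h, orderOf_one] at og
    rw [← og, Nat.dvd_one] at pg
    exact pp.one_lt.ne' pg
  · have e := FTder_typeP (FTtypeP_neq1 maxS hS)
    have : x * g * x⁻¹ ∈ FTsupp0 S \ FTsupp S := by
      refine ⟨Or.inr ⟨gS, fun h => gD ?_, fun h => ?_⟩, fun h => gD (e ▸ h.1)⟩
      · rw [e] at h
        exact (typeP_der_Hall hS).pHall.mem_of_normal (der_normalIn S).2 h gS
      · rw [e] at h
        exact h p pp (og ▸ pg) ⟨pp, pdP.trans (Subgroup.card_dvd_of_le (typeP_F_le_der hS))⟩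
    rw [FTsupp0_typeP maxS hS] at this
    obtain ⟨b, hb, z, -, e⟩ := this
    exact nW (back ⟨b, hb, z, trivial, e⟩ rfl)

/-- the proportion of conjugates of `P^#` -/
theorem cc_core_le (h2 : FTtype S = 2) :
    ((classSupport (sharp (fittingHallOf S)) ⊤).ncard : ℝ) / Nat.card G ≤
      1 / (Nat.card U * Nat.card W₁) := by
  have ti := (FTtypeII_ker_TI maxS h2).2.2
  rw [FTsupp1, FTcore_type_le2 maxS h2.le] at ti
  rw [CA.BG.P14.ncard_classSupport_normedTI ti, ncard_sharp, ← S.card_mul_index, card_S maxS hS,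
    div_le_div_iff₀ (by have := Nat.card_pos (α := G); rw [← S.card_mul_index, card_S maxS hS] at this
                        exact_mod_cast this)
      (by have := Nat.card_pos (α := U); have := Nat.card_pos (α := W₁); positivity)]
  have : Nat.card (fittingHallOf S) - 1 ≤ Nat.card (fittingHallOf S) := Nat.sub_le _ _
  rw [one_mul]
  norm_cast
  calc _ = (Nat.card (fittingHallOf S) - 1) * (Nat.card U * Nat.card W₁) * S.index := by ring
    _ ≤ _ := by gcongr

theorem SP_irr {N : Subgroup G} (sWN : W₂ ≤ N) {ζ : S → ℂ} (hζ : ζ ∈ SP S ⁅S, S⁆ N) :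
    IsIrrCharacter S ζ := by
  have h := FT_primeTI hS
  obtain ⟨θ, h1, h2, h3, rfl⟩ := mem_SD_self.1 hζ
  rcases h.ind_cases h1 with ⟨j, e, -⟩ | h5
  · refine absurd ?_ h2
    have : j = 1 := MonoidHom.ext fun y => h.eq_one_of_mem_cfker (i := 1) <| by
      have hy : (⟨y, typeP_W2_le_der hS y.2⟩ : ↥⁅S, S⁆) ∈ cfker θ := h3 (sWN y.2)
      rw [e, IsChar.cfker_comp (h.mu_char _ _)] at hy
      have e2 : wM hS (1, y) = iD S ⟨y, typeP_W2_le_der hS y.2⟩ := Subtype.ext (one_mul _)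
      rw [e2]; exact hy
    rw [e, this, h.res_mu_one]
  · exact h5.1

end One

section Two

variable {S T W₁ W₂ U V : Subgroup G} (maxS : IsCoatom S) (hS : IsTypePWith S W₁ U W₂)
  (maxT : IsCoatom T) (hT : IsTypePWith T W₂ V W₁)
include maxS hS maxT hT

theorem card_W1W2J {y : G} (hy : y ∈ fittingHallOf T) :
    Nat.card ↥(W₁ ⊔ W₂ :^ y) = Nat.card W₂ * Nat.card W₁ := by
  have : W₁ :^ y = W₁ := conjg_of_mem_cent ((FTtypeP_norm_cent_compl maxT hT).2.left_le hy)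
  conv_lhs => rw [← this, ← conjg_sup, card_conjg]
  rw [← (snc_dprod hS.selfNormalizing).1.card_mul, mul_comm]

theorem support_cases (h2 : FTtype S = 2) {L : Subgroup G} (maxL : IsCoatom L) (hL : 𝒩(U) ≤ L) :
    (∃ E, IsFrob L (fittingHallOf L) E) ∧ U ≤ fittingHallOf L ∧
    Semiregular (fittingHallOf L) W₁ ∧ W₁ ≤ L ∧
    (((fittingHallOf L).relIndex L = Nat.card W₁ ∧ fittingHallOf L ≠ U) ∨
      ((fittingHallOf L).relIndex L = Nat.card W₂ * Nat.card W₁ ∧
        ∃ y ∈ fittingHallOf T, W₂ :^ y ≤ L ∧ Semiregular (fittingHallOf L) (W₂ :^ y))) := by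
  obtain ⟨⟨E, frob⟩, sUH, h⟩ := FTtypeII_support_facts maxS hS h2 (of_typeP_pair maxS hS maxT hT) maxL hL
  rcases h with h | ⟨y, hy, h⟩
  · refine ⟨⟨E, frob⟩, sUH, frob_semiregular frob h.right_le h.inf_eq, h.right_le,
      Or.inl ⟨h.complIn.relIndex_left, fun e => ?_⟩⟩
    refine (compl_of_typeII maxS hS h2).2.2.1 (hL.trans ?_)
    rw [← h.sup_eq, e]
    exact (typeP_sdprod_UW1 hS).1.right_le
  · have reg := frob_semiregular frob h.right_le h.inf_eq
    exact ⟨⟨E, frob⟩, sUH, semiregularS reg le_rfl le_sup_left, le_sup_left.trans h.right_le,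
      Or.inr ⟨by rw [h.complIn.relIndex_left, card_W1W2J maxS hS maxT hT hy], y, hy,
        le_sup_right.trans h.right_le, semiregularS reg le_rfl le_sup_right⟩⟩

/-- the application of B & G, Theorem C -/
theorem thmC (gal : TypePGalois S U)
    (oU : Nat.card U = (Nat.card W₂ ^ Nat.card W₁ - 1) / (Nat.card W₂ - 1)) {y : G}
    (hy : y ∈ fittingHallOf T) (nU : W₂ :^ y ≤ 𝒩(U)) : Nat.card W₂ ≤ Nat.card W₁ := by
  obtain ⟨qq, pp⟩ := FTtypeP_primes maxS hS
  haveI := Fact.mk pp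
  haveI := Fact.mk qq
  obtain ⟨⟨F, _, _, φ, ψ, η, h⟩, -, co, -⟩ := typeP_Galois_P maxS hS (FTtype5_exclusion maxS) gal
  obtain ⟨k0, pH⟩ := Ptype_Fcore_kernel_trivial maxS hS
  obtain ⟨c0, uU⟩ := Ptype_Fcompl_kernel_trivial maxS hS
  obtain ⟨-, ⟨abQ, oQ⟩, -⟩ := FTtypeP_facts maxT hT
  rw [uU, pH, oU] at co
  have W2 : ∀ x ∈ fittingHallOf S, φ x ^ Nat.card W₂ = φ x → x ∈ W₂ := fun x hx e => by
    have := (h.prime_field x hx).1 (by rwa [pH])
    rwa [k0, sup_bot_eq] at this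
  refine AppC.theoremC (F := F) (P := fittingHallOf S) (U := U) (Q := fittingHallOf T) (f := φ) (ψ := ψ)
    co (by rw [h.card, pH]) ⟨fun _ _ => trivial, fun a ha b hb e => ?_, fun z _ => h.φ_surj z⟩
    h.φ_mul (typeP_sdprod_der hS).norm (fun u hu => ⟨h.ψ_ne u hu, h.act_U u hu⟩) h.ψ_mul
    (fun a ha b hb e => ?_) (by rw [oU, geom_mul pp.two_le]) abQ.1 ?_
    (fun x hx e => Fcore_norm T (typeP_W1_le hT (W2 x hx e))) hy
    (fun x hx e => nU (conj_mem_conjg y (W2 x hx e)))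
  · have := h.φ_mul _ (mul_mem ha (inv_mem hb)) b hb
    rw [inv_mul_cancel_right, e, right_eq_add, h.φ_ker _ (mul_mem ha (inv_mem hb)), k0] at this
    exact mul_inv_eq_one.1 this
  · have := h.ψ_mul _ (mul_mem ha (inv_mem hb)) b hb
    rw [inv_mul_cancel_right, e] at this
    have := (h.ψ_ker _ (mul_mem ha (inv_mem hb))).1
      (mul_right_cancel₀ (h.ψ_ne b hb) (this.symm.trans (one_mul _).symm))
    rw [c0] at this
    exact mul_inv_eq_one.1 this
  · rw [oQ]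
    exact Nat.Coprime.pow_left _ (snc_coprime hS.selfNormalizing)

omit maxT hT in
/-- (14.6) -/
theorem galS_aux (lt : Nat.card W₁ < Nat.card W₂) {L X : Subgroup G} (sUH : U ≤ fittingHallOf L)
    (sXL : X ≤ L) (oX : Nat.card X = Nat.card W₂) (reg : Semiregular (fittingHallOf L) X) :
    TypePGalois S U := by
  by_contra ngal
  obtain ⟨qq, pp⟩ := FTtypeP_primes maxS hS
  obtain ⟨q3, oU⟩ := FTtypeP_nonGalois_facts maxS hS ngal
  obtain ⟨H₁, a, h⟩ := typeP_Galois_Pn maxS hS (FTtype5_exclusion maxS) ngal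
  obtain ⟨⟨-, h2, frobU, cU⟩, -, -, -, ti⟩ := FTtypeP_facts maxS hS
  replace h2 := h2 lt
  obtain ⟨f, hf⟩ := h.emb
  have adv := h.dvd
  rw [(Ptype_Fcore_kernel_trivial maxS hS).2] at adv
  rw [(Ptype_Fcompl_kernel_trivial maxS hS).1, Subgroup.bot_subgroupOf,
    MonoidHom.ker_eq_bot_iff] at hf
  set p := Nat.card W₂
  have ea : ∀ x ∈ U, x ^ a = 1 := by
    intro x hx
    have : (⟨x, hx⟩ : U) ^ a = 1 := hf (by
      rw [map_pow, map_one]
      funext i
      rw [Pi.pow_apply, Pi.one_apply, ← ofAdd_toAdd (f _ i), ← ofAdd_nsmul, nsmul_eq_mul,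
        ZMod.natCast_self, zero_mul, ofAdd_zero])
    exact congrArg Subtype.val this
  have oa : Odd a := (mFT_odd U).of_dvd_nat (h.a_def ▸ Subgroup.relIndex_dvd_card _ _)
  have a2 : 2 * a ≤ p - 1 := by
    refine Nat.le_of_dvd (by have := pp.two_le; omega) (Nat.Coprime.mul_dvd_of_dvd_of_dvd ?_ ?_ adv)
    · exact (Nat.coprime_two_left.2 oa)
    · obtain ⟨k, hk⟩ := mFT_odd W₂
      exact ⟨k, by omega⟩
  have ncU : ¬ IsCyclic U := by
    intro c
    have := Nat.le_of_dvd (by have := h.one_lt; omega) (card_dvd_of_cyclic_of_exp c ea)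
    rw [oU] at this
    have h3 : a ≤ (p - 1) / 2 := by omega
    have h4 := h.one_lt
    nlinarith
  obtain ⟨r, rr, A, EA⟩ := exists_p2Elem_of_abelian cU ncU
  have rU : r ∣ Nat.card U :=
    (dvd_pow_self r two_ne_zero).trans (EA.card ▸ Subgroup.card_dvd_of_le EA.1)
  have ra : r ≤ a := by
    obtain ⟨x, hx, ox⟩ := exists_mem_orderOf_eq rr rU
    exact Nat.le_of_dvd (by have := h.one_lt; omega) (ox ▸ orderOf_dvd_of_pow_eq_one (ea x hx))
  obtain ⟨Y, EY, ntC⟩ := P11.exists_p1Elem_cent_ne_bot rr EA (mmax_Fcore_neq1 maxS)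
    (EA.1.trans (typeP_sdprod_der hS).norm)
    ((typeP_coprime_HU hS).coprime_dvd_right (Subgroup.card_dvd_of_le EA.1))
  obtain ⟨x, hx, x1⟩ := (Subgroup.bot_or_exists_ne_one Y).resolve_left (EY.ne_bot rr one_pos)
  have xU : x ∈ U := EA.1 (EY.1 hx)
  have xA : x ∈ FTsupp0 S := by
    obtain ⟨z, hz, z1⟩ := (Subgroup.bot_or_exists_ne_one _).resolve_left ntC
    refine FTsupp_sub0 S ⟨?_, x1, z, Fcore_le_FTcore maxS hz.1, z1, ?_⟩
    · rw [FTder_typeP (FTtypeP_neq1 maxS hS)]; exact typeP_U_le_der hS xU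
    · exact Subgroup.mem_centralizer_singleton_iff.2 (Subgroup.mem_centralizer_iff.1 hz.2 x hx)
  obtain ⟨R₀, sylR₀, sAR₀⟩ := sylow_superset rr (EA.pGrp rr) EA.1
  have hallU : IsHallOf U S := by
    have hd := typeP_sdprod_der hS
    refine ⟨hd.right_le.trans (der_le S), ?_⟩
    rw [← Subgroup.relIndex_mul_relIndex U ⁅S, S⁆ S hd.right_le (der_le S), hd.complIn.relIndex_right,
      typeP_relIndex_der hS]
    exact Nat.Coprime.mul_right (typeP_coprime_HU hS).symm (Frobenius_coprime frobU)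
  have sylS := sylR₀.trans_isHall hallU rr rU
  set R := pCoreOf r (fittingHallOf L) with hR
  have sR₀R : R₀ ≤ R := nilpotent_le_pcore (Fcore_nil L) (sylR₀.1.trans sUH) sylR₀.pGrp
  have rR : IsPGrp r R := pcore_piGrp _ _
  have eR : R ⊓ S = R₀ := IsPiHallOf.eq_of_le sylS (rR.inf_left _) (le_inf sR₀R sylS.1) inf_le_right
  set Z := ohm1 r 𝒵(R) with hZ
  have sZR₀ : Z ≤ R₀ := by
    rw [← eR]
    intro z hz
    have hz' := ohm1_le r _ hz
    refine ⟨hz'.1, NormedTI_cent_le ti xA (Subgroup.mem_centralizer_singleton_iff.2 ?_)⟩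
    exact (Subgroup.mem_centralizer_iff.1 hz'.2 x (sR₀R (sAR₀ (EY.1 hx)))).symm
  have rk : rank R₀ ≤ 2 := by
    refine ((FTtypeI_II_facts maxS h2.le (U := U) ?_).1 r R₀ rr sylR₀).2
    rw [FTder_typeP (FTtypeP_neq1 maxS hS)]; exact typeP_sdprod_der hS
  have oZ : Nat.card Z ≤ r ^ 2 :=
    (pRank_le_iff rr).1 ((p_rank_le_rank rr R₀).trans rk) Z sZR₀ (ohm1_center_abelem r R)
  obtain ⟨n, hn⟩ := abelem_card rr (ohm1_center_abelem r R)
  have ntR : R ≠ ⊥ := ne_bot_mono ((EY.1.trans sAR₀).trans sR₀R) (EY.ne_bot rr one_pos)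
  have ntZ : Z ≠ ⊥ := ohm1_ne_bot (rR.inf_left _) (center_nil_ne_bot (IsPGrp.nil rR) ntR)
  have nZ : X ≤ 𝒩(Z) := by
    have nR : X ≤ 𝒩(R) := norm_pcore _ (sXL.trans (Fcore_norm L))
    exact norm_ohm1 r (norm_inf nR (norm_cent nR))
  have dv := regular_norm_dvd_pred nZ (semiregularS reg (sZR₀.trans (sylR₀.1.trans sUH)) le_rfl)
  rw [oX, hn] at dv
  have n1 := one_lt_card ntZ
  rw [← hZ] at hn
  rw [hn] at oZ n1
  have n2 : n ≤ 2 := (Nat.pow_le_pow_iff_right rr.one_lt).1 oZ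
  have n0 : n ≠ 0 := by rintro rfl; simp at n1
  have r2 := rr.two_le
  have dv2 : p ∣ (r + 1) * (r - 1) := by
    rw [← Nat.sq_sub_sq r 1, one_pow]
    obtain rfl | rfl : n = 1 ∨ n = 2 := by omega
    · rw [pow_one] at dv
      rw [← one_pow 2, Nat.sq_sub_sq]
      exact dv.mul_left _
    · exact dv
  rcases (Nat.Prime.dvd_mul pp).1 dv2 with h | h
  · have := Nat.le_of_dvd (by omega) h
    omega
  · have := Nat.le_of_dvd (by omega) h
    omega

end Two

end CA.PF.P14
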