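/-
Peterfalvi section 14: character-theoretic lemmas.
-/
import Cfsg.Agent.PF.P14b

set_option autoImplicit false
set_option linter.unusedSectionVars false

open scoped ComplexConjugate

open Cfsg CA.FG CA.BG CA.Chr

namespace CA.PF.P14

universe u

variable {G : Type u} [Group G] [MinSimpleOdd G]

theorem proj_facts {X ι : Type*} [Finite X] (s : Finset ι) (v : ι → X → ℂ)
    (h1 : ∀ i ∈ s, ⟪v i, v i⟫ = 1) (h : ∀ i ∈ s, ∀ j ∈ s, i ≠ j → ⟪v i, v j⟫ = 0) (φ : X → ℂ) :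
    ⟪φ - ∑ i ∈ s, ⟪φ, v i⟫ • v i, ∑ i ∈ s, ⟪φ, v i⟫ • v i⟫ = 0 ∧
      nrm (∑ i ∈ s, ⟪φ, v i⟫ • v i) = ∑ i ∈ s, ‖⟪φ, v i⟫‖ ^ 2 := by
  constructor
  · rw [dot_sum_right]
    refine Finset.sum_eq_zero fun j hj => ?_
    rw [dot_smul_right, dot_sub_left, dot_sum_left, Finset.sum_eq_single j
      (fun i hi hne => by rw [dot_smul_left, h i hi j hj hne, mul_zero]) (fun hn => absurd hj hn),
      dot_smul_left, h1 j hj, mul_one, sub_self, mul_zero]
  · rw [nrm_sum_of_orth _ _ fun i hi j hj hne => by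
      rw [dot_smul_left, dot_smul_right, h i hi j hj hne, mul_zero, mul_zero]]
    exact Finset.sum_congr rfl fun i hi => by
      rw [nrm_smul, nrm_eq_of_dot (r := 1) (by simpa using h1 i hi), mul_one]

theorem one_le_sq_of_ne {x : ℤ} (h : x ≠ 0) : (1 : ℝ) ≤ (x : ℝ) ^ 2 := by
  exact_mod_cast (one_le_sq_iff_one_le_abs x).mpr (Int.one_le_abs h)

theorem one_le_sq_of_odd {x : ℤ} (h : Odd x) : (1 : ℝ) ≤ (x : ℝ) ^ 2 :=
  one_le_sq_of_ne (by rintro rfl; simp at h)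

/-- disjointness of the Dade supports of the kernels of two non-conjugate maximal subgroups -/
theorem core_disjoint {L M : Subgroup G} (maxL : IsCoatom L) (maxM : IsCoatom M)
    (notj : ∀ g, M ≠ L :^ g) :
    Disjoint (dsupp (sharp (fittingHallOf L)) (FTsig L)) (dsupp (sharp (fittingHallOf M)) (FTsig M)) := by
  rw [← FTDadeSupp_eq, ← FTDadeSupp_eq]
  exact (FT_Dade1_support_disjoint maxL maxM notj).mono
    (FTDadeSupp_mono _ (Fcore_sub_FTsupp1 maxL)) (FTDadeSupp_mono _ (Fcore_sub_FTsupp1 maxM))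

/-- the estimate behind (14.14) -/
theorem core_ltr {L M E F : Subgroup G} (maxL : IsCoatom L) (maxM : IsCoatom M)
    (frobL : IsFrob L (fittingHallOf L) E) (frobM : IsFrob M (fittingHallOf M) F)
    (notj : ∀ g, M ≠ L :^ g) {ν : (L → ℂ) →ₗ[ℂ] (G → ℂ)} {ν' : (M → ℂ) →ₗ[ℂ] (G → ℂ)}
    (hν : CohWith (SF L) (tau0 L) ν) (hν' : CohWith (SF M) (tau0 M) ν') {φ : L → ℂ} {ψ : M → ℂ}
    (hφ : φ ∈ SF L) (hψ : ψ ∈ SF M) (dφ : φ 1 = (fittingHallOf L).relIndex L)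
    (dψ : ψ 1 = (fittingHallOf M).relIndex M) (h0 : ⟪tau0 L (bridgeF L φ), ν' ψ⟫ ≠ 0) :
    ((Nat.card (fittingHallOf M) : ℝ) - 1) / (fittingHallOf M).relIndex M ≤
      (fittingHallOf L).relIndex L - 1 := by
  have hL := FT_DadeInd_F maxL
  have hM := FT_DadeInd_F maxM
  have hd := core_disjoint maxL maxM notj
  have iL := (FT_seqInd_Frobenius_coherence maxL frobL).1
  have iM := (FT_seqInd_Frobenius_coherence maxM frobM).1
  obtain ⟨Γ, a, g1, g2, g3, -, -, g4⟩ := hL.Dade_Ind1_sub_lin (mFT_odd L) hν hφ (iL _ hφ) dφ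
  obtain ⟨-, g5⟩ := g4 (IsFrob_index_bound frobL (mFT_odd L)).2
  have nσ := hM.nrm_sumS hν'
  have dσ := fun ξ hξ => hM.dot_sumS hν' (ξ := ξ) hξ
  set σ := ∑ ξ ∈ SD hM.le (fittingHallOf M) ⊥,
    (ξ 1 / (fittingHallOf M).relIndex M / nrm ξ) • ν' ξ with hσ
  have ortho : ∀ ξ ∈ SF L, ∀ μ ∈ SF M, ⟪ν ξ, ν' μ⟫ = 0 := fun ξ hξ μ hμ =>
    disjoint_coherent_ortho mFT_odd_top hL hM hd hν hν' hξ hμ (iL _ hξ) (iM _ hμ)
  have pσ : 0 < nrm σ := by
    rw [nσ]
    refine div_pos (sub_pos.2 ?_) (Nat.cast_pos.mpr (relIndex_pos _ _))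
    exact_mod_cast one_lt_card frobM.2.1
  have oσ : ∀ X, (∀ ξ ∈ SF M, ⟪ν' ξ, X⟫ = 0) → ⟪σ, X⟫ = 0 := fun X hX => by
    rw [hσ, dot_sum_left]
    exact Finset.sum_eq_zero fun ξ hξ => by rw [dot_smul_left, hX ξ hξ, mul_zero]
  have mb := hL.beta_mem hφ dφ
  obtain ⟨x, hx⟩ := ZIrr.dot_int (hL.isoOn.zirr _ mb.1 mb.2) (hν'.zirr _ hψ)
  have h2 : ⟪σ, Γ - (x : ℂ) • σ⟫ = 0 := oσ _ fun ξ hξ => dot_comm_zero <| by
    have mi := hM.sub_mem_CS hψ dψ hξ
    have h3 := congrArg (⟪·, ν' ξ⟫) g3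
    have h4 : ⟪∑ ξ ∈ SD hL.le (fittingHallOf L) ⊥,
        (ξ 1 / (fittingHallOf L).relIndex L / nrm ξ) • ν ξ, ν' ξ⟫ = 0 := by
      rw [dot_sum_left]
      exact Finset.sum_eq_zero fun μ hμ => by rw [dot_smul_left, ortho μ hμ ξ hξ, mul_zero]
    simp only [dot_add_left, dot_sub_left, dot_smul_left, ortho _ hφ ξ hξ, h4, dot_comm_zero
        ((hM.Dade_Ind1_sub_lin_a1 (mFT_odd M) hν' hψ (iM _ hψ) dψ).1 ξ hξ),
      mul_zero, sub_zero, add_zero, zero_add] at h3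
    rw [dot_sub_left, dot_smul_left, dσ ξ hξ, ← h3,
      hM.nu_eq hν' hψ dψ hξ, dot_add_right, dot_smul_right, hx,
      disjoint_DadeInd_ortho hL hM hd (CS_of_ZS mb.1) mb.2 mi.1 mi.2,
      map_div₀, map_natCast, IsChar.conj_one (SD_char hM.normal hξ)]
    ring
  have hx0 := one_le_sq_of_ne (x := x) fun e => h0 (by rw [hx, e, Int.cast_zero])
  rw [dot_sub_right, dot_smul_right, sub_eq_zero, dot_self, map_intCast] at h2
  have h5 := norm_dot_sq_le σ Γ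
  rw [h2, norm_mul, mul_pow, Complex.norm_intCast, sq_abs, Complex.norm_real,
    Real.norm_of_nonneg pσ.le] at h5
  have : nrm σ ≤ nrm Γ := by
    refine le_of_mul_le_mul_left (le_trans ?_ h5) pσ
    nlinarith [sq_nonneg (nrm σ)]
  rw [← nσ]
  exact this.trans g5

section Two

variable {S T W₁ W₂ U V : Subgroup G} (maxS : IsCoatom S) (hS : IsTypePWith S W₁ U W₂)
  (maxT : IsCoatom T) (hT : IsTypePWith T W₂ V W₁)
include maxS hS maxT hT

/-- (14.11.2) -/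
theorem support_coherence {L E : Subgroup G} (maxL : IsCoatom L) (frob : IsFrob L (fittingHallOf L) E)
    (he : (fittingHallOf L).relIndex L ≤ Nat.card W₂ * Nat.card W₁)
    {ν : (L → ℂ) →ₗ[ℂ] (G → ℂ)} (hν : CohWith (SF L) (tau0 L) ν) {φ : L → ℂ} (hφ : φ ∈ SF L)
    (dφ : φ 1 = (fittingHallOf L).relIndex L)
    (hu : ((Nat.card U : ℝ) - 1) / Nat.card W₁ <
      ((Nat.card (fittingHallOf L) : ℝ) - 1) / (fittingHallOf L).relIndex L)
    (hv : ((Nat.card V : ℝ) - 1) / Nat.card W₂ <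
      ((Nat.card (fittingHallOf L) : ℝ) - 1) / (fittingHallOf L).relIndex L) :
    (fittingHallOf L).relIndex L = Nat.card W₂ * Nat.card W₁ ∧
    ∃ a : (W₁ →* ℂˣ) × (W₂ →* ℂˣ) → ℤ, (∀ x, Odd (a x)) ∧
      tau0 L (bridgeF L φ) + ν φ = ∑ x, (a x : ℂ) • etaP hS x.1 x.2 := by
  have hL := FT_DadeInd_F maxL
  have iL := (FT_seqInd_Frobenius_coherence maxL frob).1
  obtain ⟨t1, eA⟩ := FTsupp_Frobenius maxL frob
  obtain ⟨dj, o1, -, c⟩ := FTtypeI_bridge_facts maxS hS maxL t1 hν hφ dφ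
  obtain ⟨-, -, -, c'⟩ := FTtypeI_bridge_facts maxT hT maxL t1 hν hφ dφ
  replace c := (c.resolve_left fun h => h.2.not_gt hu).1
  replace c' := (c'.resolve_left fun h => h.2.not_gt hv).1
  obtain ⟨-, b1, bZ⟩ := hL.Dade_Ind1_sub_lin_a1 (mFT_odd L) hν hφ (iL _ hφ) dφ
  have mb := hL.beta_mem hφ dφ
  have fam := FT_fam hS
  have van : ∀ x y, x ≠ 1 → y ≠ 1 → tau0 L (bridgeF L φ) (wG hS (x, y)) = 0 := fun x y _ _ => by
    refine hL.dade_eq_zero (CS_of_ZS mb.1) mb.2 fun h => ?_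
    rw [← FTDadeSupp_eq, ← eA] at h
    refine Set.disjoint_left.1 dj h ⟨wG hS (x, y), Or.inr ?_, 1, trivial, by group⟩
    rw [← wG_range hS]
    exact ⟨_, rfl⟩
  obtain ⟨Γ, a, g1, g2, g3, g4, -, -⟩ := hL.Dade_Ind1_sub_lin (mFT_odd L) hν hφ (iL _ hφ) dφ
  change tau0 L (bridgeF L φ) = _ at g3
  change ⟪tau0 L (bridgeF L φ), 1⟫ = 1 at b1
  change tau0 L (bridgeF L φ) ∈ ZIrr G at bZ
  set β := tau0 L (bridgeF L φ)
  have odd : ∀ i j, Odd (zdot β (etaP hS i j)) := by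
    have a0 : zdot β (etaP hS 1 1) = 1 := zdot_eq (by rw [fam.one, b1]; simp)
    have a1 : ∀ j, Odd (zdot β (etaP hS 1 j)) := fun j => by
      by_cases hj : j = 1
      · rw [hj, a0]; exact odd_one
      · exact c j hj
    have a2 : ∀ i, Odd (zdot β (etaP hS i 1)) := fun i => by
      by_cases hi : i = 1
      · rw [hi, a0]; exact odd_one
      · rw [← etaP_swap hS hT]; exact c' i hi
    intro i j
    have e := fam.exchange (ZIrr.mem_CF bZ) van i 1 j 1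
    simp only [← ZIrr.coe_zdot bZ (fam.zirr _ _)] at e
    have e' : zdot β (etaP hS i j) = zdot β (etaP hS i 1) + zdot β (etaP hS 1 j) - 1 := by
      rw [← a0, eq_sub_iff_add_eq]; exact_mod_cast e
    rw [e']
    exact ((a2 i).add_odd (a1 j)).sub_odd odd_one
  have co : ∀ i j, ⟪1 + Γ, etaP hS i j⟫ = zdot β (etaP hS i j) := fun i j => by
    rw [ZIrr.coe_zdot bZ (fam.zirr _ _), g3]
    simp only [dot_add_left, dot_sub_left, dot_smul_left, o1 _ hφ, dot_sum_left]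
    rw [Finset.sum_eq_zero fun ξ hξ => by rw [o1 ξ hξ, mul_zero]]
    ring
  have n1 : nrm (1 + Γ) = 1 + nrm Γ := by
    rw [nrm_add_of_orth (dot_comm_zero g2), nrm_eq_of_dot (r := 1) (by simpa using dot_one_one)]
  have lb : (Nat.card W₂ * Nat.card W₁ : ℝ) ≤
      ∑ x : (W₁ →* ℂˣ) × (W₂ →* ℂˣ), ‖⟪1 + Γ, etaP hS x.1 x.2⟫‖ ^ 2 := by
    refine le_trans ?_ (Finset.card_nsmul_le_sum _ _ (1 : ℝ) fun x _ => ?_)
    · rw [Finset.card_univ, Fintype.card_prod, fam.card_lin1, fam.card_lin2]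
      simp [mul_comm]
    · rw [co, Complex.norm_intCast, sq_abs]
      exact one_le_sq_of_odd (odd _ _)
  have ub := fam.bessel Finset.univ (1 + Γ)
  have he' : ((fittingHallOf L).relIndex L : ℝ) ≤ Nat.card W₂ * Nat.card W₁ := by exact_mod_cast he
  have h2 : (2 : ℝ) ≤ ((Nat.card U : ℝ) - 1) / Nat.card W₁ := by
    rw [le_div_iff₀ (Nat.cast_pos.2 Nat.card_pos), le_sub_iff_add_le]
    exact_mod_cast U_gt maxS hS
  set r := ((Nat.card (fittingHallOf L) : ℝ) - 1) / (fittingHallOf L).relIndex L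
  have a0 : a = 0 := by
    by_contra ne
    have e1 : (a : ℝ) ≤ a ^ 2 := by exact_mod_cast Int.le_self_sq a
    have := one_le_sq_of_ne ne
    nlinarith
  subst a0
  simp only [Int.cast_zero, zero_smul, add_zero] at g3
  refine ⟨?_, fun x => zdot β (etaP hS x.1 x.2), fun x => odd _ _, ?_⟩
  · refine le_antisymm he ?_
    have : (Nat.card W₂ * Nat.card W₁ : ℝ) ≤ (fittingHallOf L).relIndex L := by
      simp only [Int.cast_zero] at g4; linarith
    exact_mod_cast this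
  · have := eq_sum_of_bessel Finset.univ (fun x : (W₁ →* ℂˣ) × (W₂ →* ℂˣ) => etaP hS x.1 x.2)
      (fun x _ => fam.dot_self _ _) (fun x _ y _ hne => by
        rw [fam.orth, if_neg fun h => hne (Prod.ext h.1 h.2)]) (φ := 1 + Γ) (by
        simp only [Int.cast_zero] at g4; linarith)
    simp only [co] at this
    rw [← this, g3]
    abel

theorem bridge_ortho (gt2 : 2 < FTtype T) {j : W₂ →* ℂˣ} (hj : j ≠ 1) {α : T → ℂ}
    (hα : α ∈ CS (ST (der_normalIn T).1)) (h1 : α 1 = 0) :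
    ⟪tau0 S (bridgeP hS j), tau0 T α⟫ = 0 := by
  have pair := of_typeP_pair maxS hS maxT hT
  have ti := (FTtypeP_facts maxS hS).2.2.2.2
  have supp := (FTtypeP_bridge_facts maxS hS).1 j hj
  refine dot_eq_zero_of_disjoint fun g => ?_
  by_cases hg : g ∈ FTDadeSupp T (FTsupp1 T)
  · refine Or.inl (tau0_eq_zero maxS (A := {a | a ∈ FTsupp0 S ∧
      (a ∈ sharp (fittingHallOf S) ∨ a ∈ classSupport (zHat W₁ W₂) S)})
      (sub_mem (ind_mem_CF _ _) ((FT_primeTI hS).mu_CF _ _))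
      (fun a ha => by_contra fun h => ha (supp a h)) ?_)
    rintro ⟨a, ⟨a0, ha | ⟨b, hb, z, -, e⟩⟩, r, hr, y, rfl⟩
    · exact Set.disjoint_left.1 (FT_Dade1_support_disjoint maxS maxT (typeP_pair_notJ pair))
        ⟨a, Fcore_sub_FTsupp1 maxS ha, r, hr, y, rfl⟩ hg
    · rw [FTsig, if_pos (NormedTI_cent_le ti a0), Subgroup.mem_bot] at hr
      refine Set.disjoint_left.1 ((FT_Dade_support_partition_P pair).2 T maxT)
        ⟨b, hb, y * z, trivial, ?_⟩ hg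
      rw [hr, e]; group
  · refine Or.inr ((FT_DadeInd_der maxT gt2).dade_eq_zero hα h1 ?_)
    rwa [FTDadeSupp_eq, FTsupp1, FTcore_type_gt2 maxT gt2] at hg

/-- the estimate of (14.9) -/
theorem gt2_bound (gt2 : 2 < FTtype T) :
    ((Nat.card V : ℝ) - 1) / Nat.card W₂ ≤ ((Nat.card U : ℝ) - 1) / Nat.card W₁ := by
  have hD := FT_DadeInd_der maxT gt2
  have nD := der_normalIn T
  obtain ⟨st, -⟩ := FTtype34_structure maxT hT gt2
  have eF := Fitting_eq maxT hT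
  have irr : ∀ ζ ∈ SP T ⁅T, T⁆ (fittingOf T), IsIrrCharacter T ζ := fun ζ =>
    SP_irr maxT hT (eF ▸ typeP_W2_le_F hT)
  have dg : ∀ ζ ∈ SP T ⁅T, T⁆ (fittingOf T), ζ 1 = Nat.card W₂ := by
    intro ζ hζ
    obtain ⟨θ, h1, -, h3, rfl⟩ := mem_SD_self.1 hζ
    obtain ⟨l, rfl⟩ := IsIrr.exists_lin_of_comm h1 fun x y => h3 (by
      rw [Subgroup.mem_subgroupOf, ← (FTtype34_facts maxT hT gt2).1]
      exact Subgroup.commutator_mem_commutator x.2 y.2)
    rw [indA_one, typeP_relIndex_der hT]; simp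
  obtain ⟨R, sub, -⟩ := FTtypeP_subcoh maxT hT
  have sC : SP T ⁅T, T⁆ (fittingOf T) ⊆ SP T (sigmaCore T) ⊥ := by
    rw [FTcore_type_gt2 maxT gt2]; exact SD_sub_bot
  obtain ⟨ν, hν⟩ := sub.uniform_sub sC (SD_conj nD) fun φ hφ ψ hψ => by rw [dg φ hφ, dg ψ hψ]
  have oη := fun ζ hζ => coherent_ortho_cycTIiso maxT hT sC (SD_conj nD) hν hζ (irr ζ hζ)
  obtain ⟨-, -, ⟨Γ, eΓ, zΓ, Γ1, rΓ, bΓ⟩, -⟩ := FTtypeP_bridge_facts maxS hS
  have fam := FT_fam hT
  obtain ⟨j, hj⟩ : ∃ j : W₂ →* ℂˣ, j ≠ 1 :=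
    Fintype.exists_ne_of_one_lt_card (by rw [fam.card_lin1]; have := fam.three_le1; omega) 1
  have key : ∀ ζ ∈ SP T ⁅T, T⁆ (fittingOf T), 1 ≤ ‖⟪Γ, ν ζ⟫‖ ^ 2 := by
    intro ζ hζ
    have hζ' := SD_conj nD ζ hζ
    have mb := hD.beta_mem (SD_sub_bot hζ) (by rw [dg ζ hζ, typeP_relIndex_der hT])
    have bZ := hD.isoOn.zirr _ mb.1 mb.2
    have s := st ζ hζ
    rw [(FT_primeTI hT).muS_one] at s
    have o := bridge_ortho maxS hS maxT hT gt2 hj (CS_of_ZS mb.1) mb.2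
    have rB : conjFun (tau0 T (indA nD.1 1 - ζ) + ν ζ) = tau0 T (indA nD.1 1 - ζ) + ν ζ := by
      rw [conjFun_add, hν.conj_eq (sub.toIsoOn.mono sC).one dade_conjFun hζ hζ' (irr ζ hζ)
        (SD_conj_ne nD (mFT_odd T) ζ hζ), ← dade_conjFun, conjFun_sub, ← ind_conjFun, conjFun_one,
        show indA nD.1 1 - conjFun ζ = (indA nD.1 1 - ζ) + (ζ - conjFun ζ) by abel, map_add,
        hν.agree_sub hζ hζ' (IsChar.conj_deg (IsIrr.isChar (irr ζ hζ))).symm]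
      abel
    have ev := (cfdot_real_vchar_even mFT_odd_top zΓ rΓ (add_mem bZ (hν.zirr ζ hζ)) rB).2
      (Or.inl (by rw [zdot_eq (n := 0) (by rw [Γ1]; simp)]; exact Even.zero))
    obtain ⟨x, hx⟩ := ZIrr.dot_int zΓ (hν.zirr ζ hζ)
    have e1 : ⟪Γ, tau0 T (indA nD.1 1 - ζ)⟫ = -1 := by
      have s1 := s 1 1
      have s2 := s j 1
      rw [fam.one, if_pos rfl] at s1
      rw [if_neg hj, etaP_swap hS hT] at s2
      rw [← eΓ j hj, dot_add_left, dot_sub_left, o, dot_comm_zero s2,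
        dot_comm_of_int (n := 1) (by simpa using s1)]
      simp
    rw [zdot_eq (n := x - 1) (by rw [dot_add_right, e1, hx]; push_cast; ring)] at ev
    rw [hx, Complex.norm_intCast, sq_abs]
    exact one_le_sq_of_ne (by rintro rfl; simp at ev)
  obtain ⟨p1, p2⟩ := proj_facts (SP T ⁅T, T⁆ (fittingOf T)) ν
    (fun ζ hζ => (hν.dirr hζ (irr ζ hζ)).dot_self)
    (fun ζ hζ ξ hξ hne => by rw [hν.iso _ hζ _ hξ, SD_orth nD hζ hξ hne]) Γ
  have ub := bΓ _ _ (sub_add_cancel _ _).symm p1 fun i k => by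
    rw [dot_sum_left]
    exact Finset.sum_eq_zero fun ζ hζ => by
      rw [dot_smul_left, ← etaP_swap hS hT, oη ζ hζ, mul_zero]
  have lb := Finset.card_nsmul_le_sum _ _ _ key
  have cnt := sum_SD_sq nD nD.2 (fitting_normal T).2 hT.fitting_le le_rfl
  rw [Finset.sum_congr rfl (g := fun _ => (Nat.card W₂ : ℝ) ^ 2) fun ζ hζ => by
    rw [deg_eq (dg ζ hζ), IsIrr.nrm (irr ζ hζ), div_one], typeP_relIndex_der hT, eF,
    (typeP_sdprod_UW1 hT).1.complIn.relIndex_left, ← (typeP_sdprod_UW1 hT).2.card_mul,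
    Finset.sum_const, nsmul_eq_mul, ← eF] at cnt
  rw [p2] at ub
  rw [nsmul_eq_mul, mul_one] at lb
  refine le_trans (le_of_eq ?_) (lb.trans ub)
  have p0 : (0 : ℝ) < Nat.card W₂ := Nat.cast_pos.2 Nat.card_pos
  rw [div_eq_iff p0.ne']
  refine mul_right_cancel₀ p0.ne' ?_
  push_cast at cnt
  linarith

omit maxS maxT hT in
theorem parity_sum {a : (W₁ →* ℂˣ) × (W₂ →* ℂˣ) → ℤ} (ha : ∀ x, Odd (a x)) {g : G}
    (co : (orderOf g).Coprime (Nat.card W₂ * Nat.card W₁)) :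
    ∃ n : ℤ, Odd n ∧ (∑ x, (a x : ℂ) • etaP hS x.1 x.2) g = n := by
  classical
  have fam := FT_fam hS
  have hn : ∀ x : (W₁ →* ℂˣ) × (W₂ →* ℂˣ), ∃ n : ℤ, etaP hS x.1 x.2 g = n := fun x =>
    fam.int_of_coprime (Nat.mul_pos Nat.card_pos Nat.card_pos).ne'
      (MonoidHom.ext fun y => by
        rw [MonoidHom.pow_apply, ← map_pow, pow_mul', pow_card_eq_one', one_pow, map_one]; rfl)
      (MonoidHom.ext fun y => by
        rw [MonoidHom.pow_apply, ← map_pow, pow_mul, pow_card_eq_one', one_pow, map_one]; rfl) co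
  choose n hn using hn
  refine ⟨∑ x, a x * n x, ?_, by simp [Finset.sum_apply, hn]⟩
  have n1 : n 1 = 1 := by
    have := hn 1
    rw [Prod.fst_one, Prod.snd_one, fam.one, Pi.one_apply] at this
    exact_mod_cast this.symm
  have ni : ∀ x, n x⁻¹ = n x := fun x => by
    have := congrFun (fam.conjFun_eq x.1 x.2) g
    rw [conjFun_apply, hn, map_intCast] at this
    exact_mod_cast (hn x⁻¹).symm.trans this.symm
  have e3 : ∑ x ∈ Finset.univ.erase 1, ((n x : ℤ) : ZMod 2) = 0 :=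
    Finset.sum_involution (fun x _ => x⁻¹) (fun x _ => by rw [ni, CharTwo.add_self_eq_zero])
      (fun x hx _ e => Finset.ne_of_mem_erase hx (Prod.ext
        (by_contra fun h => PrimeTI.inv_ne_self_of_odd (mFT_odd W₁) h (congrArg Prod.fst e))
        (by_contra fun h => PrimeTI.inv_ne_self_of_odd (mFT_odd W₂) h (congrArg Prod.snd e))))
      (fun x hx => Finset.mem_erase.2 ⟨inv_ne_one.2 (Finset.ne_of_mem_erase hx), Finset.mem_univ _⟩)
      fun x _ => inv_inv x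
  rw [← ZMod.intCast_eq_one_iff_odd, Int.cast_sum, Finset.sum_congr rfl (g := fun x => (n x : ZMod 2))
    fun x _ => by rw [Int.cast_mul, ZMod.intCast_eq_one_iff_odd.2 (ha x), one_mul],
    ← Finset.add_sum_erase _ _ (Finset.mem_univ 1), e3, n1, add_zero, Int.cast_one]

/-- the counting argument of (14.11) -/
theorem count_bound (S2 : FTtype S = 2) (T2 : FTtype T = 2) (galS : TypePGalois S U)
    (galT : TypePGalois T V) {L E : Subgroup G} (maxL : IsCoatom L)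
    (frob : IsFrob L (fittingHallOf L) E)
    (he : (fittingHallOf L).relIndex L = Nat.card W₂ * Nat.card W₁)
    {ν : (L → ℂ) →ₗ[ℂ] (G → ℂ)} (hν : CohWith (SF L) (tau0 L) ν) {φ : L → ℂ} (hφ : φ ∈ SF L)
    (dφ : φ 1 = (fittingHallOf L).relIndex L) {a : (W₁ →* ℂˣ) × (W₂ →* ℂˣ) → ℤ} (ha : ∀ x, Odd (a x))
    (e : tau0 L (bridgeF L φ) + ν φ = ∑ x, (a x : ℂ) • etaP hS x.1 x.2) :
    1 - (Nat.card W₂ * Nat.card W₁ : ℝ) / Nat.card (fittingHallOf L) ≤
      1 / (Nat.card W₂ * Nat.card W₁) +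
      (Nat.card W₂ - 1) * (Nat.card W₁ - 1) / (Nat.card W₂ * Nat.card W₁) +
      1 / (Nat.card U * Nat.card W₁) + 1 / (Nat.card V * Nat.card W₂) := by
  have hL := FT_DadeInd_F maxL
  have iL := (FT_seqInd_Frobenius_coherence maxL frob).1
  obtain ⟨Γ, b, -, -, -, -, -, g4⟩ := hL.Dade_Ind1_sub_lin (mFT_odd L) hν hφ (iL _ hφ) dφ
  obtain ⟨g4, -⟩ := g4 (IsFrob_index_bound frob (mFT_odd L)).2
  have mb := hL.beta_mem hφ dφ
  have hχ := hν.dirr hφ (iL _ hφ)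
  set A := dsupp (sharp (fittingHallOf L)) (FTsig L) with hA
  set B := classSupport (zHat W₁ W₂) ⊤ with hB
  set C := classSupport (sharp (fittingHallOf S)) ⊤ with hC
  set D := classSupport (sharp (fittingHallOf T)) ⊤ with hD
  have g0 : (0 : ℝ) < Nat.card G := Nat.cast_pos.2 Nat.card_pos
  have h1 : nrm ((A ∪ B ∪ C ∪ D)ᶜ.indicator (1 : G → ℂ)) ≤ nrm (Aᶜ.indicator (ν φ)) := by
    cases nonempty_fintype G
    rw [nrm_def, nrm_def]
    refine mul_le_mul_of_nonneg_left (Finset.sum_le_sum fun g _ => ?_) (by positivity)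
    by_cases hg : g ∈ (A ∪ B ∪ C ∪ D)ᶜ
    · have hg' := hg
      simp only [Set.mem_compl_iff, Set.mem_union, not_or] at hg'
      obtain ⟨⟨⟨gA, gB⟩, gC⟩, gD⟩ := hg'
      obtain ⟨n, on, hn⟩ := parity_sum hS ha (g := g) (Nat.Coprime.mul_right
        (coprime_Galois_core maxS hS galS gB gC)
        (coprime_Galois_core maxT hT galT (by rwa [← zHat_comm]) gD))
      rw [← e, Pi.add_apply, hL.dade_eq_zero (CS_of_ZS mb.1) mb.2 gA, zero_add] at hn
      rw [Set.indicator_of_mem hg, Set.indicator_of_mem (show g ∈ Aᶜ from gA), hn,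
        Complex.norm_intCast, sq_abs]
      simpa using one_le_sq_of_odd on
    · rw [Set.indicator_of_notMem hg]; simp
  have h2 := nrm_indicator_add_compl A (ν φ)
  have h3 := Dade.nrm_rho_le_indicator hL.dadeH (ZIrr.mem_CF hχ.mem_ZIrr)
  have h4 := nrm_indicator_add_compl (A ∪ B ∪ C ∪ D) (1 : G → ℂ)
  rw [nrm_eq_of_dot (φ := 1) (r := 1) (by simpa using dot_one_one), nrm_indicator_one] at h4
  have h5 : ((A ∪ B ∪ C ∪ D).ncard : ℝ) ≤ A.ncard + B.ncard + C.ncard + D.ncard := by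
    have := Set.ncard_union_le (A ∪ B ∪ C) D
    have := Set.ncard_union_le (A ∪ B) C
    have := Set.ncard_union_le A B
    exact_mod_cast (by omega)
  have h6 := div_le_div_of_nonneg_right h5 g0.le
  have p0 : (0 : ℝ) < Nat.card W₂ := Nat.cast_pos.2 Nat.card_pos
  have q0 : (0 : ℝ) < Nat.card W₁ := Nat.cast_pos.2 Nat.card_pos
  have hA' : (A.ncard : ℝ) / Nat.card G ≤ 1 / (Nat.card W₂ * Nat.card W₁) := by
    rw [← nrm_indicator_one, hA, Dade.nrm_indicator_one hL.dadeH, ncard_sharp, ← hL.relIndex_mul, he,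
      Nat.cast_sub Nat.card_pos]
    have k0 : (0 : ℝ) < Nat.card (fittingHallOf L) := Nat.cast_pos.2 Nat.card_pos
    push_cast
    rw [div_le_div_iff₀ (by positivity) (by positivity)]
    nlinarith [mul_pos p0 q0]
  have hB' : (B.ncard : ℝ) / Nat.card G =
      (Nat.card W₂ - 1) * (Nat.card W₁ - 1) / (Nat.card W₂ * Nat.card W₁) := by
    have dp := snc_dprod hS.selfNormalizing
    have i0 : (0 : ℝ) < (W₁ ⊔ W₂).index := Nat.cast_pos.2 (index_pos _)
    rw [hB, CA.BG.P14.ncard_classSupport_normedTI (snc_normedTI hS.selfNormalizing),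
      CA.BG.P14.ncard_zHat dp, ← (W₁ ⊔ W₂).card_mul_index, ← dp.card_mul]
    push_cast [Nat.cast_sub (Nat.card_pos (α := W₁)), Nat.cast_sub (Nat.card_pos (α := W₂))]
    field_simp
  have hC' := cc_core_le maxS hS S2
  have hD' := cc_core_le maxT hT T2
  rw [hχ.nrm] at h2
  rw [he] at g4
  push_cast at g4
  rw [add_div, add_div, add_div] at h6
  linarith

end Two

end CA.PF.P14
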