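/-
Peterfalvi section 14: the final contradiction.
-/
import Cfsg.Agent.PF.P14c

set_option autoImplicit false
set_option linter.unusedSectionVars false

open scoped ComplexConjugate

open Cfsg CA.FG CA.BG CA.Chr

namespace CA.PF.P14

universe u

variable {G : Type u} [Group G] [MinSimpleOdd G]

theorem nat_of_div_le {h n : ℕ} (n0 : 0 < n) (h1 : ((h : ℝ) - 1) / n ≤ n - 1) : h ≤ n * (n - 1) + 1 := by
  rw [div_le_iff₀ (Nat.cast_pos.2 n0)] at h1
  have : (h : ℝ) ≤ n * (n - 1 : ℕ) + 1 := by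
    rw [Nat.cast_sub n0]; push_cast; linarith
  exact_mod_cast this

theorem one_lt_cofactor {U H : Subgroup G} (sUH : U ≤ H) (ne : H ≠ U) {x : ℕ}
    (hx : Nat.card H = Nat.card U * x) : 1 < x := by
  have := Nat.card_pos (α := H)
  rcases x with _ | _ | x
  · omega
  · exact absurd (Subgroup.eq_of_le_of_card_ge sUH (by omega)).symm ne
  · omega

section Two

variable {S T W₁ W₂ U V : Subgroup G} (maxS : IsCoatom S) (hS : IsTypePWith S W₁ U W₂)
  (maxT : IsCoatom T) (hT : IsTypePWith T W₂ V W₁)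
include maxS hS maxT hT

omit maxT hT in
theorem norm_U_proper : 𝒩(U) ≠ ⊤ :=
  mFT_norm_proper (FTtypeP_facts maxS hS).1.2.2.1.2.1
    (sub_mmax_proper maxS ((typeP_U_le_der hS).trans (der_le S)))

theorem main_lt (lt : Nat.card W₁ < Nat.card W₂) : False := by
  obtain ⟨qq, pp⟩ := FTtypeP_primes maxS hS
  have hq := W1_three maxS hS
  have oq := mFT_odd W₁
  have op := mFT_odd W₂
  have hp : Nat.card W₁ + 2 ≤ Nat.card W₂ := by
    obtain ⟨a, ha⟩ := oq
    obtain ⟨b, hb⟩ := op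
    omega
  have S2 := (FTtypeP_facts maxS hS).1.2.1 lt
  have p0 : (0 : ℝ) < Nat.card W₂ := Nat.cast_pos.2 Nat.card_pos
  have q0 : (0 : ℝ) < Nat.card W₁ := Nat.cast_pos.2 Nat.card_pos
  -- (14.4)
  have galT : TypePGalois T V := by
    by_contra h
    have := (FTtypeP_nonGalois_facts maxT hT h).1
    omega
  have oV := card_FTtypeP_Galois_compl maxT hT galT
  rw [if_neg (by rw [Nat.mod_eq_of_lt lt]; omega)] at oV
  have uv : ((Nat.card U : ℝ) - 1) / Nat.card W₁ < ((Nat.card V : ℝ) - 1) / Nat.card W₂ := by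
    rw [oV]; exact v1p_gt_u1q hq hp (U_le maxS hS)
  -- (14.9)
  have T2 : FTtype T = 2 := by
    by_contra h
    have := (FTtypeP_facts maxT hT).1.1
    exact (gt2_bound maxS hS maxT hT (by omega)).not_gt uv
  -- (14.5)
  obtain ⟨L, maxL, hL⟩ := mmax_exists (norm_U_proper maxS hS)
  obtain ⟨⟨E, frobL⟩, sUH, regL, sW1L, caseL⟩ := support_cases maxS hS maxT hT S2 maxL hL
  obtain ⟨ν, hν, φ, hφ, dφ⟩ := type1_data maxL frobL
  obtain ⟨eL, y, hy, sW2L, reg2⟩ := caseL.resolve_left fun ⟨e, ne⟩ => by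
    rcases (FTtypeI_bridge_facts maxS hS maxL (FTsupp_Frobenius maxL frobL).1 hν hφ dφ).2.2.2 with
      ⟨-, c⟩ | ⟨-, c⟩
    · rw [e, div_le_div_iff_of_pos_right q0, sub_le_sub_iff_right, Nat.cast_le] at c
      exact ne (Subgroup.eq_of_le_of_card_ge sUH c).symm
    · omega
  -- (14.6), (14.7)
  have galS := galS_aux maxS hS lt sUH sW2L (card_conjg _ _) reg2
  have oU := card_FTtypeP_Galois_compl maxS hS galS
  have gm := geom_mod pp.two_le qq.one_lt.le
  have notN : ¬ L ≤ 𝒩(U) := fun h => by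
    by_cases h1 : Nat.card W₂ % Nat.card W₁ = 1
    · have h2 := regular_modEq (sW2L.trans h) (semiregularS reg2 sUH le_rfl)
      rw [card_conjg] at h2
      rw [if_pos h1] at oU
      rw [← Nat.div_mul_cancel (geom_dvd pp.two_le h1), ← oU] at gm
      have := odd_modEq_ge oq op (modEq_one_of_mul h2 gm) qq.one_lt
      omega
    · rw [if_neg h1] at oU
      exact (thmC maxS hS maxT hT galS oU hy (sW2L.trans h)).not_gt lt
  -- (14.11)
  obtain ⟨M, maxM, hM⟩ := mmax_exists (norm_U_proper maxT hT)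
  obtain ⟨⟨F, frobM⟩, sVK, regM, sW2M, caseM⟩ := support_cases maxT hT maxS hS T2 maxM hM
  obtain ⟨ν', hν', ψ, hψ, dψ⟩ := type1_data maxM frobM
  have KV : fittingHallOf M = V := by
    by_contra ne
    obtain ⟨x, hx⟩ := Subgroup.card_dvd_of_le sVK
    have x2 := odd_modEq_ge ((mFT_odd _).of_dvd_nat (Dvd.intro_left _ hx.symm)) op
      (modEq_one_of_mul (U_modEq maxT hT) (hx ▸ regular_modEq (sW2M.trans (Fcore_norm M)) regM))
      (one_lt_cofactor sVK ne hx)
    have v0 := Nat.card_pos (α := V)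
    have hk : 2 * (Nat.card W₂ : ℝ) * Nat.card V < Nat.card (fittingHallOf M) := by
      have : 2 * Nat.card W₂ * Nat.card V < Nat.card (fittingHallOf M) := by rw [hx]; nlinarith
      exact_mod_cast this
    have he : (fittingHallOf M).relIndex M ≤ Nat.card W₂ * Nat.card W₁ := by
      rcases caseM with ⟨e, -⟩ | ⟨e, -⟩
      · rw [e]; exact Nat.le_mul_of_pos_right _ qq.pos
      · rw [e, mul_comm]
    have lt' : (Nat.card W₁ : ℝ) < Nat.card W₂ := by exact_mod_cast lt
    have v1 : (1 : ℝ) ≤ Nat.card V := by exact_mod_cast v0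
    have q3 : (3 : ℝ) ≤ Nat.card W₁ := by exact_mod_cast (by omega : 3 ≤ Nat.card W₁)
    have hv : ((Nat.card V : ℝ) - 1) / Nat.card W₂ <
        ((Nat.card (fittingHallOf M) : ℝ) - 1) / (fittingHallOf M).relIndex M := by
      have he' : ((fittingHallOf M).relIndex M : ℝ) ≤ Nat.card W₂ * Nat.card W₁ := by exact_mod_cast he
      rw [div_lt_div_iff₀ p0 (Nat.cast_pos.2 (relIndex_pos _ _))]
      refine (mul_le_mul_of_nonneg_left he' (by linarith)).trans_lt ?_
      rw [mul_comm (Nat.card W₂ : ℝ), ← mul_assoc]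
      refine mul_lt_mul_of_pos_right ?_ p0
      nlinarith
    obtain ⟨e, a, ha, eq⟩ := support_coherence maxS hS maxT hT maxM frobM he hν' hψ dψ (uv.trans hv) hv
    refine arith114 q3 lt' (u := Nat.card U) ?_ ?_ hk le_rfl le_rfl le_rfl
      (count_bound maxS hS maxT hT S2 T2 galS galT maxM frobM e hν' hψ dψ ha eq)
    · exact_mod_cast U_gt maxS hS
    · rw [oV]; exact_mod_cast sq_mul_le_geom (by omega) (by omega)
  have eM := (caseM.resolve_left fun h => h.2 KV).1
  rw [mul_comm] at eM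
  -- (14.12)
  have notj : ∀ g, M ≠ L :^ g := fun g e => notN <| by
    have : IsCyclic (fittingHallOf L) := by
      rw [← cyclic_conjg (g := g), ← FcoreJ, ← e, KV]; exact galois_cyclic maxT hT galT
    exact (Fcore_norm L).trans (norm_le_norm_of_cyclic this sUH)
  have notj' : ∀ g, L ≠ M :^ g := fun g e => notj g⁻¹ (by rw [e, conjg_inv_cancel])
  have iL := (FT_seqInd_Frobenius_coherence maxL frobL).1
  have iM := (FT_seqInd_Frobenius_coherence maxM frobM).1
  have pq0 : 0 < Nat.card W₂ * Nat.card W₁ := Nat.mul_pos pp.pos qq.pos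
  -- (14.14)
  have cs : Nat.card (fittingHallOf L) ≤
      Nat.card W₂ * Nat.card W₁ * (Nat.card W₂ * Nat.card W₁ - 1) + 1 ∨
      (⟪tau0 L (bridgeF L φ), ν' ψ⟫ ≠ 0 ∧ Nat.card W₁ = 3 ∧ Nat.card W₂ = 5) := by
    rcases Dade_sub_lin_nonorthogonal mFT_odd_top (FT_DadeInd_F maxL) (FT_DadeInd_F maxM)
      (core_disjoint maxL maxM notj) hν hν' hφ hψ (iL _ hφ) (iM _ hψ) dφ dψ with h | h
    · have := core_ltr maxL maxM frobL frobM notj hν hν' hφ hψ dφ dψ h
      rw [eL, eM, KV] at this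
      exact Or.inr ⟨h, three_five (by omega) hp op (oV ▸ nat_of_div_le pq0 this)⟩
    · have := core_ltr maxM maxL frobM frobL notj' hν' hν hψ hφ dψ dφ h
      rw [eL, eM] at this
      exact Or.inl (nat_of_div_le pq0 this)
  obtain ⟨x, hx⟩ := Subgroup.card_dvd_of_le sUH
  have ox : Odd x := (mFT_odd _).of_dvd_nat (Dvd.intro_left _ hx.symm)
  have hp1 := regular_modEq (sW2L.trans (Fcore_norm L)) reg2
  have hq1 := regular_modEq (sW1L.trans (Fcore_norm L)) regL
  rw [card_conjg] at hp1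
  rw [hx] at hp1 hq1 cs
  -- (14.15)
  have h1 : Nat.card W₂ % Nat.card W₁ ≠ 1 := fun h1 => by
    rw [if_pos h1] at oU
    rcases cs with h | ⟨-, h3, h5⟩
    · exact arith15 pp (by omega) hp op oq ox h1
        (by rw [oU]; exact Nat.mul_div_cancel' (geom_dvd pp.two_le h1)) (U_modEq maxS hS) hp1 hq1 h
    · rw [h3, h5] at h1; omega
  rw [if_neg h1] at oU
  -- (14.16)
  refine notN ((Fcore_norm L).trans (le_of_eq (congrArg (fun X : Subgroup G => 𝒩(X)) ?_)))
  by_contra ne
  have x2 := odd_modEq_ge ox (op.mul oq) ((Nat.modEq_and_modEq_iff_modEq_mul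
    (snc_coprime hS.selfNormalizing).symm).1 ⟨modEq_one_of_mul (oU ▸ gm) hp1,
      modEq_one_of_mul (U_modEq maxS hS) hq1⟩) (one_lt_cofactor sUH ne hx)
  rcases cs with h | ⟨h, h3, h5⟩
  · have u2 : Nat.card W₂ ^ 2 ≤ Nat.card U := by
      obtain ⟨n, hn⟩ : ∃ n, Nat.card W₁ = n + 1 := ⟨Nat.card W₁ - 1, by omega⟩
      rw [oU, hn]
      exact (Nat.pow_le_pow_right pp.pos (by omega)).trans (geom_ge pp.two_le n)
    have u3 : Nat.card W₂ * Nat.card W₁ ≤ Nat.card U := by nlinarith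
    have := Nat.mul_le_mul u3 x2
    obtain ⟨n, hn⟩ : ∃ n, Nat.card W₂ * Nat.card W₁ = n + 1 := ⟨_, (Nat.succ_pred_eq_of_pos pq0).symm⟩
    rw [hn] at this h
    rw [Nat.add_sub_cancel] at h
    nlinarith
  · have hv : ((Nat.card V : ℝ) - 1) / Nat.card W₂ <
        ((Nat.card (fittingHallOf L) : ℝ) - 1) / (fittingHallOf L).relIndex L := by
      rw [eL, hx, oU, oV, h3, h5]
      rw [h3, h5] at x2
      have : (31 : ℝ) ≤ x := by exact_mod_cast x2
      norm_num
      linarith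
    obtain ⟨-, a, -, eq⟩ := support_coherence maxS hS maxT hT maxL frobL eL.le hν hφ dφ (uv.trans hv) hv
    have o1 := (FTtypeI_bridge_facts maxS hS maxM (FTsupp_Frobenius maxM frobM).1 hν' hψ dψ).2.1 ψ hψ
    apply h
    rw [eq_sub_of_add_eq eq, dot_sub_left, dot_sum_left, disjoint_coherent_ortho mFT_odd_top
      (FT_DadeInd_F maxL) (FT_DadeInd_F maxM) (core_disjoint maxL maxM notj) hν hν' hφ hψ (iL _ hφ)
      (iM _ hψ), sub_zero]
    exact Finset.sum_eq_zero fun z _ => by rw [dot_smul_left, dot_comm_zero (o1 _ _), mul_zero]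

end Two

theorem no_minSimple_odd_group (G : Type u) [Group G] [MinSimpleOdd G] : False := by
  obtain ⟨S, T, W₁, W₂, pair⟩ := (FTtypeP_pair_cases G).resolve_left (not_all_FTtype1 G)
  obtain ⟨U, hS⟩ := typeP_pairW pair
  obtain ⟨V, hT⟩ := typeP_pairW (typeP_pair_sym pair)
  rcases (FT_fam hS).card_ne with h | h
  · exact main_lt pair.maxS hS pair.maxT hT (by omega)
  · exact main_lt pair.maxT hT pair.maxS hS (by omega)

end CA.PF.P14
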