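import Cfsg.Agent.PF.S01
import Cfsg.Agent.FG.Nil

/-!
# Peterfalvi, section 2: the Dade isometry
-/

set_option autoImplicit false
set_option linter.unusedSectionVars false

open scoped ComplexConjugate

open Cfsg CA.FG

namespace CA.Chr

variable {G : Type*} [Group G] [Finite G]

/-- the `π`-part of a commuting product is determined up to conjugacy -/
theorem conj_eq_of_conj_mul {a b u v x : G} (hau : a * u = u * a) (hbv : b * v = v * b) {m n : ℕ}
    (hmn : m.Coprime n) (ha : a ^ m = 1) (hb : b ^ m = 1) (hu : u ^ n = 1) (hv : v ^ n = 1)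
    (h : x * (a * u) * x⁻¹ = b * v) : x * a * x⁻¹ = b := by
  obtain ⟨k, hk1, hk2⟩ := Nat.chineseRemainder hmn 1 0
  have e1 : ∀ c : G, c ^ m = 1 → c ^ k = c := fun c hc => by
    rw [← pow_mod_orderOf, (hk1.of_dvd (orderOf_dvd_of_pow_eq_one hc)), pow_mod_orderOf, pow_one]
  have e2 : ∀ c : G, c ^ n = 1 → c ^ k = 1 := fun c hc => by
    rw [← pow_mod_orderOf, (hk2.of_dvd (orderOf_dvd_of_pow_eq_one hc)), pow_mod_orderOf, pow_zero]
  have h1 := congrArg (· ^ k) h
  simp only [conj_pow] at h1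
  rwa [(show Commute a u from hau).mul_pow, (show Commute b v from hbv).mul_pow, e1 a ha, e1 b hb,
    e2 u hu, e2 v hv, mul_one, mul_one] at h1

/-- Peterfalvi (2.1): the bijection `(H / C_H(g)) × C_H(g) → H g`. -/
theorem exists_equiv_coset_cent (H : Subgroup G) {g : G} (hg : g ∈ 𝒩(H))
    (hcop : (orderOf g).Coprime (Nat.card H)) :
    ∃ e : (H ⧸ (H ⊓ 𝒞[g]).subgroupOf H) × ↥(H ⊓ 𝒞[g]) ≃ H,
      ∀ q c, ((e (q, c) : H) : G) * g = (q.out : G) * (c * g) * (q.out : G)⁻¹ := by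
  classical
  let C := H ⊓ 𝒞[g]
  have hmem : ∀ (q : H ⧸ C.subgroupOf H) (c : C), (q.out : G) * (c * g) * (q.out : G)⁻¹ * g⁻¹ ∈ H := by
    intro q c
    have h1 : g * (q.out : G)⁻¹ * g⁻¹ ∈ H := conj_mem_of_mem_norm hg (H.inv_mem q.out.2)
    have := H.mul_mem (H.mul_mem q.out.2 c.2.1) h1
    convert this using 1; group
  let f : (H ⧸ C.subgroupOf H) × C → H := fun p => ⟨_, hmem p.1 p.2⟩
  have hinj : Function.Injective f := by
    rintro ⟨q, c⟩ ⟨q', c'⟩ h
    have h1 : (q.out : G) * (c * g) * (q.out : G)⁻¹ = (q'.out : G) * (c' * g) * (q'.out : G)⁻¹ :=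
      mul_right_cancel (congrArg Subtype.val h)
    have hc := Subgroup.mem_centralizer_singleton_iff.mp c.2.2
    have hc' := Subgroup.mem_centralizer_singleton_iff.mp c'.2.2
    have h2 : ((q'.out : G)⁻¹ * q.out) * (g * c) * ((q'.out : G)⁻¹ * q.out)⁻¹ = g * c' := by
      rw [← hc, ← hc']
      calc _ = (q'.out : G)⁻¹ * ((q.out : G) * (c * g) * (q.out : G)⁻¹) * q'.out := by group
        _ = _ := by rw [h1]; group
    have h3 := conj_eq_of_conj_mul hc.symm hc'.symm hcop (pow_orderOf_eq_one g)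
      (pow_orderOf_eq_one g) (pow_card_eq_one_of_mem c.2.1) (pow_card_eq_one_of_mem c'.2.1) h2
    have h4 : q' = q := by
      rw [← q'.out_eq, ← q.out_eq]
      refine QuotientGroup.eq.mpr ?_
      rw [Subgroup.mem_subgroupOf]
      refine ⟨(q'.out⁻¹ * q.out).2, Subgroup.mem_centralizer_singleton_iff.mpr ?_⟩
      push_cast
      rw [mul_inv_eq_iff_eq_mul] at h3
      exact h3
    subst h4
    have h5 : (c : G) = c' := mul_right_cancel (mul_left_cancel (mul_right_cancel h1))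
    rw [Subtype.ext h5]
  have hbij : Function.Bijective f := by
    refine hinj.bijective_of_nat_card_le ?_
    rw [Nat.card_prod, ← card_subgroupOf (inf_le_left : C ≤ H), ← Subgroup.index_eq_card,
      Subgroup.index_mul_card]
  exact ⟨Equiv.ofBijective f hbij, fun q c => by simp [f]⟩

theorem exists_conj_cent_coset (H : Subgroup G) {g : G} (hg : g ∈ 𝒩(H))
    (hcop : (orderOf g).Coprime (Nat.card H)) {h : G} (hh : h ∈ H) :
    ∃ x ∈ H, ∃ c ∈ H, c * g = g * c ∧ x * (h * g) * x⁻¹ = c * g := by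
  obtain ⟨e, he⟩ := exists_equiv_coset_cent H hg hcop
  obtain ⟨⟨q, c⟩, hq⟩ := e.surjective ⟨h, hh⟩
  have := he q c
  rw [hq] at this
  refine ⟨_, H.inv_mem q.out.2, c, c.2.1, Subgroup.mem_centralizer_singleton_iff.mp c.2.2, ?_⟩
  rw [show h * g = _ from this]; group

/-- averaged form of (2.1) -/
theorem avg_coset_eq_avg_cent (H : Subgroup G) {g : G} (hg : g ∈ 𝒩(H))
    (hcop : (orderOf g).Coprime (Nat.card H)) {χ : G → ℂ} (hχ : χ ∈ CF G) :
    (Nat.card H : ℂ)⁻¹ * ∑ᶠ h : H, χ (h * g) =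
      (Nat.card ↥(H ⊓ 𝒞[g]) : ℂ)⁻¹ * ∑ᶠ c : ↥(H ⊓ 𝒞[g]), χ (c * g) := by
  classical
  obtain ⟨e, he⟩ := exists_equiv_coset_cent H hg hcop
  cases nonempty_fintype H
  cases nonempty_fintype ↥(H ⊓ 𝒞[g])
  cases nonempty_fintype (H ⧸ (H ⊓ 𝒞[g]).subgroupOf H)
  rw [finsum_eq_sum_of_fintype, finsum_eq_sum_of_fintype, ← e.sum_comp, Fintype.sum_prod_type,
    ← Nat.card_congr e, Nat.card_prod]
  simp only [he, CF_conj hχ, Finset.sum_const, Finset.card_univ, nsmul_eq_mul,
    Fintype.card_eq_nat_card]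
  have := card_ne_zero (G := H ⧸ (H ⊓ 𝒞[g]).subgroupOf H)
  push_cast
  field_simp

/-- The Dade map as a linear map. -/
noncomputable def dade (A : Set G) (L : Subgroup G) (H : G → Subgroup G) :
    (L → ℂ) →ₗ[ℂ] (G → ℂ) where
  toFun := dadeIsometry A L H
  map_add' α β := by
    funext g; simp only [dadeIsometry, Pi.add_apply]; split_ifs <;> simp
  map_smul' c α := by
    funext g; simp only [dadeIsometry, Pi.smul_apply, RingHom.id_apply]; split_ifs <;> simp

theorem dade_eq (A : Set G) (L : Subgroup G) (H : G → Subgroup G) (α : L → ℂ) :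
    dadeIsometry A L H α = dade A L H α := rfl

/-- The support of the Dade map. -/
def dsupp (A : Set G) (H : G → Subgroup G) : Set G :=
  {g | ∃ a ∈ A, ∃ u ∈ H a, ∃ x : G, x * g * x⁻¹ = a * u}

open Classical in
/-- The map `ρ` of Peterfalvi (7.1), adjoint to the Dade map. -/
noncomputable def rho (A : Set G) (L : Subgroup G) (H : G → Subgroup G) :
    (G → ℂ) →ₗ[ℂ] (L → ℂ) where
  toFun χ a := if (a : G) ∈ A then (Nat.card (H a) : ℂ)⁻¹ * ∑ᶠ u : H a, χ (a * u) else 0
  map_add' α β := by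
    funext a
    simp only [Pi.add_apply]
    split_ifs
    · rw [finsum_add_distrib (Set.toFinite _) (Set.toFinite _), mul_add]
    · simp
  map_smul' c α := by
    funext a
    simp only [Pi.smul_apply, RingHom.id_apply, smul_eq_mul]
    split_ifs
    · rw [← mul_finsum, mul_left_comm]
    · simp

theorem rho_apply {A : Set G} {L : Subgroup G} {H : G → Subgroup G} (χ : G → ℂ) {a : L}
    (ha : (a : G) ∈ A) : rho A L H χ a = (Nat.card (H a) : ℂ)⁻¹ * ∑ᶠ u : H a, χ (a * u) :=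
  if_pos ha

theorem rho_eq_zero {A : Set G} {L : Subgroup G} {H : G → Subgroup G} (χ : G → ℂ) {a : L}
    (ha : (a : G) ∉ A) : rho A L H χ a = 0 := if_neg ha

theorem dade_map {A : Set G} {L : Subgroup G} {H : G → Subgroup G} (α : L → ℂ) (σ : ℂ → ℂ)
    (h0 : σ 0 = 0) : dade A L H (σ ∘ α) = σ ∘ dade A L H α := by
  funext g; simp only [← dade_eq, dadeIsometry, Function.comp_apply]; split_ifs <;> simp [h0]

theorem dade_conjFun {A : Set G} {L : Subgroup G} {H : G → Subgroup G} (α : L → ℂ) :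
    dade A L H (conjFun α) = conjFun (dade A L H α) := dade_map α conj (map_zero _)

theorem dade_congr {A : Set G} {L : Subgroup G} {H : G → Subgroup G} {α β : L → ℂ}
    (h : ∀ a : L, (a : G) ∈ A → α a = β a) : dade A L H α = dade A L H β := by
  funext g; simp only [← dade_eq, dadeIsometry]
  split_ifs with h1
  · exact h _ (Classical.choose_spec h1).1
  · rfl

theorem dade_eq_zero {A : Set G} {L : Subgroup G} {H : G → Subgroup G} (α : L → ℂ) {g : G}
    (hg : g ∉ dsupp A H) : dade A L H α g = 0 := by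
  simp only [← dade_eq, dadeIsometry]
  rw [dif_neg]
  rintro ⟨a, ha, x, u, hu, e⟩
  exact hg ⟨a, ha, u, hu, x, e⟩

theorem conj_mem_dsupp {A : Set G} {H : G → Subgroup G} {g : G} (hg : g ∈ dsupp A H) (x : G) :
    x * g * x⁻¹ ∈ dsupp A H := by
  obtain ⟨a, ha, u, hu, y, e⟩ := hg
  exact ⟨a, ha, u, hu, y * x⁻¹, by rw [← e]; group⟩

theorem conj_mem_dsupp_iff {A : Set G} {H : G → Subgroup G} {g : G} (x : G) :
    x * g * x⁻¹ ∈ dsupp A H ↔ g ∈ dsupp A H :=
  ⟨fun h => by simpa [mul_assoc] using conj_mem_dsupp h x⁻¹, fun h => conj_mem_dsupp h x⟩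

theorem mem_dsupp_of_mem {A : Set G} {H : G → Subgroup G} {a : G} (ha : a ∈ A) : a ∈ dsupp A H :=
  ⟨a, ha, 1, (H a).one_mem, 1, by simp⟩

theorem dsupp_mono {A B : Set G} (h : A ⊆ B) (H : G → Subgroup G) : dsupp A H ⊆ dsupp B H :=
  fun _ ⟨a, ha, r⟩ => ⟨a, h ha, r⟩

namespace Dade

variable {A : Set G} {L : Subgroup G} {H : G → Subgroup G} (hD : DadeHypothesis A L H)
include hD

theorem comm {a u : G} (ha : a ∈ A) (hu : u ∈ H a) : a * u = u * a :=
  (Subgroup.mem_centralizer_singleton_iff.mp (hD.le_centralizer a ha hu)).symm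

theorem norm_H {a : G} (ha : a ∈ A) : 𝒞[a] ≤ 𝒩(H a) := fun c hc =>
  mem_norm_of_forall fun u hu => hD.conj_mem_H a ha c hc u hu

theorem card_cent {a : G} (ha : a ∈ A) :
    Nat.card 𝒞[a] = Nat.card (H a) * Nat.card ↥(L ⊓ 𝒞[a]) := by
  conv_lhs => rw [← hD.sup_eq a ha]
  exact card_sup_of_inf_eq_bot (Or.inr (inf_le_right.trans (norm_H hD ha))) (hD.inf_eq_bot a ha)

theorem mem_H_of_coprime {a u : G} (ha : a ∈ A) (hu : u ∈ 𝒞[a])
    (hc : (orderOf u).Coprime (Nat.card ↥(L ⊓ 𝒞[a]))) : u ∈ H a := by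
  have h1 : (H a).relIndex 𝒞[a] = Nat.card ↥(L ⊓ 𝒞[a]) := by
    have := card_mul_relIndex (hD.le_centralizer a ha)
    rw [card_cent hD ha] at this
    exact Nat.eq_of_mul_eq_mul_left Nat.card_pos this
  have := le_of_coprime_relIndex (K := H a) (Subgroup.zpowers_le.mpr hu) (norm_H hD ha)
    (by rwa [h1, Nat.card_zpowers])
  exact this (Subgroup.mem_zpowers u)

theorem pow_card_cent {a : G} (ha : a ∈ A) : a ^ Nat.card ↥(L ⊓ 𝒞[a]) = 1 :=
  pow_card_eq_one_of_mem ⟨hD.subset ha, mem_cent_singleton_self a⟩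

theorem conj_eq {a b u v x : G} (ha : a ∈ A) (hb : b ∈ A) (hu : u ∈ H a) (hv : v ∈ H b)
    (h : x * (a * u) * x⁻¹ = b * v) : x * a * x⁻¹ = b := by
  refine conj_eq_of_conj_mul (comm hD ha hu) (comm hD hb hv)
    (m := Nat.card ↥(L ⊓ 𝒞[a]) * Nat.card ↥(L ⊓ 𝒞[b])) (n := Nat.card (H a) * Nat.card (H b))
    ?_ ?_ ?_ ?_ ?_ h
  · exact Nat.Coprime.mul_right
      (Nat.Coprime.mul_left (hD.coprime a ha a ha).symm (hD.coprime a ha b hb).symm)
      (Nat.Coprime.mul_left (hD.coprime b hb a ha).symm (hD.coprime b hb b hb).symm)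
  · rw [pow_mul, pow_card_cent hD ha, one_pow]
  · rw [mul_comm, pow_mul, pow_card_cent hD hb, one_pow]
  · rw [pow_mul, pow_card_eq_one_of_mem hu, one_pow]
  · rw [mul_comm, pow_mul, pow_card_eq_one_of_mem hv, one_pow]

/-- Peterfalvi (2.4)(b) -/
theorem exists_conj {a b u v x : G} (ha : a ∈ A) (hb : b ∈ A) (hu : u ∈ H a) (hv : v ∈ H b)
    (h : x * (a * u) * x⁻¹ = b * v) : ∃ y ∈ L, y * a * y⁻¹ = b := by
  have h1 := conj_eq hD ha hb hu hv h
  obtain ⟨y, hy, e⟩ := hD.fusion a ha x (h1 ▸ hb)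
  exact ⟨y, hy, e.trans h1⟩

theorem conj_mem_H_conj {a u x : G} (ha : a ∈ A) (hb : x * a * x⁻¹ ∈ A) (hu : u ∈ H a) :
    x * u * x⁻¹ ∈ H (x * a * x⁻¹) := by
  refine mem_H_of_coprime hD hb ?_ ?_
  · rw [← conjg_cent1]; exact conj_mem_conjg x (hD.le_centralizer a ha hu)
  · rw [CA.FG.orderOf_conj]
    exact (hD.coprime a ha _ hb).coprime_dvd_left (orderOf_dvd_card_of_mem hu)

/-- Peterfalvi (2.4)(a) -/
theorem H_conj {a x : G} (ha : a ∈ A) (hb : x * a * x⁻¹ ∈ A) : H (x * a * x⁻¹) = H a :^ x := by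
  apply le_antisymm
  · intro u hu
    rw [mem_conjg]
    have := conj_mem_H_conj hD (x := x⁻¹) hb (by simpa [mul_assoc] using ha) hu
    simpa [mul_assoc] using this
  · rintro _ ⟨u, hu, rfl⟩
    exact conj_mem_H_conj hD ha hb hu

theorem one_not_mem_dsupp : (1 : G) ∉ dsupp A H := by
  rintro ⟨a, ha, u, hu, x, e⟩
  have h1 : u = a⁻¹ := by rw [eq_inv_iff_mul_eq_one, ← comm hD ha hu, ← e]; simp
  have h2 : a ∈ H a ⊓ (L ⊓ 𝒞[a]) :=
    ⟨by simpa [h1] using (H a).inv_mem hu, hD.subset ha, mem_cent_singleton_self a⟩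
  rw [hD.inf_eq_bot a ha, Subgroup.mem_bot] at h2
  exact hD.one_not_mem (h2 ▸ ha)

theorem dade_one (α : L → ℂ) : dade A L H α 1 = 0 := dade_eq_zero α (one_not_mem_dsupp hD)

theorem dade_apply {α : L → ℂ} (hα : α ∈ CF L) {a : L} (ha : (a : G) ∈ A) {u x g : G}
    (hu : u ∈ H a) (h : x * g * x⁻¹ = a * u) : dade A L H α g = α a := by
  have h1 : ∃ a : L, (a : G) ∈ A ∧ ∃ x : G, ∃ u ∈ H (a : G), x * g * x⁻¹ = (a : G) * u :=
    ⟨a, ha, x, u, hu, h⟩
  simp only [← dade_eq, dadeIsometry]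
  rw [dif_pos h1]
  obtain ⟨hb, y, v, hv, e⟩ := Classical.choose_spec h1
  obtain ⟨z, hz, e'⟩ := exists_conj hD (x := y * x⁻¹) ha hb hu hv (by rw [← h, ← e]; group)
  rw [← CF_conj hα a ⟨z, hz⟩]
  congr 1
  exact Subtype.ext e'.symm

theorem dade_id {α : L → ℂ} (hα : α ∈ CF L) {a : L} (ha : (a : G) ∈ A) :
    dade A L H α a = α a := dade_apply hD hα ha (H a).one_mem (x := 1) (by simp)

theorem dade_mul_H {α : L → ℂ} (hα : α ∈ CF L) {a : L} (ha : (a : G) ∈ A) {u : G}
    (hu : u ∈ H a) : dade A L H α (a * u) = α a := dade_apply hD hα ha hu (x := 1) (by simp)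

theorem dade_mem_CF {α : L → ℂ} (hα : α ∈ CF L) : dade A L H α ∈ CF G := by
  intro g x
  by_cases hg : g ∈ dsupp A H
  · obtain ⟨a, ha, u, hu, y, e⟩ := hg
    rw [dade_apply hD hα (a := ⟨a, hD.subset ha⟩) ha hu e,
      dade_apply hD hα (a := ⟨a, hD.subset ha⟩) ha hu (x := y * x⁻¹) (by rw [← e]; group)]
  · rw [dade_eq_zero α hg, dade_eq_zero α (mt (conj_mem_dsupp_iff x).mp hg)]

theorem rho_mem_CF {χ : G → ℂ} (hχ : χ ∈ CF G) : rho A L H χ ∈ CF L := by
  intro a x
  by_cases ha : (a : G) ∈ A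
  · have hb : ((x * a * x⁻¹ : L) : G) ∈ A := hD.conj_mem x x.2 a ha
    rw [rho_apply χ ha, rho_apply χ hb]
    have e : H ((x * a * x⁻¹ : L) : G) = H a :^ x := H_conj hD ha hb
    rw [e, card_conjg]
    congr 1
    symm
    refine finsum_eq_of_bijective
      ((H a).equivMapOfInjective _ (conj_inj (x : G))) (MulEquiv.bijective _) fun u => ?_
    rw [← CF_conj hχ _ x]
    congr 1
    change _ = ((x : G) * a * (x : G)⁻¹) * ((x : G) * u * (x : G)⁻¹)
    group
  · rw [rho_eq_zero χ ha, rho_eq_zero]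
    intro hb
    have := hD.conj_mem _ (L.inv_mem x.2) _ hb
    exact ha (by simpa [mul_assoc] using this)

/-- the counting formula for the values of the Dade map -/
theorem dade_formula [Fintype G] [Fintype L] [DecidableEq G] [DecidablePred (· ∈ A)]
    [∀ a, DecidablePred (· ∈ H a)] {α : L → ℂ} (hα : α ∈ CF L) (g : G) :
    dade A L H α g = (Nat.card L : ℂ)⁻¹ * ∑ a : L, if (a : G) ∈ A then
      α a * (Nat.card (H a) : ℂ)⁻¹ * ∑ u : H a, ∑ x : G, if x * g * x⁻¹ = a * u then 1 else 0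
      else 0 := by
  classical
  by_cases hg : g ∈ dsupp A H
  swap
  · rw [dade_eq_zero α hg]
    symm
    refine mul_eq_zero_of_right _ (Finset.sum_eq_zero fun a _ => ?_)
    split_ifs with ha
    · refine mul_eq_zero_of_right _ (Finset.sum_eq_zero fun u _ => Finset.sum_eq_zero fun x _ => ?_)
      exact if_neg fun e => hg ⟨a, ha, u, u.2, x, e⟩
    · rfl
  obtain ⟨a, ha, u, hu, y, e⟩ := hg
  let a' : L := ⟨a, hD.subset ha⟩
  rw [dade_apply hD hα (a := a') ha hu e]
  have key : ∀ b : L, (if (b : G) ∈ A then α b * (Nat.card (H b) : ℂ)⁻¹ *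
      ∑ v : H b, ∑ x : G, (if x * g * x⁻¹ = b * v then (1 : ℂ) else 0) else 0) =
      if IsConj a' b then α a' * Nat.card ↥(L ⊓ 𝒞[a]) else 0 := by
    intro b
    by_cases hab : IsConj a' b
    · obtain ⟨z, rfl⟩ := isConj_iff.mp hab
      have hb : ((z * a' * z⁻¹ : L) : G) ∈ A := hD.conj_mem z z.2 a ha
      rw [if_pos hb, if_pos hab, CF_conj hα, Finset.sum_comm]
      have e1 : H ((z * a' * z⁻¹ : L) : G) = H a :^ z := H_conj hD ha hb
      have e2 : ∀ x : G, ∑ v : H ((z * a' * z⁻¹ : L) : G),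
          (if x * g * x⁻¹ = (z * a' * z⁻¹ : L) * v then (1 : ℂ) else 0) =
          if (z : G)⁻¹ * x * y⁻¹ ∈ 𝒞[a] then 1 else 0 := by
        intro x
        split_ifs with hx
        · have hx' := Subgroup.mem_centralizer_singleton_iff.mp hx
          have h3 : (z : G) * (((z : G)⁻¹ * x * y⁻¹) * u * ((z : G)⁻¹ * x * y⁻¹)⁻¹) * (z : G)⁻¹ ∈
              H ((z * a' * z⁻¹ : L) : G) := by
            rw [e1]; exact conj_mem_conjg _ (hD.conj_mem_H a ha _ hx u hu)
          rw [Finset.sum_eq_single ⟨_, h3⟩, if_pos]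
          · have : g = y⁻¹ * (a * u) * y := by rw [← e]; group
            rw [this]
            simp only [a', Subgroup.coe_mul, Subgroup.coe_inv]
            calc _ = z * (((z : G)⁻¹ * x * y⁻¹) * a) * u * y * x⁻¹ := by group
              _ = _ := by rw [hx']; group
          · intro v _ hv
            refine if_neg fun h4 => hv (Subtype.ext (mul_left_cancel (h4.symm.trans ?_)))
            have : g = y⁻¹ * (a * u) * y := by rw [← e]; group
            rw [this]
            simp only [a', Subgroup.coe_mul, Subgroup.coe_inv]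
            calc _ = z * (((z : G)⁻¹ * x * y⁻¹) * a) * u * y * x⁻¹ := by group
              _ = _ := by rw [hx']; group
          · simp
        · refine Finset.sum_eq_zero fun v _ => if_neg fun h4 => hx ?_
          have h5 := conj_eq hD (x := x * y⁻¹) ha hb hu v.2 (by rw [← e, ← h4]; group)
          rw [Subgroup.mem_centralizer_singleton_iff]
          simp only [a', Subgroup.coe_mul, Subgroup.coe_inv] at h5
          calc _ = (z : G)⁻¹ * (x * y⁻¹ * a * (x * y⁻¹)⁻¹) * x * y⁻¹ := by group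
            _ = _ := by rw [h5]; group
      simp only [e2]
      have e3 : ∑ x : G, (if (z : G)⁻¹ * x * y⁻¹ ∈ 𝒞[a] then (1 : ℂ) else 0) =
          Nat.card 𝒞[a] := by
        rw [← ((Equiv.mulLeft (z : G)).trans (Equiv.mulRight y)).sum_comp]
        simp [Finset.sum_ite, Fintype.card_subtype, mul_assoc]
      rw [e3, card_cent hD ha, e1, card_conjg]
      have := card_ne_zero (G := H a)
      push_cast
      field_simp
    · rw [if_neg hab]
      split_ifs with hb
      · refine mul_eq_zero_of_right _ (Finset.sum_eq_zero fun v _ => Finset.sum_eq_zero fun x _ => ?_)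
        refine if_neg fun h4 => hab ?_
        obtain ⟨z, hz, e'⟩ := exists_conj hD (x := x * y⁻¹) ha hb hu v.2 (by rw [← e, ← h4]; group)
        exact isConj_iff.mpr ⟨⟨z, hz⟩, Subtype.ext e'⟩
      · rfl
  simp only [key]
  rw [← Finset.sum_filter, Finset.sum_const, nsmul_eq_mul]
  have h6 := card_class_mul_card_centralizer a'
  have h7 : Nat.card ↥(L ⊓ 𝒞[a]) = Nat.card 𝒞[a'] := by
    rw [← subgroupOf_cent1_eq a', card_subgroupOf', inf_comm]
  rw [h7, ← h6]
  have := card_ne_zero (G := 𝒞[a'])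
  have h8 : ((Finset.univ.filter (IsConj a')).card : ℂ) ≠ 0 :=
    Nat.cast_ne_zero.mpr (Finset.card_pos.mpr ⟨a', Finset.mem_filter.mpr ⟨Finset.mem_univ _, IsConj.refl _⟩⟩).ne'
  push_cast
  field_simp

/-- Peterfalvi (2.7) -/
theorem dade_rec {α : L → ℂ} (hα : α ∈ CF L) {χ : G → ℂ} (hχ : χ ∈ CF G) :
    ⟪dade A L H α, χ⟫ = ⟪α, rho A L H χ⟫ := by
  classical
  cases nonempty_fintype G
  rw [dot_def, dot_def]
  simp only [dade_formula hD hα, Finset.mul_sum, Finset.sum_mul]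
  rw [Finset.sum_comm]
  refine Finset.sum_congr rfl fun a _ => ?_
  by_cases ha : (a : G) ∈ A
  · simp only [if_pos ha, rho_apply χ ha, finsum_eq_sum_of_fintype, map_mul, map_sum, map_inv₀,
      map_natCast, Finset.mul_sum, Finset.sum_mul]
    rw [Finset.sum_comm]
    refine Finset.sum_congr rfl fun u _ => ?_
    rw [Finset.sum_comm]
    have e : ∀ x : G, ∑ g : G, (Nat.card G : ℂ)⁻¹ * ((Nat.card L : ℂ)⁻¹ * (α a * (Nat.card (H a) : ℂ)⁻¹ *
        if x * g * x⁻¹ = a * u then 1 else 0) * conj (χ g)) =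
        (Nat.card G : ℂ)⁻¹ * ((Nat.card L : ℂ)⁻¹ * (α a * (Nat.card (H a) : ℂ)⁻¹) * conj (χ (a * u))) := by
      intro x
      rw [Finset.sum_eq_single (x⁻¹ * (a * u) * x), if_pos (by group), CF_conj' hχ, mul_one]
      · intro g _ hg
        rw [if_neg fun h => hg (by rw [← h]; group)]; simp
      · simp
    simp only [e, Finset.sum_const, Finset.card_univ, nsmul_eq_mul, Fintype.card_eq_nat_card]
    have := card_ne_zero (G := G)
    field_simp
  · simp [ha, rho_eq_zero χ ha]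

theorem dade_rec' {α : L → ℂ} (hα : α ∈ CF L) {χ : G → ℂ} (hχ : χ ∈ CF G) :
    ⟪χ, dade A L H α⟫ = ⟪rho A L H χ, α⟫ := by
  rw [← conj_dot, dade_rec hD hα hχ, conj_dot]

/-- Peterfalvi (7.2)(a) -/
theorem rho_dade_apply {α : L → ℂ} (hα : α ∈ CF L) {a : L} (ha : (a : G) ∈ A) :
    rho A L H (dade A L H α) a = α a := by
  cases nonempty_fintype (H a)
  rw [rho_apply _ ha, finsum_eq_sum_of_fintype,
    Finset.sum_congr rfl fun u _ => dade_mul_H hD hα ha u.2]
  have := card_ne_zero (G := H a)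
  simp only [Finset.sum_const, Finset.card_univ, nsmul_eq_mul, Fintype.card_eq_nat_card]
  field_simp

theorem rho_dade {α : L → ℂ} (hα : α ∈ CF L) (hαA : ∀ a : L, (a : G) ∉ A → α a = 0) :
    rho A L H (dade A L H α) = α := by
  funext a
  by_cases ha : (a : G) ∈ A
  · exact rho_dade_apply hD hα ha
  · rw [rho_eq_zero _ ha, hαA a ha]

/-- Peterfalvi (2.6)(a) -/
theorem dade_iso {α β : L → ℂ} (hα : α ∈ CF L) (hβ : β ∈ CF L)
    (hβA : ∀ a : L, (a : G) ∉ A → β a = 0) : ⟪dade A L H α, dade A L H β⟫ = ⟪α, β⟫ := by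
  rw [dade_rec hD hα (dade_mem_CF hD hβ), rho_dade hD hβ hβA]

theorem dade_iso' {α β : L → ℂ} (hα : α ∈ CF L) (hβ : β ∈ CF L)
    (hαA : ∀ a : L, (a : G) ∉ A → α a = 0) : ⟪dade A L H α, dade A L H β⟫ = ⟪α, β⟫ := by
  rw [dade_rec' hD hβ (dade_mem_CF hD hα), rho_dade hD hα hαA]

theorem nrm_dade {α : L → ℂ} (hα : α ∈ CF L) (hαA : ∀ a : L, (a : G) ∉ A → α a = 0) :
    nrm (dade A L H α) = nrm α := nrm_eq_of_dot ((dade_iso hD hα hα hαA).trans (dot_self α))

/-- reciprocity when `χ` is constant on the cosets `a H(a)` -/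
theorem rho_of_const {χ : G → ℂ} {a : L} (ha : (a : G) ∈ A) (h : ∀ u ∈ H a, χ (a * u) = χ a) :
    rho A L H χ a = χ a := by
  cases nonempty_fintype (H a)
  rw [rho_apply _ ha, finsum_eq_sum_of_fintype, Finset.sum_congr rfl fun (u : H a) _ => h u u.2]
  have := card_ne_zero (G := H a)
  simp only [Finset.sum_const, Finset.card_univ, nsmul_eq_mul, Fintype.card_eq_nat_card]
  field_simp

theorem dot_dade_one {α : L → ℂ} (hα : α ∈ CF L) (hαA : ∀ a : L, (a : G) ∉ A → α a = 0) :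
    ⟪dade A L H α, 1⟫ = ⟪α, 1⟫ := by
  rw [dade_rec hD hα (one_mem _)]
  refine dot_congr_right fun a ha => ?_
  rw [rho_of_const hD (by_contra fun h => ha (hαA a h)) fun _ _ => rfl]; rfl

/-- Peterfalvi (2.11): restriction of the Dade hypothesis -/
theorem restr {A₁ : Set G} (h1 : A₁ ⊆ A) (h2 : ∀ x ∈ L, ∀ a ∈ A₁, x * a * x⁻¹ ∈ A₁) :
    DadeHypothesis A₁ L H where
  one_not_mem h := hD.one_not_mem (h1 h)
  subset := h1.trans hD.subset
  conj_mem := h2
  fusion a ha g hg := hD.fusion a (h1 ha) g (h1 hg)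
  le_centralizer a ha := hD.le_centralizer a (h1 ha)
  conj_mem_H a ha := hD.conj_mem_H a (h1 ha)
  inf_eq_bot a ha := hD.inf_eq_bot a (h1 ha)
  sup_eq a ha := hD.sup_eq a (h1 ha)
  coprime a ha b hb := hD.coprime a (h1 ha) b (h1 hb)

theorem dade_eq_zero_of_supp {A₁ : Set G} {α : L → ℂ} (hα : α ∈ CF L)
    (hαA : ∀ a : L, (a : G) ∉ A₁ → α a = 0) {g : G} (hg : g ∉ dsupp A₁ H) :
    dade A L H α g = 0 := by
  by_cases hg' : g ∈ dsupp A H
  · obtain ⟨a, ha, u, hu, x, e⟩ := hg'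
    rw [dade_apply hD hα (a := ⟨a, hD.subset ha⟩) ha hu e]
    exact hαA _ fun h => hg ⟨a, h, u, hu, x, e⟩
  · exact dade_eq_zero α hg'

theorem dade_restr {A₁ : Set G} (h1 : A₁ ⊆ A) (h2 : ∀ x ∈ L, ∀ a ∈ A₁, x * a * x⁻¹ ∈ A₁)
    {α : L → ℂ} (hα : α ∈ CF L) (hαA : ∀ a : L, (a : G) ∉ A₁ → α a = 0) :
    dade A₁ L H α = dade A L H α := by
  funext g
  by_cases hg : g ∈ dsupp A₁ H
  · obtain ⟨a, ha, u, hu, x, e⟩ := hg
    rw [dade_apply hD hα (a := ⟨a, hD.subset (h1 ha)⟩) (h1 ha) hu e,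
      dade_apply (restr hD h1 h2) hα (a := ⟨a, hD.subset (h1 ha)⟩) ha hu e]
  · rw [dade_eq_zero α hg, dade_eq_zero_of_supp hD hα hαA hg]

/-- the Dade map is induction on functions supported where `H` is trivial -/
theorem dade_eq_ind {α : L → ℂ} (hα : α ∈ CF L)
    (hαA : ∀ a : L, α a ≠ 0 → (a : G) ∈ A ∧ H a = ⊥) : dade A L H α = ind L.subtype α := by
  refine CF_ext (dade_mem_CF hD hα) (ind_mem_CF _ _) fun χ hχ => ?_
  rw [dade_rec hD hα (IsIrr.mem_CF hχ), frob_rec _ _ (IsIrr.mem_CF hχ)]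
  refine dot_congr_right fun a ha => ?_
  rw [rho_of_const hD (hαA a ha).1 fun u hu => ?_]
  · rfl
  · rw [(hαA a ha).2, Subgroup.mem_bot] at hu
    rw [hu, mul_one]

theorem cent_le_of_H_eq_bot {a : G} (ha : a ∈ A) (h : H a = ⊥) : 𝒞[a] ≤ L := by
  have := hD.sup_eq a ha
  rw [h, bot_sup_eq] at this
  exact this ▸ inf_le_left

theorem H_eq_bot_of_cent_le {a : G} (ha : a ∈ A) (h : 𝒞[a] ≤ L) : H a = ⊥ := by
  rw [← hD.inf_eq_bot a ha, inf_eq_right.mpr h, inf_eq_left.mpr (hD.le_centralizer a ha)]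

end Dade

/-! ### integrality of the Dade map -/

theorem card_dvd_sum_stabilizer {L X : Type*} [Group L] [Finite L] [MulAction L X] (s : Finset X)
    (hs : ∀ g : L, ∀ x ∈ s, g • x ∈ s) (φ : X → ℤ) (hφ : ∀ g : L, ∀ x ∈ s, φ (g • x) = φ x) :
    (Nat.card L : ℤ) ∣ ∑ x ∈ s, (Nat.card (MulAction.stabilizer L x) : ℤ) * φ x := by
  classical
  haveI : ∀ x : X, Finite (MulAction.orbit L x) := fun x => Set.finite_range _
  rw [← Finset.sum_fiberwise_of_maps_to (s := s) (t := s.image (Quotient.mk (MulAction.orbitRel L X)))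
    (g := Quotient.mk (MulAction.orbitRel L X)) fun x hx => Finset.mem_image_of_mem _ hx]
  refine Finset.dvd_sum fun ω hω => ?_
  obtain ⟨x, hx, rfl⟩ := Finset.mem_image.mp hω
  have e : s.filter (fun y => Quotient.mk (MulAction.orbitRel L X) y = Quotient.mk _ x) =
      (Set.toFinite (MulAction.orbit L x)).toFinset := by
    ext y
    simp only [Finset.mem_filter, Set.Finite.mem_toFinset, Quotient.eq, MulAction.orbitRel_apply]
    exact ⟨fun h => h.2, fun h => ⟨by obtain ⟨g, rfl⟩ := h; exact hs g x hx, h⟩⟩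
  rw [e, Finset.sum_congr rfl (g := fun _ => (Nat.card (MulAction.stabilizer L x) : ℤ) * φ x)]
  · rw [Finset.sum_const, nsmul_eq_mul, ← mul_assoc, ← Set.ncard_eq_toFinset_card _ (Set.toFinite _),
      ← MulAction.index_stabilizer, ← Nat.cast_mul, Subgroup.index_mul_card]
    exact dvd_mul_right _ _
  · intro y hy
    obtain ⟨g, rfl⟩ := (Set.Finite.mem_toFinset _).mp hy
    rw [hφ g x hx, MulAction.stabilizer_smul_eq_stabilizer_map_conj,
      Subgroup.card_map_of_injective (MulAut.conj g).injective]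

/-- average of `χ` on the coset `K g` -/
noncomputable def avgCoset (K : Subgroup G) (χ : G → ℂ) (g : G) : ℂ :=
  (Nat.card K : ℂ)⁻¹ * ∑ᶠ h : K, χ (h * g)

theorem avgCoset_conj (K : Subgroup G) {χ : G → ℂ} (hχ : χ ∈ CF G) (g x : G) :
    avgCoset (K :^ x) χ (x * g * x⁻¹) = avgCoset K χ g := by
  rw [avgCoset, avgCoset, card_conjg]
  congr 1
  symm
  refine finsum_eq_of_bijective (K.equivMapOfInjective _ (conj_inj x)) (MulEquiv.bijective _)
    fun u => ?_
  rw [← CF_conj hχ _ x]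
  congr 1
  change _ = (x * u * x⁻¹) * (x * g * x⁻¹)
  group

theorem exists_int_sum_avgCoset {N : Type*} [Group N] [Fintype N] (f : N →* G) (K : Subgroup G)
    (hK : ∀ n, f n ∈ 𝒩(K)) {α : N → ℂ} (hα : α ∈ ZIrr N) {χ : G → ℂ} (hχ : χ ∈ ZIrr G) :
    ∃ z : ℤ, ∑ n, α n * conj (avgCoset K χ (f n)) = Nat.card N * z := by
  classical
  let φ : N →* MulAut K := K.normalizerMonoidHom.comp (f.codRestrict _ hK)
  let F : K ⋊[φ] N →* G := SemidirectProduct.lift K.subtype f fun n => by ext k; rfl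
  haveI : Finite (K ⋊[φ] N) := Finite.of_equiv _ SemidirectProduct.equivProd.symm
  obtain ⟨z, hz⟩ := ZIrr.dot_int (ZIrr.comp hα (SemidirectProduct.rightHom : K ⋊[φ] N →* N))
    (ZIrr.comp hχ F)
  refine ⟨z, ?_⟩
  cases nonempty_fintype K
  cases nonempty_fintype (K ⋊[φ] N)
  rw [← hz, dot_def, ← SemidirectProduct.equivProd.symm.sum_comp, Fintype.sum_prod_type_right,
    SemidirectProduct.card]
  simp only [avgCoset, finsum_eq_sum_of_fintype, map_mul, map_inv₀, map_natCast, map_sum,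
    Finset.mul_sum]
  refine Finset.sum_congr rfl fun n _ => Finset.sum_congr rfl fun k _ => ?_
  have h1 := card_ne_zero (G := K)
  have h2 := card_ne_zero (G := N)
  have e1 : (α ∘ SemidirectProduct.rightHom) (SemidirectProduct.equivProd.symm (k, n) : K ⋊[φ] N) =
    α n := rfl
  have e2 : (χ ∘ F) (SemidirectProduct.equivProd.symm (k, n) : K ⋊[φ] N) = χ (k * f n) := rfl
  rw [e1, e2]
  push_cast
  field_simp

open Pointwise in
/-- Peterfalvi (2.6)(b) -/
theorem Dade.dade_mem_ZIrr {A : Set G} {L : Subgroup G} {H : G → Subgroup G}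
    (hD : DadeHypothesis A L H) {α : L → ℂ} (hα : α ∈ ZIrr L)
    (hαA : ∀ a : L, (a : G) ∉ A → α a = 0) : dade A L H α ∈ ZIrr G := by
  classical
  cases nonempty_fintype L
  have hα' := ZIrr.mem_CF hα
  refine mem_ZIrr_of_dot_int (Dade.dade_mem_CF hD hα') fun χ hχ => ?_
  have hχ' := IsIrr.mem_CF hχ
  rw [Dade.dade_rec hD hα' hχ']
  let HB : Finset L → Subgroup G := fun B => ⨅ b ∈ B, H b
  have mem_HB : ∀ B u, u ∈ HB B ↔ ∀ b ∈ B, u ∈ H b := fun B u => by simp [HB, Subgroup.mem_iInf]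
  let P : Finset (Finset L) := (Finset.univ.filter fun a : L => (a : G) ∈ A).powerset
  have mem_P : ∀ B, B ∈ P ↔ ∀ b ∈ B, (b : G) ∈ A := fun B => by simp [P, Finset.subset_iff]
  have HB_smul : ∀ B ∈ P, ∀ x : ConjAct L, HB (x • B) = HB B :^ (ConjAct.ofConjAct x : L) := by
    intro B hB x
    ext u
    rw [mem_conjg, mem_HB, mem_HB]
    have e : ∀ b ∈ B, H ((x • b : L) : G) = H b :^ (ConjAct.ofConjAct x : L) := fun b hb =>
      Dade.H_conj hD ((mem_P B).mp hB b hb)
        (hD.conj_mem _ (ConjAct.ofConjAct x).2 _ ((mem_P B).mp hB b hb))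
    constructor
    · intro h b hb
      have := h _ (Finset.smul_mem_smul_finset hb)
      rwa [e b hb, mem_conjg] at this
    · intro h b hb
      obtain ⟨c, hc, rfl⟩ := Finset.mem_smul_finset.mp hb
      rw [e c hc, mem_conjg]; exact h c hc
  have smul_P : ∀ (x : ConjAct L), ∀ B ∈ P, x • B ∈ P := by
    intro x B hB
    rw [mem_P] at hB ⊢
    intro b hb
    obtain ⟨c, hc, rfl⟩ := Finset.mem_smul_finset.mp hb
    exact hD.conj_mem _ (ConjAct.ofConjAct x).2 _ (hB c hc)
  let S : Finset L → ℂ := fun B => ∑ n : L,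
    if ConjAct.toConjAct n • B = B then α n * conj (avgCoset (HB B) χ n) else 0
  have S_int : ∀ B ∈ P, ∃ z : ℤ, S B = Nat.card (MulAction.stabilizer (ConjAct L) B) * z := by
    intro B hB
    let i : MulAction.stabilizer (ConjAct L) B →* L :=
      (ConjAct.ofConjAct (G := L)).toMonoidHom.comp (Subgroup.subtype _)
    obtain ⟨z, hz⟩ := exists_int_sum_avgCoset (L.subtype.comp i) (HB B) (fun n => by
      rw [← conjg_eq_self_iff]
      exact (HB_smul B hB n).symm.trans (congrArg HB n.2)) (ZIrr.comp hα i) (IsIrr.mem_ZIrr hχ)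
    refine ⟨z, Eq.trans ?_ hz⟩
    simp only [S]
    rw [← Finset.sum_filter]
    symm
    refine Finset.sum_bij (fun n _ => i n) (fun n _ => Finset.mem_filter.mpr ⟨Finset.mem_univ _, n.2⟩)
      (fun a _ b _ h => Subtype.ext (ConjAct.ofConjAct.injective h))
      (fun n hn => ⟨⟨_, (Finset.mem_filter.mp hn).2⟩, Finset.mem_univ _, rfl⟩) fun _ _ => rfl
  have S_smul : ∀ B ∈ P, ∀ x : ConjAct L, S (x • B) = S B := by
    intro B hB x
    simp only [S]
    rw [← (MulAut.conj (ConjAct.ofConjAct x)).toEquiv.sum_comp]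
    refine Finset.sum_congr rfl fun n _ => ?_
    have e : ConjAct.toConjAct ((MulAut.conj (ConjAct.ofConjAct x)).toEquiv n) =
        x * ConjAct.toConjAct n * x⁻¹ := rfl
    rw [e, mul_smul, mul_smul, inv_smul_smul, HB_smul B hB]
    simp only [smul_left_cancel_iff]
    split_ifs
    · exact congrArg₂ (· * conj ·) (CF_conj hα' _ _) (avgCoset_conj _ hχ' _ _)
    · rfl
  choose! z hz using S_int
  have z_smul : ∀ x : ConjAct L, ∀ B ∈ P, z (x • B) = z B := by
    intro x B hB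
    have h1 := hz _ (smul_P x B hB)
    rw [S_smul B hB, hz B hB, MulAction.stabilizer_smul_eq_stabilizer_map_conj,
      Subgroup.card_map_of_injective (MulAut.conj x).injective] at h1
    exact_mod_cast (mul_left_cancel₀ (card_ne_zero (G := MulAction.stabilizer (ConjAct L) B)) h1).symm
  obtain ⟨k, hk⟩ := card_dvd_sum_stabilizer (L := ConjAct L) (P.erase ∅)
    (fun g B hB => Finset.mem_erase.mpr ⟨by simpa using (Finset.mem_erase.mp hB).1,
      smul_P g B (Finset.mem_erase.mp hB).2⟩) (fun B => (-1) ^ B.card * z B)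
    (fun g B hB => by rw [Finset.card_smul_finset, z_smul g B (Finset.mem_erase.mp hB).2])
  -- the cancellation
  let c : Finset L → L → ℂ := fun B n => if ConjAct.toConjAct n • B = B then
    (-1) ^ B.card * (α n * conj (avgCoset (HB (insert n B)) χ n)) else 0
  have hc0 : ∀ n, ∑ B ∈ P, c B n = 0 := by
    intro n
    by_cases hn : (n : G) ∈ A
    swap
    · simp [c, hαA n hn]
    have hnn : ConjAct.toConjAct n • n = n := by simp [ConjAct.smul_def]
    refine Finset.sum_involution (fun B _ => if n ∈ B then B.erase n else insert n B) ?_ ?_ ?_ ?_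
    · intro B _
      have key : ∀ B : Finset L, n ∉ B → c B n + c (insert n B) n = 0 := by
        intro B hB
        have e : ConjAct.toConjAct n • insert n B = insert n B ↔ ConjAct.toConjAct n • B = B := by
          rw [Finset.smul_finset_insert, hnn]
          refine ⟨fun h => ?_, fun h => by rw [h]⟩
          have h1 : n ∉ ConjAct.toConjAct n • B := by
            rw [← Finset.smul_mem_smul_finset_iff (ConjAct.toConjAct n), hnn] at hB; exact hB
          rw [← Finset.erase_insert h1, h, Finset.erase_insert hB]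
        simp only [c, e, Finset.insert_idem, Finset.card_insert_of_notMem hB]
        split_ifs <;> ring
      split_ifs with h
      · have := key (B.erase n) (Finset.notMem_erase n B)
        rw [Finset.insert_erase h] at this
        rw [add_comm]; exact this
      · exact key B h
    · intro B _ _
      split_ifs with h
      · exact fun e => Finset.notMem_erase n B (e.symm ▸ h)
      · exact fun e => h (e ▸ Finset.mem_insert_self n B)
    · intro B hB
      rw [mem_P] at hB ⊢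
      split_ifs
      · exact fun b hb => hB b (Finset.mem_of_mem_erase hb)
      · intro b hb
        rcases Finset.mem_insert.mp hb with rfl | hb
        exacts [hn, hB b hb]
    · intro B _
      by_cases h : n ∈ B <;> simp [h]
  have hcS : ∀ B ∈ P.erase ∅, ∑ n, c B n = (-1) ^ B.card * S B := by
    intro B hB
    obtain ⟨hB0, hB⟩ := Finset.mem_erase.mp hB
    obtain ⟨b, hb⟩ := Finset.nonempty_iff_ne_empty.mpr hB0
    simp only [c, S, Finset.mul_sum]
    refine Finset.sum_congr rfl fun n _ => ?_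
    split_ifs with h
    swap
    · simp
    by_cases hn : (n : G) ∈ A
    swap
    · simp [hαA n hn]
    have hcop : (Nat.card (HB B)).Coprime (Nat.card ↥(L ⊓ 𝒞[(n : G)])) :=
      (hD.coprime b ((mem_P B).mp hB b hb) n hn).coprime_dvd_left
        (Subgroup.card_dvd_of_le fun u hu => (mem_HB B u).mp hu b hb)
    have e : HB (insert n B) = HB B ⊓ 𝒞[(n : G)] := by
      ext u
      simp only [mem_HB, Finset.forall_mem_insert, Subgroup.mem_inf]
      refine ⟨fun h => ⟨h.2, hD.le_centralizer n hn h.1⟩, fun h => ⟨?_, h.1⟩⟩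
      exact Dade.mem_H_of_coprime hD hn h.2
        (hcop.coprime_dvd_left (orderOf_dvd_card_of_mem ((mem_HB B u).mpr h.1)))
    rw [e, avgCoset, avgCoset, avg_coset_eq_avg_cent (HB B) _ _ hχ']
    · rw [← conjg_eq_self_iff]
      exact (HB_smul B hB (ConjAct.toConjAct n)).symm.trans (congrArg HB h)
    · exact (hcop.symm).coprime_dvd_left (orderOf_dvd_of_pow_eq_one (Dade.pow_card_cent hD hn))
  have hc1 : ∑ n, c ∅ n = Nat.card L * ⟪α, rho A L H χ⟫ := by
    rw [dot_def, mul_inv_cancel_left₀ card_ne_zero]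
    refine Finset.sum_congr rfl fun n _ => ?_
    by_cases hn : (n : G) ∈ A
    swap
    · simp [c, hαA n hn]
    have e : HB (insert n ∅) = H n := by ext u; simp [mem_HB]
    simp only [c, Finset.smul_finset_empty, if_true, Finset.card_empty, pow_zero, one_mul]
    rw [e, rho_apply χ hn, avgCoset, finsum_congr fun u : H n => by rw [← Dade.comm hD hn u.2]]
  have h0 : ∑ B ∈ P, ∑ n, c B n = 0 := by rw [Finset.sum_comm]; simp [hc0]
  rw [← Finset.add_sum_erase P _ (Finset.empty_mem_powerset _), hc1, Finset.sum_congr rfl hcS,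
    Finset.sum_congr rfl (g := fun B => ((Nat.card (MulAction.stabilizer (ConjAct L) B) *
      ((-1) ^ B.card * z B) : ℤ) : ℂ)) (fun B hB => by
        rw [hz B (Finset.mem_erase.mp hB).2]; push_cast; ring), ← Int.cast_sum, hk] at h0
  refine ⟨-k, mul_left_cancel₀ (card_ne_zero (G := L)) ?_⟩
  have e : Nat.card (ConjAct L) = Nat.card L := rfl
  rw [e] at h0
  push_cast at h0 ⊢
  linear_combination h0

/-! ### the norm of `χ^ρ`; TI subsets -/

theorem indicator_mem_CF {A : Set G} (hA : ∀ x g, x * g * x⁻¹ ∈ A ↔ g ∈ A) {χ : G → ℂ}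
    (hχ : χ ∈ CF G) : A.indicator χ ∈ CF G := by
  intro g x
  by_cases hg : g ∈ A
  · rw [Set.indicator_of_mem hg, Set.indicator_of_mem ((hA x g).mpr hg), CF_conj hχ]
  · rw [Set.indicator_of_notMem hg, Set.indicator_of_notMem (mt (hA x g).mp hg)]

theorem nrm_indicator {X : Type*} [Finite X] (A : Set X) (χ : X → ℂ) :
    nrm (A.indicator χ) = (Nat.card X : ℝ)⁻¹ * ∑ᶠ g ∈ A, ‖χ g‖ ^ 2 := by
  classical
  cases nonempty_fintype X
  rw [nrm_def, finsum_mem_def, finsum_eq_sum_of_fintype]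
  congr 1
  refine Finset.sum_congr rfl fun g _ => ?_
  by_cases hg : g ∈ A <;> simp [hg]

namespace Dade

variable {A : Set G} {L : Subgroup G} {H : G → Subgroup G} (hD : DadeHypothesis A L H)
include hD

theorem rho_indicator (χ : G → ℂ) : rho A L H ((dsupp A H).indicator χ) = rho A L H χ := by
  funext a
  by_cases ha : (a : G) ∈ A
  · rw [rho_apply _ ha, rho_apply _ ha]
    congr 1
    exact finsum_congr fun u => Set.indicator_of_mem (show _ ∈ dsupp A H from ⟨a, ha, u, u.2, 1, by simp⟩) _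
  · rw [rho_eq_zero _ ha, rho_eq_zero _ ha]

/-- Peterfalvi (7.3), as an identity -/
theorem nrm_indicator_eq {χ : G → ℂ} (hχ : χ ∈ CF G) :
    nrm ((dsupp A H).indicator χ) = nrm (rho A L H χ) +
      nrm ((dsupp A H).indicator χ - dade A L H (rho A L H χ)) := by
  have h1 := rho_mem_CF hD hχ
  have h2 : ∀ a : L, (a : G) ∉ A → rho A L H χ a = 0 := fun a ha => rho_eq_zero _ ha
  have h3 := indicator_mem_CF (fun x g => conj_mem_dsupp_iff (A := A) (H := H) x) hχ
  rw [← nrm_dade hD h1 h2, ← nrm_add_of_orth, add_sub_cancel]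
  rw [dot_sub_right, dade_iso hD h1 h1 h2, dade_rec hD h1 h3, rho_indicator hD, sub_self]

/-- Peterfalvi (7.3) -/
theorem nrm_rho_le_indicator {χ : G → ℂ} (hχ : χ ∈ CF G) :
    nrm (rho A L H χ) ≤ nrm ((dsupp A H).indicator χ) := by
  rw [nrm_indicator_eq hD hχ]; exact le_add_of_nonneg_right (nrm_nonneg _)

end Dade

theorem dade_of_TI {A : Set G} {L : Subgroup G} (h1 : (1 : G) ∉ A) (hAL : A ⊆ L)
    (hn : ∀ x ∈ L, ∀ a ∈ A, x * a * x⁻¹ ∈ A) (hTI : ∀ a ∈ A, ∀ g, g * a * g⁻¹ ∈ A → g ∈ L) :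
    DadeHypothesis A L fun _ => ⊥ where
  one_not_mem := h1
  subset := hAL
  conj_mem := hn
  fusion a ha g hg := ⟨g, hTI a ha g hg, rfl⟩
  le_centralizer _ _ := bot_le
  conj_mem_H a _ c _ u hu := by rw [Subgroup.mem_bot] at hu ⊢; simp [hu]
  inf_eq_bot _ _ := bot_inf_eq _
  sup_eq a ha := by
    rw [bot_sup_eq, inf_eq_right]
    intro g hg
    refine hTI a ha g ?_
    rwa [Subgroup.mem_centralizer_singleton_iff.mp hg, mul_inv_cancel_right]
  coprime _ _ _ _ := by simp

theorem Dade.TI_of_bot {A : Set G} {L : Subgroup G} {H : G → Subgroup G}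
    (hD : DadeHypothesis A L H) {a g : G} (ha : a ∈ A) (h : H a = ⊥) (hg : g * a * g⁻¹ ∈ A) :
    g ∈ L := by
  obtain ⟨x, hx, e⟩ := hD.fusion a ha g hg
  have : x⁻¹ * g ∈ L := Dade.cent_le_of_H_eq_bot hD ha h (by
    rw [Subgroup.mem_centralizer_singleton_iff]
    calc _ = x⁻¹ * (g * a * g⁻¹) * g := by group
      _ = _ := by rw [← e]; group)
  simpa using L.mul_mem hx this

theorem realizeEqns_PF_S02 : True := by
  have := @CA.Chr.dade.eq_1.{0}
  have := @CA.Chr.dade.eq_def.{0}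
  have := @CA.Chr.dade.congr_simp.{0}
  have := @CA.Chr.rho.eq_1.{0}
  have := @CA.Chr.rho.eq_def.{0}
  have := @CA.Chr.rho.congr_simp.{0}
  have := @CA.Chr.avgCoset.eq_1.{0}
  have := @CA.Chr.avgCoset.eq_def.{0}
  have := @CA.Chr.avgCoset.congr_simp.{0}
  have := @CA.Chr.dsupp.eq_1.{0}
  have := @CA.Chr.dsupp.eq_def.{0}
  have := @CA.Chr.dsupp.congr_simp.{0}
  trivial

end CA.Chr
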