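import Cfsg.Agent.PF.S03a

/-!
# Peterfalvi, section 3: TI-subsets with cyclic normalizers
-/

set_option autoImplicit false
set_option linter.unusedSectionVars false

open scoped ComplexConjugate

open Cfsg

namespace CA.Chr

noncomputable scoped instance instFintypeLin {X : Type*} [Group X] [Finite X] :
    Fintype (X →* ℂˣ) := Fintype.ofFinite _

variable {G W₁ W₂ : Type*} [Group G] [Finite G] [Group W₁] [Finite W₁] [Group W₂] [Finite W₂]

/-- the linear character `ω_{ij}` of `W₁ × W₂` -/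
def om (i : W₁ →* ℂˣ) (j : W₂ →* ℂˣ) : W₁ × W₂ → ℂ := fun w => (i w.1 : ℂ) * j w.2

@[simp] theorem om_apply (i : W₁ →* ℂˣ) (j : W₂ →* ℂˣ) (x : W₁) (y : W₂) :
    om i j (x, y) = (i x : ℂ) * j y := rfl

theorem om_eq_lin (i : W₁ →* ℂˣ) (j : W₂ →* ℂˣ) : om i j = lin (i.coprod j) := by
  funext w; simp [om]

theorem om_irr (i : W₁ →* ℂˣ) (j : W₂ →* ℂˣ) : IsIrrCharacter (W₁ × W₂) (om i j) :=
  om_eq_lin i j ▸ lin_irr _

@[simp] theorem om_one_one : om (1 : W₁ →* ℂˣ) (1 : W₂ →* ℂˣ) = 1 := by funext w; simp [om]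

theorem om_mul (i k : W₁ →* ℂˣ) (j l : W₂ →* ℂˣ) : om (i * k) (j * l) = om i j * om k l := by
  funext w; simp [om]; ring

/-- pairs of linear characters are the linear characters of the product -/
def linProdEquiv : (W₁ →* ℂˣ) × (W₂ →* ℂˣ) ≃ (W₁ × W₂ →* ℂˣ) where
  toFun p := p.1.coprod p.2
  invFun l := (l.comp (MonoidHom.inl _ _), l.comp (MonoidHom.inr _ _))
  left_inv p := by simp
  right_inv l := by simp

theorem dot_om (i k : W₁ →* ℂˣ) (j l : W₂ →* ℂˣ) :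
    ⟪om i j, om k l⟫ = if i = k ∧ j = l then 1 else 0 := by
  rw [om_eq_lin, om_eq_lin, dot_lin]
  congr 1
  exact propext ((linProdEquiv.injective.eq_iff (a := (i, j)) (b := (k, l))).trans Prod.ext_iff)

theorem om_expand [IsMulCommutative W₁] [IsMulCommutative W₂] (ψ : W₁ × W₂ → ℂ) :
    ψ = ∑ i, ∑ j, ⟪ψ, om i j⟫ • om i j := by
  conv_lhs => rw [lin_expand ψ, ← linProdEquiv.sum_comp, Fintype.sum_prod_type]
  simp only [om_eq_lin]; rfl

/-- `α_{ij} = (1 - ω_{i0})(1 - ω_{0j})` -/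
noncomputable def al (i : W₁ →* ℂˣ) (j : W₂ →* ℂˣ) : W₁ × W₂ → ℂ := 1 - om i 1 - om 1 j + om i j

theorem al_apply (i : W₁ →* ℂˣ) (j : W₂ →* ℂˣ) (x : W₁) (y : W₂) :
    al i j (x, y) = (1 - (i x : ℂ)) * (1 - j y) := by simp [al]; ring

theorem al_supp (i : W₁ →* ℂˣ) (j : W₂ →* ℂˣ) (w : W₁ × W₂) (h : al i j w ≠ 0) :
    w.1 ≠ 1 ∧ w.2 ≠ 1 := by
  obtain ⟨x, y⟩ := w
  rw [al_apply] at h
  constructor <;> rintro rfl <;> simp at h

theorem al_mem_ZIrr (i : W₁ →* ℂˣ) (j : W₂ →* ℂˣ) : al i j ∈ ZIrr (W₁ × W₂) :=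
  add_mem (sub_mem (sub_mem (one_mem _) (IsIrr.mem_ZIrr (om_irr _ _))) (IsIrr.mem_ZIrr (om_irr _ _)))
    (IsIrr.mem_ZIrr (om_irr _ _))

theorem dot_al {i k : W₁ →* ℂˣ} {j l : W₂ →* ℂˣ} (hi : i ≠ 1) (hk : k ≠ 1) (hj : j ≠ 1)
    (hl : l ≠ 1) : ⟪al i j, al k l⟫ =
      1 + (if i = k then 1 else 0) + (if j = l then 1 else 0) + if i = k ∧ j = l then 1 else 0 := by
  simp only [al, ← om_one_one, dot_add_left, dot_add_right, dot_sub_left, dot_sub_right, dot_om]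
  simp [hi, hk, hj, hl, hi.symm, hk.symm, hj.symm, hl.symm]

theorem dot_al_one {i : W₁ →* ℂˣ} {j : W₂ →* ℂˣ} (hi : i ≠ 1) (hj : j ≠ 1) : ⟪al i j, 1⟫ = 1 := by
  simp only [al, ← om_one_one, dot_add_left, dot_sub_left, dot_om]
  simp [hi, hj]

theorem sum_dot_om_left [IsMulCommutative W₁] {ψ : W₁ × W₂ → ℂ} (h : ∀ y, ψ (1, y) = 0)
    (j : W₂ →* ℂˣ) : ∑ i, ⟪ψ, om i j⟫ = 0 := by
  classical
  rw [← dot_sum_right]
  refine dot_eq_zero_of_disjoint fun w => ?_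
  obtain ⟨x, y⟩ := w
  by_cases hx : x = 1
  · exact Or.inl (hx ▸ h y)
  · right
    simp [Finset.sum_apply, ← Finset.sum_mul, sum_lin_apply, hx]

theorem sum_dot_om_right [IsMulCommutative W₂] {ψ : W₁ × W₂ → ℂ} (h : ∀ x, ψ (x, 1) = 0)
    (i : W₁ →* ℂˣ) : ∑ j, ⟪ψ, om i j⟫ = 0 := by
  classical
  rw [← dot_sum_right]
  refine dot_eq_zero_of_disjoint fun w => ?_
  obtain ⟨x, y⟩ := w
  by_cases hy : y = 1
  · exact Or.inl (hy ▸ h x)
  · right
    simp [Finset.sum_apply, ← Finset.mul_sum, sum_lin_apply, hy]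

theorem sum_smul_grid {I J M : Type*} [Fintype I] [Fintype J] [AddCommGroup M] [Module ℂ M]
    (a : I → J → ℂ) (h1 : ∀ j, ∑ i, a i j = 0) (h2 : ∀ i, ∑ j, a i j = 0) (u : M) (r : I → M)
    (c : J → M) (x : I → J → M) :
    ∑ i, ∑ j, a i j • (u - r i - c j + x i j) = ∑ i, ∑ j, a i j • x i j := by
  have e : ∑ i, ∑ j, a i j • c j = 0 := by
    rw [Finset.sum_comm]; simp [← Finset.sum_smul, h1]
  simp only [smul_add, smul_sub, Finset.sum_add_distrib, Finset.sum_sub_distrib, e]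
  simp [← Finset.sum_smul, h2]

/-- The group-theoretic hypothesis of section 3 (without parity). -/
structure TIHyp (e : W₁ × W₂ →* G) : Prop where
  inj : Function.Injective e
  comm1 : IsMulCommutative W₁
  comm2 : IsMulCommutative W₂
  TI : ∀ g : G, ∀ a ∈ {w : W₁ × W₂ | w.1 ≠ 1 ∧ w.2 ≠ 1}, ∀ b ∈ {w : W₁ × W₂ | w.1 ≠ 1 ∧ w.2 ≠ 1},
    e b = g⁻¹ * e a * g → g ∈ e.range

/-- Nontrivial groups of coprime odd orders. -/
structure OddCop (W₁ W₂ : Type*) : Prop where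
  nt1 : Nontrivial W₁
  nt2 : Nontrivial W₂
  odd1 : Odd (Nat.card W₁)
  odd2 : Odd (Nat.card W₂)
  cop : (Nat.card W₁).Coprime (Nat.card W₂)

theorem OddCop.swap (h : OddCop W₁ W₂) : OddCop W₂ W₁ := ⟨h.nt2, h.nt1, h.odd2, h.odd1, h.cop.symm⟩

theorem OddCop.three_le1 (h : OddCop W₁ W₂) : 3 ≤ Nat.card W₁ := by
  have := h.nt1
  have h1 := Finite.one_lt_card (α := W₁)
  obtain ⟨k, hk⟩ := h.odd1
  omega

theorem OddCop.three_le2 (h : OddCop W₁ W₂) : 3 ≤ Nat.card W₂ := h.swap.three_le1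

theorem OddCop.card_ne (h : OddCop W₁ W₂) :
    Nat.card W₁ + 2 ≤ Nat.card W₂ ∨ Nat.card W₂ + 2 ≤ Nat.card W₁ := by
  have h1 := h.three_le1
  have h2 : Nat.card W₁ ≠ Nat.card W₂ := fun e => by
    have := h.cop
    rw [← e, Nat.coprime_self] at this
    omega
  obtain ⟨k, hk⟩ := h.odd1
  obtain ⟨l, hl⟩ := h.odd2
  omega

/-- the same embedding with the factors exchanged -/
def swapHom (e : W₁ × W₂ →* G) : W₂ × W₁ →* G := e.comp (MulEquiv.prodComm).toMonoidHom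

@[simp] theorem swapHom_apply (e : W₁ × W₂ →* G) (y : W₂) (x : W₁) :
    swapHom e (y, x) = e (x, y) := rfl

theorem range_swapHom (e : W₁ × W₂ →* G) : (swapHom e).range = e.range := by
  ext g; exact ⟨fun ⟨w, h⟩ => ⟨w.swap, h⟩, fun ⟨w, h⟩ => ⟨w.swap, h⟩⟩

theorem ind_swapHom (e : W₁ × W₂ →* G) (ψ : W₁ × W₂ → ℂ) :
    ind (swapHom e) (ψ ∘ Prod.swap) = ind e ψ := ind_comp_equiv e MulEquiv.prodComm ψ

theorem TIHyp.swap {e : W₁ × W₂ →* G} (h : TIHyp e) : TIHyp (swapHom e) where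
  inj := h.inj.comp (MulEquiv.prodComm).injective
  comm1 := h.comm2
  comm2 := h.comm1
  TI g a ha b hb hab := range_swapHom e ▸ h.TI g a.swap ha.symm b.swap hb.symm hab

theorem TIHyp.dot_ind {e : W₁ × W₂ →* G} (h : TIHyp e) {φ ψ : W₁ × W₂ → ℂ}
    (hφ : ∀ w, φ w ≠ 0 → w.1 ≠ 1 ∧ w.2 ≠ 1) (hψ : ∀ w, ψ w ≠ 0 → w.1 ≠ 1 ∧ w.2 ≠ 1) :
    ⟪ind e φ, ind e ψ⟫ = ⟪φ, ψ⟫ :=
  have := h.comm1; have := h.comm2
  dot_ind_TI h.inj h.TI (CF_of_comm _) hφ hψ

/-- The family `η_{ij} = σ(ω_{ij})` of Peterfalvi (3.2). -/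
structure TIFam0 (e : W₁ × W₂ →* G) (η : (W₁ →* ℂˣ) → (W₂ →* ℂˣ) → G → ℂ) : Prop
    extends TIHyp e where
  dirr : ∀ i j, Dirr (η i j)
  orth : ∀ i j k l, ⟪η i j, η k l⟫ = if i = k ∧ j = l then 1 else 0
  one : η 1 1 = 1
  ind_al : ∀ i j, ind e (al i j) = 1 - η i 1 - η 1 j + η i j

/-- The same, with the parity hypotheses. -/
structure TIFam (e : W₁ × W₂ →* G) (η : (W₁ →* ℂˣ) → (W₂ →* ℂˣ) → G → ℂ) : Prop
    extends TIFam0 e η, OddCop W₁ W₂

theorem TIFam0.swap {e : W₁ × W₂ →* G} {η : (W₁ →* ℂˣ) → (W₂ →* ℂˣ) → G → ℂ} (h : TIFam0 e η) :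
    TIFam0 (swapHom e) fun j i => η i j where
  toTIHyp := h.toTIHyp.swap
  dirr j i := h.dirr i j
  orth j i l k := by rw [h.orth]; simp only [and_comm]
  one := h.one
  ind_al j i := by
    have : al j i = al i j ∘ Prod.swap := by
      funext ⟨y, x⟩; simp only [Function.comp_apply, Prod.swap, al_apply, mul_comm]
    rw [this, ind_swapHom, h.ind_al, sub_right_comm]

theorem TIFam.swap {e : W₁ × W₂ →* G} {η : (W₁ →* ℂˣ) → (W₂ →* ℂˣ) → G → ℂ} (h : TIFam e η) :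
    TIFam (swapHom e) fun j i => η i j := ⟨h.toTIFam0.swap, h.toOddCop.swap⟩

theorem card_lin_ne_one {X : Type*} [Group X] [Finite X] [IsMulCommutative X] :
    Nat.card {i : X →* ℂˣ // i ≠ 1} = Nat.card X - 1 := by
  rw [← card_lin (G := X), Nat.card_eq_fintype_card, Fintype.card_subtype_compl, Fintype.card_subtype_eq,
    Nat.card_eq_fintype_card]

theorem exists_TIFam_of_lt {e : W₁ × W₂ →* G} (h : TIHyp e) (ho : OddCop W₁ W₂)
    (hlt : Nat.card W₂ + 2 ≤ Nat.card W₁) : ∃ η, TIFam e η := by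
  have := h.comm1; have := h.comm2
  let β : {i : W₁ →* ℂˣ // i ≠ 1} → {j : W₂ →* ℂˣ // j ≠ 1} → G → ℂ :=
    fun i j => ind e (al i.1 j.1) - 1
  have hb1 : ∀ i j, ⟪β i j, 1⟫ = 0 := fun i j => by
    simp only [β, dot_sub_left, dot_one_one, dot_ind_one, dot_al_one i.2 j.2, sub_self]
  have hd : ∀ i j k l, ⟪β i j, β k l⟫ =
      (if i = k then 1 else 0) + (if j = l then 1 else 0) + if i = k ∧ j = l then 1 else 0 := by
    intro i j k l
    rw [show β k l = ind e (al k.1 l.1) - 1 from rfl, dot_sub_right, hb1, sub_zero, dot_sub_left,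
      h.dot_ind (al_supp _ _) (al_supp _ _), dot_al i.2 k.2 j.2 l.2, ← conj_dot, dot_ind_one,
      dot_al_one k.2 l.2]
    simp only [Subtype.ext_iff, map_one]
    ring
  have hβ : ∀ i j, Line (β i j) := fun i j =>
    ⟨sub_mem (ZIrr.ind (al_mem_ZIrr _ _) e) (one_mem _), nrm_eq_of_dot (by rw [hd]; norm_num), by
      simp only [β, Pi.sub_apply, ind_one h.inj, Pi.one_apply]
      rw [show (1 : W₁ × W₂) = (1, 1) from rfl, al_apply]; simp⟩
  have h3 := ho.three_le2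
  obtain ⟨r, c, hr, hc, h1, h2⟩ := exists_grid_points β hβ hd (by rw [card_lin_ne_one]; omega)
    (by rw [card_lin_ne_one]; obtain ⟨k, hk⟩ := ho.odd2; omega)
  haveI : Nontrivial {i : W₁ →* ℂˣ // i ≠ 1} :=
    Finite.one_lt_card_iff_nontrivial.mp (by rw [card_lin_ne_one]; omega)
  haveI : Nontrivial {i : W₂ →* ℂˣ // i ≠ 1} :=
    Finite.one_lt_card_iff_nontrivial.mp (by rw [card_lin_ne_one]; omega)
  have hrr : ∀ i k, ⟪r i, r k⟫ = if i = k then 1 else 0 := fun i k => by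
    split_ifs with e
    · exact e ▸ (hr i).dot_self
    · exact (hr i).dot_eq_zero_of_dot (θ := β k (Classical.arbitrary _)) (hr k)
        (by simp [h1, Ne.symm e]) (by simp [h1])
  have hcc : ∀ j l, ⟪c j, c l⟫ = if j = l then 1 else 0 := fun j l => by
    split_ifs with e
    · exact e ▸ (hc j).dot_self
    · exact (hc j).dot_eq_zero_of_dot (θ := β (Classical.arbitrary _) l) (hc l)
        (by simp [h2, Ne.symm e]) (by simp [h2])
  have hrc : ∀ i j, ⟪r i, c j⟫ = 0 := fun i j => by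
    obtain ⟨k, hk⟩ := exists_ne i
    exact (hr i).dot_eq_zero_of_dot (θ := β k j) (hc j) (by simp [h1, hk]) (by simp [h2])
  have hcr : ∀ i j, ⟪c j, r i⟫ = 0 := fun i j => dot_comm_zero (hrc i j)
  have h1d : Dirr (1 : G → ℂ) := IsIrr.dirr one_irr
  have h1r : ∀ i, ⟪1, r i⟫ = 0 := fun i =>
    h1d.dot_eq_zero_of_dot (θ := β i (Classical.arbitrary _)) (hr i) (hb1 _ _) (by simp [h1])
  have h1c : ∀ j, ⟪1, c j⟫ = 0 := fun j =>
    h1d.dot_eq_zero_of_dot (θ := β (Classical.arbitrary _) j) (hc j) (hb1 _ _) (by simp [h2])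
  have hr1 : ∀ i, ⟪r i, 1⟫ = 0 := fun i => dot_comm_zero (h1r i)
  have hc1 : ∀ j, ⟪c j, 1⟫ = 0 := fun j => dot_comm_zero (h1c j)
  have h1b : ∀ i j, ⟪1, β i j⟫ = 0 := fun i j => dot_comm_zero (hb1 i j)
  have h1' : ∀ i j k, ⟪r k, β i j⟫ = if k = i then 1 else 0 := fun i j k => by
    rw [ZIrr.dot_comm (hr k).mem_ZIrr (hβ i j).zirr, h1]; simp only [eq_comm]
  have h2' : ∀ i j l, ⟪c l, β i j⟫ = if l = j then 1 else 0 := fun i j l => by
    rw [ZIrr.dot_comm (hc l).mem_ZIrr (hβ i j).zirr, h2]; simp only [eq_comm]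
  let η : (W₁ →* ℂˣ) → (W₂ →* ℂˣ) → G → ℂ := fun i j =>
    if hi : i = 1 then (if hj : j = 1 then 1 else -c ⟨j, hj⟩)
    else if hj : j = 1 then -r ⟨i, hi⟩ else β ⟨i, hi⟩ ⟨j, hj⟩ - r ⟨i, hi⟩ - c ⟨j, hj⟩
  have horth : ∀ i j k l, ⟪η i j, η k l⟫ = if i = k ∧ j = l then 1 else 0 := by
    intro i j k l
    by_cases hi : i = 1 <;> by_cases hj : j = 1 <;> by_cases hk : k = 1 <;> by_cases hl : l = 1 <;>
      simp [η, hi, hj, hk, hl, dot_sub_left, dot_sub_right, dot_neg_left, dot_neg_right, hd, h1, h2,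
        h1', h2', hrr, hcc, hrc, hcr, h1r, h1c, hr1, hc1, hb1, h1b, dot_one_one,
        eq_comm (a := (1 : W₁ →* ℂˣ)), eq_comm (a := (1 : W₂ →* ℂˣ))]
    ring
  refine ⟨η, ⟨h, fun i j => ?_, horth, by simp [η], fun i j => ?_⟩, ho⟩
  · refine ZIrr.dirr_of_dot_self ?_ (by simp [horth])
    simp only [η]
    split_ifs
    exacts [one_mem _, neg_mem (hc _).mem_ZIrr, neg_mem (hr _).mem_ZIrr,
      sub_mem (sub_mem (hβ _ _).zirr (hr _).mem_ZIrr) (hc _).mem_ZIrr]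
  · by_cases hi : i = 1 <;> by_cases hj : j = 1 <;> simp [η, hi, hj, al, β]

/-- Peterfalvi (3.2), (3.5) -/
theorem exists_TIFam {e : W₁ × W₂ →* G} (h : TIHyp e) (ho : OddCop W₁ W₂) : ∃ η, TIFam e η := by
  rcases ho.card_ne with hlt | hlt
  · obtain ⟨η, hη⟩ := exists_TIFam_of_lt h.swap ho.swap hlt
    exact ⟨_, hη.swap⟩
  · exact exists_TIFam_of_lt h ho hlt

namespace TIFam0

variable {e : W₁ × W₂ →* G} {η : (W₁ →* ℂˣ) → (W₂ →* ℂˣ) → G → ℂ} (h : TIFam0 e η)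
include h

theorem zirr (i j) : η i j ∈ ZIrr G := (h.dirr i j).mem_ZIrr

theorem mem_CF (i j) : η i j ∈ CF G := ZIrr.mem_CF (h.zirr i j)

theorem dot_self (i j) : ⟪η i j, η i j⟫ = 1 := (h.dirr i j).dot_self

theorem eq_iff {i j k l} : η i j = η k l ↔ i = k ∧ j = l := by
  refine ⟨fun e => ?_, fun ⟨a, b⟩ => by rw [a, b]⟩
  have := h.orth i j k l
  rw [e, h.dot_self] at this
  by_contra hc
  simp [hc] at this

theorem dot_one (i j) : ⟪η i j, 1⟫ = if i = 1 ∧ j = 1 then 1 else 0 := by rw [← h.one, h.orth]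

theorem ind_eq_sum {ψ : W₁ × W₂ → ℂ} (h1 : ∀ y, ψ (1, y) = 0) (h2 : ∀ x, ψ (x, 1) = 0) :
    ind e ψ = ∑ i, ∑ j, ⟪ψ, om i j⟫ • η i j := by
  have := h.comm1; have := h.comm2
  have e1 := sum_smul_grid _ (sum_dot_om_left h1) (sum_dot_om_right h2) 1 (fun i => om i 1)
    (fun j => om 1 j) om
  rw [← om_expand] at e1
  rw [← sum_smul_grid _ (sum_dot_om_left h1) (sum_dot_om_right h2) 1 (fun i => η i 1)
    (fun j => η 1 j) η]
  conv_lhs => rw [← e1]
  simp only [map_sum, map_smul, ← h.ind_al]; rfl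

theorem dot_ind_eta {ψ : W₁ × W₂ → ℂ} (h1 : ∀ y, ψ (1, y) = 0) (h2 : ∀ x, ψ (x, 1) = 0) (i j) :
    ⟪ind e ψ, η i j⟫ = ⟪ψ, om i j⟫ := by
  rw [h.ind_eq_sum h1 h2]
  simp [dot_sum_left, dot_smul_left, h.orth, ite_and]

omit h in
theorem eq_zero_of_orth_supp {φ : W₁ × W₂ → ℂ}
    (hφ : ∀ ψ : W₁ × W₂ → ℂ, (∀ y, ψ (1, y) = 0) → (∀ x, ψ (x, 1) = 0) → ⟪ψ, φ⟫ = 0)
    {x : W₁} {y : W₂} (hx : x ≠ 1) (hy : y ≠ 1) : φ (x, y) = 0 := by
  classical
  cases nonempty_fintype (W₁ × W₂)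
  have := hφ (Pi.single (x, y) 1) (fun y => by simp [hx.symm]) (fun x => by simp [hy.symm])
  rw [dot_def, Finset.sum_eq_single (x, y) (fun b _ hb => by simp [hb]) (by simp)] at this
  simpa using this

/-- Peterfalvi (3.2)(c) -/
theorem eq_on (i j) {x : W₁} {y : W₂} (hx : x ≠ 1) (hy : y ≠ 1) :
    η i j (e (x, y)) = (i x : ℂ) * j y := by
  have := eq_zero_of_orth_supp (φ := η i j ∘ e - om i j) (fun ψ h1 h2 => by
    rw [dot_sub_right, ← frob_rec _ _ (h.mem_CF i j), h.dot_ind_eta h1 h2, sub_self]) hx hy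
  exact sub_eq_zero.mp this

/-- Peterfalvi (3.2)(e) -/
theorem vanish_of_orth {θ : G → ℂ} (hθ : θ ∈ CF G) (ho : ∀ i j, ⟪θ, η i j⟫ = 0)
    {x : W₁} {y : W₂} (hx : x ≠ 1) (hy : y ≠ 1) : θ (e (x, y)) = 0 :=
  eq_zero_of_orth_supp (φ := θ ∘ e) (fun ψ h1 h2 => by
    rw [← frob_rec _ _ hθ, h.ind_eq_sum h1 h2]
    simp [dot_sum_left, dot_smul_left, dot_comm_zero (ho _ _)]) hx hy

/-- values on `V` of a class function in terms of its components along the `η` -/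
theorem apply_eq_sum {θ : G → ℂ} (hθ : θ ∈ CF G) {x : W₁} {y : W₂} (hx : x ≠ 1) (hy : y ≠ 1) :
    θ (e (x, y)) = ∑ i, ∑ j, ⟪θ, η i j⟫ * ((i x : ℂ) * j y) := by
  have := h.vanish_of_orth (θ := θ - ∑ i, ∑ j, ⟪θ, η i j⟫ • η i j)
    (sub_mem hθ (sum_mem fun i _ => sum_mem fun j _ => (CF G).smul_mem (h.mem_CF i j) _))
    (fun k l => by simp [dot_sub_left, dot_sum_left, dot_smul_left, h.orth, ite_and]) hx hy
  simpa [Finset.sum_apply, h.eq_on _ _ hx hy, sub_eq_zero] using this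

theorem dot_ind_eq_zero {θ : G → ℂ} (hθ : θ ∈ CF G)
    (hV : ∀ x y, x ≠ 1 → y ≠ 1 → θ (e (x, y)) = 0) {ψ : W₁ × W₂ → ℂ} (h1 : ∀ y, ψ (1, y) = 0)
    (h2 : ∀ x, ψ (x, 1) = 0) : ⟪θ, ind e ψ⟫ = 0 := by
  rw [frob_rec' _ _ hθ]
  refine dot_eq_zero_of_disjoint fun ⟨x, y⟩ => ?_
  by_cases hx : x = 1
  · exact Or.inr (hx ▸ h1 y)
  by_cases hy : y = 1
  · exact Or.inr (hy ▸ h2 x)
  exact Or.inl (hV x y hx hy)

/-- Peterfalvi (3.7) -/
theorem exchange {θ : G → ℂ} (hθ : θ ∈ CF G) (hV : ∀ x y, x ≠ 1 → y ≠ 1 → θ (e (x, y)) = 0)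
    (i k j l) : ⟪θ, η i j⟫ + ⟪θ, η k l⟫ = ⟪θ, η i l⟫ + ⟪θ, η k j⟫ := by
  have key : ∀ i j, ⟪θ, 1⟫ - ⟪θ, η i 1⟫ - ⟪θ, η 1 j⟫ + ⟪θ, η i j⟫ = 0 := fun i j => by
    rw [← dot_sub_right, ← dot_sub_right, ← dot_add_right, ← h.ind_al]
    exact h.dot_ind_eq_zero hθ hV (fun y => by simp [al_apply]) (fun y => by simp [al_apply])
  linear_combination key i j + key k l - key i l - key k j

theorem bessel (s : Finset ((W₁ →* ℂˣ) × (W₂ →* ℂˣ))) (θ : G → ℂ) :
    ∑ p ∈ s, ‖⟪θ, η p.1 p.2⟫‖ ^ 2 ≤ nrm θ :=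
  bessel_le s (fun p => η p.1 p.2) (fun p _ => h.dot_self _ _)
    (fun p _ q _ hpq => by rw [h.orth, if_neg fun hc => hpq (Prod.ext hc.1 hc.2)]) θ

end TIFam0

/-- the number of `η_{ij}` that are not orthogonal to `θ` -/
noncomputable def NC (η : (W₁ →* ℂˣ) → (W₂ →* ℂˣ) → G → ℂ) (θ : G → ℂ) : ℕ :=
  (Finset.univ.filter fun p : (W₁ →* ℂˣ) × (W₂ →* ℂˣ) => ⟪θ, η p.1 p.2⟫ ≠ 0).card

section NC

variable {η : (W₁ →* ℂˣ) → (W₂ →* ℂˣ) → G → ℂ}

theorem NC_eq_zero {θ : G → ℂ} : NC η θ = 0 ↔ ∀ i j, ⟪θ, η i j⟫ = 0 := by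
  simp [NC]

theorem NC_add_le (θ φ : G → ℂ) : NC η (θ + φ) ≤ NC η θ + NC η φ := by
  refine le_trans (Finset.card_le_card fun p => ?_) (Finset.card_union_le _ _)
  simp only [Finset.mem_filter, Finset.mem_univ, true_and, Finset.mem_union, dot_add_left]
  contrapose!
  rintro ⟨a, b⟩
  rw [a, b, add_zero]

theorem NC_neg (θ : G → ℂ) : NC η (-θ) = NC η θ := by simp [NC, dot_neg_left]

theorem NC_sub_le (θ φ : G → ℂ) : NC η (θ - φ) ≤ NC η θ + NC η φ := by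
  rw [sub_eq_add_neg, ← NC_neg φ]; exact NC_add_le _ _

theorem NC_smul_le (c : ℂ) (θ : G → ℂ) : NC η (c • θ) ≤ NC η θ :=
  Finset.card_le_card fun p => by simp +contextual [dot_smul_left]

theorem card_le_NC {θ : G → ℂ} (s : Finset ((W₁ →* ℂˣ) × (W₂ →* ℂˣ)))
    (hs : ∀ p ∈ s, ⟪θ, η p.1 p.2⟫ ≠ 0) : s.card ≤ NC η θ :=
  Finset.card_le_card fun p hp => by simpa using hs p hp

theorem TIFam0.NC_le_nrm {e : W₁ × W₂ →* G} (h : TIFam0 e η) {θ : G → ℂ} (hθ : θ ∈ ZIrr G) :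
    (NC η θ : ℝ) ≤ nrm θ := by
  refine le_trans ?_ (h.bessel (Finset.univ.filter fun p => ⟪θ, η p.1 p.2⟫ ≠ 0) θ)
  rw [NC, Finset.card_eq_sum_ones, Nat.cast_sum]
  refine Finset.sum_le_sum fun p hp => ?_
  obtain ⟨n, hn⟩ := ZIrr.dot_int hθ (h.zirr p.1 p.2)
  have h1 := (Finset.mem_filter.mp hp).2
  rw [hn, Int.cast_ne_zero] at h1
  rw [hn, Complex.norm_intCast, sq_abs]
  have : 1 ≤ n ^ 2 := by rw [← sq_abs]; nlinarith [abs_pos.mpr h1]
  exact_mod_cast this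

theorem TIFam0.NC_le_of_nrm {e : W₁ × W₂ →* G} (h : TIFam0 e η) {θ : G → ℂ} (hθ : θ ∈ ZIrr G)
    {n : ℕ} (hn : nrm θ ≤ n) : NC η θ ≤ n := by exact_mod_cast (h.NC_le_nrm hθ).trans hn

theorem TIFam0.NC_dirr {e : W₁ × W₂ →* G} (h : TIFam0 e η) {θ : G → ℂ} (hθ : Dirr θ) :
    NC η θ ≤ 1 := h.NC_le_of_nrm hθ.mem_ZIrr (by rw [hθ.nrm]; simp)

end NC

theorem grid_small_support {I J : Type*} [Fintype I] [Fintype J] [DecidableEq I] [DecidableEq J]
    (a : I → J → ℂ) (hx : ∀ i k j l, a i j + a k l = a i l + a k j)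
    (hI : 3 ≤ Fintype.card I) (hJ : 3 ≤ Fintype.card J)
    (hIJ : Fintype.card I + 2 ≤ Fintype.card J ∨ Fintype.card J + 2 ≤ Fintype.card I)
    (h1 : (Finset.univ.filter fun p : I × J => a p.1 p.2 ≠ 0).card < 2 * Fintype.card I)
    (h2 : (Finset.univ.filter fun p : I × J => a p.1 p.2 ≠ 0).card < 2 * Fintype.card J) :
    (∃ l c, ∀ i j, a i j = if j = l then c else 0) ∨ ∃ k c, ∀ i j, a i j = if i = k then c else 0 := by
  set S := Finset.univ.filter fun p : I × J => a p.1 p.2 ≠ 0 with hS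
  obtain ⟨j0, -⟩ : (Finset.univ : Finset J).Nonempty := Finset.card_pos.mp (by rw [Finset.card_univ]; omega)
  obtain ⟨i0, -⟩ : (Finset.univ : Finset I).Nonempty := Finset.card_pos.mp (by rw [Finset.card_univ]; omega)
  obtain ⟨i1, j1, hr⟩ : ∃ i1 j1, ∀ j, j ≠ j1 → a i1 j = 0 := by
    obtain ⟨i, -, hi⟩ := Finset.exists_card_fiber_lt_of_card_lt_mul (s := S) (t := Finset.univ)
      (f := Prod.fst) (n := 2) (by rwa [Finset.card_univ, mul_comm])
    by_cases hc : ∃ j, a i j ≠ 0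
    · obtain ⟨j, hj⟩ := hc
      refine ⟨i, j, fun l hl => by_contra fun h => ?_⟩
      have := Finset.card_le_card (s := {(i, j), (i, l)}) (t := S.filter fun p => p.1 = i)
        (by simp [Finset.insert_subset_iff, hS, hj, h])
      rw [Finset.card_pair (by simp [hl.symm])] at this
      omega
    · push Not at hc
      exact ⟨i, j0, fun l _ => hc l⟩
  obtain ⟨j2, i2, hc⟩ : ∃ j2 i2, ∀ i, i ≠ i2 → a i j2 = 0 := by
    obtain ⟨j, -, hj⟩ := Finset.exists_card_fiber_lt_of_card_lt_mul (s := S) (t := Finset.univ)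
      (f := Prod.snd) (n := 2) (by rwa [Finset.card_univ, mul_comm])
    by_cases hc : ∃ i, a i j ≠ 0
    · obtain ⟨i, hi⟩ := hc
      refine ⟨j, i, fun l hl => by_contra fun h => ?_⟩
      have := Finset.card_le_card (s := {(i, j), (l, j)}) (t := S.filter fun p => p.2 = j)
        (by simp [Finset.insert_subset_iff, hS, hi, h])
      rw [Finset.card_pair (by simp [hl.symm])] at this
      omega
    · push Not at hc
      exact ⟨j, i0, fun l _ => hc l⟩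
  have hrow : ∀ i k j, i ≠ i2 → k ≠ i2 → a i j = a k j := fun i k j hi hk => by
    linear_combination hx i k j j2 + hc i hi - hc k hk
  have hcol : ∀ i j l, j ≠ j1 → l ≠ j1 → a i j = a i l := fun i j l hj hl => by
    linear_combination hx i i1 j l + hr j hj - hr l hl
  haveI : Nontrivial I := Fintype.one_lt_card_iff_nontrivial.mp (by omega)
  haveI : Nontrivial J := Fintype.one_lt_card_iff_nontrivial.mp (by omega)
  obtain ⟨i3, hi3⟩ := exists_ne i2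
  obtain ⟨j3, hj3⟩ := exists_ne j1
  have e0 : a i3 j3 = 0 := by
    by_contra h
    have := Finset.card_le_card (s := Finset.univ.erase i2 ×ˢ Finset.univ.erase j1) (t := S) (by
      rintro ⟨i, j⟩ hp
      simp only [Finset.mem_product, Finset.mem_erase, Finset.mem_univ, and_true] at hp
      simp only [hS, Finset.mem_filter, Finset.mem_univ, true_and]
      rwa [hrow i i3 j hp.1 hi3, hcol i3 j j3 hp.2 hj3])
    simp only [Finset.card_product, Finset.card_erase_of_mem (Finset.mem_univ _),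
      Finset.card_univ] at this
    obtain ⟨m, hm⟩ := Nat.exists_eq_add_of_le hI
    obtain ⟨n, hn⟩ := Nat.exists_eq_add_of_le hJ
    rw [hm, hn] at this hIJ
    rw [hm] at h1
    rw [hn] at h2
    simp only [show 3 + m - 1 = m + 2 by omega, show 3 + n - 1 = n + 2 by omega] at this
    rcases hIJ with h | h <;> nlinarith
  have e1 : ∀ i j, i ≠ i2 → j ≠ j1 → a i j = 0 := fun i j hi hj => by
    rw [hrow i i3 j hi hi3, hcol i3 j j3 hj hj3, e0]
  by_cases hr0 : a i2 j3 = 0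
  · refine Or.inl ⟨j1, a i3 j1, fun i j => ?_⟩
    by_cases hi : i = i2
    · subst hi
      split_ifs with hj
      · subst hj; linear_combination hx i i3 j j3 + hr0 - e0
      · rw [hcol i j j3 hj hj3, hr0]
    · split_ifs with hj
      · rw [hj, hrow i i3 j1 hi hi3]
      · exact e1 i j hi hj
  by_cases hs0 : a i3 j1 = 0
  · refine Or.inr ⟨i2, a i2 j3, fun i j => ?_⟩
    by_cases hj : j = j1
    · subst hj
      split_ifs with hi
      · subst hi; linear_combination hx i i3 j j3 + hs0 - e0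
      · rw [hrow i i3 j hi hi3, hs0]
    · split_ifs with hi
      · rw [hi, hcol i2 j j3 hj hj3]
      · exact e1 i j hi hj
  exfalso
  have := Finset.card_le_card
    (s := ({i2} ×ˢ Finset.univ.erase j1) ∪ (Finset.univ.erase i2 ×ˢ {j1})) (t := S) (by
      rintro ⟨i, j⟩ hp
      simp only [Finset.mem_union, Finset.mem_product, Finset.mem_erase, Finset.mem_univ, and_true,
        Finset.mem_singleton] at hp
      simp only [hS, Finset.mem_filter, Finset.mem_univ, true_and]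
      rcases hp with ⟨rfl, hj⟩ | ⟨hi, rfl⟩
      · rwa [hcol i j j3 hj hj3]
      · rwa [hrow i i3 j hi hi3])
  rw [Finset.card_union_of_disjoint (by simp +contextual [Finset.disjoint_left, eq_comm])] at this
  simp only [Finset.card_product, Finset.card_erase_of_mem (Finset.mem_univ _),
    Finset.card_univ, Finset.card_singleton] at this
  omega

namespace TIFam

variable {e : W₁ × W₂ →* G} {η : (W₁ →* ℂˣ) → (W₂ →* ℂˣ) → G → ℂ} (h : TIFam e η)
include h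

theorem card_lin1 : Fintype.card (W₁ →* ℂˣ) = Nat.card W₁ := by
  have := h.comm1; rw [Fintype.card_eq_nat_card, card_lin]

theorem card_lin2 : Fintype.card (W₂ →* ℂˣ) = Nat.card W₂ := h.swap.card_lin1

/-- Peterfalvi (3.8) -/
theorem small_NC {θ : G → ℂ} (hθ : θ ∈ CF G) (hV : ∀ x y, x ≠ 1 → y ≠ 1 → θ (e (x, y)) = 0)
    (h1 : NC η θ < 2 * Nat.card W₁) (h2 : NC η θ < 2 * Nat.card W₂) :
    (∃ l c, ∀ i j, ⟪θ, η i j⟫ = if j = l then c else 0) ∨
      ∃ k c, ∀ i j, ⟪θ, η i j⟫ = if i = k then c else 0 :=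
  grid_small_support _ (h.exchange hθ hV) (h.card_lin1 ▸ h.three_le1) (h.card_lin2 ▸ h.three_le2)
    (h.card_lin1 ▸ h.card_lin2 ▸ h.card_ne) (h.card_lin1 ▸ h1) (h.card_lin2 ▸ h2)

theorem le_NC_of_col {θ : G → ℂ} {l} (hl : ∀ i, ⟪θ, η i l⟫ ≠ 0) : Nat.card W₁ ≤ NC η θ := by
  have := card_le_NC (η := η) (θ := θ) (Finset.univ ×ˢ {l}) (by simpa using hl)
  simpa [h.card_lin1] using this

theorem le_NC_of_row {θ : G → ℂ} {k} (hk : ∀ j, ⟪θ, η k j⟫ ≠ 0) : Nat.card W₂ ≤ NC η θ := by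
  have := card_le_NC (η := η) (θ := θ) ({k} ×ˢ Finset.univ) (by simpa using hk)
  simpa [h.card_lin2] using this

theorem orth_of_NC_lt {θ : G → ℂ} (hθ : θ ∈ CF G) (hV : ∀ x y, x ≠ 1 → y ≠ 1 → θ (e (x, y)) = 0)
    (h1 : NC η θ < Nat.card W₁) (h2 : NC η θ < Nat.card W₂) (i j) : ⟪θ, η i j⟫ = 0 := by
  by_contra hne
  rcases h.small_NC hθ hV (by omega) (by omega) with ⟨l, c, hc⟩ | ⟨k, c, hc⟩
  · have : c ≠ 0 := by rintro rfl; simp [hc] at hne
    exact absurd (h.le_NC_of_col (θ := θ) (l := l) fun i => by simpa [hc]) (by omega)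
  · have : c ≠ 0 := by rintro rfl; simp [hc] at hne
    exact absurd (h.le_NC_of_row (θ := θ) (k := k) fun i => by simpa [hc]) (by omega)

theorem orth_of_NC_le_two {θ : G → ℂ} (hθ : θ ∈ CF G)
    (hV : ∀ x y, x ≠ 1 → y ≠ 1 → θ (e (x, y)) = 0) (h1 : NC η θ ≤ 2) (i j) : ⟪θ, η i j⟫ = 0 :=
  h.orth_of_NC_lt hθ hV (by have := h.three_le1; omega) (by have := h.three_le2; omega) i j

/-- Peterfalvi (3.9)(a) -/
theorem eq_of_eq_on {φ : G → ℂ} (hφ : Dirr φ) {i j}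
    (hV : ∀ x y, x ≠ 1 → y ≠ 1 → φ (e (x, y)) = (i x : ℂ) * j y) : φ = η i j := by
  have := h.orth_of_NC_le_two (θ := φ - η i j) (sub_mem (ZIrr.mem_CF hφ.mem_ZIrr) (h.mem_CF i j))
    (fun x y hx hy => by rw [Pi.sub_apply, hV x y hx hy, h.eq_on i j hx hy, sub_self])
    ((NC_sub_le _ _).trans (add_le_add (h.NC_dirr hφ) (h.NC_dirr (h.dirr i j)))) i j
  rw [dot_sub_left, h.dot_self, sub_eq_zero] at this
  exact hφ.eq_of_dot_eq_one (h.dirr i j) this

theorem unique {η' : (W₁ →* ℂˣ) → (W₂ →* ℂˣ) → G → ℂ} (h' : TIFam0 e η') : η' = η := by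
  funext i j
  exact h.eq_of_eq_on (h'.dirr i j) fun x y hx hy => h'.eq_on i j hx hy

theorem map_eq (σ : ℂ →+* ℂ) (i j) : σ ∘ η i j = η (linMap σ i) (linMap σ j) :=
  h.eq_of_eq_on ((h.dirr i j).map σ) fun x y hx hy => by
    rw [Function.comp_apply, h.eq_on i j hx hy, map_mul]; rfl

theorem conjFun_eq (i j) : conjFun (η i j) = η i⁻¹ j⁻¹ :=
  h.eq_of_eq_on (h.dirr i j).conjFun fun x y hx hy => by
    rw [conjFun, h.eq_on i j hx hy, map_mul]
    exact congrArg₂ _ (congrFun (lin_inv i).symm x) (congrFun (lin_inv j).symm y)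

omit h in
theorem linMap_eq_pow {X : Type*} [Group X] {i : X →* ℂˣ} {a k : ℕ} (hi : i ^ a = 1) {σ : ℂ →+* ℂ}
    (hσ : ∀ ζ : ℂ, ζ ^ a = 1 → σ ζ = ζ ^ k) : linMap σ i = i ^ k := by
  ext x
  have : (i x : ℂ) ^ a = 1 := by
    rw [← Units.val_pow_eq_pow_val, ← MonoidHom.pow_apply, hi]; rfl
  exact (hσ _ this).trans (by simp)

/-- Peterfalvi (3.9)(b) -/
theorem exists_aut_pow {i j} {a k : ℕ} (ha : a ≠ 0) (hi : i ^ a = 1) (hj : j ^ a = 1)
    (hk : k.Coprime a) : ∃ σ : ℂ ≃+* ℂ, η (i ^ k) (j ^ k) = σ ∘ η i j := by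
  obtain ⟨σ, hσ⟩ := Chr.exists_aut_pow ha hk
  exact ⟨σ, by rw [← linMap_eq_pow (σ := σ) hi hσ, ← linMap_eq_pow (σ := σ) hj hσ, ← h.map_eq]; rfl⟩

theorem pow_apply_eq {i j} {a k : ℕ} (ha : a ≠ 0) (hi : i ^ a = 1) (hj : j ^ a = 1)
    (hk : k.Coprime a) {g : G} (hg : (orderOf g).Coprime a) : η (i ^ k) (j ^ k) g = η i j g := by
  obtain ⟨σ, h1, h2⟩ := exists_aut_coprime ha (orderOf_pos g).ne' hg.symm hk
  rw [← linMap_eq_pow (σ := σ) hi h1, ← linMap_eq_pow (σ := σ) hj h1, ← h.map_eq,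
    Function.comp_apply, ZIrr.map_apply (h.zirr i j) _ (k := 1) (by simpa using h2), pow_one]

/-- Peterfalvi (3.9)(c) -/
theorem int_of_coprime {i j} {a : ℕ} (ha : a ≠ 0) (hi : i ^ a = 1) (hj : j ^ a = 1) {g : G}
    (hg : (orderOf g).Coprime a) : ∃ n : ℤ, η i j g = n := by
  refine int_of_aut_fixed (ZIrr.isIntegral (h.zirr i j) g) fun σ => ?_
  obtain ⟨k, hk, h0⟩ := aut_exists_pow (σ : ℂ →+* ℂ) (orderOf_pos g).ne'
  obtain ⟨τ, h1, h2⟩ := exists_aut_coprime (orderOf_pos g).ne' ha hg hk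
  have e1 := ZIrr.map_apply (h.zirr i j) (σ : ℂ →+* ℂ) h0
  have e2 := ZIrr.map_apply (h.zirr i j) (τ : ℂ →+* ℂ) h1
  have e3 := congrFun (h.map_eq (τ : ℂ →+* ℂ) i j) g
  rw [linMap_eq_pow (k := 1) hi (by simpa using h2), linMap_eq_pow (k := 1) hj (by simpa using h2),
    pow_one, pow_one] at e3
  exact e1.trans (e2.symm.trans e3)

theorem eq_signed_sub {φ : G → ℂ} (hφ : φ ∈ ZIrr G) (hn : nrm φ = 2) {ε : ℂ} (hε : ε = 1 ∨ ε = -1)
    {i j l} (hjl : j ≠ l)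
    (hV : ∀ x y, x ≠ 1 → y ≠ 1 → φ (e (x, y)) = (ε • (η i j - η i l)) (e (x, y))) :
    φ = ε • (η i j - η i l) := by
  wlog hε1 : ε = 1 generalizing φ ε
  · obtain rfl := hε.resolve_left hε1
    have := this (neg_mem hφ) (by rwa [nrm_neg]) (Or.inl rfl)
      (fun x y hx hy => by rw [Pi.neg_apply, hV x y hx hy]; simp) rfl
    rw [← neg_neg φ, this]; simp
  subst hε1
  rw [one_smul] at hV ⊢
  have hρ : η i j - η i l ∈ ZIrr G := sub_mem (h.zirr _ _) (h.zirr _ _)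
  have hρn : nrm (η i j - η i l) = 2 := by
    rw [nrm_sub_of_orth (by simp [h.orth, hjl]), (h.dirr _ _).nrm, (h.dirr _ _).nrm]; norm_num
  have hNC : NC η (φ - (η i j - η i l)) ≤ 4 :=
    (NC_sub_le _ _).trans (add_le_add (h.NC_le_of_nrm (n := 2) hφ (by simp [hn]))
      (h.NC_le_of_nrm (n := 2) hρ (by simp [hρn])))
  have h3 := h.three_le1
  have h4 := h.three_le2
  have key : ∀ k m, ⟪φ - (η i j - η i l), η k m⟫ = 0 := by
    let z : (W₁ →* ℂˣ) → (W₂ →* ℂˣ) → ℤ := fun k m => zdot φ (η k m)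
    have hz : ∀ k m, ⟪φ, η k m⟫ = z k m := fun k m => (ZIrr.coe_zdot hφ (h.zirr k m)).symm
    have hb : ∀ p q r : (W₁ →* ℂˣ) × (W₂ →* ℂˣ), p ≠ q → p ≠ r → q ≠ r →
        z p.1 p.2 ^ 2 + z q.1 q.2 ^ 2 + z r.1 r.2 ^ 2 ≤ 2 := by
      intro p q r h1 h2 h3
      have := h.bessel {p, q, r} φ
      rw [Finset.sum_insert (by simp [h1, h2]), Finset.sum_pair h3, hn] at this
      simp only [hz, Complex.norm_intCast, sq_abs, ← add_assoc] at this
      exact_mod_cast this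
    have hd : ∀ k m, ⟪φ - (η i j - η i l), η k m⟫ = (z k m - ((if i = k ∧ j = m then 1 else 0) -
        (if i = k ∧ l = m then 1 else 0)) : ℤ) := fun k m => by
      rw [dot_sub_left, dot_sub_left, hz, h.orth, h.orth]; push_cast; rfl
    obtain ⟨i1, i2, h12, hi1, hi2⟩ : ∃ i1 i2, i1 ≠ i2 ∧ i1 ≠ i ∧ i2 ≠ i := by
      obtain ⟨a, ha, b, hb, hab⟩ := (Finset.one_lt_card (s := Finset.univ.erase i)).mp
        (by rw [Finset.card_erase_of_mem (Finset.mem_univ _), Finset.card_univ, h.card_lin1]; omega)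
      exact ⟨a, b, hab, Finset.ne_of_mem_erase ha, Finset.ne_of_mem_erase hb⟩
    obtain ⟨m0, hm1, hm2⟩ : ∃ m, m ≠ j ∧ m ≠ l := by
      obtain ⟨m, -, hm⟩ := Finset.exists_mem_notMem_of_card_lt_card (s := {j, l}) (t := Finset.univ)
        (by rw [Finset.card_univ, h.card_lin2, Finset.card_pair hjl]; omega)
      exact ⟨m, by simpa using hm⟩
    rcases h.small_NC (θ := φ - (η i j - η i l)) (ZIrr.mem_CF (sub_mem hφ hρ))
      (fun x y hx hy => by rw [Pi.sub_apply, hV x y hx hy, sub_self]) (by omega) (by omega) with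
      ⟨m, c, hc⟩ | ⟨k, c, hc⟩
    · obtain ⟨c, rfl⟩ : ∃ n : ℤ, c = n := ⟨_, by rw [← hd i m, hc, if_pos rfl]⟩
      have hc' : ∀ k n, z k n - ((if i = k ∧ j = n then 1 else 0) -
          (if i = k ∧ l = n then 1 else 0)) = if n = m then c else 0 := fun k n => by
        have := (hd k n).symm.trans (hc k n)
        split_ifs at this ⊢ <;> exact_mod_cast this
      have e1 := hc' i1 m
      have e2 := hc' i2 m
      have e3 := hc' i j
      have e4 := hc' i l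
      have b1 := hb (i1, m) (i2, m) (i, j) (by simp [h12]) (by simp [hi1]) (by simp [hi2])
      have b2 := hb (i1, m) (i2, m) (i, l) (by simp [h12]) (by simp [hi1]) (by simp [hi2])
      simp only [hi1.symm, hi2.symm, false_and, if_false, if_true, true_and, hjl, hjl.symm] at e1 e2 e3 e4
      have : c = 0 := by
        by_cases hj : j = m
        · rw [if_neg (fun e => hjl (hj.trans e.symm))] at e4
          simp only at b2
          nlinarith
        · rw [if_neg hj] at e3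
          simp only at b1
          nlinarith
      simp [hc, this]
    · obtain ⟨c, rfl⟩ : ∃ n : ℤ, c = n := ⟨_, by rw [← hd k j, hc, if_pos rfl]⟩
      have hc' : ∀ k' n, z k' n - ((if i = k' ∧ j = n then 1 else 0) -
          (if i = k' ∧ l = n then 1 else 0)) = if k' = k then c else 0 := fun k n => by
        have := (hd k n).symm.trans (hc k n)
        split_ifs at this ⊢ <;> exact_mod_cast this
      have e1 := hc' k m0
      have e3 := hc' i j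
      have e4 := hc' i l
      have b1 := hb (k, m0) (i, j) (i, l) (by simp [hm1]) (by simp [hm2]) (by simp [hjl])
      simp only [hm1.symm, hm2.symm, and_false, if_false, if_true, true_and, hjl, hjl.symm] at e1 e3 e4
      have : c = 0 := by
        simp only at b1
        split_ifs at e3 e4 <;> nlinarith
      simp [hc, this]
  have h5 : ⟪φ - (η i j - η i l), η i j - η i l⟫ = 0 := by rw [dot_sub_right, key, key, sub_self]
  have h6 := nrm_add_of_orth h5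
  rw [sub_add_cancel, hn, hρn] at h6
  exact sub_eq_zero.mp (nrm_eq_zero.mp (by linarith))

end TIFam

theorem realizeEqns_PF_S03 : True := by
  have := @CA.Chr.NC.eq_1.{0,0,0}
  have := @CA.Chr.NC.eq_def.{0,0,0}
  have := @CA.Chr.NC.congr_simp.{0,0,0}
  have := @CA.Chr.al.eq_1.{0,0}
  have := @CA.Chr.al.eq_def.{0,0}
  have := @CA.Chr.al.congr_simp.{0,0}
  have := @CA.Chr.om.eq_1.{0,0}
  have := @CA.Chr.om.eq_def.{0,0}
  have := @CA.Chr.om.congr_simp.{0,0}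
  have := @CA.Chr.swapHom.eq_1.{0,0,0}
  have := @CA.Chr.swapHom.eq_def.{0,0,0}
  have := @CA.Chr.swapHom.congr_simp.{0,0,0}
  have := @CA.Chr.linProdEquiv.eq_1.{0,0}
  have := @CA.Chr.linProdEquiv.eq_def.{0,0}
  have := @CA.Chr.linProdEquiv.congr_simp.{0,0}
  have := @CA.Chr.instFintypeLin.eq_1.{0}
  have := @CA.Chr.instFintypeLin.eq_def.{0}
  have := @CA.Chr.instFintypeLin.congr_simp.{0}
  trivial

end CA.Chr
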