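import Cfsg.Agent.PF.S02

/-!
# Peterfalvi (3.5): the combinatorial core
-/

set_option autoImplicit false
set_option linter.unusedSectionVars false

open scoped ComplexConjugate

open Cfsg

namespace CA.Chr

namespace TICheck

def vecs : ℕ → List (List ℤ)
  | 0 => [[]]
  | n + 1 => (vecs n).flatMap fun v => [0 :: v, 1 :: v, -1 :: v]

theorem mem_vecs : ∀ (l : List ℤ), (∀ x ∈ l, x = -1 ∨ x = 0 ∨ x = 1) → l ∈ vecs l.length
  | [], _ => by simp [vecs]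
  | a :: l, h => by
    have h1 := mem_vecs l fun x hx => h x (List.mem_cons_of_mem _ hx)
    have h2 := h a List.mem_cons_self
    simp only [List.length_cons, vecs, List.mem_flatMap]
    exact ⟨l, h1, by rcases h2 with rfl | rfl | rfl <;> simp⟩

def dl : List ℤ → List ℤ → ℤ
  | a :: l, b :: m => a * b + dl l m
  | _, _ => 0

def noOpp : List ℤ → List ℤ → Bool
  | a :: l, b :: m => (a * b != -1) && noOpp l m
  | _, _ => true

def M : Fin 4 → Fin 7 → ℤ :=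
  ![![1, 1, 0, 0, 1, 0, 0], ![1, 0, 1, 0, 0, 1, 0], ![1, 0, 0, 1, 0, 0, 1], ![0, 1, 1, 1, 0, 0, 0]]

def ok1 (k : Fin 4) (c : List ℤ) : Bool :=
  (dl c c ≤ 3) && noOpp c (List.ofFn (M k)) &&
    (List.finRange 4).all fun i => dl c (List.ofFn (M i)) == if k = i then 1 else 0

def ok2 (c d : List ℤ) : Bool :=
  noOpp c d && (dl c c != 3 || dl c d == 1) && (dl d d != 3 || dl c d == 1)

def cands (k : Fin 4) : List (List ℤ) := (vecs 7).filter (ok1 k)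

theorem check : ((cands 0).all fun a => (cands 1).all fun b => !ok2 a b || (cands 2).all fun c =>
    !ok2 a c || !ok2 b c || (cands 3).all fun d => !ok2 a d || !ok2 b d || !ok2 c d) = true := by
  decide +kernel

theorem dl_ofFn (a b : Fin 7 → ℤ) : dl (List.ofFn a) (List.ofFn b) = ∑ x, a x * b x := by
  simp [List.ofFn_succ, dl, Fin.sum_univ_succ]

theorem noOpp_ofFn (a b : Fin 7 → ℤ) (h : ∀ x, a x * b x ≠ -1) :
    noOpp (List.ofFn a) (List.ofFn b) = true := by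
  simp [List.ofFn_succ, noOpp, h]

theorem fin_check (c : Fin 4 → Fin 7 → ℤ) (hr : ∀ k x, c k x = -1 ∨ c k x = 0 ∨ c k x = 1)
    (hA : ∀ k i, ∑ x, c k x * M i x = if k = i then 1 else 0) (hn : ∀ k, ∑ x, c k x * c k x ≤ 3)
    (hopp : ∀ k x, c k x * M k x ≠ -1) (hopp2 : ∀ k l, k ≠ l → ∀ x, c k x * c l x ≠ -1)
    (hfull : ∀ k l, k ≠ l → ∑ x, c k x * c k x = 3 → ∑ x, c k x * c l x = 1) : False := by
  have h1 : ∀ k, List.ofFn (c k) ∈ cands k := fun k => by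
    refine List.mem_filter.mpr ⟨?_, ?_⟩
    · have := mem_vecs (List.ofFn (c k)) (List.forall_mem_ofFn_iff.mpr (hr k))
      rwa [List.length_ofFn] at this
    · simp only [ok1, dl_ofFn, noOpp_ofFn _ _ (hopp k), hA, hn k]
      simp
  have h2 : ∀ k l, k ≠ l → ok2 (List.ofFn (c k)) (List.ofFn (c l)) = true := fun k l h => by
    have e1 := hfull k l h
    have e2 := hfull l k h.symm
    simp only [mul_comm (c l _) (c k _)] at e2
    simp only [ok2, dl_ofFn, noOpp_ofFn _ _ (hopp2 k l h)]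
    simp only [Bool.true_and, Bool.and_eq_true, Bool.or_eq_true, bne_iff_ne, beq_iff_eq]
    tauto
  have := check
  simp only [List.all_eq_true, Bool.or_eq_true, Bool.not_eq_true'] at this
  have := this _ (h1 0) _ (h1 1)
  rw [h2 0 1 (by decide)] at this
  have := (this.resolve_left (by simp)) _ (h1 2)
  rw [h2 0 2 (by decide), h2 1 2 (by decide)] at this
  have := (this.resolve_left (by simp)) _ (h1 3)
  rw [h2 0 3 (by decide), h2 1 3 (by decide), h2 2 3 (by decide)] at this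
  simp at this

end TICheck

variable {G : Type*} [Group G] [Finite G]

theorem Dirr.dot_eq_zero_of_dot {θ x y : G → ℂ} (hx : Dirr x) (hy : Dirr y) (h : ⟪θ, x⟫ = 0)
    (h' : ⟪θ, y⟫ ≠ 0) : ⟪x, y⟫ = 0 := by
  refine hx.dot_eq_zero hy (fun e => h' (e ▸ h)) fun e => h' ?_
  rwa [e, dot_neg_right, neg_eq_zero] at h

theorem eq_sum_of_bessel {ι : Type*} (s : Finset ι) (v : ι → G → ℂ)
    (h1 : ∀ i ∈ s, ⟪v i, v i⟫ = 1) (h : ∀ i ∈ s, ∀ j ∈ s, i ≠ j → ⟪v i, v j⟫ = 0) {φ : G → ℂ}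
    (hφ : nrm φ ≤ ∑ i ∈ s, ‖⟪φ, v i⟫‖ ^ 2) : φ = ∑ i ∈ s, ⟪φ, v i⟫ • v i := by
  have h2 := bessel s v h1 h φ
  have h3 := nrm_nonneg (φ - ∑ i ∈ s, ⟪φ, v i⟫ • v i)
  exact sub_eq_zero.mp (nrm_eq_zero.mp (by linarith))

/-- a virtual character of norm `3` and degree `-1` -/
structure Line (A : G → ℂ) : Prop where
  zirr : A ∈ ZIrr G
  nrm3 : nrm A = 3
  deg : A 1 = -1

namespace Line

variable {A B x y z : G → ℂ}

theorem cases (hA : Line A) (hx : Dirr x) : ⟪A, x⟫ = -1 ∨ ⟪A, x⟫ = 0 ∨ ⟪A, x⟫ = 1 :=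
  ZIrr.dot_cases_of_nrm_lt_four hA.zirr (by rw [hA.nrm3]; norm_num) hx

theorem dot_self (hA : Line A) : ⟪A, A⟫ = 3 := by rw [Chr.dot_self, hA.nrm3]; norm_num

theorem symm (hA : Line A) (hB : Line B) (h : ⟪A, B⟫ = 1) : ⟪B, A⟫ = 1 := by
  rwa [ZIrr.dot_comm hB.zirr hA.zirr]

theorem no_opp (hA : Line A) (hB : Line B) (h : ⟪A, B⟫ = 1) (hx : Dirr x) (h1 : ⟪A, x⟫ = 1) :
    ⟪B, x⟫ = 0 ∨ ⟪B, x⟫ = 1 := by
  have h2 := ZIrr.dot_cases_of_nrm_le_four (sub_mem hA.zirr hB.zirr)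
    (by rw [nrm_sub, hA.nrm3, hB.nrm3, h]; norm_num) (by simp [hA.deg, hB.deg]) hx
  rcases hB.cases hx with e | e | e
  · rw [dot_sub_left, h1, e] at h2
    norm_num at h2
  · exact Or.inl e
  · exact Or.inr e

theorem third (hA : Line A) (hx : Dirr x) (hy : Dirr y) (h1 : ⟪A, x⟫ = 1) (h2 : ⟪A, y⟫ = 1)
    (hne : x ≠ y) : Dirr (A - x - y) ∧ ⟪A, A - x - y⟫ = 1 ∧ A - x - y ≠ x ∧ A - x - y ≠ y := by
  have h3 := hx.dot_eq_zero_of_points hy h1 h2 hne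
  have h4 : ⟪A - x, y⟫ = 1 := by rw [dot_sub_left, h2, h3, sub_zero]
  refine ⟨ZIrr.dirr_of_nrm_one (sub_mem (sub_mem hA.zirr hx.mem_ZIrr) hy.mem_ZIrr) ?_, ?_, ?_, ?_⟩
  · rw [nrm_sub_of_dot_one hy.dot_self h4, nrm_sub_of_dot_one hx.dot_self h1, hA.nrm3]; norm_num
  · rw [dot_sub_right, dot_sub_right, hA.dot_self, h1, h2]; norm_num
  · intro e
    have := congrArg (⟪·, x⟫) e
    simp [dot_sub_left, h1, hx.dot_self, dot_comm_zero h3] at this
  · intro e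
    have := congrArg (⟪·, y⟫) e
    simp [dot_sub_left, h2, hy.dot_self, h3] at this

theorem unique (hA : Line A) (hB : Line B) (h : ⟪A, B⟫ = 1) (hx : Dirr x) (hy : Dirr y)
    (h1 : ⟪A, x⟫ = 1) (h2 : ⟪A, y⟫ = 1) (h3 : ⟪B, x⟫ = 1) (h4 : ⟪B, y⟫ = 1) : x = y := by
  by_contra hne
  obtain ⟨h5, h6, -⟩ := hA.third hx hy h1 h2 hne
  have := hA.no_opp hB h h5 h6
  rw [dot_sub_right, dot_sub_right, hA.symm hB h, h3, h4] at this
  norm_num at this

theorem dot_eq_zero (hA : Line A) (hB : Line B) (h : ⟪A, B⟫ = 1) (hx : Dirr x) (hz : Dirr z)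
    (h1 : ⟪A, x⟫ = 1) (h2 : ⟪A, z⟫ = 1) (h3 : ⟪B, z⟫ = 1) (hne : x ≠ z) : ⟪B, x⟫ = 0 :=
  (hA.no_opp hB h hx h1).resolve_right fun e => hne (hA.unique hB h hx hz h1 h2 e h3)

theorem exists_other (hA : Line A) (hx : Dirr x) (h1 : ⟪A, x⟫ = 1) :
    ∃ y, Dirr y ∧ ⟪A, y⟫ = 1 ∧ x ≠ y := by
  have h2 : nrm (A - x) = 2 := by rw [nrm_sub_of_dot_one hx.dot_self h1, hA.nrm3]; norm_num
  obtain ⟨y, hy, h3⟩ := ZIrr.exists_point (sub_mem hA.zirr hx.mem_ZIrr)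
    (fun e => by rw [e] at h2; simp at h2) (by rw [h2]; norm_num)
  have h4 : ⟪A - x, x⟫ = 0 := by rw [dot_sub_left, h1, hx.dot_self, sub_self]
  have h5 := hx.dot_eq_zero_of_dot hy h4 (by rw [h3]; norm_num)
  refine ⟨y, hy, by rwa [dot_sub_left, h5, sub_zero] at h3, fun e => ?_⟩
  rw [e, hy.dot_self] at h5
  norm_num at h5

theorem exists_common (hA : Line A) (hB : Line B) (h : ⟪A, B⟫ = 1) :
    ∃ x, Dirr x ∧ ⟪A, x⟫ = 1 ∧ ⟪B, x⟫ = 1 := by
  obtain ⟨x, hx, h1⟩ := ZIrr.exists_point hA.zirr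
    (fun e => by have := hA.nrm3; rw [e] at this; simp at this) (by rw [hA.nrm3]; norm_num)
  obtain ⟨y, hy, h2, hne⟩ := hA.exists_other hx h1
  obtain ⟨h5, h6, -⟩ := hA.third hx hy h1 h2 hne
  by_contra hc
  push Not at hc
  have e1 := (hA.no_opp hB h hx h1).resolve_right (hc x hx h1)
  have e2 := (hA.no_opp hB h hy h2).resolve_right (hc y hy h2)
  have e3 := (hA.no_opp hB h h5 h6).resolve_right (hc _ h5 h6)
  rw [dot_sub_right, dot_sub_right, hA.symm hB h, e1, e2] at e3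
  norm_num at e3

theorem eq_three (hA : Line A) (hx : Dirr x) (hy : Dirr y) (hz : Dirr z) (h1 : ⟪A, x⟫ = 1)
    (h2 : ⟪A, y⟫ = 1) (h3 : ⟪A, z⟫ = 1) (hxy : x ≠ y) (hxz : x ≠ z) (hyz : y ≠ z) :
    A - x - y = z := by
  obtain ⟨h5, -⟩ := hA.third hx hy h1 h2 hxy
  apply h5.eq_of_dot_eq_one hz
  rw [dot_sub_left, dot_sub_left, h3, hx.dot_eq_zero_of_points hz h1 h3 hxz,
    hy.dot_eq_zero_of_points hz h2 h3 hyz]
  norm_num

end Line

section Four

variable (A B : Fin 4 → G → ℂ) (hA : ∀ i, Line (A i)) (hB : ∀ i, Line (B i))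
  (hAA : ∀ i j, i ≠ j → ⟪A i, A j⟫ = 1) (hBB : ∀ i j, i ≠ j → ⟪B i, B j⟫ = 1)
  (hBA : ∀ k i, ⟪B k, A i⟫ = if k = i then 1 else 0)
include hA hB hAA hBB hBA

open TICheck in
theorem not_transversal {p : G → ℂ} (hp : Dirr p) (h0 : ⟪A 0, p⟫ = 1) (h1 : ⟪A 1, p⟫ = 1)
    (h2 : ⟪A 2, p⟫ = 1) : ⟪A 3, p⟫ = 1 := by
  by_contra h3
  replace h3 := ((hA 0).no_opp (hA 3) (hAA 0 3 (by decide)) hp h0).resolve_right h3
  have key : ∀ i : Fin 4, i ≠ 3 → ⟪A i, p⟫ = 1 → ∃ q r, Dirr q ∧ Dirr r ∧ ⟪A i, q⟫ = 1 ∧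
      ⟪A 3, q⟫ = 1 ∧ ⟪A i, r⟫ = 1 ∧ ⟪A 3, r⟫ = 0 ∧
      ∀ j, j ≠ i → ⟪A j, p⟫ = 1 → ⟪A j, q⟫ = 0 ∧ ⟪A j, r⟫ = 0 := by
    intro i hi hip
    obtain ⟨q, hq, e1, e2⟩ := (hA i).exists_common (hA 3) (hAA i 3 hi)
    have hne : p ≠ q := fun e => by rw [e, e2] at h3; norm_num at h3
    obtain ⟨hr, e3, e4, e5⟩ := (hA i).third hp hq hip e1 hne
    exact ⟨q, _, hq, hr, e1, e2, e3, (hA i).dot_eq_zero (hA 3) (hAA i 3 hi) hr hq e3 e1 e2 e5,
      fun j hj hjp => ⟨(hA i).dot_eq_zero (hA j) (hAA i j hj.symm) hq hp e1 hip hjp hne.symm,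
        (hA i).dot_eq_zero (hA j) (hAA i j hj.symm) hr hp e3 hip hjp e4⟩⟩
  obtain ⟨q0, r0, hq0, hr0, a1, a2, a3, a4, a5⟩ := key 0 (by decide) h0
  obtain ⟨q1, r1, hq1, hr1, b1, b2, b3, b4, b5⟩ := key 1 (by decide) h1
  obtain ⟨q2, r2, hq2, hr2, c1, c2, c3, c4, c5⟩ := key 2 (by decide) h2
  have a6 := a5 1 (by decide) h1
  have a7 := a5 2 (by decide) h2
  have b6 := b5 0 (by decide) h0
  have b7 := b5 2 (by decide) h2
  have c6 := c5 0 (by decide) h0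
  have c7 := c5 1 (by decide) h1
  let v : Fin 7 → G → ℂ := ![p, q0, q1, q2, r0, r1, r2]
  have hv : ∀ x, Dirr (v x) := fun x => by fin_cases x <;> assumption
  have hM : ∀ i x, ⟪A i, v x⟫ = M i x := fun i x => by
    fin_cases i <;> fin_cases x <;> simp [v, M, *]
  have hv1 : ∀ x ∈ Finset.univ, ⟪v x, v x⟫ = 1 := fun x _ => (hv x).dot_self
  have hv2 : ∀ x ∈ Finset.univ, ∀ y ∈ Finset.univ, x ≠ y → ⟪v x, v y⟫ = 0 := by
    intro x _ y _ hxy
    have e1 : ∀ x y : Fin 7, x ≠ y → (∃ i, M i x ≠ M i y) ∧ ∃ i, M i x ≠ -M i y := by decide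
    obtain ⟨⟨i, hi⟩, j, hj⟩ := e1 x y hxy
    refine (hv x).dot_eq_zero (hv y) (fun e => hi ?_) fun e => hj ?_
    · exact_mod_cast (hM i x).symm.trans (e ▸ hM i y)
    · have := hM j x
      rw [e, dot_neg_right, hM] at this
      exact_mod_cast this.symm
  let c : Fin 4 → Fin 7 → ℤ := fun k x => zdot (B k) (v x)
  have hc : ∀ k x, ⟪B k, v x⟫ = c k x := fun k x => (ZIrr.coe_zdot (hB k).zirr (hv x).mem_ZIrr).symm
  have hexp : ∀ (θ φ : G → ℂ) (a b : Fin 7 → ℤ), Line θ → (∀ x, ⟪θ, v x⟫ = a x) →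
      (∀ x, ⟪φ, v x⟫ = b x) → ∑ x, a x * a x = 3 → ⟪φ, θ⟫ = (∑ x, a x * b x : ℤ) := by
    intro θ φ a b hθ ha hb h
    have := eq_sum_of_bessel _ v hv1 hv2 (φ := θ) (by
      simp only [hθ.nrm3, ha, Complex.norm_intCast, sq, abs_mul_abs_self]
      exact_mod_cast h.ge)
    rw [this, dot_sum_right]
    simp [dot_smul_right, ha, hb]
  refine fin_check c (fun k x => ?_) (fun k i => ?_) (fun k => ?_) (fun k x => ?_)
    (fun k l hkl x => ?_) (fun k l hkl h => ?_)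
  · have := (hB k).cases (hv x)
    rw [hc] at this
    exact_mod_cast this
  · have := hexp (A i) (B k) (M i) (c k) (hA i) (hM i) (hc k) (by revert i; decide)
    rw [hBA] at this
    simp only [mul_comm (c k _)]
    split_ifs at this ⊢ <;> exact_mod_cast this.symm
  · have := bessel_le _ v hv1 hv2 (B k)
    simp only [(hB k).nrm3, hc, Complex.norm_intCast, sq, abs_mul_abs_self] at this
    exact_mod_cast this
  · have e1 : ∀ k x, M k x = 0 ∨ M k x = 1 := by decide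
    rcases e1 k x with e | e
    · simp [e]
    · have := (hA k).no_opp (hB k) ((hB k).symm (hA k) (by simp [hBA])) (hv x) (by simp [hM, e])
      rw [hc] at this
      have : c k x = 0 ∨ c k x = 1 := by exact_mod_cast this
      rcases this with h | h <;> simp [e, h]
  · intro h
    rcases Int.eq_one_or_neg_one_of_mul_eq_neg_one' h with ⟨e1, e2⟩ | ⟨e1, e2⟩
    · have := (hB k).no_opp (hB l) (hBB k l hkl) (hv x) (by simp [hc, e1])
      simp [hc, e2] at this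
      norm_num at this
    · have := (hB l).no_opp (hB k) (hBB l k hkl.symm) (hv x) (by simp [hc, e2])
      simp [hc, e1] at this
      norm_num at this
  · have := hexp (B k) (B l) (c k) (c l) (hB k) (hc k) (hc l) h
    rw [hBB l k hkl.symm] at this
    exact_mod_cast this.symm

theorem not_transversal_perm (σ : Equiv.Perm (Fin 4)) {p : G → ℂ} (hp : Dirr p)
    (h0 : ⟪A (σ 0), p⟫ = 1) (h1 : ⟪A (σ 1), p⟫ = 1) (h2 : ⟪A (σ 2), p⟫ = 1) :
    ⟪A (σ 3), p⟫ = 1 :=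
  not_transversal (A ∘ σ) (B ∘ σ) (fun _ => hA _) (fun _ => hB _)
    (fun _ _ h => hAA _ _ (σ.injective.ne h)) (fun _ _ h => hBB _ _ (σ.injective.ne h))
    (fun k i => by simp [hBA]) hp h0 h1 h2

theorem concurrent_four {p : G → ℂ} (hp : Dirr p) (h0 : ⟪A 0, p⟫ = 1) (h1 : ⟪A 1, p⟫ = 1) :
    ⟪A 2, p⟫ = 1 := by
  by_contra h2
  obtain ⟨q, hq, q0, q2⟩ := (hA 0).exists_common (hA 2) (hAA 0 2 (by decide))
  obtain ⟨r, hr, r1, r2⟩ := (hA 1).exists_common (hA 2) (hAA 1 2 (by decide))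
  have hpq : p ≠ q := fun e => h2 (e ▸ q2)
  have hpr : p ≠ r := fun e => h2 (e ▸ r2)
  have q1 : ⟪A 1, q⟫ ≠ 1 := fun e =>
    hpq ((hA 0).unique (hA 1) (hAA 0 1 (by decide)) hp hq h0 q0 h1 e)
  have r0 : ⟪A 0, r⟫ ≠ 1 := fun e =>
    hpr ((hA 0).unique (hA 1) (hAA 0 1 (by decide)) hp hr h0 e h1 r1)
  have hqr : q ≠ r := fun e => q1 (e ▸ r1)
  have p3 : ⟪A 3, p⟫ ≠ 1 := fun e =>
    h2 (not_transversal_perm A B hA hB hAA hBB hBA (Equiv.swap 2 3) hp h0 h1 e)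
  have q3 : ⟪A 3, q⟫ ≠ 1 := fun e =>
    q1 (not_transversal_perm A B hA hB hAA hBB hBA (Equiv.swap 1 3) hq q0 e q2)
  have r3 : ⟪A 3, r⟫ ≠ 1 := fun e =>
    r0 (not_transversal_perm A B hA hB hAA hBB hBA (Equiv.swap 0 3) hr e r1 r2)
  have key : ∀ (i : Fin 4) (x y : G → ℂ), i ≠ 3 → Dirr x → Dirr y → ⟪A i, x⟫ = 1 → ⟪A i, y⟫ = 1 →
      x ≠ y → ⟪A 3, x⟫ ≠ 1 → ⟪A 3, y⟫ ≠ 1 → ⟪A 3, A i - x - y⟫ = 1 := by
    intro i x y hi hx hy e1 e2 _ e3 e4
    rw [dot_sub_right, dot_sub_right, hAA 3 i hi.symm,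
      ((hA i).no_opp (hA 3) (hAA i 3 hi) hx e1).resolve_right e3,
      ((hA i).no_opp (hA 3) (hAA i 3 hi) hy e2).resolve_right e4]
    norm_num
  obtain ⟨a0, a1, a2, a3⟩ := (hA 0).third hp hq h0 q0 hpq
  obtain ⟨b0, b1, b2, b3⟩ := (hA 1).third hp hr h1 r1 hpr
  obtain ⟨c0, c1, c2, c3⟩ := (hA 2).third hq hr q2 r2 hqr
  have e := (hA 3).eq_three a0 b0 c0 (key 0 p q (by decide) hp hq h0 q0 hpq p3 q3)
    (key 1 p r (by decide) hp hr h1 r1 hpr p3 r3) (key 2 q r (by decide) hq hr q2 r2 hqr q3 r3)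
    (fun e => a2 ((hA 0).unique (hA 1) (hAA 0 1 (by decide)) a0 hp a1 h0 (e ▸ b1) h1))
    (fun e => a3 ((hA 0).unique (hA 2) (hAA 0 2 (by decide)) a0 hq a1 q0 (e ▸ c1) q2))
    (fun e => b3 ((hA 1).unique (hA 2) (hAA 1 2 (by decide)) b0 hr b1 r1 (e ▸ c1) r2))
  have e2 := congrArg (⟪B 0, ·⟫) e
  simp only [dot_sub_right, hBA] at e2
  obtain ⟨n1, hn1⟩ := ZIrr.dot_int (hB 0).zirr hp.mem_ZIrr
  obtain ⟨n2, hn2⟩ := ZIrr.dot_int (hB 0).zirr hq.mem_ZIrr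
  obtain ⟨n3, hn3⟩ := ZIrr.dot_int (hB 0).zirr hr.mem_ZIrr
  rw [hn1, hn2, hn3] at e2
  have : (2 * (n1 + n2 + n3) : ℤ) = 1 := by
    have : ((2 * (n1 + n2 + n3) : ℤ) : ℂ) = 1 := by
      simp at e2; push_cast; linear_combination e2
    exact_mod_cast this
  omega

end Four

section Grid

variable {I J : Type*} [Finite I] [Finite J] [DecidableEq I] [DecidableEq J]
  (β : I → J → G → ℂ) (hβ : ∀ i j, Line (β i j))
  (hd : ∀ i j k l, ⟪β i j, β k l⟫ =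
    (if i = k then 1 else 0) + (if j = l then 1 else 0) + if i = k ∧ j = l then 1 else 0)
include hβ hd

theorem exists_centre (hI : 4 ≤ Nat.card I) (hJ : 2 ≤ Nat.card J) (j : J) :
    ∃ c, Dirr c ∧ ∀ i, ⟪β i j, c⟫ = 1 := by
  cases nonempty_fintype I
  haveI : Nontrivial J := Finite.one_lt_card_iff_nontrivial.mp hJ
  obtain ⟨j', hj'⟩ := exists_ne j
  obtain ⟨f⟩ : Nonempty (Fin 4 ↪ I) := Function.Embedding.nonempty_of_card_le (by simpa using hI)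
  obtain ⟨c, hc, h0, h1⟩ := (hβ (f 0) j).exists_common (hβ (f 1) j) (by simp [hd])
  refine ⟨c, hc, fun i => ?_⟩
  by_cases hi0 : i = f 0
  · exact hi0 ▸ h0
  by_cases hi1 : i = f 1
  · exact hi1 ▸ h1
  obtain ⟨i', hi'⟩ : ∃ i', i' ∉ ({f 0, f 1, i} : Finset I) := by
    by_contra hc
    push Not at hc
    have := Finset.card_le_card (fun x _ => hc x : Finset.univ ⊆ {f 0, f 1, i})
    have h2 := Finset.card_le_three (a := f 0) (b := f 1) (c := i)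
    rw [Finset.card_univ, Fintype.card_eq_nat_card] at this
    omega
  simp only [Finset.mem_insert, Finset.mem_singleton, not_or] at hi'
  let g : Fin 4 → I := ![f 0, f 1, i, i']
  have hg : Function.Injective g := by
    have : f 0 ≠ f 1 := by simp
    intro a b
    fin_cases a <;> fin_cases b <;> simp [g] <;> tauto
  exact concurrent_four (fun a => β (g a) j) (fun a => β (g a) j') (fun _ => hβ _ _)
    (fun _ => hβ _ _) (fun a b h => by simp [hd, hg.ne h]) (fun a b h => by simp [hd, hg.ne h])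
    (fun a b => by simp [hd, hj', hg.eq_iff]) hc h0 h1

theorem centre_orth (hI : 4 ≤ Nat.card I) {j : J} {c : G → ℂ} (hc : Dirr c)
    (h : ∀ i, ⟪β i j, c⟫ = 1) (k : I) {l : J} (hl : l ≠ j) : ⟪β k l, c⟫ = 0 := by
  cases nonempty_fintype I
  by_contra hne
  have key : ∀ i, i ≠ k → ∃ x, Dirr x ∧ ⟪β i j, x⟫ = 1 ∧ x ≠ c ∧ ⟪β k l, x⟫ ≠ 0 := by
    intro i hi
    obtain ⟨y, hy, h2, h3⟩ := (hβ i j).exists_other hc (h i)
    obtain ⟨h4, h5, h6, -⟩ := (hβ i j).third hc hy (h i) h2 h3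
    by_cases h7 : ⟪β k l, y⟫ = 0
    · refine ⟨_, h4, h5, h6, ?_⟩
      simpa [dot_sub_right, h7, hd, hl, hi.symm] using hne
    · exact ⟨y, hy, h2, h3.symm, h7⟩
  choose! x hx using key
  let v : I → G → ℂ := Function.update x k c
  have hv : ∀ i, Dirr (v i) ∧ ⟪β k l, v i⟫ ≠ 0 := fun i => by
    by_cases hi : i = k
    · simpa [v, hi] using ⟨hc, hne⟩
    · simpa [v, hi] using ⟨(hx i hi).1, (hx i hi).2.2.2⟩
  have hxc : ∀ i, i ≠ k → ⟪x i, c⟫ = 0 := fun i hi =>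
    (hx i hi).1.dot_eq_zero_of_points hc (hx i hi).2.1 (h i) (hx i hi).2.2.1
  have h1 := bessel_le Finset.univ v (fun i _ => (hv i).1.dot_self) (fun a _ b _ hab => by
    by_cases ha : a = k
    · subst ha; simpa [v, hab.symm] using dot_comm_zero (hxc b hab.symm)
    by_cases hb : b = k
    · subst hb; simpa [v, hab] using hxc a hab
    simp only [v, Function.update_of_ne ha, Function.update_of_ne hb]
    refine (hx a ha).1.dot_eq_zero_of_dot (θ := β b j) (hx b hb).1 ?_ (by simp [(hx b hb).2.1])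
    exact (hβ a j).dot_eq_zero (hβ b j) (by simp [hd, hab]) (hx a ha).1 hc (hx a ha).2.1 (h a) (h b)
      (hx a ha).2.2.1) (β k l)
  rw [Finset.sum_congr rfl (g := fun _ => 1) fun i _ => by
    rcases (hβ k l).cases (hv i).1 with e | e | e
    · simp [e]
    · exact absurd e (hv i).2
    · simp [e], (hβ k l).nrm3] at h1
  simp only [Finset.sum_const, Finset.card_univ, Fintype.card_eq_nat_card, nsmul_eq_mul,
    mul_one] at h1
  have : Nat.card I ≤ 3 := by exact_mod_cast h1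
  omega

/-- Peterfalvi (3.5), abstract form -/
theorem exists_grid_points (hI : 4 ≤ Nat.card I) (hJ : Nat.card J = 2 ∨ 4 ≤ Nat.card J) :
    ∃ (r : I → G → ℂ) (c : J → G → ℂ), (∀ i, Dirr (r i)) ∧ (∀ j, Dirr (c j)) ∧
      (∀ i j k, ⟪β i j, r k⟫ = if i = k then 1 else 0) ∧
      (∀ i j l, ⟪β i j, c l⟫ = if j = l then 1 else 0) := by
  have hJ2 : 2 ≤ Nat.card J := by omega
  haveI : Nontrivial J := Finite.one_lt_card_iff_nontrivial.mp hJ2
  choose c hc hc1 using exists_centre β hβ hd hI hJ2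
  have hr : ∀ i, ∃ r, Dirr r ∧ ∀ j, ⟪β i j, r⟫ = 1 := by
    intro i
    rcases hJ with hJ | hJ
    · obtain ⟨a, b, hab, e⟩ := Nat.card_eq_two_iff.mp hJ
      obtain ⟨r, hr, h1, h2⟩ := (hβ i a).exists_common (hβ i b) (by simp [hd, hab])
      refine ⟨r, hr, fun j => ?_⟩
      rcases (e ▸ Set.mem_univ j : j ∈ ({a, b} : Set J)) with rfl | rfl
      exacts [h1, h2]
    · exact exists_centre (fun j i => β i j) (fun _ _ => hβ _ _)
        (fun j i l k => by rw [hd, add_comm (ite (i = k) _ _)]; simp only [and_comm]) hJ (by omega) i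
  choose r hr hr1 using hr
  have hc0 := fun j i l (hl : l ≠ j) => centre_orth β hβ hd hI (hc j) (hc1 j) i hl
  refine ⟨r, c, hr, hc, fun i j k => ?_, fun i j l => ?_⟩
  · split_ifs with h
    · exact h ▸ hr1 i j
    · obtain ⟨l, hl⟩ := exists_ne j
      refine (hβ k j).dot_eq_zero (hβ i j) (by simp [hd, Ne.symm h]) (hr k) (hc j) (hr1 k j)
        (hc1 j k) (hc1 j i) fun e => ?_
      have := hc0 j k l hl
      rw [← e, hr1] at this
      norm_num at this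
  · split_ifs with h
    · exact h ▸ hc1 j i
    · exact hc0 l i j h

end Grid

theorem realizeEqns_PF_S03a : True := by
  have := @CA.Chr.TICheck.cands.eq_1
  have := @CA.Chr.TICheck.cands.eq_def
  have := @CA.Chr.TICheck.cands.congr_simp
  have := @CA.Chr.TICheck.vecs.eq_1
  have := @CA.Chr.TICheck.vecs.eq_2
  have := @CA.Chr.TICheck.vecs.eq_def
  have := @CA.Chr.TICheck.vecs.congr_simp
  have := @CA.Chr.TICheck.dl.eq_1
  have := @CA.Chr.TICheck.dl.eq_2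
  have := @CA.Chr.TICheck.dl.eq_def
  have := @CA.Chr.TICheck.dl.congr_simp
  have := @CA.Chr.TICheck.M.eq_1
  have := @CA.Chr.TICheck.M.eq_def
  have := @CA.Chr.TICheck.M.congr_simp
  have := @CA.Chr.TICheck.ok2.eq_1
  have := @CA.Chr.TICheck.ok2.eq_def
  have := @CA.Chr.TICheck.ok2.congr_simp
  have := @CA.Chr.TICheck.ok1.eq_1
  have := @CA.Chr.TICheck.ok1.eq_def
  have := @CA.Chr.TICheck.ok1.congr_simp
  have := @CA.Chr.TICheck.noOpp.eq_1
  have := @CA.Chr.TICheck.noOpp.eq_2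
  have := @CA.Chr.TICheck.noOpp.eq_def
  have := @CA.Chr.TICheck.noOpp.congr_simp
  trivial

end CA.Chr
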