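import Cfsg.Agent.PF.S03

/-!
# Peterfalvi, section 3: link with the subgroup formulation
-/

set_option autoImplicit false
set_option linter.unusedSectionVars false

open scoped ComplexConjugate

open Cfsg CA.FG

namespace CA.Chr

variable {G : Type*} [Group G] [Finite G] {W₁ W₂ : Subgroup G}

/-- the multiplication map `W₁ × W₂ → G` -/
def mulHom (hc : ∀ a ∈ W₁, ∀ b ∈ W₂, a * b = b * a) : W₁ × W₂ →* G :=
  W₁.subtype.noncommCoprod W₂.subtype fun a b => hc a a.2 b b.2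

@[simp] theorem mulHom_apply (hc : ∀ a ∈ W₁, ∀ b ∈ W₂, a * b = b * a) (x : W₁) (y : W₂) :
    mulHom hc (x, y) = (x : G) * y := rfl

theorem mulHom_range (hc : ∀ a ∈ W₁, ∀ b ∈ W₂, a * b = b * a) : (mulHom hc).range = W₁ ⊔ W₂ := by
  apply le_antisymm
  · rintro _ ⟨⟨x, y⟩, rfl⟩; exact Subgroup.mul_mem_sup x.2 y.2
  · exact sup_le (fun x hx => ⟨(⟨x, hx⟩, 1), by simp⟩) fun x hx => ⟨(1, ⟨x, hx⟩), by simp⟩

theorem mulHom_inj (hc : ∀ a ∈ W₁, ∀ b ∈ W₂, a * b = b * a) (hd : W₁ ⊓ W₂ = ⊥) :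
    Function.Injective (mulHom hc) := by
  rw [injective_iff_map_eq_one]
  rintro ⟨x, y⟩ h
  rw [mulHom_apply, mul_eq_one_iff_eq_inv] at h
  have : (x : G) ∈ W₁ ⊓ W₂ := ⟨x.2, h ▸ W₂.inv_mem y.2⟩
  rw [hd, Subgroup.mem_bot] at this
  rw [this, eq_comm, inv_eq_one] at h
  exact Prod.ext (Subtype.ext this) (Subtype.ext h)

theorem mul_not_mem_iff (hd : W₁ ⊓ W₂ = ⊥) (x : W₁) (y : W₂) :
    ((x : G) * y ∉ W₁ ↔ y ≠ 1) ∧ ((x : G) * y ∉ W₂ ↔ x ≠ 1) := by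
  have h : ∀ g, g ∈ W₁ → g ∈ W₂ → g = 1 := fun g a b => Subgroup.mem_bot.mp (hd ▸ ⟨a, b⟩)
  rw [W₁.mul_mem_cancel_left x.2, W₂.mul_mem_cancel_right y.2]
  exact ⟨not_congr ⟨fun a => Subtype.ext (h _ a y.2), fun a => by simp [a]⟩,
    not_congr ⟨fun a => Subtype.ext (h _ x.2 a), fun a => by simp [a]⟩⟩

/-- `W₁ × W₂ ≃ W₁ ⊔ W₂` -/
noncomputable def supEquiv (hc : ∀ a ∈ W₁, ∀ b ∈ W₂, a * b = b * a) (hd : W₁ ⊓ W₂ = ⊥) :
    W₁ × W₂ ≃* ↥(W₁ ⊔ W₂) :=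
  (MonoidHom.ofInjective (mulHom_inj hc hd)).trans (MulEquiv.subgroupCongr (mulHom_range hc))

@[simp] theorem coe_supEquiv (hc : ∀ a ∈ W₁, ∀ b ∈ W₂, a * b = b * a) (hd : W₁ ⊓ W₂ = ⊥)
    (x : W₁) (y : W₂) : (supEquiv hc hd (x, y) : G) = x * y := rfl

theorem ind_sup_eq (hc : ∀ a ∈ W₁, ∀ b ∈ W₂, a * b = b * a) (hd : W₁ ⊓ W₂ = ⊥)
    (θ : ↥(W₁ ⊔ W₂) → ℂ) : ind (W₁ ⊔ W₂).subtype θ = ind (mulHom hc) (θ ∘ supEquiv hc hd) :=
  (ind_comp_equiv (W₁ ⊔ W₂).subtype (supEquiv hc hd) θ).symm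

theorem snc_TIHyp (hW : IsSelfNormalizingCyclic W₁ W₂) : TIHyp (mulHom hW.2.2.2.1) where
  inj := mulHom_inj _ hW.2.2.1
  comm1 := abelian_of_cyclic (cyclic_of_le hW.2.2.2.2.1 le_sup_left)
  comm2 := abelian_of_cyclic (cyclic_of_le hW.2.2.2.2.1 le_sup_right)
  TI := by
    rintro g ⟨x, y⟩ ⟨hx, hy⟩ ⟨x', y'⟩ ⟨hx', hy'⟩ h
    simp only [mulHom_apply] at h hx hy hx' hy'
    obtain ⟨-, -, hd, hc, hcyc, hN⟩ := hW
    have hV : ∀ (x : W₁) (y : W₂), x ≠ 1 → y ≠ 1 →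
        (x : G) * y ∈ ((W₁ ⊔ W₂ : Subgroup G) : Set G) \ (↑W₁ ∪ ↑W₂) := fun x y hx hy =>
      ⟨Subgroup.mul_mem_sup x.2 y.2, not_or.mpr
        ⟨(mul_not_mem_iff hd x y).1.mpr hy, (mul_not_mem_iff hd x y).2.mpr hx⟩⟩
    set v := (x : G) * y with hv
    have hz : Subgroup.zpowers v :^ g⁻¹ = Subgroup.zpowers v := by
      refine eq_of_cyclic_of_card_eq hcyc ?_ (Subgroup.zpowers_le.mpr (hV x y hx hy).1)
        (card_conjg _ _)
      rw [conjg_zpowers, inv_inv, ← h]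
      exact Subgroup.zpowers_le.mpr (hV x' y' hx' hy').1
    rw [mulHom_range, ← hN {w | Subgroup.zpowers w = Subgroup.zpowers v} ?_ ⟨v, rfl⟩,
      ← inv_mem_iff, Subgroup.mem_set_normalizer_iff]
    · intro w
      simp only [Set.mem_setOf_eq]
      rw [← conjg_zpowers]
      conv_rhs => rw [← hz]
      exact ⟨fun e => by rw [e], fun e => by simpa [← conjg_mul] using congrArg (· :^ g) e⟩
    · intro w hw
      have h1 : v ∈ Subgroup.zpowers w := hw ▸ Subgroup.mem_zpowers v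
      have h2 : w ∈ Subgroup.zpowers v := hw ▸ Subgroup.mem_zpowers w
      exact ⟨Subgroup.zpowers_le.mpr (hV x y hx hy).1 h2, fun h3 => (hV x y hx hy).2
        (h3.imp (fun a => Subgroup.zpowers_le.mpr a h1) fun a => Subgroup.zpowers_le.mpr a h1)⟩

theorem snc_oddCop (hW : IsSelfNormalizingCyclic W₁ W₂) (hodd : Odd (Nat.card ↥(W₁ ⊔ W₂))) :
    OddCop W₁ W₂ where
  nt1 := (Subgroup.nontrivial_iff_ne_bot _).mpr hW.1
  nt2 := (Subgroup.nontrivial_iff_ne_bot _).mpr hW.2.1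
  odd1 := odd_of_le hodd le_sup_left
  odd2 := odd_of_le hodd le_sup_right
  cop := by
    have := hW.2.2.2.2.1
    have h : IsCyclic (W₁ × W₂) := (supEquiv hW.2.2.2.1 hW.2.2.1).isCyclic.mpr this
    exact coprime_card_of_isCyclic_prod W₁ W₂

/-- pairs of linear characters versus linear characters of `W₁ ⊔ W₂` -/
noncomputable def linSup (hc : ∀ a ∈ W₁, ∀ b ∈ W₂, a * b = b * a) (hd : W₁ ⊓ W₂ = ⊥) :
    (W₁ →* ℂˣ) × (W₂ →* ℂˣ) ≃* (↥(W₁ ⊔ W₂) →* ℂˣ) where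
  toFun p := (p.1.coprod p.2).comp (supEquiv hc hd).symm.toMonoidHom
  invFun ω := (ω.comp (Subgroup.inclusion le_sup_left), ω.comp (Subgroup.inclusion le_sup_right))
  left_inv p := by
    ext x
    · have : (supEquiv hc hd).symm (Subgroup.inclusion le_sup_left x) = (x, 1) := by
        rw [MulEquiv.symm_apply_eq]; ext; simp
      simp [this]
    · have : (supEquiv hc hd).symm (Subgroup.inclusion le_sup_right x) = (1, x) := by
        rw [MulEquiv.symm_apply_eq]; ext; simp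
      simp [this]
  right_inv ω := by
    ext w
    obtain ⟨⟨x, y⟩, rfl⟩ := (supEquiv hc hd).surjective w
    simp [← map_mul]
    rfl
  map_mul' p q := by ext w; simp [mul_mul_mul_comm]

theorem linSup_apply (hc : ∀ a ∈ W₁, ∀ b ∈ W₂, a * b = b * a) (hd : W₁ ⊓ W₂ = ⊥) (i j)
    (x : W₁) (y : W₂) : linSup hc hd (i, j) (supEquiv hc hd (x, y)) = i x * j y := by
  simp [linSup]

theorem linSup_triv2 (hc : ∀ a ∈ W₁, ∀ b ∈ W₂, a * b = b * a) (hd : W₁ ⊓ W₂ = ⊥) (i j) :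
    (∀ w : ↥(W₁ ⊔ W₂), (w : G) ∈ W₂ → linSup hc hd (i, j) w = 1) ↔ j = 1 := by
  constructor
  · intro h
    ext y
    have := h (supEquiv hc hd (1, y)) (by simp)
    rw [linSup_apply] at this
    simpa using this
  · rintro rfl w hw
    obtain ⟨⟨x, y⟩, rfl⟩ := (supEquiv hc hd).surjective w
    have : x = 1 := by_contra fun h => (mul_not_mem_iff hd x y).2.mpr h hw
    simp [linSup_apply, this]

theorem linSup_triv1 (hc : ∀ a ∈ W₁, ∀ b ∈ W₂, a * b = b * a) (hd : W₁ ⊓ W₂ = ⊥) (i j) :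
    (∀ w : ↥(W₁ ⊔ W₂), (w : G) ∈ W₁ → linSup hc hd (i, j) w = 1) ↔ i = 1 := by
  constructor
  · intro h
    ext y
    have := h (supEquiv hc hd (y, 1)) (by simp)
    rw [linSup_apply] at this
    simpa using this
  · rintro rfl w hw
    obtain ⟨⟨x, y⟩, rfl⟩ := (supEquiv hc hd).surjective w
    have : y = 1 := by_contra fun h => (mul_not_mem_iff hd x y).1.mpr h hw
    simp [linSup_apply, this]

theorem al_eq_linSup (hc : ∀ a ∈ W₁, ∀ b ∈ W₂, a * b = b * a) (hd : W₁ ⊓ W₂ = ⊥) (i j) :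
    (fun w => 1 - (linSup hc hd (i, 1) w : ℂ) - (linSup hc hd (1, j) w : ℂ) +
      (linSup hc hd (i, 1) w : ℂ) * (linSup hc hd (1, j) w : ℂ)) ∘ supEquiv hc hd = al i j := by
  funext ⟨x, y⟩
  simp [linSup_apply, al_apply]; ring

theorem TIFam0.of_family [Fintype G] (hW : IsSelfNormalizingCyclic W₁ W₂)
    {χ : (↥(W₁ ⊔ W₂) →* ℂˣ) → G → ℂ} (hχ : IsCyclicTIFamily W₁ W₂ χ) :
    TIFam0 (mulHom hW.2.2.2.1) fun i j => χ (linSup hW.2.2.2.1 hW.2.2.1 (i, j)) where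
  toTIHyp := snc_TIHyp hW
  dirr i j := hχ.irr_or_neg _
  orth i j k l := by
    rw [← classInner_eq, hχ.orthonormal]
    simp only [EmbeddingLike.apply_eq_iff_eq, Prod.mk.injEq]
  one := by rw [show ((1, 1) : (W₁ →* ℂˣ) × (W₂ →* ℂˣ)) = 1 from rfl, map_one, hχ.map_one]; rfl
  ind_al i j := by
    have h1 : χ (linSup hW.2.2.2.1 hW.2.2.1 (1, 1)) = 1 := by
      rw [show ((1, 1) : (W₁ →* ℂˣ) × (W₂ →* ℂˣ)) = 1 from rfl, map_one, hχ.map_one]; rfl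
    by_cases hi : i = 1
    · simp [hi, al, h1]
    by_cases hj : j = 1
    · simp [hj, al, h1]
    have := hχ.induced_eq (linSup hW.2.2.2.1 hW.2.2.1 (i, 1)) (linSup hW.2.2.2.1 hW.2.2.1 (1, j))
      (by simp [hi]) (by simp [hj]) ((linSup_triv2 _ _ _ _).mpr rfl) ((linSup_triv1 _ _ _ _).mpr rfl)
    rw [indFun_eq, ind_sup_eq hW.2.2.2.1 hW.2.2.1, al_eq_linSup, ← map_mul] at this
    rw [this]
    simp only [Prod.mk_mul_mk, mul_one, one_mul]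
    rfl

theorem TIFam0.family [Fintype G] (hW : IsSelfNormalizingCyclic W₁ W₂)
    {η : (W₁ →* ℂˣ) → (W₂ →* ℂˣ) → G → ℂ} (h : TIFam0 (mulHom hW.2.2.2.1) η) :
    IsCyclicTIFamily W₁ W₂ fun ω => η ((linSup hW.2.2.2.1 hW.2.2.1).symm ω).1
      ((linSup hW.2.2.2.1 hW.2.2.1).symm ω).2 where
  irr_or_neg ω := h.dirr _ _
  orthonormal ω ω' := by
    rw [classInner_eq, h.orth]
    simp only [← Prod.ext_iff, EmbeddingLike.apply_eq_iff_eq]
  map_one := by simp [h.one]; rfl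
  eq_on ω w h1 h2 := by
    obtain ⟨⟨i, j⟩, rfl⟩ := (linSup hW.2.2.2.1 hW.2.2.1).surjective ω
    obtain ⟨⟨x, y⟩, rfl⟩ := (supEquiv hW.2.2.2.1 hW.2.2.1).surjective w
    rw [linSup_apply, MulEquiv.symm_apply_apply, Units.val_mul]
    exact h.eq_on i j ((mul_not_mem_iff hW.2.2.1 x y).2.mp h2) ((mul_not_mem_iff hW.2.2.1 x y).1.mp h1)
  induced_eq φ ψ _ _ h1 h2 := by
    obtain ⟨⟨i, j⟩, rfl⟩ := (linSup hW.2.2.2.1 hW.2.2.1).surjective φ
    obtain ⟨⟨k, l⟩, rfl⟩ := (linSup hW.2.2.2.1 hW.2.2.1).surjective ψ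
    obtain rfl := (linSup_triv2 _ _ _ _).mp h1
    obtain rfl := (linSup_triv1 _ _ _ _).mp h2
    rw [indFun_eq, ind_sup_eq hW.2.2.2.1 hW.2.2.1, al_eq_linSup, ← map_mul, h.ind_al]
    simp only [Prod.mk_mul_mk, mul_one, one_mul, MulEquiv.symm_apply_apply]
    rfl

theorem realizeEqns_PF_S03b : True := by
  have := @CA.Chr.mulHom.eq_1.{0}
  have := @CA.Chr.mulHom.eq_def.{0}
  have := @CA.Chr.mulHom.congr_simp.{0}
  have := @CA.Chr.linSup.eq_1.{0}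
  have := @CA.Chr.linSup.eq_def.{0}
  have := @CA.Chr.linSup.congr_simp.{0}
  have := @CA.Chr.supEquiv.eq_1.{0}
  have := @CA.Chr.supEquiv.eq_def.{0}
  have := @CA.Chr.supEquiv.congr_simp.{0}
  trivial

end CA.Chr
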