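import Cfsg.Agent.PF.S03b

/-!
# Peterfalvi, section 4: the Dade isometry for a certain type of subgroup
-/

set_option autoImplicit false
set_option linter.unusedSectionVars false

open scoped ComplexConjugate

open Cfsg CA.FG

namespace CA.Chr

section Defs

variable {L W₁ W₂ : Type*} [Group L] [Finite L] [Group W₁] [Finite W₁] [Group W₂] [Finite W₂]

open Classical in
/-- the canonical family `η_{ij}` attached to a cyclic TI embedding -/
noncomputable def eta (e : W₁ × W₂ →* L) : (W₁ →* ℂˣ) → (W₂ →* ℂˣ) → L → ℂ :=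
  if h : ∃ η, TIFam e η then h.choose else 0

theorem TIHyp.fam {e : W₁ × W₂ →* L} (h : TIHyp e) (ho : OddCop W₁ W₂) : TIFam e (eta e) := by
  have := exists_TIFam h ho
  rw [eta, dif_pos this]
  exact this.choose_spec

theorem TIFam.eta_swap {e : W₁ × W₂ →* L} (h : TIFam e (eta e)) (i j) :
    eta (swapHom e) j i = eta e i j :=
  congrFun₂ (h.swap.unique (h.swap.toTIHyp.fam h.swap.toOddCop).toTIFam0) j i

open Classical in
/-- the signs `δ_j` -/
noncomputable def del (e : W₁ × W₂ →* L) (j : W₂ →* ℂˣ) : ℤ :=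
  if IsIrrCharacter L (eta e 1 j) then 1 else -1

theorem del_cases (e : W₁ × W₂ →* L) (j : W₂ →* ℂˣ) : del e j = 1 ∨ del e j = -1 := by
  rw [del]; split_ifs <;> simp

theorem del_cases' (e : W₁ × W₂ →* L) (j : W₂ →* ℂˣ) :
    (del e j : ℂ) = 1 ∨ (del e j : ℂ) = -1 := by
  rcases del_cases e j with h | h <;> simp [h]

theorem del_mul_self (e : W₁ × W₂ →* L) (j : W₂ →* ℂˣ) : (del e j : ℂ) * del e j = 1 := by
  rcases del_cases e j with h | h <;> simp [h]

theorem del_ne_zero (e : W₁ × W₂ →* L) (j : W₂ →* ℂˣ) : (del e j : ℂ) ≠ 0 := by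
  rcases del_cases e j with h | h <;> simp [h]

theorem del_ne_zero' (e : W₁ × W₂ →* L) (j : W₂ →* ℂˣ) : del e j ≠ 0 := by
  rcases del_cases e j with h | h <;> simp [h]

/-- the irreducible characters `μ_{ij}` -/
noncomputable def mu (e : W₁ × W₂ →* L) (i : W₁ →* ℂˣ) (j : W₂ →* ℂˣ) : L → ℂ :=
  (del e j : ℂ) • eta e i j

theorem eta_eq_mu (e : W₁ × W₂ →* L) (i j) : eta e i j = (del e j : ℂ) • mu e i j := by
  rw [mu, smul_smul, del_mul_self, one_smul]

/-- the reducible characters `μ_j` -/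
noncomputable def muS (e : W₁ × W₂ →* L) (j : W₂ →* ℂˣ) : L → ℂ := ∑ i, mu e i j

end Defs

theorem exists_fixed_of_isConj {K : Type*} [Group K] [Finite K] (a : MulAut K) {p : ℕ}
    (hp : p.Prime) (ha : a ^ p = 1) (hK : ¬ p ∣ Nat.card K) {k : K} (hk : IsConj k (a k)) :
    ∃ k', IsConj k k' ∧ a k' = k' := by
  classical
  haveI := Fact.mk hp
  cases nonempty_fintype K
  let X := {x // IsConj k x}
  let φ : Function.End X := fun x => ⟨a x.1, hk.trans (a.toMonoidHom.map_isConj x.2)⟩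
  have hφ : ∀ n (x : X), ((φ ^ n) x).1 = (a ^ n) x.1 := by
    intro n
    induction n with
    | zero => intro x; rfl
    | succ n ih => intro x; rw [pow_succ', pow_succ']; exact congrArg a (ih x)
  have h1 := Equiv.Perm.card_fixedPoints_modEq (f := φ) (p := p) (n := 1) (by
    rw [pow_one]; funext x; exact Subtype.ext (by rw [hφ, ha]; rfl))
  have h2 : Fintype.card X ∣ Nat.card K := by
    rw [Fintype.card_subtype]
    exact Dvd.intro _ (card_class_mul_card_centralizer k)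
  by_contra hc
  push Not at hc
  have h3 : Fintype.card φ.fixedPoints = 0 :=
    Fintype.card_eq_zero_iff.mpr ⟨fun x => hc x.1.1 x.1.2 (congrArg Subtype.val x.2)⟩
  rw [h3] at h1
  exact hK (((Nat.modEq_zero_iff_dvd).mp h1).trans h2)

theorem card_fixed_classes_le {K W : Type*} [Group K] [Finite K] [Finite W] (a : MulAut K) {m p : ℕ}
    (hp : p.Prime) (ha : (a ^ m) ^ p = 1) (hK : ¬ p ∣ Nat.card K) (w : W → K)
    (hw : ∀ k, (a ^ m) k = k → k ∈ Set.range w) :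
    Nat.card {C : ConjClasses K // ConjClasses.map a.toMonoidHom C = C} ≤ Nat.card W := by
  have key : ∀ C : {C : ConjClasses K // ConjClasses.map a.toMonoidHom C = C},
      ∃ y, ConjClasses.mk (w y) = C.1 := by
    rintro ⟨C, hC⟩
    obtain ⟨k, rfl⟩ := ConjClasses.mk_surjective C
    have h1 : IsConj k (a k) := (ConjClasses.mk_eq_mk_iff_isConj.mp hC).symm
    have h2 : ∀ n, IsConj k ((a ^ n) k) := by
      intro n
      induction n with
      | zero => exact IsConj.refl k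
      | succ n ih => rw [pow_succ']; exact h1.trans (a.toMonoidHom.map_isConj ih)
    obtain ⟨k', h3, h4⟩ := exists_fixed_of_isConj (a ^ m) hp ha hK (h2 m)
    obtain ⟨y, rfl⟩ := hw k' h4
    exact ⟨y, ConjClasses.mk_eq_mk_iff_isConj.mpr h3.symm⟩
  choose y hy using key
  exact Nat.card_le_card_of_injective y fun C D h => Subtype.ext (by rw [← hy, ← hy, h])

theorem sum_smul_grid' {I J M : Type*} [Fintype I] [Fintype J] [AddCommGroup M] [Module ℂ M]
    (a : I → J → ℂ) (h1 : ∀ j, ∑ i, a i j = 0) (c : J → M) (x : I → J → M) :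
    ∑ i, ∑ j, a i j • (x i j - c j) = ∑ i, ∑ j, a i j • x i j := by
  have e : ∑ i, ∑ j, a i j • c j = 0 := by
    rw [Finset.sum_comm]; simp [← Finset.sum_smul, h1]
  simp only [smul_sub, Finset.sum_sub_distrib, e, sub_zero]

theorem linMap_conj {X : Type*} [Group X] [Finite X] (l : X →* ℂˣ) :
    linMap (starRingEnd ℂ) l = l⁻¹ := lin_injective (by rw [lin_linMap, lin_inv]; rfl)

variable {L K W₁ W₂ : Type*} [Group L] [Finite L] [Group K] [Finite K] [Group W₁] [Finite W₁]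
  [Group W₂] [Finite W₂]

/-- Peterfalvi, Hypothesis (4.2) -/
structure PrimeTI (f : K →* L) (e : W₁ × W₂ →* L) : Prop extends OddCop W₁ W₂ where
  inj : Function.Injective e
  cyc1 : IsCyclic W₁
  cyc2 : IsCyclic W₂
  disj : ∀ x : W₁, e (x, 1) ∈ f.range → x = 1
  gen : ∀ l : L, ∃ (k : K) (x : W₁), l = f k * e (x, 1)
  hall : (Nat.card W₁).Coprime (Nat.card K)
  mem2 : ∀ y, e (1, y) ∈ f.range
  cent : ∀ x : W₁, x ≠ 1 → ∀ k : K, f k * e (x, 1) = e (x, 1) * f k → ∃ y, f k = e (1, y)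

theorem hom_prod_mk (e : W₁ × W₂ →* L) (x : W₁) (y : W₂) : e (x, y) = e (x, 1) * e (1, y) := by
  rw [← map_mul]; simp

theorem hom_prod_mk' (e : W₁ × W₂ →* L) (x : W₁) (y : W₂) : e (x, y) = e (1, y) * e (x, 1) := by
  rw [← map_mul]; simp

namespace PrimeTI

variable {f : K →* L} [hf : NormalInj f] {e : W₁ × W₂ →* L} (h : PrimeTI f e)
include h

theorem comm1 : IsMulCommutative W₁ := have := h.cyc1; inferInstance
theorem comm2 : IsMulCommutative W₂ := have := h.cyc2; inferInstance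

theorem mem_range_iff (x : W₁) (y : W₂) : e (x, y) ∈ f.range ↔ x = 1 := by
  rw [hom_prod_mk, f.range.mul_mem_cancel_right (h.mem2 y)]
  exact ⟨h.disj x, fun hx => by rw [hx]; exact (map_one e).symm ▸ one_mem _⟩

theorem index_eq : f.range.index = Nat.card W₁ := by
  rw [Subgroup.index_eq_card]
  symm
  refine Nat.card_eq_of_bijective (fun x => ((e (x, 1))⁻¹ : L)) ⟨fun x y hxy => ?_, fun q => ?_⟩
  · have := QuotientGroup.eq.mp hxy
    rw [inv_inv, ← map_inv, ← map_mul] at this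
    exact mul_inv_eq_one.mp ((h.mem_range_iff _ _).mp this)
  · obtain ⟨l, rfl⟩ := QuotientGroup.mk_surjective q
    obtain ⟨k, x, hk⟩ := h.gen l⁻¹
    refine ⟨x, QuotientGroup.eq.mpr ?_⟩
    rw [inv_inv, ← inv_inv l, hk, mul_inv_rev, mul_inv_cancel_left]
    exact inv_mem ⟨k, rfl⟩

theorem card_L : Nat.card L = Nat.card K * Nat.card W₁ := by
  rw [← h.index_eq, card_mul_index_range hf.inj]

theorem commutator_le : commutator L ≤ f.range := by
  have := h.comm1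
  have := hf.normal
  rw [commutator_def, Subgroup.commutator_le]
  intro a _ b _
  obtain ⟨k, x, rfl⟩ := h.gen a
  obtain ⟨k', x', rfl⟩ := h.gen b
  rw [← QuotientGroup.eq_one_iff, commutatorElement_def]
  have e1 : ∀ k, ((f k : L) : L ⧸ f.range) = 1 := fun k => (QuotientGroup.eq_one_iff _).mpr ⟨k, rfl⟩
  simp only [QuotientGroup.mk_mul, QuotientGroup.mk_inv, e1, one_mul]
  rw [← QuotientGroup.mk_mul, ← map_mul, Prod.mk_mul_mk, mul_comm' x x', ← Prod.mk_mul_mk, map_mul]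
  simp

theorem TI' (g : L) (a : W₁ × W₂) (ha : a.1 ≠ 1) (b : W₁ × W₂) (hab : e b = g⁻¹ * e a * g) :
    g ∈ e.range := by
  obtain ⟨x, y⟩ := a
  obtain ⟨x', y'⟩ := b
  have := h.comm1
  have h1 : g⁻¹ * e (x, 1) * g⁻¹⁻¹ = e (x', 1) := by
    refine conj_eq_of_conj_mul (u := e (1, y)) (v := e (1, y')) ?_ ?_ h.cop ?_ ?_ ?_ ?_ ?_
    · rw [← hom_prod_mk, ← hom_prod_mk']
    · rw [← hom_prod_mk, ← hom_prod_mk']
    · simp [← map_pow, Prod.mk_one_one]
    · simp [← map_pow, Prod.mk_one_one]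
    · simp [← map_pow, Prod.mk_one_one]
    · simp [← map_pow, Prod.mk_one_one]
    · rw [← hom_prod_mk, ← hom_prod_mk, hab, inv_inv]
  obtain ⟨k, w, rfl⟩ := h.gen g
  have h2 : (f k)⁻¹ * e (x, 1) * f k = e (x', 1) := by
    have : e (w, 1) * e (x', 1) * (e (w, 1))⁻¹ = e (x', 1) := by
      rw [← map_mul, Prod.mk_mul_mk, mul_comm' w x', ← Prod.mk_mul_mk, map_mul, mul_inv_cancel_right]
    rw [← this, ← h1]; group
  have h3 : x' * x⁻¹ = 1 := by
    apply h.disj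
    rw [show ((x' * x⁻¹, 1) : W₁ × W₂) = (x', 1) * (x, 1)⁻¹ by simp, map_mul, ← h2, map_inv,
      mul_assoc, mul_assoc, ← mul_assoc (e _)]
    exact mul_mem (inv_mem ⟨k, rfl⟩) (hf.normal.conj_mem _ ⟨k, rfl⟩ _)
  obtain rfl := mul_inv_eq_one.mp h3
  obtain ⟨z, hz⟩ := h.cent x' ha k (by
    rw [← mul_right_inj (f k)⁻¹, ← mul_assoc, ← mul_assoc, h2, inv_mul_cancel, one_mul])
  exact ⟨(w, z), by rw [hz, hom_prod_mk']⟩

theorem tiHyp : TIHyp e := ⟨h.inj, h.comm1, h.comm2, fun g a ha b _ hab => h.TI' g a ha.1 b hab⟩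

theorem fam : TIFam e (eta e) := h.tiHyp.fam h.toOddCop

theorem exists_conj_W {g : L} (hg : g ∉ f.range) : ∃ x y, x ≠ 1 ∧ IsConj (e (x, y)) g := by
  obtain ⟨k, x, rfl⟩ := h.gen g
  have hx : x ≠ 1 := by
    rintro rfl
    exact hg ⟨k, by rw [show ((1, 1) : W₁ × W₂) = 1 from rfl, map_one, mul_one]⟩
  obtain ⟨u, -, _, ⟨c, rfl⟩, h1, h2⟩ := exists_conj_cent_coset f.range (g := e (x, 1))
    (by rw [Subgroup.normalizer_eq_top (h := hf.normal)]; trivial) (by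
      rw [← Nat.card_congr (MonoidHom.ofInjective hf.inj).toEquiv]
      refine h.hall.coprime_dvd_left (orderOf_dvd_of_pow_eq_one ?_)
      simp [← map_pow, Prod.mk_one_one]) (h := f k) ⟨k, rfl⟩
  obtain ⟨y, hy⟩ := h.cent x hx c h1
  exact ⟨x, y, hx, (isConj_iff.mpr ⟨u, by rw [h2, hy, ← hom_prod_mk']⟩).symm⟩

theorem ind_apply_W {ψ : W₁ × W₂ → ℂ} (hψ : ∀ y, ψ (1, y) = 0) {x : W₁} (hx : x ≠ 1) (y : W₂) :
    ind e ψ (e (x, y)) = ψ (x, y) :=
  have := h.comm1; have := h.comm2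
  ind_apply_TI h.inj (CF_of_comm _) _ fun g b _ hb => h.TI' g (x, y) hx b hb

/-- Peterfalvi (4.3)(b) -/
theorem ind_om_sub (i k j) : ind e (om i j - om k j) = eta e i j - eta e k j := by
  by_cases hik : i = k
  · simp [hik]
  have := h.comm1; have := h.comm2
  have h1 : ∀ w, (om i j - om k j) w ≠ 0 → w ∈ {w : W₁ × W₂ | w.1 ≠ 1} := by
    rintro ⟨x, y⟩ hw rfl
    simp at hw
  have := h.fam.swap.eq_signed_sub (φ := ind e (om i j - om k j)) (ε := 1) (i := j)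
    (ZIrr.ind (sub_mem (IsIrr.mem_ZIrr (om_irr _ _)) (IsIrr.mem_ZIrr (om_irr _ _))) e)
    (nrm_eq_of_dot (by
      rw [dot_ind_TI h.inj (fun g a ha b _ hab => h.TI' g a ha b hab) (CF_of_comm _) h1 h1]
      simp [dot_sub_left, dot_sub_right, dot_om, hik, Ne.symm hik]; norm_num)) (Or.inl rfl) hik
    (fun y x hy hx => by
      rw [swapHom_apply, h.ind_apply_W (fun y => by simp) hx]
      simp [h.fam.eq_on _ _ hx hy])
  simpa using this

theorem eta_deg (i k j) : eta e i j 1 = eta e k j 1 := by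
  have := congrFun (h.ind_om_sub i k j) 1
  rw [ind_one h.inj, show (1 : W₁ × W₂) = (1, 1) from rfl] at this
  exact sub_eq_zero.mp (this.symm.trans (by simp))

theorem mu_irr (i j) : IsIrrCharacter L (mu e i j) := by
  obtain ⟨ε, hε, h1⟩ := (h.fam.dirr 1 j).exists_sign_of_deg_eq
  have h2 := h1 _ (h.fam.dirr 1 j) rfl
  have : del e j = ε := by
    rw [del]
    rcases hε with rfl | rfl
    · rw [if_pos (by simpa using h2)]
    · rw [if_neg fun h3 => ?_]
      have := IsIrr.dot_eq h3 h2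
      simp only [Int.cast_neg, Int.cast_one, neg_smul, one_smul, dot_neg_right,
        IsIrr.dot_self h3] at this
      split_ifs at this <;> norm_num at this
  rw [mu, this]
  exact h1 _ (h.fam.dirr i j) (h.eta_deg _ _ _)

theorem mu_char (i j) : IsCharacter L (mu e i j) := IsIrr.isChar (h.mu_irr i j)
theorem mu_zirr (i j) : mu e i j ∈ ZIrr L := IsIrr.mem_ZIrr (h.mu_irr i j)
theorem mu_CF (i j) : mu e i j ∈ CF L := IsIrr.mem_CF (h.mu_irr i j)

theorem mu_deg (i k j) : mu e i j 1 = mu e k j 1 := by simp only [mu, Pi.smul_apply, h.eta_deg i k j]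

theorem dot_mu (i j k l) : ⟪mu e i j, mu e k l⟫ = if i = k ∧ j = l then 1 else 0 := by
  simp only [mu, dot_smul_left, dot_smul_right, h.fam.orth, map_intCast]
  split_ifs with h1
  · rw [h1.2, mul_one, del_mul_self]
  · simp

theorem mu_eq_iff {i j k l} : mu e i j = mu e k l ↔ i = k ∧ j = l := by
  refine ⟨fun e => ?_, fun ⟨a, b⟩ => by rw [a, b]⟩
  have := h.dot_mu i j k l
  rw [e, h.dot_mu] at this
  by_contra hc
  simp [hc] at this

theorem ind_eq_sum {ψ : W₁ × W₂ → ℂ} (h1 : ∀ y, ψ (1, y) = 0) :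
    ind e ψ = ∑ i, ∑ j, ⟪ψ, om i j⟫ • eta e i j := by
  have := h.comm1; have := h.comm2
  rw [← sum_smul_grid' _ (sum_dot_om_left h1) (eta e 1) (eta e)]
  conv_lhs => rw [om_expand ψ, ← sum_smul_grid' _ (sum_dot_om_left h1) (om 1) om]
  simp only [map_sum, map_smul, h.ind_om_sub]

omit h in
theorem eq_zero_of_orth_supp {φ : W₁ × W₂ → ℂ}
    (hφ : ∀ ψ : W₁ × W₂ → ℂ, (∀ y, ψ (1, y) = 0) → ⟪ψ, φ⟫ = 0)
    {x : W₁} (hx : x ≠ 1) (y : W₂) : φ (x, y) = 0 := by
  classical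
  cases nonempty_fintype (W₁ × W₂)
  have := hφ (Pi.single (x, y) 1) (fun y => by simp [hx.symm])
  rw [dot_def, Finset.sum_eq_single (x, y) (fun b _ hb => by simp [hb]) (by simp)] at this
  simpa using this

/-- Peterfalvi (4.3)(c) -/
theorem eta_on (i j) {x : W₁} (hx : x ≠ 1) (y : W₂) : eta e i j (e (x, y)) = (i x : ℂ) * j y := by
  have := eq_zero_of_orth_supp (φ := eta e i j ∘ e - om i j) (fun ψ h1 => by
    rw [dot_sub_right, ← frob_rec _ _ (h.fam.mem_CF i j), h.ind_eq_sum h1]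
    simp [dot_sum_left, dot_smul_left, h.fam.orth, ite_and]) hx y
  exact sub_eq_zero.mp this

theorem mu_on (i j) {x : W₁} (hx : x ≠ 1) (y : W₂) :
    mu e i j (e (x, y)) = del e j * ((i x : ℂ) * j y) := by
  rw [mu, Pi.smul_apply, h.eta_on i j hx, smul_eq_mul]

theorem vanish_of_orth {θ : L → ℂ} (hθ : θ ∈ CF L) (ho : ∀ i j, ⟪θ, mu e i j⟫ = 0)
    {x : W₁} (hx : x ≠ 1) (y : W₂) : θ (e (x, y)) = 0 :=
  eq_zero_of_orth_supp (φ := θ ∘ e) (fun ψ h1 => by
    rw [← frob_rec _ _ hθ, h.ind_eq_sum h1]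
    simp [dot_sum_left, dot_smul_left, eta_eq_mu, dot_comm_zero (ho _ _)]) hx y

theorem vanish_off {θ : L → ℂ} (hθ : θ ∈ CF L) (hV : ∀ x, x ≠ 1 → ∀ y, θ (e (x, y)) = 0)
    {g : L} (hg : g ∉ f.range) : θ g = 0 := by
  obtain ⟨x, y, hx, hc⟩ := h.exists_conj_W hg
  rw [← CF_isConj hθ hc, hV x hx]

/-- Peterfalvi (4.3)(d) -/
theorem mu_deg_mod (i j) : ∃ n : ℤ, mu e i j 1 = del e j + n * Nat.card W₁ := by
  classical
  cases nonempty_fintype W₁
  obtain ⟨n, hn⟩ := ZIrr.dot_int (θ := eta e i j ∘ e.comp (MonoidHom.inl _ _) - lin i) (φ := 1)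
    (sub_mem (ZIrr.comp (h.fam.zirr i j) _) (IsIrr.mem_ZIrr (lin_irr i))) (one_mem _)
  rw [dot_def, Finset.sum_eq_single 1 (fun x _ hx => by simp [h.eta_on i j hx]) (by simp)] at hn
  refine ⟨del e j * n, ?_⟩
  have h0 := card_ne_zero (G := W₁)
  simp only [Pi.sub_apply, Function.comp_apply, map_one, lin_apply, Units.val_one, Pi.one_apply,
    mul_one] at hn
  rw [inv_mul_eq_iff_eq_mul₀ h0] at hn
  rw [mu, Pi.smul_apply, smul_eq_mul]
  push_cast
  linear_combination (del e j : ℂ) * hn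

theorem del_eq_of_deg {i j k l} (hd : mu e i j 1 = mu e k l 1) : del e j = del e l := by
  obtain ⟨n, hn⟩ := h.mu_deg_mod i j
  obtain ⟨m, hm⟩ := h.mu_deg_mod k l
  have h1 : del e j + n * Nat.card W₁ = del e l + m * Nat.card W₁ := by
    exact_mod_cast hn.symm.trans (hd.trans hm)
  have h2 : ((Nat.card W₁ : ℕ) : ℤ) ∣ del e j - del e l := ⟨m - n, by linarith⟩
  have h3 := h.three_le1
  have h4 := Int.eq_zero_of_abs_lt_dvd h2 (by
    rcases del_cases e j with a | a <;> rcases del_cases e l with b | b <;> simp [a, b] <;> omega)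
  omega

theorem mu_map (σ : ℂ →+* ℂ) (i j) : σ ∘ mu e i j = mu e (linMap σ i) (linMap σ j) := by
  have h1 : σ ∘ mu e i j = ((del e j * del e (linMap σ j) : ℤ) : ℂ) • mu e (linMap σ i) (linMap σ j) := by
    rw [Int.cast_mul, mul_smul, ← eta_eq_mu, ← h.fam.map_eq]
    funext g; simp [mu]
  have h2 := IsIrr.dot_eq (IsIrr.map (h.mu_irr i j) σ) (h.mu_irr (linMap σ i) (linMap σ j))
  by_contra hc
  rw [if_neg hc, h1, dot_smul_left, IsIrr.dot_self (h.mu_irr _ _)] at h2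
  simp [del_ne_zero'] at h2

theorem mu_conj (i j) : conjFun (mu e i j) = mu e i⁻¹ j⁻¹ := by
  rw [← linMap_conj, ← linMap_conj, ← h.mu_map]; rfl

theorem del_map (σ : ℂ →+* ℂ) (j) : del e (linMap σ j) = del e j := by
  obtain ⟨n, hn⟩ := ZIrr.deg_int (h.mu_zirr 1 j)
  refine h.del_eq_of_deg (i := linMap σ 1) (k := 1) ?_
  rw [← h.mu_map, Function.comp_apply, hn, map_intCast]

theorem del_inv (j) : del e j⁻¹ = del e j := by
  obtain ⟨n, hn⟩ := ZIrr.deg_int (h.mu_zirr 1 j)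
  refine h.del_eq_of_deg (i := 1⁻¹) (k := 1) ?_
  rw [← h.mu_conj, conjFun, hn, map_intCast]

theorem exists_proj : ∃ π : L →* W₁, f.range ≤ π.ker ∧ ∀ x y, π (e (x, y)) = x := by
  have := hf.normal
  let φ : W₁ →* L ⧸ f.range := (QuotientGroup.mk' _).comp (e.comp (MonoidHom.inl _ _))
  have hφ : Function.Bijective φ := by
    refine Function.Injective.bijective_of_nat_card_le ?_ (by rw [← h.index_eq]; rfl)
    rw [injective_iff_map_eq_one]
    exact fun x hx => h.disj x ((QuotientGroup.eq_one_iff _).mp hx)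
  refine ⟨(MulEquiv.ofBijective φ hφ).symm.toMonoidHom.comp (QuotientGroup.mk' _), ?_, ?_⟩
  · intro g hg
    rw [MonoidHom.mem_ker, MonoidHom.comp_apply, QuotientGroup.mk'_apply,
      (QuotientGroup.eq_one_iff g).mpr hg, map_one]
  · intro x y
    refine (MulEquiv.symm_apply_eq (MulEquiv.ofBijective φ hφ)).mpr ?_
    rw [hom_prod_mk, map_mul]
    exact mul_eq_left.mpr ((QuotientGroup.eq_one_iff _).mpr (h.mem2 y))

theorem eta_lin_mul {l : L →* ℂˣ} (hl : f.range ≤ l.ker) (i j) :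
    lin l * eta e i j = eta e (l.comp (e.comp (MonoidHom.inl _ _)) * i) j := by
  refine h.fam.eq_of_eq_on ?_ fun x y hx hy => ?_
  · rcases h.fam.dirr i j with a | a
    · exact Or.inl (IsIrr.lin_mul a l)
    · exact Or.inr (by simpa using IsIrr.lin_mul a l)
  · rw [Pi.mul_apply, h.eta_on i j hx, lin_apply, hom_prod_mk, map_mul, hl (h.mem2 y)]
    simp [mul_assoc]

theorem mu_lin_mul {l : L →* ℂˣ} (hl : f.range ≤ l.ker) (i j) :
    lin l * mu e i j = mu e (l.comp (e.comp (MonoidHom.inl _ _)) * i) j := by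
  rw [mu, mu, ← h.eta_lin_mul hl, mul_smul_comm]

theorem del_one : del e 1 = 1 := by rw [del, h.fam.one, if_pos one_irr]

theorem mu_one_one : mu e 1 1 = 1 := by rw [mu, h.del_one, h.fam.one]; simp

theorem mu_eq_eta_one (i) : mu e i 1 = eta e i 1 := by rw [mu, h.del_one]; simp

/-- Peterfalvi (4.4) -/
theorem exists_lin_mu (i) : ∃ l : L →* ℂˣ, f.range ≤ l.ker ∧ mu e i 1 = lin l ∧
    (∀ x y, l (e (x, y)) = i x) ∧ ∀ k j, lin l * mu e k j = mu e (i * k) j := by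
  obtain ⟨π, h1, h2⟩ := h.exists_proj
  have h3 : f.range ≤ (i.comp π).ker := fun g hg => by simp [MonoidHom.mem_ker.mp (h1 hg)]
  have h4 : (i.comp π).comp (e.comp (MonoidHom.inl _ _)) = i := by ext x; simp [h2]
  refine ⟨i.comp π, h3, ?_, fun x y => by simp [h2], fun k j => by rw [h.mu_lin_mul h3, h4]⟩
  have := h.mu_lin_mul h3 1 1
  rw [h4, h.mu_one_one, mul_one, mul_one] at this
  exact this.symm

theorem mu_one_deg (i) : mu e i 1 1 = 1 := by rw [h.mu_deg i 1, h.mu_one_one]; rfl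

theorem range_le_cfker_mu (i) : f.range ≤ cfker (mu e i 1) := by
  obtain ⟨l, h1, h2, -⟩ := h.exists_lin_mu i
  rwa [h2, cfker_lin]

theorem exists_mu_of_range_le {χ : L → ℂ} (hχ : IsIrrCharacter L χ) (hk : f.range ≤ cfker χ) :
    ∃ i, χ = mu e i 1 := by
  obtain ⟨l, rfl⟩ := IsIrr.exists_lin_of_commutator hχ (h.commutator_le.trans hk)
  rw [cfker_lin] at hk
  exact ⟨_, by rw [← h.mu_lin_mul hk 1 1, h.mu_one_one, mul_one]⟩

theorem mu_res (i j) : mu e i j ∘ f = mu e 1 j ∘ f := by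
  obtain ⟨l, h1, -, -, h2⟩ := h.exists_lin_mu i
  rw [← mul_one i, ← h2, lin_mul_comp f h1]

theorem ind_res_mu (i j) : ind f (mu e i j ∘ f) = muS e j := by
  rw [h.mu_res, ind_res_eq_sum_lin f h.commutator_le (h.mu_CF _ _), muS]
  refine Finset.sum_bij (fun l _ => l.comp (e.comp (MonoidHom.inl _ _))) (fun _ _ => Finset.mem_univ _)
    (fun a ha b hb hab => ?_) (fun i _ => ?_) fun l hl => by
      rw [h.mu_lin_mul (mem_linOver.mp hl), mul_one]
  · ext g
    obtain ⟨k, x, rfl⟩ := h.gen g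
    have := DFunLike.congr_fun hab x
    simp only [MonoidHom.comp_apply, MonoidHom.inl_apply] at this
    rw [map_mul, map_mul, mem_linOver.mp ha ⟨k, rfl⟩, mem_linOver.mp hb ⟨k, rfl⟩, this]
  · obtain ⟨l, h1, -, h2, -⟩ := h.exists_lin_mu i
    exact ⟨l, mem_linOver.mpr h1, by ext x; simp [h2]⟩

theorem dot_mu_muS (i j l) : ⟪mu e i j, muS e l⟫ = if j = l then 1 else 0 := by
  simp [muS, dot_sum_right, h.dot_mu, ite_and]

theorem dot_muS_mu (i j l) : ⟪muS e l, mu e i j⟫ = if l = j then 1 else 0 := by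
  simp [muS, dot_sum_left, h.dot_mu, ite_and]

theorem dot_muS (j l) : ⟪muS e j, muS e l⟫ = if j = l then (Nat.card W₁ : ℂ) else 0 := by
  conv_lhs => rw [muS, dot_sum_left]
  simp [h.dot_mu_muS, h.fam.card_lin1]

theorem nrm_muS (j) : nrm (muS e j) = Nat.card W₁ := nrm_eq_of_dot (by simp [h.dot_muS])

theorem muS_inj {j l} (hjl : muS e j = muS e l) : j = l := by
  have := h.dot_mu_muS 1 j l
  rw [← hjl, h.dot_mu_muS] at this
  by_contra hc
  simp [hc] at this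

theorem muS_char (j) : IsCharacter L (muS e j) := IsChar.sum _ fun i _ => h.mu_char i j

theorem muS_zirr (j) : muS e j ∈ ZIrr L := sum_mem fun i _ => h.mu_zirr i j

theorem muS_CF (j) : muS e j ∈ CF L := ZIrr.mem_CF (h.muS_zirr j)

theorem muS_not_irr (j) : ¬ IsIrrCharacter L (muS e j) := fun hj => by
  have h1 := IsIrr.nrm hj
  have h2 := h.three_le1
  rw [h.nrm_muS, Nat.cast_eq_one] at h1
  omega

theorem muS_deg (i j) : muS e j 1 = Nat.card W₁ * mu e i j 1 := by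
  simp [muS, Finset.sum_apply, h.mu_deg _ i, h.fam.card_lin1]

theorem muS_res (j) : muS e j ∘ f = (Nat.card W₁ : ℂ) • (mu e 1 j ∘ f) := by
  funext k
  simp only [muS, Function.comp_apply, Finset.sum_apply, Pi.smul_apply, smul_eq_mul]
  rw [Finset.sum_congr rfl fun i _ => show mu e i j (f k) = mu e 1 j (f k) from
    congrFun (h.mu_res i j) k]
  simp [h.fam.card_lin1]

theorem muS_map (σ : ℂ ≃+* ℂ) (j) : σ ∘ muS e j = muS e (linMap σ j) := by
  have : Function.Bijective (linMap (σ : ℂ →+* ℂ) : (W₁ →* ℂˣ) → W₁ →* ℂˣ) :=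
    Finite.injective_iff_bijective.mp fun a b hab => by
      ext x; exact σ.injective (congrArg (fun l => (l x : ℂ)) hab)
  rw [muS, muS, ← this.sum_comp fun i => mu e i (linMap σ j)]
  funext g
  simp only [Function.comp_apply, Finset.sum_apply, map_sum]
  exact Finset.sum_congr rfl fun i _ => congrFun (h.mu_map σ i j) g

theorem muS_conj (j) : conjFun (muS e j) = muS e j⁻¹ := by
  rw [muS, muS, conjFun_sum, ← Equiv.sum_comp (Equiv.inv (W₁ →* ℂˣ)) (fun i => mu e i j⁻¹)]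
  simp [h.mu_conj]

omit h in
theorem inv_ne_self_of_odd {X : Type*} [Group X] [Finite X] (ho : Odd (Nat.card X)) {j : X →* ℂˣ}
    (hj : j ≠ 1) : j⁻¹ ≠ j := fun hc =>
  hj (lin_injective (by
    rw [lin_one]; exact IsIrr.eq_one_of_conj_eq ho (lin_irr j) (by rw [← lin_inv, hc])))

theorem muS_eq_zero (j) {g : L} (hg : g ∉ f.range) : muS e j g = 0 := by
  rw [← h.ind_res_mu 1 j]; exact ind_eq_zero_of_not_mem f _ hg

/-- Peterfalvi (4.5)(a) -/
theorem res_mu_irr (i j) : IsIrrCharacter K (mu e i j ∘ f) := by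
  refine IsChar.irr_of_dot_self (IsChar.comp (h.mu_char i j) f) ?_
  have h1 := h.dot_muS j j
  conv_lhs at h1 => arg 1; rw [← h.ind_res_mu 1 j]
  rw [frob_rec _ _ (h.muS_CF j), h.muS_res, dot_smul_right, if_pos rfl, map_natCast] at h1
  rw [h.mu_res]
  exact (mul_eq_left₀ card_ne_zero).mp h1

theorem res_mu_inj {i j k l} (hjl : mu e i j ∘ f = mu e k l ∘ f) : j = l :=
  h.muS_inj (by rw [← h.ind_res_mu i j, hjl, h.ind_res_mu])

theorem res_mu_one (i) : mu e i 1 ∘ f = 1 := by rw [h.mu_res, h.mu_one_one]; rfl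

theorem muS_one : muS e 1 = ind f 1 := by rw [← h.res_mu_one 1, h.ind_res_mu]

theorem inertia_res_mu (i j) : inertia f (mu e i j ∘ f) = ⊤ := inertia_res f (h.mu_CF i j)

theorem eq_res_mu_of_fixed {θ : K → ℂ} (hθ : IsIrrCharacter K θ) {x : W₁} (hx : x ≠ 1)
    (hfix : e (x, 1) ∈ inertia f θ) : ∃ j, θ = mu e 1 j ∘ f := by
  classical
  obtain ⟨p, hp, hpx⟩ := Nat.exists_prime_and_dvd (mt orderOf_eq_one_iff.mp hx)
  obtain ⟨m, hm⟩ := hpx
  have h1 := card_fixed_classes_le (W := W₂) (cj f (e (x, 1))) (m := m) hp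
    (by rw [← pow_mul, ← map_pow, ← map_pow, mul_comm, ← hm]; simp [pow_orderOf_eq_one, Prod.mk_one_one])
    (fun hc => hp.one_lt.ne' (Nat.eq_one_of_dvd_coprimes h.hall
      ((Dvd.intro _ hm.symm).trans (orderOf_dvd_natCard x)) hc))
    (fun y => (h.mem2 y).choose) fun k hk => by
      rw [← map_pow, ← map_pow, cj_eq_iff, mul_inv_eq_iff_eq_mul] at hk
      have hxm : x ^ m ≠ 1 := pow_ne_one_of_lt_orderOf
        (by rintro rfl; exact (orderOf_pos x).ne' (by simpa using hm))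
        (by rw [hm]; exact lt_mul_of_one_lt_left (Nat.pos_of_ne_zero (by
          rintro rfl; exact (orderOf_pos x).ne' (by simpa using hm))) hp.one_lt)
      obtain ⟨y, hy⟩ := h.cent (x ^ m) hxm k (by simpa using hk.symm)
      exact ⟨y, hf.inj ((h.mem2 y).choose_spec.trans hy.symm)⟩
  rw [← brauer_perm] at h1
  have h2 : Finset.univ.image (fun j => mu e 1 j ∘ f) =
      (irr K).filter fun χ => χ ∘ cj f (e (x, 1)) = χ := by
    refine Finset.eq_of_subset_of_card_le (fun χ hχ => ?_) ?_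
    · obtain ⟨j, -, rfl⟩ := Finset.mem_image.mp hχ
      exact Finset.mem_filter.mpr ⟨mem_irr.mpr (h.res_mu_irr _ _), res_comp_cj f (h.mu_CF _ _) _⟩
    · rwa [Finset.card_image_of_injective _ fun a b => h.res_mu_inj, Finset.card_univ,
        h.fam.card_lin2]
  obtain ⟨j, -, hj⟩ := Finset.mem_image.mp (h2 ▸ Finset.mem_filter.mpr ⟨mem_irr.mpr hθ, hfix⟩ :
    θ ∈ Finset.univ.image (fun j => mu e 1 j ∘ f))
  exact ⟨j, hj.symm⟩

/-- Peterfalvi (4.5)(b) -/
theorem res_irr_cases {θ : K → ℂ} (hθ : IsIrrCharacter K θ) :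
    (∃ j, θ = mu e 1 j ∘ f) ∨
      (IsIrrCharacter L (ind f θ) ∧ ∀ i j, ind f θ ≠ mu e i j) := by
  by_cases hc : ∃ j, θ = mu e 1 j ∘ f
  · exact Or.inl hc
  refine Or.inr ⟨ind_irr_of_inertia_le f hθ fun g hg => ?_, fun i j hij => ?_⟩
  · obtain ⟨k, x, rfl⟩ := h.gen g
    by_cases hx : x = 1
    · exact mul_mem ⟨k, rfl⟩ ((h.mem_range_iff _ _).mpr hx)
    · exact absurd (h.eq_res_mu_of_fixed hθ hx ((Subgroup.mul_mem_cancel_left _
        (range_le_inertia f (IsIrr.mem_CF hθ) ⟨k, rfl⟩)).mp hg)) hc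
  · have := h.nt1
    obtain ⟨x, hx⟩ := exists_ne (1 : W₁)
    have := ind_eq_zero_of_not_mem f θ (mt (h.mem_range_iff x 1).mp hx)
    rw [hij, h.mu_on i j hx] at this
    simp [del_ne_zero'] at this

theorem ind_cases {θ : K → ℂ} (hθ : IsIrrCharacter K θ) :
    (∃ j, θ = mu e 1 j ∘ f ∧ ind f θ = muS e j) ∨
      (IsIrrCharacter L (ind f θ) ∧ ∀ i j, ⟪ind f θ, mu e i j⟫ = 0) :=
  (h.res_irr_cases hθ).imp (fun ⟨j, hj⟩ => ⟨j, hj, by rw [hj, h.ind_res_mu]⟩)
    fun ⟨a, b⟩ => ⟨a, fun i j => IsIrr.dot_ne a (h.mu_irr i j) (b i j)⟩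

theorem irr_cases {χ : L → ℂ} (hχ : IsIrrCharacter L χ) :
    (∃ i j, χ = mu e i j) ∨ ∃ θ, IsIrrCharacter K θ ∧ χ = ind f θ := by
  obtain ⟨θ, hθ, h1⟩ := exists_constt_res f hχ
  rw [← frob_rec' _ _ (IsIrr.mem_CF hχ)] at h1
  rcases h.ind_cases hθ with ⟨j, -, hj⟩ | ⟨a, -⟩
  · rw [hj, muS, dot_sum_right] at h1
    obtain ⟨i, -, hi⟩ := Finset.exists_ne_zero_of_sum_ne_zero h1
    exact Or.inl ⟨i, j, IsIrr.eq_of_dot_ne_zero hχ (h.mu_irr i j) hi⟩
  · exact Or.inr ⟨θ, hθ, IsIrr.eq_of_dot_ne_zero hχ a h1⟩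

theorem eq_one_of_mem_cfker {i j} {y : W₂} (hy : e (1, y) ∈ cfker (mu e i j)) : j y = 1 := by
  have := h.nt1
  obtain ⟨x, hx⟩ := exists_ne (1 : W₁)
  have := cfker_mul hy (e (x, 1))
  rw [← hom_prod_mk', h.mu_on i j hx, h.mu_on i j hx] at this
  simpa [del_ne_zero'] using this

/-- compatibility with quotients -/
theorem mu_quot {L' K' W₂' : Type*} [Group L'] [Finite L'] [Group K'] [Finite K'] [Group W₂']
    [Finite W₂'] {f' : K' →* L'} [NormalInj f'] {e' : W₁ × W₂' →* L'} (h' : PrimeTI f' e')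
    {π : L →* L'} (hπ : Function.Surjective π) {π₂ : W₂ →* W₂'}
    (hc : ∀ x y, π (e (x, y)) = e' (x, π₂ y)) (i j) :
    mu e i (j.comp π₂) = mu e' i j ∘ π ∧ del e (j.comp π₂) = del e' j := by
  have h1 : eta e' i j ∘ π = eta e i (j.comp π₂) := by
    refine h.fam.eq_of_eq_on ?_ fun x y hx hy => ?_
    · exact (h'.fam.dirr i j).imp (fun a => IsIrr.comp_surj a π hπ) fun a =>
        show IsIrrCharacter L ((-eta e' i j) ∘ π) from IsIrr.comp_surj a π hπ
    · rw [Function.comp_apply, hc, h'.eta_on i j hx]; rfl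
  have h2 : mu e i (j.comp π₂) = ((del e (j.comp π₂) * del e' j : ℤ) : ℂ) • (mu e' i j ∘ π) := by
    rw [mu, ← h1, eta_eq_mu, Int.cast_mul, mul_smul]; rfl
  have h3 := IsIrr.dot_eq (h.mu_irr i (j.comp π₂)) (IsIrr.comp_surj (h'.mu_irr i j) π hπ)
  rw [h2, dot_smul_left, IsIrr.dot_self (IsIrr.comp_surj (h'.mu_irr i j) π hπ), ← h2] at h3
  split_ifs at h3 with h4
  · refine ⟨h4, ?_⟩
    have : del e (j.comp π₂) * del e' j = 1 := by exact_mod_cast (mul_one _).symm.trans h3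
    rcases del_cases e' j with a | a <;> rw [a] at this ⊢ <;> omega
  · simp [del_ne_zero'] at h3

end PrimeTI

/-- the elements centralizing a nontrivial element of `H` -/
def centSupp {L : Type*} [Group L] (H : Subgroup L) : Set L := {g | ∃ h ∈ H, h ≠ 1 ∧ h * g = g * h}

theorem IsIrr.mem_centSupp {H : Subgroup L} [H.Normal] {χ : L → ℂ} (hχ : IsIrrCharacter L χ)
    (hH : ¬ H ≤ cfker χ) {g : L} (hg : χ g ≠ 0) : g ∈ centSupp H := by
  by_contra hc
  exact hg (IsIrr.eq_zero_of_cent_trivial H hχ hH fun x hx e => by_contra fun h => hc ⟨x, hx, h, e⟩)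

/-- Peterfalvi (4.7), first part -/
theorem ind_supp (f : K →* L) [NormalInj f] {H : Subgroup L} [H.Normal] (hH : H ≤ f.range)
    {θ : K → ℂ} (hθ : IsIrrCharacter K θ) (hk : ¬ H.comap f ≤ cfker θ) {g : L}
    (hg : ind f θ g ≠ 0) : g ∈ f.range ∧ g ∈ centSupp H := by
  refine ⟨by_contra fun h => hg (ind_eq_zero_of_not_mem f θ h), ?_⟩
  rw [CF_expand_apply (ind_mem_CF f θ)] at hg
  obtain ⟨χ, hχ, h1⟩ := Finset.exists_ne_zero_of_sum_ne_zero hg
  have hχ' := mem_irr.mp hχ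
  refine IsIrr.mem_centSupp hχ' (fun h => hk ?_) (right_ne_zero_of_mul h1)
  have h2 := left_ne_zero_of_mul h1
  rw [frob_rec _ _ (IsIrr.mem_CF hχ')] at h2
  exact (le_cfker_iff_constt f hH hχ' hθ fun h3 => h2 (dot_comm_zero h3)).mp h

variable {G : Type*} [Group G] [Finite G]

/-- Peterfalvi, Hypothesis (4.6) -/
structure PrimeDade (L : Subgroup G) (f : K →* L) (e : W₁ × W₂ →* L) (H : Subgroup L) (A : Set G)
    (R : G → Subgroup G) : Prop extends PrimeTI f e where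
  ti : TIHyp (L.subtype.comp e)
  normal : H.Normal
  le1 : ∀ y, e (1, y) ∈ H
  le2 : H ≤ f.range
  dade : DadeHypothesis A L R
  memA : ∀ k ∈ f.range, k ≠ 1 → k ∈ centSupp H → (k : G) ∈ A
  memV : ∀ x y, x ≠ 1 → y ≠ 1 → (e (x, y) : G) ∈ A

namespace PrimeDade

variable {L : Subgroup G} {f : K →* L} [hf : NormalInj f] {e : W₁ × W₂ →* L} {H : Subgroup L}
  {A : Set G} {R : G → Subgroup G} (h : PrimeDade L f e H A R)
include h

theorem famG : TIFam (L.subtype.comp e) (eta (L.subtype.comp e)) := h.ti.fam h.toOddCop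

theorem not_le_cfker_mu (i) {j : W₂ →* ℂˣ} (hj : j ≠ 1) : ¬ H ≤ cfker (mu e i j) := fun hc =>
  hj (MonoidHom.ext fun y => h.eq_one_of_mem_cfker (hc (h.le1 y)))

theorem not_le_cfker_res (i) {j : W₂ →* ℂˣ} (hj : j ≠ 1) : ¬ H.comap f ≤ cfker (mu e i j ∘ f) := by
  have := h.normal
  rw [← le_cfker_iff_constt f h.le2 (h.mu_irr i j) (h.res_mu_irr i j)
    (by rw [IsIrr.dot_self (h.res_mu_irr i j)]; exact one_ne_zero)]
  exact h.not_le_cfker_mu i hj

theorem supp_of {φ : L → ℂ} (hφ : φ ∈ CF L) (h1 : φ 1 = 0)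
    (h2 : ∀ g ∈ f.range, φ g ≠ 0 → g ∈ centSupp H) (h3 : ∀ x, x ≠ 1 → φ (e (x, 1)) = 0) (a : L)
    (ha : (a : G) ∉ A) : φ a = 0 := by
  by_contra hc
  by_cases hK : a ∈ f.range
  · exact ha (h.memA a hK (by rintro rfl; exact hc h1) (h2 a hK hc))
  · obtain ⟨x, y, hx, hxy⟩ := h.exists_conj_W hK
    by_cases hy : y = 1
    · subst hy; exact hc (by rw [← CF_isConj hφ hxy, h3 x hx])
    · obtain ⟨u, rfl⟩ := isConj_iff.mp hxy
      exact ha (h.dade.conj_mem u u.2 _ (h.memV x y hx hy))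

theorem supp_of_K {φ : L → ℂ} (h1 : φ 1 = 0)
    (h2 : ∀ g, φ g ≠ 0 → g ∈ f.range ∧ g ∈ centSupp H) (a : L) (ha : (a : G) ∉ A) : φ a = 0 := by
  by_contra hc
  exact ha (h.memA a (h2 a hc).1 (by rintro rfl; exact hc h1) (h2 a hc).2)

theorem muS_supp {j : W₂ →* ℂˣ} (hj : j ≠ 1) {g : L} (hg : muS e j g ≠ 0) :
    g ∈ f.range ∧ g ∈ centSupp H := by
  have := h.normal
  rw [← h.ind_res_mu 1 j] at hg
  exact ind_supp f h.le2 (h.res_mu_irr _ _) (h.not_le_cfker_res _ hj) hg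

theorem mu_sub_supp {i j k} (hj : j ≠ 1) (hk : k ≠ 1) (hd : mu e i j 1 = mu e i k 1) (a : L)
    (ha : (a : G) ∉ A) : (mu e i j - mu e i k) a = 0 := by
  have := h.normal
  refine h.supp_of (sub_mem (h.mu_CF _ _) (h.mu_CF _ _)) (sub_eq_zero.mpr hd) (fun g _ hg => ?_)
    (fun x hx => ?_) a ha
  · by_contra hc
    refine hg (sub_eq_zero.mpr ?_)
    rw [by_contra fun h1 => hc (IsIrr.mem_centSupp (h.mu_irr i j) (h.not_le_cfker_mu i hj) h1),
      by_contra fun h1 => hc (IsIrr.mem_centSupp (h.mu_irr i k) (h.not_le_cfker_mu i hk) h1)]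
  · simp [h.mu_on _ _ hx, h.del_eq_of_deg hd]

theorem dade_V {φ : L → ℂ} (hφ : φ ∈ CF L) {x : W₁} {y : W₂} (hx : x ≠ 1) (hy : y ≠ 1) :
    Chr.dade A L R φ ((L.subtype.comp e) (x, y)) = φ (e (x, y)) :=
  Dade.dade_id h.dade hφ (h.memV x y hx hy)

/-- Peterfalvi (4.8) -/
theorem dade_mu_sub {i j k} (hj : j ≠ 1) (hk : k ≠ 1) (hd : mu e i j 1 = mu e i k 1) :
    Chr.dade A L R (mu e i j - mu e i k) =
      (del e j : ℂ) • (eta (L.subtype.comp e) i j - eta (L.subtype.comp e) i k) := by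
  by_cases hjk : j = k
  · simp [hjk]
  have h1 := sub_mem (h.mu_zirr i j) (h.mu_zirr i k)
  refine h.famG.eq_signed_sub (Dade.dade_mem_ZIrr h.dade h1 (h.mu_sub_supp hj hk hd)) ?_
    (del_cases' e j) hjk fun x y hx hy => ?_
  · rw [Dade.nrm_dade h.dade (ZIrr.mem_CF h1) (h.mu_sub_supp hj hk hd),
      nrm_sub_of_orth (by simp [h.dot_mu, hjk]), IsIrr.nrm (h.mu_irr _ _), IsIrr.nrm (h.mu_irr _ _)]
    norm_num
  · rw [h.dade_V (ZIrr.mem_CF h1) hx hy]
    simp only [Pi.sub_apply, h.mu_on _ _ hx, Pi.smul_apply, h.famG.eq_on _ _ hx hy,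
      h.del_eq_of_deg hd, smul_eq_mul, mul_sub]

/-- Peterfalvi (4.9) -/
theorem dade_muS_sub {j k} (hj : j ≠ 1) (hk : k ≠ 1) (hd : muS e j 1 = muS e k 1) :
    Chr.dade A L R (muS e j - muS e k) = (del e j : ℂ) •
      (∑ i, eta (L.subtype.comp e) i j - ∑ i, eta (L.subtype.comp e) i k) := by
  rw [muS, muS, ← Finset.sum_sub_distrib, ← Finset.sum_sub_distrib, map_sum, Finset.smul_sum]
  refine Finset.sum_congr rfl fun i _ => h.dade_mu_sub hj hk ?_
  rw [h.muS_deg i, h.muS_deg i] at hd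
  exact mul_left_cancel₀ card_ne_zero hd

theorem R_eq_bot {x : W₁} {y : W₂} (hx : x ≠ 1) (hy : y ≠ 1) (u : L) :
    R (u * e (x, y) * u⁻¹ : L) = ⊥ := by
  have h1 : R (e (x, y)) = ⊥ := Dade.H_eq_bot_of_cent_le h.dade (h.memV x y hx hy) fun g hg => by
    obtain ⟨w, rfl⟩ := h.ti.TI g (x, y) ⟨hx, hy⟩ (x, y) ⟨hx, hy⟩ (by
      rw [mul_assoc, eq_inv_mul_iff_mul_eq]
      exact Subgroup.mem_centralizer_singleton_iff.mp hg)
    exact (e w).2
  have := Dade.H_conj h.dade (h.memV x y hx hy) (h.dade.conj_mem u u.2 _ (h.memV x y hx hy))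
  rw [h1] at this
  simpa using this

theorem dade_ind_V {ψ : W₁ × W₂ → ℂ} (hψ : ∀ w, ψ w ≠ 0 → w.1 ≠ 1 ∧ w.2 ≠ 1) :
    (∀ a : L, (a : G) ∉ A → ind e ψ a = 0) ∧
      Chr.dade A L R (ind e ψ) = ind (L.subtype.comp e) ψ := by
  have key : ∀ a : L, ind e ψ a ≠ 0 → (a : G) ∈ A ∧ R a = ⊥ := by
    intro a ha
    by_contra hc
    refine ha (ind_eq_zero fun w hw => by_contra fun h1 => hc ?_)
    obtain ⟨u, rfl⟩ := isConj_iff.mp hw
    exact ⟨h.dade.conj_mem u u.2 _ (h.memV _ _ (hψ w h1).1 (hψ w h1).2),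
      h.R_eq_bot (hψ w h1).1 (hψ w h1).2 u⟩
  exact ⟨fun a ha => by_contra fun hc => ha (key a hc).1,
    by rw [Dade.dade_eq_ind h.dade (ind_mem_CF _ _) key, ind_comp]⟩

theorem mu_sub2_eq (i j) : (del e j : ℂ) • mu e i j - (del e j : ℂ) • mu e 1 j - mu e i 1 + mu e 1 1
    = ind e (al i j) := by
  rw [h.fam.ind_al, ← eta_eq_mu, ← eta_eq_mu, h.mu_eq_eta_one, h.mu_one_one]; abel

theorem mu_sub2_supp (i j) (a : L) (ha : (a : G) ∉ A) :
    ((del e j : ℂ) • mu e i j - (del e j : ℂ) • mu e 1 j - mu e i 1 + mu e 1 1) a = 0 := by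
  rw [h.mu_sub2_eq]; exact (h.dade_ind_V (al_supp i j)).1 a ha

/-- Peterfalvi (4.10) -/
theorem dade_mu_sub2 (i j) :
    Chr.dade A L R ((del e j : ℂ) • mu e i j - (del e j : ℂ) • mu e 1 j - mu e i 1 + mu e 1 1) =
      eta (L.subtype.comp e) i j - eta (L.subtype.comp e) 1 j - eta (L.subtype.comp e) i 1 + 1 := by
  rw [h.mu_sub2_eq, (h.dade_ind_V (al_supp i j)).2, h.famG.ind_al]; abel

end PrimeDade

/-- Hypothesis (4.2) for subgroups -/
theorem primeTI_of_subgroups {L : Type*} [Group L] [Finite L] {K W₁ W₂ : Subgroup L} [hK : K.Normal]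
    (hKW₁ : K ⊓ W₁ = ⊥) (hKW₁' : K ⊔ W₁ = ⊤) (hW₁ : W₁ ≠ ⊥) (hW₁c : IsCyclic W₁)
    (hHall : Nat.Coprime (Nat.card W₁) W₁.index) (hW₂ : W₂ ≠ ⊥) (hW₂c : IsCyclic W₂)
    (hC : ∀ x ∈ W₁, x ≠ 1 → K ⊓ Subgroup.centralizer ({x} : Set L) = W₂)
    (hodd : Odd (Nat.card ↥(W₁ ⊔ W₂))) :
    ∃ hc : ∀ a ∈ W₁, ∀ b ∈ W₂, a * b = b * a, W₁ ⊓ W₂ = ⊥ ∧ PrimeTI K.subtype (mulHom hc) := by
  obtain ⟨x, hx, hx1⟩ := exists_mem_ne_one hW₁
  have hW₂K : W₂ ≤ K := hC x hx hx1 ▸ inf_le_left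
  have hc : ∀ a ∈ W₁, ∀ b ∈ W₂, a * b = b * a := fun a ha b hb => by
    by_cases h : a = 1
    · simp [h]
    · rw [← hC a ha h] at hb
      exact (Subgroup.mem_centralizer_singleton_iff.mp hb.2).symm
  have hd : W₁ ⊓ W₂ = ⊥ := eq_bot_iff.mpr (hKW₁ ▸ le_inf (inf_le_right.trans hW₂K) inf_le_left)
  have hall : (Nat.card W₁).Coprime (Nat.card K) := by
    have h1 := card_sup_of_inf_eq_bot (Or.inr (Subgroup.le_normalizer_of_normal)) hKW₁
    rw [hKW₁', Subgroup.card_top, ← W₁.index_mul_card] at h1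
    rwa [← Nat.eq_of_mul_eq_mul_right Nat.card_pos h1]
  refine ⟨hc, hd, ⟨(Subgroup.nontrivial_iff_ne_bot _).mpr hW₁,
    (Subgroup.nontrivial_iff_ne_bot _).mpr hW₂, odd_of_le hodd le_sup_left,
    odd_of_le hodd le_sup_right, hall.coprime_dvd_right (Subgroup.card_dvd_of_le hW₂K)⟩,
    mulHom_inj hc hd, hW₁c, hW₂c, fun x hx => ?_, fun l => ?_, hall, fun y => ?_,
    fun x hx k hk => ?_⟩
  · rw [Subgroup.range_subtype, mulHom_apply] at hx
    exact Subtype.ext (Subgroup.mem_bot.mp (hKW₁ ▸ ⟨by simpa using hx, x.2⟩))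
  · obtain ⟨k, hk, x, hx, rfl⟩ := (mem_sup_of_right_le_norm Subgroup.le_normalizer_of_normal).mp
      (hKW₁' ▸ Subgroup.mem_top l : l ∈ K ⊔ W₁)
    exact ⟨⟨k, hk⟩, ⟨x, hx⟩, by simp⟩
  · simpa using hW₂K y.2
  · have : (k : L) ∈ W₂ := hC x x.2 (fun h => hx (Subtype.ext h)) ▸
      ⟨k.2, Subgroup.mem_centralizer_singleton_iff.mpr (by simpa using hk)⟩
    exact ⟨⟨k, this⟩, by simp⟩

theorem realizeEqns_PF_S04 : True := by
  have := @CA.Chr.muS.eq_1.{0,0,0}
  have := @CA.Chr.muS.eq_def.{0,0,0}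
  have := @CA.Chr.muS.congr_simp.{0,0,0}
  have := @CA.Chr.del.eq_1.{0,0,0}
  have := @CA.Chr.del.eq_def.{0,0,0}
  have := @CA.Chr.del.congr_simp.{0,0,0}
  have := @CA.Chr.centSupp.eq_1.{0}
  have := @CA.Chr.centSupp.eq_def.{0}
  have := @CA.Chr.centSupp.congr_simp.{0}
  have := @CA.Chr.eta.eq_1.{0,0,0}
  have := @CA.Chr.eta.eq_def.{0,0,0}
  have := @CA.Chr.eta.congr_simp.{0,0,0}
  have := @CA.Chr.mu.eq_1.{0,0,0}
  have := @CA.Chr.mu.eq_def.{0,0,0}
  have := @CA.Chr.mu.congr_simp.{0,0,0}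
  trivial

end CA.Chr
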