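import Cfsg.Agent.PF.S04

/-!
# Peterfalvi, section 5: coherence
-/

set_option autoImplicit false
set_option linter.unusedSectionVars false

open scoped ComplexConjugate

open Cfsg

namespace CA.Chr

variable {L G : Type*} [Group L] [Finite L] [Group G] [Finite G]

/-- complex span of a finite set of functions -/
abbrev CS (S : Finset (L → ℂ)) : Submodule ℂ (L → ℂ) := Submodule.span ℂ (S : Set (L → ℂ))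

/-- integral span of a finite set of functions -/
abbrev ZS (S : Finset (L → ℂ)) : Submodule ℤ (L → ℂ) := Submodule.span ℤ (S : Set (L → ℂ))

section Span

variable {S T : Finset (L → ℂ)} {φ ψ α : L → ℂ}

theorem mem_CS (h : φ ∈ S) : φ ∈ CS S := Submodule.subset_span h
theorem mem_ZS (h : φ ∈ S) : φ ∈ ZS S := Submodule.subset_span h
theorem CS_of_ZS (h : φ ∈ ZS S) : φ ∈ CS S := Submodule.span_le_restrictScalars ℤ ℂ _ h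
theorem CS_mono (h : S ⊆ T) (hφ : φ ∈ CS S) : φ ∈ CS T := Submodule.span_mono h hφ
theorem ZS_mono (h : S ⊆ T) (hφ : φ ∈ ZS S) : φ ∈ ZS T := Submodule.span_mono h hφ

theorem CS_smul (c : ℂ) (h : φ ∈ CS S) : c • φ ∈ CS S := Submodule.smul_mem _ c h

theorem ZS_intCast_smul (n : ℤ) (h : φ ∈ ZS S) : (n : ℂ) • φ ∈ ZS S := by
  rw [Int.cast_smul_eq_zsmul]; exact Submodule.smul_mem _ n h

theorem ZS_natCast_smul (n : ℕ) (h : φ ∈ ZS S) : (n : ℂ) • φ ∈ ZS S := by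
  exact_mod_cast ZS_intCast_smul n h

theorem ZS_le_ZIrr (hS : ∀ φ ∈ S, φ ∈ ZIrr L) (h : α ∈ ZS S) : α ∈ ZIrr L :=
  (Submodule.span_le (p := (ZIrr L).toAddSubgroup.toIntSubmodule)).mpr hS h

theorem CS_le_CF (hS : ∀ φ ∈ S, φ ∈ CF L) (h : α ∈ CS S) : α ∈ CF L :=
  (Submodule.span_le (p := (CF L).toSubmodule)).mpr hS h

theorem CS_apply_eq_zero {g : L} (hS : ∀ φ ∈ S, φ g = 0) (h : α ∈ CS S) : α g = 0 :=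
  (Submodule.span_le (p := LinearMap.ker (LinearMap.proj (R := ℂ) (φ := fun _ => ℂ) g))).mpr hS h

theorem dot_CS_eq_zero (hS : ∀ φ ∈ S, ⟪φ, ψ⟫ = 0) (h : α ∈ CS S) : ⟪α, ψ⟫ = 0 :=
  (Submodule.span_le (p := LinearMap.ker (dotLeft ψ))).mpr hS h

theorem lin_eq_on_CS {M : Type*} [AddCommGroup M] [Module ℂ M] {a b : (L → ℂ) →ₗ[ℂ] M}
    (hS : ∀ φ ∈ S, a φ = b φ) (h : α ∈ CS S) : a α = b α := LinearMap.eqOn_span hS h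

theorem dot_map_CS_eq_zero (ν : (L → ℂ) →ₗ[ℂ] (G → ℂ)) {X : G → ℂ} (hS : ∀ φ ∈ S, ⟪ν φ, X⟫ = 0)
    (h : α ∈ CS S) : ⟪ν α, X⟫ = 0 := lin_eq_on_CS (a := (dotLeft X).comp ν) (b := 0) hS h

theorem lin_eq_of_base {M : Type*} [AddCommGroup M] [Module ℂ M] {a b : (L → ℂ) →ₗ[ℂ] M}
    (hψ : ψ 1 ≠ 0) (hS : ∀ φ ∈ S, a (φ - (φ 1 / ψ 1) • ψ) = b (φ - (φ 1 / ψ 1) • ψ))
    (h : α ∈ CS S) (h1 : α 1 = 0) : a α = b α := by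
  let P : (L → ℂ) →ₗ[ℂ] (L → ℂ) := LinearMap.id -
    ((ψ 1)⁻¹ • LinearMap.proj (R := ℂ) (φ := fun _ => ℂ) (1 : L)).smulRight ψ
  have hP : ∀ φ, P φ = φ - (φ 1 / ψ 1) • ψ := fun φ => by simp [P, div_eq_inv_mul]
  have := lin_eq_on_CS (a := a.comp P) (b := b.comp P) (fun φ hφ => by simpa [hP] using hS φ hφ) h
  simpa [hP, h1] using this

theorem iso_on_CS {ν : (L → ℂ) →ₗ[ℂ] (G → ℂ)} (hS : ∀ φ ∈ S, ∀ ψ ∈ T, ⟪ν φ, ν ψ⟫ = ⟪φ, ψ⟫)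
    {α β : L → ℂ} (hα : α ∈ CS S) (hβ : β ∈ CS T) : ⟪ν α, ν β⟫ = ⟪α, β⟫ := by
  refine lin_eq_on_CS (a := (dotLeft (ν β)).comp ν) (b := dotLeft β) (fun φ hφ => ?_) hα
  have := lin_eq_on_CS (a := (dotLeft (ν φ)).comp ν) (b := dotLeft φ)
    (fun ψ hψ => show ⟪ν ψ, ν φ⟫ = ⟪ψ, φ⟫ by rw [← conj_dot, hS φ hφ ψ hψ, conj_dot]) hβ
  exact (conj_dot _ _).symm.trans ((congrArg conj this).trans (conj_dot _ _))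

theorem exists_lin_of_orth (h0 : ∀ φ ∈ S, φ ≠ 0) (ho : ∀ φ ∈ S, ∀ ψ ∈ S, φ ≠ ψ → ⟪φ, ψ⟫ = 0)
    (t : (L → ℂ) → G → ℂ) : ∃ ν : (L → ℂ) →ₗ[ℂ] (G → ℂ), ∀ φ ∈ S, ν φ = t φ := by
  refine ⟨∑ φ ∈ S, ((⟪φ, φ⟫)⁻¹ • dotLeft φ).smulRight (t φ), fun φ hφ => ?_⟩
  rw [LinearMap.sum_apply, Finset.sum_eq_single φ (fun ψ hψ hne => ?_) (fun h => absurd hφ h)]
  · have : ⟪φ, φ⟫ ≠ 0 := by rw [dot_self]; exact_mod_cast (nrm_pos (h0 φ hφ)).ne'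
    show (⟪φ, φ⟫⁻¹ * ⟪φ, φ⟫) • t φ = _
    rw [inv_mul_cancel₀ this, one_smul]
  · show (⟪ψ, ψ⟫⁻¹ * ⟪φ, ψ⟫) • t ψ = _
    rw [ho φ hφ ψ hψ hne.symm, mul_zero, zero_smul]

end Span

/-- `τ` is an isometry `ℤ[S, L^#] → ℤ[Irr G, G^#]` -/
structure IsoOn (S : Finset (L → ℂ)) (τ : (L → ℂ) →ₗ[ℂ] (G → ℂ)) : Prop where
  iso : ∀ α ∈ CS S, ∀ β ∈ CS S, α 1 = 0 → β 1 = 0 → ⟪τ α, τ β⟫ = ⟪α, β⟫
  zirr : ∀ α ∈ ZS S, α 1 = 0 → τ α ∈ ZIrr G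
  one : ∀ α ∈ CS S, α 1 = 0 → τ α 1 = 0

theorem IsoOn.mono {S T : Finset (L → ℂ)} {τ : (L → ℂ) →ₗ[ℂ] (G → ℂ)} (h : IsoOn T τ) (hST : S ⊆ T) :
    IsoOn S τ :=
  ⟨fun α hα β hβ => h.iso α (CS_mono hST hα) β (CS_mono hST hβ),
    fun α hα => h.zirr α (ZS_mono hST hα), fun α hα => h.one α (CS_mono hST hα)⟩

theorem IsoOn.nrm {S : Finset (L → ℂ)} {τ : (L → ℂ) →ₗ[ℂ] (G → ℂ)} (h : IsoOn S τ) {α : L → ℂ}
    (hα : α ∈ CS S) (h1 : α 1 = 0) : nrm (τ α) = nrm α :=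
  nrm_eq_of_dot ((h.iso α hα α hα h1 h1).trans (dot_self α))

theorem Dade.isoOn {A : Set G} {L : Subgroup G} {H : G → Subgroup G} (hD : DadeHypothesis A L H)
    {S : Finset (L → ℂ)} (hS : ∀ φ ∈ S, φ ∈ ZIrr L)
    (hA : ∀ φ ∈ S, ∀ a : L, a ≠ 1 → (a : G) ∉ A → φ a = 0) : IsoOn S (dade A L H) := by
  have h1 : ∀ α ∈ CS S, α 1 = 0 → ∀ a : L, (a : G) ∉ A → α a = 0 := fun α hα h1 a ha => by
    by_cases h : a = 1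
    · rw [h, h1]
    · exact CS_apply_eq_zero (fun φ hφ => hA φ hφ a h ha) hα
  have h2 : ∀ α ∈ CS S, α ∈ CF L := fun α hα => CS_le_CF (fun φ hφ => ZIrr.mem_CF (hS φ hφ)) hα
  exact ⟨fun α hα β hβ _ h => Dade.dade_iso hD (h2 α hα) (h2 β hβ) (h1 β hβ h),
    fun α hα h => Dade.dade_mem_ZIrr hD (ZS_le_ZIrr hS hα) (h1 α (CS_of_ZS hα) h),
    fun α _ _ => Dade.dade_one hD α⟩

/-- `ν` is an extension of `τ` to an isometry on `ℤ[S]` -/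
structure CohWith (S : Finset (L → ℂ)) (τ ν : (L → ℂ) →ₗ[ℂ] (G → ℂ)) : Prop where
  zirr : ∀ φ ∈ S, ν φ ∈ ZIrr G
  iso : ∀ φ ∈ S, ∀ ψ ∈ S, ⟪ν φ, ν ψ⟫ = ⟪φ, ψ⟫
  agree : ∀ α ∈ CS S, α 1 = 0 → ν α = τ α

/-- coherence -/
def Coh (S : Finset (L → ℂ)) (τ : (L → ℂ) →ₗ[ℂ] (G → ℂ)) : Prop := ∃ ν, CohWith S τ ν

namespace CohWith

variable {S T : Finset (L → ℂ)} {τ ν : (L → ℂ) →ₗ[ℂ] (G → ℂ)} (h : CohWith S τ ν)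
include h

theorem mono (hTS : T ⊆ S) : CohWith T τ ν :=
  ⟨fun φ hφ => h.zirr φ (hTS hφ), fun φ hφ ψ hψ => h.iso φ (hTS hφ) ψ (hTS hψ),
    fun α hα => h.agree α (CS_mono hTS hα)⟩

theorem iso' {α β : L → ℂ} (hα : α ∈ CS S) (hβ : β ∈ CS S) : ⟪ν α, ν β⟫ = ⟪α, β⟫ :=
  iso_on_CS h.iso hα hβ

theorem nrm {α : L → ℂ} (hα : α ∈ CS S) : nrm (ν α) = nrm α :=
  nrm_eq_of_dot ((h.iso' hα hα).trans (dot_self α))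

theorem zirr' {α : L → ℂ} (hα : α ∈ ZS S) : ν α ∈ ZIrr G :=
  (Submodule.span_le (p := (ZIrr G).toAddSubgroup.toIntSubmodule.comap (ν.restrictScalars ℤ))).mpr
    h.zirr hα

theorem dirr {φ : L → ℂ} (hφ : φ ∈ S) (hi : IsIrrCharacter L φ) : Dirr (ν φ) :=
  ZIrr.dirr_of_dot_self (h.zirr φ hφ) (by rw [h.iso φ hφ φ hφ, IsIrr.dot_self hi])

theorem congr {τ' : (L → ℂ) →ₗ[ℂ] (G → ℂ)} (h' : ∀ α ∈ CS S, α 1 = 0 → τ α = τ' α) :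
    CohWith S τ' ν := ⟨h.zirr, h.iso, fun α hα h1 => (h.agree α hα h1).trans (h' α hα h1)⟩

theorem agree_sub {φ ψ : L → ℂ} (hφ : φ ∈ S) (hψ : ψ ∈ S) (hd : φ 1 = ψ 1) :
    τ (φ - ψ) = ν φ - ν ψ := by
  rw [← h.agree _ (sub_mem (mem_CS hφ) (mem_CS hψ)) (sub_eq_zero.mpr hd), map_sub]

theorem agree_sub_smul {φ ψ : L → ℂ} (hφ : φ ∈ S) (hψ : ψ ∈ S) {a : ℂ} (hd : φ 1 = a * ψ 1) :
    τ (φ - a • ψ) = ν φ - a • ν ψ := by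
  rw [← h.agree _ (sub_mem (mem_CS hφ) (CS_smul a (mem_CS hψ))) (sub_eq_zero.mpr hd), map_sub,
    map_smul]

end CohWith

theorem Coh.mono {S T : Finset (L → ℂ)} {τ : (L → ℂ) →ₗ[ℂ] (G → ℂ)} (h : Coh S τ) (hTS : T ⊆ S) :
    Coh T τ := h.imp fun _ h => h.mono hTS

theorem coh_empty (τ : (L → ℂ) →ₗ[ℂ] (G → ℂ)) : Coh ∅ τ :=
  ⟨τ, by simp, by simp, fun _ _ _ => rfl⟩

theorem cohWith_of_fun {S : Finset (L → ℂ)} (h0 : ∀ φ ∈ S, φ ≠ 0)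
    (ho : ∀ φ ∈ S, ∀ ψ ∈ S, φ ≠ ψ → ⟪φ, ψ⟫ = 0) (τ : (L → ℂ) →ₗ[ℂ] (G → ℂ)) (t : (L → ℂ) → G → ℂ)
    (hz : ∀ φ ∈ S, t φ ∈ ZIrr G) (hi : ∀ φ ∈ S, ∀ ψ ∈ S, ⟪t φ, t ψ⟫ = ⟪φ, ψ⟫) {ψ : L → ℂ}
    (hψ : ψ ∈ S) (hψ1 : ψ 1 ≠ 0)
    (ha : ∀ φ ∈ S, τ (φ - (φ 1 / ψ 1) • ψ) = t φ - (φ 1 / ψ 1) • t ψ) :
    ∃ ν, CohWith S τ ν ∧ ∀ φ ∈ S, ν φ = t φ := by
  obtain ⟨ν, hν⟩ := exists_lin_of_orth h0 ho t
  refine ⟨ν, ⟨fun φ hφ => hν φ hφ ▸ hz φ hφ, fun φ hφ ψ hψ => by rw [hν φ hφ, hν ψ hψ, hi φ hφ ψ hψ],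
    fun α hα h1 => lin_eq_of_base hψ1 (fun φ hφ => ?_) hα h1⟩, hν⟩
  rw [ha φ hφ, map_sub, map_smul, hν φ hφ, hν ψ hψ]

theorem bridge_coh {S₁ S₂ : Finset (L → ℂ)} (h0 : ∀ φ ∈ S₁ ∪ S₂, φ ≠ 0)
    (ho : ∀ φ ∈ S₁ ∪ S₂, ∀ ψ ∈ S₁ ∪ S₂, φ ≠ ψ → ⟪φ, ψ⟫ = 0) (hd : Disjoint S₁ S₂)
    {τ ν₁ ν₂ : (L → ℂ) →ₗ[ℂ] (G → ℂ)} (h₁ : CohWith S₁ τ ν₁) (h₂ : CohWith S₂ τ ν₂)
    (h12 : ∀ φ ∈ S₁, ∀ ψ ∈ S₂, ⟪ν₁ φ, ν₂ ψ⟫ = 0) {χ φ : L → ℂ} (hχ : χ ∈ CS S₁) (hφ : φ ∈ CS S₂)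
    (hd1 : χ 1 = φ 1) (hχ1 : χ 1 ≠ 0) (hb : τ (χ - φ) = ν₁ χ - ν₂ φ) :
    ∃ ν, CohWith (S₁ ∪ S₂) τ ν ∧ (∀ ψ ∈ S₁, ν ψ = ν₁ ψ) ∧ ∀ ψ ∈ S₂, ν ψ = ν₂ ψ := by
  obtain ⟨ν, hν⟩ := exists_lin_of_orth h0 ho fun ψ => if ψ ∈ S₁ then ν₁ ψ else ν₂ ψ
  have e1 : ∀ ψ ∈ S₁, ν ψ = ν₁ ψ := fun ψ hψ => by rw [hν ψ (Finset.mem_union_left _ hψ), if_pos hψ]
  have e2 : ∀ ψ ∈ S₂, ν ψ = ν₂ ψ := fun ψ hψ => by
    rw [hν ψ (Finset.mem_union_right _ hψ), if_neg (Finset.disjoint_right.mp hd hψ)]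
  refine ⟨ν, ⟨fun a ha => ?_, fun a ha b hb => ?_, fun α hα h1 => lin_eq_of_base hχ1
    (fun ψ hψ => ?_) hα h1⟩, e1, e2⟩
  · rcases Finset.mem_union.mp ha with h | h
    exacts [e1 a h ▸ h₁.zirr a h, e2 a h ▸ h₂.zirr a h]
  · rcases Finset.mem_union.mp ha with h | h <;> rcases Finset.mem_union.mp hb with h' | h'
    · rw [e1 a h, e1 b h', h₁.iso a h b h']
    · rw [e1 a h, e2 b h', h12 a h b h', ho a ha b hb fun e => Finset.disjoint_left.mp hd h (e ▸ h')]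
    · rw [e2 a h, e1 b h', dot_comm_zero (h12 b h' a h),
        ho a ha b hb fun e => Finset.disjoint_left.mp hd h' (e ▸ h)]
    · rw [e2 a h, e2 b h', h₂.iso a h b h']
  · rcases Finset.mem_union.mp hψ with h | h
    · have hm := sub_mem (mem_CS h) (CS_smul (ψ 1 / χ 1) hχ)
      rw [lin_eq_on_CS e1 hm, h₁.agree _ hm (by simp [hχ1])]
    · have hm := sub_mem (mem_CS h) (CS_smul (ψ 1 / χ 1) hφ)
      have e : ψ - (ψ 1 / χ 1) • χ = (ψ - (ψ 1 / χ 1) • φ) - (ψ 1 / χ 1) • (χ - φ) := by module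
      rw [e, map_sub ν, map_sub τ, lin_eq_on_CS e2 hm, h₂.agree _ hm (by simp [← hd1, hχ1]),
        map_smul, map_smul, hb, map_sub ν, lin_eq_on_CS e1 hχ, lin_eq_on_CS e2 hφ]

/-! ### orthonormal systems of signed irreducible characters -/

/-- an orthonormal set of virtual characters -/
structure ONS (R : Finset (G → ℂ)) : Prop where
  dirr : ∀ α ∈ R, Dirr α
  orth : ∀ α ∈ R, ∀ β ∈ R, α ≠ β → ⟪α, β⟫ = 0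

namespace ONS

variable {R E : Finset (G → ℂ)} (h : ONS R)
include h

theorem mono (hE : E ⊆ R) : ONS E :=
  ⟨fun α hα => h.dirr α (hE hα), fun α hα β hβ => h.orth α (hE hα) β (hE hβ)⟩

theorem dot_self : ∀ α ∈ R, ⟪α, α⟫ = 1 := fun α hα => (h.dirr α hα).dot_self

theorem dot_eq {α β : G → ℂ} (hα : α ∈ R) (hβ : β ∈ R) : ⟪α, β⟫ = if α = β then 1 else 0 := by
  split_ifs with e
  exacts [e ▸ h.dot_self α hα, h.orth α hα β hβ e]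

theorem dot_sum (hE : E ⊆ R) {β : G → ℂ} (hβ : β ∈ R) :
    ⟪∑ α ∈ E, α, β⟫ = if β ∈ E then 1 else 0 := by
  rw [dot_sum_left, Finset.sum_congr rfl fun α hα => h.dot_eq (hE hα) hβ, Finset.sum_ite_eq']

theorem nrm_sum : nrm (∑ α ∈ R, α) = R.card := by
  rw [nrm_sum_of_orth _ _ h.orth, Finset.sum_congr rfl fun α hα => (h.dirr α hα).nrm]; simp

theorem sum_zirr : ∑ α ∈ R, α ∈ ZIrr G := sum_mem fun α hα => (h.dirr α hα).mem_ZIrr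

theorem bessel_le (θ : G → ℂ) : ∑ α ∈ R, ‖⟪θ, α⟫‖ ^ 2 ≤ nrm θ :=
  Chr.bessel_le R (fun α => α) h.dot_self h.orth θ

theorem norm_aux {θ : G → ℂ} (hθ : θ ∈ ZIrr G) {n : ℝ} (hn : ⟪θ, ∑ α ∈ R, α⟫ = n) :
    n ≤ ∑ α ∈ R, ‖⟪θ, α⟫‖ ^ 2 ∧
      (∑ α ∈ R, ‖⟪θ, α⟫‖ ^ 2 ≤ n → ∀ α ∈ R, ⟪θ, α⟫ = 0 ∨ ⟪θ, α⟫ = 1) := by
  have hz : ∀ α ∈ R, ⟪θ, α⟫ = zdot θ α := fun α hα =>
    (ZIrr.coe_zdot hθ (h.dirr α hα).mem_ZIrr).symm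
  have e1 : n = ∑ α ∈ R, (zdot θ α : ℝ) := by
    rw [dot_sum_right, Finset.sum_congr rfl hz] at hn
    exact_mod_cast hn.symm
  have e2 : ∑ α ∈ R, ‖⟪θ, α⟫‖ ^ 2 = ∑ α ∈ R, (zdot θ α : ℝ) ^ 2 :=
    Finset.sum_congr rfl fun α hα => by rw [hz α hα, Complex.norm_intCast, sq_abs]
  have e3 : ∀ α ∈ R, (zdot θ α : ℝ) ≤ (zdot θ α : ℝ) ^ 2 := fun α _ => by
    exact_mod_cast Int.le_self_sq _
  rw [e1, e2]
  refine ⟨Finset.sum_le_sum e3, fun hle α hα => ?_⟩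
  have := (Finset.sum_eq_sum_iff_of_le e3).mp (le_antisymm (Finset.sum_le_sum e3) hle) α hα
  rw [hz α hα]
  have h4 : (zdot θ α) * (zdot θ α - 1) = 0 := by
    have : (zdot θ α : ℝ) * (zdot θ α - 1) = 0 := by linarith
    exact_mod_cast this
  rcases mul_eq_zero.mp h4 with a | a
  · simp [a]
  · simp [sub_eq_zero.mp a]

theorem exists_subset_sum {θ : G → ℂ} (hθ : θ ∈ ZIrr G) {n : ℝ} (hn : ⟪θ, ∑ α ∈ R, α⟫ = n)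
    (hle : nrm θ ≤ n) : ∃ E ⊆ R, θ = ∑ α ∈ E, α := by
  obtain ⟨h1, h2⟩ := h.norm_aux hθ hn
  have h3 := h2 ((h.bessel_le θ).trans hle)
  refine ⟨R.filter fun α => ⟪θ, α⟫ = 1, Finset.filter_subset _ _, ?_⟩
  rw [Finset.sum_filter]
  conv_lhs => rw [eq_sum_of_bessel R (fun α => α) h.dot_self h.orth (hle.trans h1)]
  refine Finset.sum_congr rfl fun α hα => ?_
  rcases h3 α hα with a | a <;> simp [a]

end ONS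

theorem dot_sum_sum_eq_zero {R E : Finset (G → ℂ)} (h : ∀ α ∈ R, ∀ β ∈ E, ⟪α, β⟫ = 0) :
    ⟪∑ α ∈ R, α, ∑ β ∈ E, β⟫ = 0 := by
  rw [dot_sum_left]
  exact Finset.sum_eq_zero fun α hα => by rw [dot_sum_right]; exact Finset.sum_eq_zero (h α hα)

/-- Peterfalvi, Hypothesis (5.2) -/
structure Subcoh (S : Finset (L → ℂ)) (τ : (L → ℂ) →ₗ[ℂ] (G → ℂ))
    (R : (L → ℂ) → Finset (G → ℂ)) : Prop extends IsoOn S τ where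
  char : ∀ χ ∈ S, IsCharacter L χ
  conj_mem : ∀ χ ∈ S, conjFun χ ∈ S
  conj_ne : ∀ χ ∈ S, conjFun χ ≠ χ
  orth : ∀ χ ∈ S, ∀ φ ∈ S, χ ≠ φ → ⟪χ, φ⟫ = 0
  ons : ∀ χ ∈ S, ONS (R χ)
  sum_eq : ∀ χ ∈ S, τ (χ - conjFun χ) = ∑ α ∈ R χ, α
  disj : ∀ χ ∈ S, ∀ φ ∈ S, φ ≠ χ → φ ≠ conjFun χ → ∀ α ∈ R φ, ∀ β ∈ R χ, ⟪α, β⟫ = 0

theorem IsChar.conj_deg {χ : L → ℂ} (h : IsCharacter L χ) : Cfsg.conjFun χ 1 = χ 1 :=
  ZIrr.conj_one (IsChar.mem_ZIrr h)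

namespace Subcoh

variable {S : Finset (L → ℂ)} {τ : (L → ℂ) →ₗ[ℂ] (G → ℂ)} {R : (L → ℂ) → Finset (G → ℂ)}
  (h : Subcoh S τ R)
include h

theorem mono {T : Finset (L → ℂ)} (hT : T ⊆ S) (hc : ∀ χ ∈ T, conjFun χ ∈ T) : Subcoh T τ R :=
  ⟨h.toIsoOn.mono hT, fun χ hχ => h.char χ (hT hχ), hc, fun χ hχ => h.conj_ne χ (hT hχ),
    fun χ hχ φ hφ => h.orth χ (hT hχ) φ (hT hφ), fun χ hχ => h.ons χ (hT hχ),
    fun χ hχ => h.sum_eq χ (hT hχ), fun χ hχ φ hφ => h.disj χ (hT hχ) φ (hT hφ)⟩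

theorem ne_zero : ∀ χ ∈ S, χ ≠ 0 := fun χ hχ e => h.conj_ne χ hχ (by rw [e]; ext; simp)

theorem deg_ne_zero {χ : L → ℂ} (hχ : χ ∈ S) : χ 1 ≠ 0 := fun e =>
  h.ne_zero χ hχ (IsChar.eq_zero_of_deg (h.char χ hχ) e)

theorem zirrS : ∀ χ ∈ S, χ ∈ ZIrr L := fun χ hχ => IsChar.mem_ZIrr (h.char χ hχ)

theorem sub_conj_deg {χ : L → ℂ} (hχ : χ ∈ S) : (χ - conjFun χ) 1 = 0 :=
  sub_eq_zero.mpr (IsChar.conj_deg (h.char χ hχ)).symm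

theorem sub_conj_mem {χ : L → ℂ} (hχ : χ ∈ S) : χ - conjFun χ ∈ ZS S :=
  sub_mem (mem_ZS hχ) (mem_ZS (h.conj_mem χ hχ))

theorem dot_conj {χ : L → ℂ} (hχ : χ ∈ S) : ⟪χ, conjFun χ⟫ = 0 :=
  h.orth χ hχ _ (h.conj_mem χ hχ) (h.conj_ne χ hχ).symm

theorem card_R {χ : L → ℂ} (hχ : χ ∈ S) : ((R χ).card : ℝ) = 2 * nrm χ := by
  rw [← (h.ons χ hχ).nrm_sum, ← h.sum_eq χ hχ,
    h.nrm (CS_of_ZS (h.sub_conj_mem hχ)) (h.sub_conj_deg hχ), nrm_sub_of_orth (h.dot_conj hχ),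
    nrm_conjFun]
  ring

theorem dot_tau_R {χ ψ : L → ℂ} (hχ : χ ∈ S) (hψ : ψ ∈ CS S) (h1 : ⟪ψ, χ⟫ = 0)
    (h2 : ⟪ψ, conjFun χ⟫ = 0) (hd : χ 1 = ψ 1) : ⟪τ (χ - ψ), ∑ α ∈ R χ, α⟫ = nrm χ := by
  rw [← h.sum_eq χ hχ, h.iso _ (sub_mem (mem_CS hχ) hψ) _ (CS_of_ZS (h.sub_conj_mem hχ))
    (sub_eq_zero.mpr hd) (h.sub_conj_deg hχ)]
  simp [dot_sub_left, dot_sub_right, h1, h2, h.dot_conj hχ, dot_self]

/-- Peterfalvi (5.5) -/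
theorem coh_sum {S₁ : Finset (L → ℂ)} {ν : (L → ℂ) →ₗ[ℂ] (G → ℂ)} (hν : CohWith S₁ τ ν)
    {χ : L → ℂ} (hχ : χ ∈ S) (h1 : χ ∈ S₁) (h2 : conjFun χ ∈ S₁) : ∃ E ⊆ R χ, ν χ = ∑ α ∈ E, α := by
  refine (h.ons χ hχ).exists_subset_sum (hν.zirr χ h1) ?_ (hν.nrm (mem_CS h1)).le
  rw [← h.sum_eq χ hχ, hν.agree_sub h1 h2 (IsChar.conj_deg (h.char χ hχ)).symm, dot_sub_right,
    hν.iso χ h1 χ h1, hν.iso χ h1 _ h2, h.dot_conj hχ, sub_zero, dot_self]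

theorem coh_orth_R {S₁ : Finset (L → ℂ)} (hS : S₁ ⊆ S) (hc : ∀ χ ∈ S₁, conjFun χ ∈ S₁)
    {ν : (L → ℂ) →ₗ[ℂ] (G → ℂ)} (hν : CohWith S₁ τ ν) {χ : L → ℂ} (hχ : χ ∈ S) (hn : χ ∉ S₁)
    {φ : L → ℂ} (hφ : φ ∈ CS S₁) {β : G → ℂ} (hβ : β ∈ R χ) : ⟪ν φ, β⟫ = 0 := by
  refine dot_map_CS_eq_zero ν (fun φ hφ => ?_) hφ
  obtain ⟨E, hE, e⟩ := h.coh_sum hν (hS hφ) hφ (hc φ hφ)
  rw [e, dot_sum_left]
  exact Finset.sum_eq_zero fun α hα => h.disj χ hχ φ (hS hφ) (fun e => hn (e ▸ hφ))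
    (fun e => hn (by simpa [e] using hc φ hφ)) α (hE hα) β hβ

theorem coh_orth {S₁ S₂ : Finset (L → ℂ)} (hS₁ : S₁ ⊆ S) (hc₁ : ∀ χ ∈ S₁, conjFun χ ∈ S₁)
    (hS₂ : S₂ ⊆ S) (hc₂ : ∀ χ ∈ S₂, conjFun χ ∈ S₂) (hd : Disjoint S₁ S₂)
    {ν₁ ν₂ : (L → ℂ) →ₗ[ℂ] (G → ℂ)} (h₁ : CohWith S₁ τ ν₁) (h₂ : CohWith S₂ τ ν₂)
    {φ ψ : L → ℂ} (hφ : φ ∈ CS S₁) (hψ : ψ ∈ CS S₂) : ⟪ν₁ φ, ν₂ ψ⟫ = 0 := by
  refine dot_comm_zero (dot_map_CS_eq_zero ν₂ (fun ψ hψ => dot_comm_zero ?_) hψ)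
  obtain ⟨E, hE, e⟩ := h.coh_sum h₂ (hS₂ hψ) hψ (hc₂ ψ hψ)
  rw [e, dot_sum_right]
  exact Finset.sum_eq_zero fun β hβ =>
    h.coh_orth_R hS₁ hc₁ h₁ (hS₂ hψ) (Finset.disjoint_right.mp hd hψ) hφ (hE hβ)

theorem cohWith_pair {χ : L → ℂ} (hχ : χ ∈ S) {X : G → ℂ} (hX : X ∈ ZIrr G) (hn : nrm X = nrm χ)
    (hR : ⟪X, ∑ α ∈ R χ, α⟫ = nrm χ) : ∃ ν, CohWith {χ, conjFun χ} τ ν ∧ ν χ = X ∧
      ν (conjFun χ) = X - ∑ α ∈ R χ, α := by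
  have hsub : ({χ, conjFun χ} : Finset _) ⊆ S := by
    simp [Finset.insert_subset_iff, hχ, h.conj_mem χ hχ]
  have hne := h.conj_ne χ hχ
  have hR' : ⟪∑ α ∈ R χ, α, X⟫ = nrm χ := by rw [← conj_dot, hR, Complex.conj_ofReal]
  have hRR : ⟪∑ α ∈ R χ, α, ∑ α ∈ R χ, α⟫ = 2 * nrm χ := by
    rw [dot_self, (h.ons χ hχ).nrm_sum, h.card_R hχ]; push_cast; rfl
  obtain ⟨ν, h1, h2⟩ := cohWith_of_fun (fun φ hφ => h.ne_zero φ (hsub hφ))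
    (fun φ hφ ψ hψ => h.orth φ (hsub hφ) ψ (hsub hψ)) τ
    (fun φ => if φ = χ then X else X - ∑ α ∈ R χ, α) (fun φ _ => by
      split_ifs
      exacts [hX, sub_mem hX (h.ons χ hχ).sum_zirr]) (by
      simp only [Finset.mem_insert, Finset.mem_singleton, forall_eq_or_imp, forall_eq, if_true,
        if_neg hne, dot_sub_left, dot_sub_right, hR, hR', hRR, h.dot_conj hχ,
        dot_comm_zero (h.dot_conj hχ), dot_self X, dot_self χ, dot_self (conjFun χ), hn, nrm_conjFun]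
      refine ⟨⟨trivial, by ring⟩, by ring, by ring⟩) (Finset.mem_insert_self χ _) (h.deg_ne_zero hχ) (by
      simp only [Finset.mem_insert, Finset.mem_singleton, forall_eq_or_imp, forall_eq, if_true,
        if_neg hne, IsChar.conj_deg (h.char χ hχ), div_self (h.deg_ne_zero hχ), one_smul, sub_self,
        map_zero, true_and]
      rw [← neg_sub χ, map_neg, h.sum_eq χ hχ]; abel)
  exact ⟨ν, h1, by simpa using h2 χ (by simp), by simpa [hne] using h2 (conjFun χ) (by simp)⟩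

theorem extend_with {S₁ : Finset (L → ℂ)} (hS : S₁ ⊆ S) (hc : ∀ χ ∈ S₁, conjFun χ ∈ S₁)
    {ν : (L → ℂ) →ₗ[ℂ] (G → ℂ)} (hν : CohWith S₁ τ ν) {χ : L → ℂ} (hχ : χ ∈ S) (hn : χ ∉ S₁)
    {φ : L → ℂ} (hφ : φ ∈ CS S₁) (hd : χ 1 = φ 1) {X : G → ℂ} (hX : X ∈ ZIrr G)
    (hb : τ (χ - φ) = X - ν φ) (ho : ∀ ψ ∈ S₁, ⟪ν ψ, X⟫ = 0) :
    ∃ ν', CohWith (S₁ ∪ {χ, conjFun χ}) τ ν' ∧ (∀ ψ ∈ S₁, ν' ψ = ν ψ) ∧ ν' χ = X := by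
  have hn' : conjFun χ ∉ S₁ := fun e => hn (by simpa using hc _ e)
  have h1 : ⟪φ, χ⟫ = 0 := dot_CS_eq_zero (fun ψ hψ => h.orth ψ (hS hψ) χ hχ fun e => hn (e ▸ hψ)) hφ
  have h2 : ⟪φ, conjFun χ⟫ = 0 :=
    dot_CS_eq_zero (fun ψ hψ => h.orth ψ (hS hψ) _ (h.conj_mem χ hχ) fun e => hn' (e ▸ hψ)) hφ
  have h3 : ∀ ψ ∈ CS S₁, ⟪ν ψ, ∑ α ∈ R χ, α⟫ = 0 := fun ψ hψ => by
    rw [dot_sum_right]; exact Finset.sum_eq_zero fun β hβ => h.coh_orth_R hS hc hν hχ hn hψ hβ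
  have h4 := h.dot_tau_R hχ (CS_mono hS hφ) h1 h2 hd
  rw [hb, dot_sub_left, h3 φ hφ, sub_zero] at h4
  have h5 := h.nrm (sub_mem (mem_CS hχ) (CS_mono hS hφ)) (sub_eq_zero.mpr hd)
  rw [hb, nrm_sub_of_orth (dot_comm_zero (dot_map_CS_eq_zero ν ho hφ)),
    nrm_sub_of_orth (dot_comm_zero h1), hν.nrm hφ, add_left_inj] at h5
  obtain ⟨ν₂, h6, h7, h8⟩ := h.cohWith_pair hχ hX h5 h4
  have hsub : S₁ ∪ {χ, conjFun χ} ⊆ S := by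
    simp [Finset.union_subset_iff, Finset.insert_subset_iff, hχ, h.conj_mem χ hχ, hS]
  obtain ⟨ν', h9, h10, h11⟩ := bridge_coh (fun φ hφ => h.ne_zero φ (hsub hφ))
    (fun φ hφ ψ hψ => h.orth φ (hsub hφ) ψ (hsub hψ)) (by simp [hn, hn']) hν h6
    (fun ψ hψ => by simp [h7, h8, dot_sub_right, ho ψ hψ, h3 ψ (mem_CS hψ)]) hφ
    (mem_CS (Finset.mem_insert_self χ _)) hd.symm (hd ▸ h.deg_ne_zero hχ)
    (by rw [← neg_sub χ, map_neg, hb, h7, neg_sub])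
  exact ⟨ν', h9, h10, by rw [h11 χ (by simp), h7]⟩

omit h in
theorem bessel_orth {ι : Type*} (s : Finset ι) (v : ι → G → ℂ) (h0 : ∀ i ∈ s, v i ≠ 0)
    (ho : ∀ i ∈ s, ∀ j ∈ s, i ≠ j → ⟪v i, v j⟫ = 0) (θ : G → ℂ) :
    ∑ i ∈ s, ‖⟪θ, v i⟫‖ ^ 2 / nrm (v i) ≤ nrm θ := by
  have := bessel_le s (fun i => ((Real.sqrt (nrm (v i)))⁻¹ : ℂ) • v i) (fun i hi => by
    have h1 := Real.sqrt_ne_zero'.mpr (nrm_pos (h0 i hi))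
    rw [dot_self, nrm_smul, norm_inv, Complex.norm_real, Real.norm_of_nonneg (Real.sqrt_nonneg _),
      inv_pow, Real.sq_sqrt (nrm_nonneg _), inv_mul_cancel₀ (nrm_pos (h0 i hi)).ne']; rfl)
    (fun i hi j hj hij => by rw [dot_smul_left, dot_smul_right, ho i hi j hj hij]; simp) θ
  refine le_of_eq_of_le (Finset.sum_congr rfl fun i _ => ?_) this
  rw [dot_smul_right, norm_mul, mul_pow, RCLike.norm_conj, norm_inv, Complex.norm_real,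
    Real.norm_of_nonneg (Real.sqrt_nonneg _), inv_pow, Real.sq_sqrt (nrm_nonneg _), div_eq_inv_mul]

/-- Peterfalvi (5.6) -/
theorem extend {S₁ : Finset (L → ℂ)} (hS : S₁ ⊆ S) (hc : ∀ χ ∈ S₁, conjFun χ ∈ S₁)
    (hν : Coh S₁ τ) {χ : L → ℂ} (hχ : χ ∈ S) (hn : χ ∉ S₁) {χ₁ : L → ℂ} (hχ₁ : χ₁ ∈ S₁)
    (hdvd : deg χ₁ ∣ deg χ)
    (hlt : (2 * deg χ * deg χ₁ : ℝ) < ∑ φ ∈ S₁, (deg φ : ℝ) ^ 2 / nrm φ) :
    Coh (S₁ ∪ {χ, conjFun χ}) τ := by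
  obtain ⟨ν, hν⟩ := hν
  obtain ⟨a, ha⟩ := hdvd
  have hdeg : ∀ φ ∈ S, φ 1 = deg φ := fun φ hφ => (IsChar.coe_deg (h.char φ hφ)).symm
  have hd : χ 1 = ((a : ℂ) • χ₁) 1 := by
    rw [Pi.smul_apply, hdeg χ hχ, hdeg χ₁ (hS hχ₁), ha]; push_cast; exact mul_comm _ _
  have hn' : conjFun χ ∉ S₁ := fun e => hn (by simpa using hc _ e)
  have hφ : (a : ℂ) • χ₁ ∈ ZS S₁ := ZS_natCast_smul a (mem_ZS hχ₁)
  have hm : χ - (a : ℂ) • χ₁ ∈ ZS S := sub_mem (mem_ZS hχ) (ZS_mono hS hφ)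
  have h0 := h.deg_ne_zero (hS hχ₁)
  set X := τ (χ - (a : ℂ) • χ₁) + ν ((a : ℂ) • χ₁) with hX
  have hXz : X ∈ ZIrr G := add_mem (h.zirr _ hm (sub_eq_zero.mpr hd)) (hν.zirr' hφ)
  have ho1 : ∀ ψ ∈ CS S₁, ⟪ψ, χ⟫ = 0 := fun ψ hψ =>
    dot_CS_eq_zero (fun ψ hψ => h.orth ψ (hS hψ) χ hχ fun e => hn (e ▸ hψ)) hψ
  have ho2 : ∀ ψ ∈ CS S₁, ⟪ψ, conjFun χ⟫ = 0 := fun ψ hψ =>
    dot_CS_eq_zero (fun ψ hψ => h.orth ψ (hS hψ) _ (h.conj_mem χ hχ) fun e => hn' (e ▸ hψ)) hψ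
  obtain ⟨l, hl⟩ := ZIrr.dot_int (hν.zirr χ₁ hχ₁) hXz
  have h1 : ∀ ψ ∈ S₁, ⟪ν ψ, X⟫ = ψ 1 / χ₁ 1 * l := by
    intro ψ hψ
    have hm' : ψ - (ψ 1 / χ₁ 1) • χ₁ ∈ CS S₁ := sub_mem (mem_CS hψ) (CS_smul _ (mem_CS hχ₁))
    have e1 : (ψ - (ψ 1 / χ₁ 1) • χ₁) 1 = 0 := by simp [h0]
    have : ⟪ν (ψ - (ψ 1 / χ₁ 1) • χ₁), X⟫ = 0 := by
      rw [hX, dot_add_right, hν.iso' hm' (CS_of_ZS hφ), hν.agree _ hm' e1,
        h.iso _ (CS_mono hS hm') _ (CS_of_ZS hm) e1 (sub_eq_zero.mpr hd), dot_sub_right, ho1 _ hm']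
      ring
    rwa [map_sub, map_smul, dot_sub_left, dot_smul_left, hl, sub_eq_zero] at this
  have h2 : nrm X = nrm χ + 2 * a * l := by
    have e1 := h.nrm (CS_of_ZS hm) (sub_eq_zero.mpr hd)
    rw [show τ (χ - (a : ℂ) • χ₁) = X - ν ((a : ℂ) • χ₁) by rw [hX]; abel, nrm_sub,
      nrm_sub_of_orth (dot_comm_zero (ho1 _ (CS_of_ZS hφ))), hν.nrm (CS_of_ZS hφ), map_smul,
      dot_smul_right, dot_comm_of_int hl] at e1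
    simp only [map_natCast, Complex.mul_re, Complex.natCast_re, Complex.intCast_re,
      Complex.natCast_im, Complex.intCast_im, mul_zero, sub_zero] at e1
    linarith
  have h3 : ∀ ψ ∈ CS S₁, ∀ β ∈ R χ, ⟪ν ψ, β⟫ = 0 := fun ψ hψ β hβ =>
    h.coh_orth_R hS hc hν hχ hn hψ hβ
  have h4 : ⟪X, ∑ α ∈ R χ, α⟫ = nrm χ := by
    rw [hX, dot_add_left, h.dot_tau_R hχ (CS_mono hS (CS_of_ZS hφ)) (ho1 _ (CS_of_ZS hφ))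
      (ho2 _ (CS_of_ZS hφ)) hd, dot_sum_right, Finset.sum_eq_zero (h3 _ (CS_of_ZS hφ)), add_zero]
  have h5 := ((h.ons χ hχ).norm_aux hXz h4).1
  have h6 := bessel (R χ) (fun α => α) (h.ons χ hχ).dot_self (h.ons χ hχ).orth X
  have h7 := bessel_orth S₁ ν (fun ψ hψ e => (nrm_pos (h.ne_zero ψ (hS hψ))).ne'
    (by rw [← hν.nrm (mem_CS hψ), e, nrm_zero]))
    (fun φ hφ ψ hψ hne => by rw [hν.iso φ hφ ψ hψ, h.orth φ (hS hφ) ψ (hS hψ) hne])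
    (X - ∑ α ∈ R χ, ⟪X, α⟫ • α)
  have hd1 : (0 : ℝ) < deg χ₁ := by
    rw [hdeg χ₁ (hS hχ₁), Nat.cast_ne_zero] at h0
    exact_mod_cast Nat.pos_of_ne_zero h0
  rw [Finset.sum_congr rfl (g := fun φ => (l : ℝ) ^ 2 / (deg χ₁) ^ 2 * ((deg φ : ℝ) ^ 2 / nrm φ))
    (fun ψ hψ => by
      rw [← conj_dot, RCLike.norm_conj, dot_sub_right, dot_sum_right,
        Finset.sum_eq_zero fun β hβ => by rw [dot_smul_right, h3 ψ (mem_CS hψ) β hβ, mul_zero],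
        sub_zero, h1 ψ hψ, hν.nrm (mem_CS hψ), hdeg ψ (hS hψ), hdeg χ₁ (hS hχ₁), norm_mul, norm_div,
        Complex.norm_natCast, Complex.norm_natCast, Complex.norm_intCast, mul_pow, sq_abs]
      ring), ← Finset.mul_sum] at h7
  have hl0 : l = 0 := by
    by_contra hl0
    have e1 : (l : ℝ) ≤ l ^ 2 := by exact_mod_cast Int.le_self_sq l
    have e2 : (0 : ℝ) < (l : ℝ) ^ 2 / (deg χ₁) ^ 2 := by positivity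
    have e3 := mul_lt_mul_of_pos_left hlt e2
    rw [ha] at e3
    push_cast at e3
    have e4 : (l : ℝ) ^ 2 / (deg χ₁) ^ 2 * (2 * (deg χ₁ * a) * deg χ₁) = 2 * a * l ^ 2 := by
      field_simp
    have e5 : (0 : ℝ) ≤ a := Nat.cast_nonneg a
    nlinarith
  obtain ⟨ν', h8, -⟩ := h.extend_with hS hc hν hχ hn (CS_of_ZS hφ) hd hXz (by rw [hX]; abel)
    fun ψ hψ => by simp [h1 ψ hψ, hl0]
  exact ⟨ν', h8⟩

theorem tau_sub_eq {χ φ : L → ℂ} (hχ : χ ∈ S) (hφ : φ ∈ S) (h1 : φ ≠ χ) (h2 : φ ≠ conjFun χ)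
    (hd : χ 1 = φ 1) : ∃ E ⊆ R χ, ∃ E' ⊆ R φ, τ (χ - φ) = ∑ α ∈ E, α - ∑ α ∈ E', α ∧
      (E.card : ℝ) = nrm χ := by
  have h2' : χ ≠ conjFun φ := fun e => h2 (by simp [e])
  have hm : χ - φ ∈ ZS S := sub_mem (mem_ZS hχ) (mem_ZS hφ)
  have hz := h.zirr _ hm (sub_eq_zero.mpr hd)
  have a1 := h.dot_tau_R hχ (mem_CS hφ) (h.orth _ hφ _ hχ h1) (h.orth _ hφ _ (h.conj_mem χ hχ) h2) hd
  have a2 := h.dot_tau_R hφ (mem_CS hχ) (h.orth _ hχ _ hφ h1.symm)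
    (h.orth _ hχ _ (h.conj_mem φ hφ) h2') hd.symm
  rw [← neg_sub χ, map_neg] at a2
  have hn := h.nrm (CS_of_ZS hm) (sub_eq_zero.mpr hd)
  rw [nrm_sub_of_orth (h.orth _ hχ _ hφ h1.symm)] at hn
  set θ := τ (χ - φ)
  set P := ∑ α ∈ R χ, ⟪θ, α⟫ • α with hP
  have hPz : P ∈ ZIrr G := sum_mem fun α hα =>
    ZIrr.smul_of_int ((h.ons χ hχ).dirr α hα).mem_ZIrr (ZIrr.dot_int hz ((h.ons χ hχ).dirr α hα).mem_ZIrr)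
  have b1 := bessel (R χ) (fun α => α) (h.ons χ hχ).dot_self (h.ons χ hχ).orth θ
  have b2 := ((h.ons χ hχ).norm_aux hz a1).1
  have hPR : ⟪P, ∑ α ∈ R φ, α⟫ = 0 := by
    rw [hP, dot_sum_left]
    refine Finset.sum_eq_zero fun α hα => ?_
    rw [dot_smul_left, dot_sum_right, Finset.sum_eq_zero (h.disj φ hφ χ hχ h1.symm h2' α hα), mul_zero]
  obtain ⟨E', hE', e'⟩ := (h.ons φ hφ).exists_subset_sum (θ := P - θ) (n := nrm φ) (sub_mem hPz hz)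
    (by rw [sub_eq_add_neg, dot_add_left, hPR, a2, zero_add]) (by rw [← nrm_neg, neg_sub]; linarith)
  have hE'R : ∀ β ∈ R χ, ⟪∑ α ∈ E', α, β⟫ = 0 := fun β hβ => by
    rw [dot_sum_left]; exact Finset.sum_eq_zero fun α hα => h.disj χ hχ φ hφ h1 h2 α (hE' hα) β hβ
  have hθ : θ = P - ∑ α ∈ E', α := by rw [← e']; abel
  have b3 : nrm φ ≤ nrm (P - θ) := by
    have := ((h.ons φ hφ).norm_aux (sub_mem hPz hz) (n := nrm φ)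
      (by rw [sub_eq_add_neg, dot_add_left, hPR, a2, zero_add])).1
    exact this.trans ((h.ons φ hφ).bessel_le _)
  have b4 : nrm θ = nrm P + nrm (P - θ) := by
    conv_lhs => rw [hθ]
    rw [e', nrm_sub_of_orth]
    rw [hP, dot_sum_left]
    exact Finset.sum_eq_zero fun α hα => by rw [dot_smul_left, dot_comm_zero (hE'R α hα), mul_zero]
  have b5 : ⟪P, ∑ α ∈ R χ, α⟫ = nrm χ := by
    rw [← a1, hθ, dot_sub_left, dot_sum_right (φ := ∑ α ∈ E', α), Finset.sum_eq_zero hE'R, sub_zero]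
  obtain ⟨E, hE, e⟩ := (h.ons χ hχ).exists_subset_sum hPz b5 (by linarith)
  refine ⟨E, hE, E', hE', by rw [← e, ← hθ], ?_⟩
  rw [e, dot_sum_right, Finset.sum_congr rfl fun β hβ => (h.ons χ hχ).dot_sum hE hβ] at b5
  simp only [Finset.sum_ite_mem, Finset.inter_eq_right.mpr hE, Finset.sum_const, nsmul_eq_mul,
    mul_one] at b5
  exact_mod_cast b5

/-- Peterfalvi (5.7) -/
theorem uniform (hd : ∀ φ ∈ S, ∀ ψ ∈ S, φ 1 = ψ 1) : Coh S τ := by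
  rcases S.eq_empty_or_nonempty with rfl | ⟨χ, hχ⟩
  · exact coh_empty τ
  have hm : ∀ φ ∈ S, χ - φ ∈ ZS S := fun φ hφ => sub_mem (mem_ZS hχ) (mem_ZS hφ)
  have hm1 : ∀ φ ∈ S, (χ - φ) 1 = 0 := fun φ hφ => sub_eq_zero.mpr (hd _ hχ _ hφ)
  obtain ⟨X, hXz, hXn, hX⟩ : ∃ X ∈ ZIrr G, nrm X = nrm χ ∧
      ∀ φ ∈ S, φ ≠ χ → ⟪X, τ (χ - φ)⟫ = nrm χ := by
    have key : ∀ E ⊆ R χ, (E.card : ℝ) = nrm χ → nrm (∑ α ∈ E, α) = nrm χ ∧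
        ⟪∑ α ∈ E, α, τ (χ - conjFun χ)⟫ = nrm χ := fun E hE hc => by
      refine ⟨by rw [((h.ons χ hχ).mono hE).nrm_sum, hc], ?_⟩
      rw [h.sum_eq χ hχ, dot_sum_right, Finset.sum_congr rfl fun β hβ => (h.ons χ hχ).dot_sum hE hβ,
        ← hc]
      simp [Finset.inter_eq_right.mpr hE]
    by_cases hc : ∃ φ ∈ S, φ ≠ χ ∧ φ ≠ conjFun χ
    · obtain ⟨φ, hφ, h1, h2⟩ := hc
      obtain ⟨E, hE, E', hE', e, hc⟩ := h.tau_sub_eq hχ hφ h1 h2 (hd _ hχ _ hφ)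
      have hER : ∀ F ⊆ R φ, ⟪∑ α ∈ E, α, ∑ α ∈ F, α⟫ = 0 := fun F hF =>
        dot_comm_zero (dot_sum_sum_eq_zero fun α hα β hβ => h.disj χ hχ φ hφ h1 h2 α (hF hα) β (hE hβ))
      have e1 : ⟪∑ α ∈ E, α, τ (χ - φ)⟫ = nrm χ := by
        rw [e, dot_sub_right, hER E' hE', sub_zero, dot_self, (key E hE hc).1]
      refine ⟨_, ((h.ons χ hχ).mono hE).sum_zirr, (key E hE hc).1, fun ψ hψ hψ1 => ?_⟩
      by_cases hψ2 : ψ = conjFun χ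
      · exact hψ2 ▸ (key E hE hc).2
      by_cases hψ3 : ψ = φ
      · exact hψ3 ▸ e1
      by_cases hψ4 : ψ = conjFun φ
      · rw [hψ4, show χ - conjFun φ = (χ - φ) + (φ - conjFun φ) by abel, map_add, dot_add_right, e1,
          h.sum_eq φ hφ, hER _ subset_rfl, add_zero]
      obtain ⟨F, hF, F', hF', e', -⟩ := h.tau_sub_eq hχ hψ hψ1 hψ2 (hd _ hχ _ hψ)
      have e2 : ⟪∑ α ∈ E', α, τ (χ - ψ)⟫ = 0 := by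
        rw [e', dot_sub_right, dot_sum_sum_eq_zero fun α hα β hβ =>
          h.disj χ hχ φ hφ h1 h2 α (hE' hα) β (hF hβ), dot_comm_zero (dot_sum_sum_eq_zero
          fun α hα β hβ => h.disj φ hφ ψ hψ hψ3 hψ4 α (hF' hα) β (hE' hβ)), sub_zero]
      have e3 := h.iso _ (CS_of_ZS (hm φ hφ)) _ (CS_of_ZS (hm ψ hψ)) (hm1 φ hφ) (hm1 ψ hψ)
      rw [e, dot_sub_left, e2, sub_zero] at e3
      rw [e3]
      simp [dot_sub_left, dot_sub_right, h.orth _ hχ _ hψ hψ1.symm, h.orth _ hφ _ hχ h1,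
        h.orth _ hφ _ hψ (Ne.symm hψ3), dot_self]
    · push Not at hc
      obtain ⟨n, hn⟩ := ZIrr.nrm_nat (h.zirrS χ hχ)
      obtain ⟨E, hE, hc'⟩ := Finset.exists_subset_card_eq (s := R χ) (n := n) (by
        have := h.card_R hχ
        rw [hn] at this
        have : (R χ).card = 2 * n := by exact_mod_cast this
        omega)
      have := key E hE (by rw [hc', hn])
      exact ⟨_, ((h.ons χ hχ).mono hE).sum_zirr, this.1, fun φ hφ h1 => hc φ hφ h1 ▸ this.2⟩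
  have hX' : ∀ φ ∈ S, ⟪X, τ (χ - φ)⟫ = ⟪χ, χ - φ⟫ := fun φ hφ => by
    by_cases e : φ = χ
    · simp [e]
    · rw [hX φ hφ e, dot_sub_right, h.orth _ hχ _ hφ (Ne.symm e), sub_zero, dot_self]
  obtain ⟨ν, hν, -⟩ := cohWith_of_fun h.ne_zero h.orth τ (fun φ => X - τ (χ - φ))
    (fun φ hφ => sub_mem hXz (h.zirr _ (hm φ hφ) (hm1 φ hφ))) (fun φ hφ ψ hψ => by
      have e := hX' φ hφ
      rw [← conj_dot, ← conj_dot (χ - φ), (starRingEnd ℂ).injective.eq_iff] at e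
      rw [dot_sub_left, dot_sub_right, dot_sub_right, hX' ψ hψ, e, dot_self X, hXn, ← dot_self χ,
        h.iso _ (CS_of_ZS (hm φ hφ)) _ (CS_of_ZS (hm ψ hψ)) (hm1 φ hφ) (hm1 ψ hψ)]
      simp only [dot_sub_left, dot_sub_right]
      ring) hχ (h.deg_ne_zero hχ) (fun φ hφ => by
      rw [hd φ hφ χ hχ, div_self (h.deg_ne_zero hχ), one_smul, one_smul, sub_self, map_zero,
        ← neg_sub χ, map_neg]
      abel)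
  exact ⟨ν, hν⟩

theorem uniform_sub {T : Finset (L → ℂ)} (hT : T ⊆ S) (hc : ∀ χ ∈ T, conjFun χ ∈ T)
    (hd : ∀ φ ∈ T, ∀ ψ ∈ T, φ 1 = ψ 1) : Coh T τ := (h.mono hT hc).uniform hd

end Subcoh

theorem realizeEqns_PF_S05 : True := by
  have := @CA.Chr.CS.eq_1.{0}
  have := @CA.Chr.CS.eq_def.{0}
  have := @CA.Chr.CS.congr_simp.{0}
  have := @CA.Chr.Coh.eq_1.{0,0}
  have := @CA.Chr.Coh.eq_def.{0,0}
  have := @CA.Chr.Coh.congr_simp.{0,0}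
  have := @CA.Chr.ZS.eq_1.{0}
  have := @CA.Chr.ZS.eq_def.{0}
  have := @CA.Chr.ZS.congr_simp.{0}
  trivial

end CA.Chr
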