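import Cfsg.Agent.PF.S05

/-!
# Peterfalvi, section 5 (continued): sets of induced characters, (5.3), (5.8), (5.9)
-/

set_option autoImplicit false
set_option linter.unusedSectionVars false

open scoped ComplexConjugate

open Cfsg

namespace CA.Chr

variable {L G : Type*} [Group L] [Finite L] [Group G] [Finite G]

theorem ONS.pair {x y : G → ℂ} (hx : Dirr x) (hy : Dirr y) (h : ⟪x, y⟫ = 0) : ONS {x, y} :=
  ⟨by simp [hx, hy], by simp +contextual [h, dot_comm_zero h]⟩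

theorem IsoOn.exists_pair {S : Finset (L → ℂ)} {τ : (L → ℂ) →ₗ[ℂ] (G → ℂ)} (h : IsoOn S τ)
    {χ φ : L → ℂ} (hχ : χ ∈ S) (hφ : φ ∈ S) (h1 : IsIrrCharacter L χ) (h2 : IsIrrCharacter L φ)
    (hne : χ ≠ φ) (hd : χ 1 = φ 1) :
    ∃ x y, IsIrrCharacter G x ∧ IsIrrCharacter G y ∧ x ≠ y ∧ τ (χ - φ) = x - y := by
  have hm : χ - φ ∈ ZS S := sub_mem (mem_ZS hχ) (mem_ZS hφ)
  refine ZIrr.exists_of_nrm_two_deg_zero (h.zirr _ hm (sub_eq_zero.mpr hd)) ?_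
    (h.one _ (CS_of_ZS hm) (sub_eq_zero.mpr hd))
  rw [h.nrm (CS_of_ZS hm) (sub_eq_zero.mpr hd), nrm_sub_of_orth (IsIrr.dot_ne h1 h2 hne),
    IsIrr.nrm h1, IsIrr.nrm h2]
  norm_num

theorem sum_pair_neg {x y : G → ℂ} (hx : IsIrrCharacter G x) (hy : IsIrrCharacter G y) :
    ∑ α ∈ ({x, -y} : Finset (G → ℂ)), α = x - y := by
  rw [Finset.sum_pair, sub_eq_add_neg]
  intro e
  have := IsIrr.dot_eq hx hy
  rw [e, dot_neg_left, IsIrr.dot_self hy] at this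
  split_ifs at this <;> norm_num at this

theorem IsoOn.pair_orth {S : Finset (L → ℂ)} {τ : (L → ℂ) →ₗ[ℂ] (G → ℂ)} (h : IsoOn S τ)
    {α β : L → ℂ} (hα : α ∈ CS S) (hβ : β ∈ CS S) (h1 : α 1 = 0) (h2 : β 1 = 0) (ho : ⟪α, β⟫ = 0)
    {x y z w : G → ℂ} (hx : IsIrrCharacter G x) (hy : IsIrrCharacter G y) (hxy : x ≠ y)
    (hz : IsIrrCharacter G z) (hw : IsIrrCharacter G w) (hzw : z ≠ w) (e1 : τ α = x - y)
    (e2 : τ β = z - w) : ∀ a ∈ ({x, -y} : Finset _), ∀ b ∈ ({z, -w} : Finset _), ⟪a, b⟫ = 0 := by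
  obtain ⟨a1, a2, a3, a4⟩ := dirr_diff_ortho (IsIrr.dirr hx) (IsIrr.dirr hy) (IsIrr.dirr hz)
    (IsIrr.dirr hw) (IsIrr.dot_ne hx hy hxy) (IsIrr.dot_ne hz hw hzw)
    (by rw [← e1, ← e2, h.iso _ hα _ hβ h1 h2, ho]) (sub_eq_zero.mp (by rw [← h.one α hα h1, e1]; rfl))
    (sub_eq_zero.mp (by rw [← h.one β hβ h2, e2]; rfl))
  simp [dot_neg_left, dot_neg_right, *]

theorem dot_sub_conj_eq_zero {S : Finset (L → ℂ)} (hc : ∀ χ ∈ S, conjFun χ ∈ S)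
    (ho : ∀ χ ∈ S, ∀ φ ∈ S, χ ≠ φ → ⟪χ, φ⟫ = 0) {χ φ : L → ℂ} (hχ : χ ∈ S) (hφ : φ ∈ S)
    (h1 : φ ≠ χ) (h2 : φ ≠ conjFun χ) : ⟪φ - conjFun φ, χ - conjFun χ⟫ = 0 := by
  simp [dot_sub_left, dot_sub_right, ho _ hφ _ hχ h1, ho _ hφ _ (hc _ hχ) h2,
    ho _ (hc _ hφ) _ hχ (fun e => h2 (by simp [← e])),
    ho _ (hc _ hφ) _ (hc _ hχ) (fun e => h1 (by simpa using congrArg conjFun e))]

/-- Peterfalvi (5.3)(a) -/
theorem irr_subcoh {S : Finset (L → ℂ)} {τ : (L → ℂ) →ₗ[ℂ] (G → ℂ)} (h : IsoOn S τ)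
    (hi : ∀ χ ∈ S, IsIrrCharacter L χ) (hc : ∀ χ ∈ S, conjFun χ ∈ S)
    (hn : ∀ χ ∈ S, conjFun χ ≠ χ) : ∃ R, Subcoh S τ R := by
  have ho : ∀ χ ∈ S, ∀ φ ∈ S, χ ≠ φ → ⟪χ, φ⟫ = 0 := fun χ hχ φ hφ =>
    IsIrr.dot_ne (hi χ hχ) (hi φ hφ)
  have hd := fun χ hχ => (IsChar.conj_deg (IsIrr.isChar (hi χ hχ))).symm
  choose! x y hx hy hxy e using fun χ hχ =>
    h.exists_pair hχ (hc χ hχ) (hi χ hχ) (hi _ (hc χ hχ)) (hn χ hχ).symm (hd χ hχ)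
  exact ⟨fun χ => {x χ, -y χ}, h, fun χ hχ => IsIrr.isChar (hi χ hχ), hc, hn, ho,
    fun χ hχ => ONS.pair (IsIrr.dirr (hx χ hχ)) (IsIrr.dirr (hy χ hχ)).neg
      (by rw [dot_neg_right, IsIrr.dot_ne (hx χ hχ) (hy χ hχ) (hxy χ hχ), neg_zero]),
    fun χ hχ => by rw [e χ hχ, sum_pair_neg (hx χ hχ) (hy χ hχ)],
    fun χ hχ φ hφ h1 h2 => h.pair_orth (sub_mem (mem_CS hφ) (mem_CS (hc _ hφ)))
      (sub_mem (mem_CS hχ) (mem_CS (hc _ hχ))) (sub_eq_zero.mpr (hd φ hφ))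
      (sub_eq_zero.mpr (hd χ hχ)) (dot_sub_conj_eq_zero hc ho hχ hφ h1 h2) (hx _ hφ) (hy _ hφ)
      (hxy _ hφ) (hx _ hχ) (hy _ hχ) (hxy _ hχ) (e _ hφ) (e _ hχ)⟩

/-- Peterfalvi (5.9)(a) -/
theorem CohWith.map_eq {S : Finset (L → ℂ)} {τ ν : (L → ℂ) →ₗ[ℂ] (G → ℂ)} (h : CohWith S τ ν)
    (h1 : ∀ α ∈ CS S, α 1 = 0 → τ α 1 = 0) (σ : ℂ →+* ℂ) (hτ : ∀ α, τ (σ ∘ α) = σ ∘ τ α)
    {χ ψ : L → ℂ} (hχ : χ ∈ S) (hψ : ψ ∈ S) (hχ' : σ ∘ χ ∈ S) (hψ' : σ ∘ ψ ∈ S)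
    (iχ : IsIrrCharacter L χ) (iψ : IsIrrCharacter L ψ) (hne : χ ≠ ψ) : σ ∘ ν χ = ν (σ ∘ χ) := by
  obtain ⟨a, ha0, ha⟩ := IsIrr.exists_deg iχ
  obtain ⟨b, hb0, hb⟩ := IsIrr.exists_deg iψ
  have hm : (b : ℂ) • χ - (a : ℂ) • ψ ∈ CS S := sub_mem (CS_smul _ (mem_CS hχ)) (CS_smul _ (mem_CS hψ))
  have hm' : (b : ℂ) • (σ ∘ χ) - (a : ℂ) • (σ ∘ ψ) ∈ CS S :=
    sub_mem (CS_smul _ (mem_CS hχ')) (CS_smul _ (mem_CS hψ'))
  have d1 : ((b : ℂ) • χ - (a : ℂ) • ψ) 1 = 0 := by simp [ha, hb, mul_comm]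
  have d2 : ((b : ℂ) • (σ ∘ χ) - (a : ℂ) • (σ ∘ ψ)) 1 = 0 := by simp [ha, hb, mul_comm]
  have e : (b : ℂ) • (σ ∘ ν χ) - (a : ℂ) • (σ ∘ ν ψ) = (b : ℂ) • ν (σ ∘ χ) - (a : ℂ) • ν (σ ∘ ψ) := by
    rw [← map_smul, ← map_smul, ← map_sub, h.agree _ hm' d2,
      show (b : ℂ) • (σ ∘ χ) - (a : ℂ) • (σ ∘ ψ) = σ ∘ ((b : ℂ) • χ - (a : ℂ) • ψ) by ext; simp,
      hτ, ← h.agree _ hm d1]
    ext; simp
  have dx := (h.dirr hχ iχ).map σ
  have dy := (h.dirr hψ iψ).map σ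
  have dx' := h.dirr hχ' (IsIrr.map iχ σ)
  have dy' := h.dirr hψ' (IsIrr.map iψ σ)
  have o1 : ⟪σ ∘ ν ψ, σ ∘ ν χ⟫ = 0 := by
    rw [ZIrr.dot_map_map (h.zirr ψ hψ) (h.zirr χ hχ), h.iso ψ hψ χ hχ, IsIrr.dot_ne iψ iχ hne.symm]
  have o2 : ⟪ν (σ ∘ ψ), ν (σ ∘ χ)⟫ = 0 := by
    rw [h.iso _ hψ' _ hχ', ZIrr.dot_map_map (IsIrr.mem_ZIrr iψ) (IsIrr.mem_ZIrr iχ),
      IsIrr.dot_ne iψ iχ hne.symm]
  have hdx : (σ ∘ ν χ) 1 = ν (σ ∘ χ) 1 := by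
    obtain ⟨n, hn⟩ := ZIrr.deg_int (h.zirr χ hχ)
    have hm := sub_mem (mem_CS hχ') (mem_CS hχ)
    have d3 : (σ ∘ χ - χ) 1 = 0 := by simp [ha]
    have := h1 _ hm d3
    rw [← h.agree _ hm d3, map_sub, Pi.sub_apply, sub_eq_zero] at this
    rw [this, Function.comp_apply, hn, map_intCast]
  have hb' : (b : ℂ) ≠ 0 := Nat.cast_ne_zero.mpr hb0.ne'
  have ha' : (a : ℂ) ≠ 0 := Nat.cast_ne_zero.mpr ha0.ne'
  rcases dx.dot_cases dx' with ⟨e1, -⟩ | ⟨e1, -⟩ | ⟨-, -, e1⟩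
  · exact e1
  · rw [e1, Pi.neg_apply, neg_eq_self] at hdx
    exact absurd hdx dx'.deg_ne_zero
  have e2 := congrArg (⟪·, σ ∘ ν χ⟫) e
  simp only [dot_sub_left, dot_smul_left, dx.dot_self, o1, dot_comm_zero e1, mul_one, mul_zero,
    sub_zero, zero_sub] at e2
  have e3 := h1 _ hm' d2
  rw [← h.agree _ hm' d2, map_sub, map_smul, map_smul] at e3
  rcases dy'.dot_cases dx with ⟨e4, e5⟩ | ⟨e4, e5⟩ | ⟨-, -, e5⟩
  · rw [e5] at e2
    have : ((b + a : ℕ) : ℂ) = 0 := by push_cast; linear_combination e2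
    exact absurd (Nat.cast_eq_zero.mp this) (by omega)
  · rw [e5, mul_neg_one, neg_neg] at e2
    simp only [Pi.sub_apply, Pi.smul_apply, smul_eq_mul, e4, Pi.neg_apply, hdx, e2] at e3
    have : ν (σ ∘ χ) 1 = 0 := by
      have : 2 * (a : ℂ) * ν (σ ∘ χ) 1 = 0 := by linear_combination e3
      simpa [ha'] using this
    exact absurd this dx'.deg_ne_zero
  · rw [e5, mul_zero, neg_zero] at e2
    exact absurd e2 hb'

theorem CohWith.conj_eq {S : Finset (L → ℂ)} {τ ν : (L → ℂ) →ₗ[ℂ] (G → ℂ)} (h : CohWith S τ ν)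
    (h1 : ∀ α ∈ CS S, α 1 = 0 → τ α 1 = 0) (hτ : ∀ α, τ (conjFun α) = conjFun (τ α))
    {χ : L → ℂ} (hχ : χ ∈ S) (hχ' : conjFun χ ∈ S) (iχ : IsIrrCharacter L χ)
    (hne : conjFun χ ≠ χ) : conjFun (ν χ) = ν (conjFun χ) :=
  h.map_eq h1 (starRingEnd ℂ) hτ hχ hχ' hχ' (by
    have : ⇑(starRingEnd ℂ) ∘ conjFun χ = χ := by ext; simp
    rwa [this]) iχ (IsIrr.conjFun iχ) hne.symm

/-- Peterfalvi (5.9)(b) -/
theorem exists_sub_conj {θ : G → ℂ} (hθ : θ ∈ ZIrr G) (hn : nrm θ = 2) (h1 : θ 1 = 0)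
    (hc : conjFun θ = -θ) : ∃ μ, IsIrrCharacter G μ ∧ θ = μ - conjFun μ := by
  obtain ⟨x, y, hx, hy, hxy, rfl⟩ := ZIrr.exists_of_nrm_two_deg_zero hθ hn h1
  refine ⟨x, hx, ?_⟩
  have := congrArg (⟪·, y⟫) hc
  simp only [conjFun_sub, dot_sub_left, dot_neg_left, IsIrr.dot_ne hx hy hxy, IsIrr.dot_self hy,
    IsIrr.dot_eq (IsIrr.conjFun hx) hy, IsIrr.dot_eq (IsIrr.conjFun hy) hy] at this
  by_contra hne
  rw [if_neg fun e => hne (by rw [e])] at this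
  split_ifs at this <;> norm_num at this

/-! ### sets of induced characters -/

section SeqInd

variable {K : Type*} [Group K] [Finite K] (f : K →* L) [hf : NormalInj f]

open Classical in
/-- the characters induced from the irreducible characters of `K` satisfying `P` -/
noncomputable def seqInd (P : (K → ℂ) → Prop) : Finset (L → ℂ) := ((irr K).filter P).image (ind f)

variable {f}

theorem mem_seqInd {P : (K → ℂ) → Prop} {φ : L → ℂ} :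
    φ ∈ seqInd f P ↔ ∃ θ, IsIrrCharacter K θ ∧ P θ ∧ φ = ind f θ := by
  simp only [seqInd, Finset.mem_image, Finset.mem_filter, mem_irr, and_assoc, eq_comm]

theorem ind_mem_seqInd {P : (K → ℂ) → Prop} {θ : K → ℂ} (hθ : IsIrrCharacter K θ) (h : P θ) :
    ind f θ ∈ seqInd f P := mem_seqInd.mpr ⟨θ, hθ, h, rfl⟩

theorem seqInd_mono {P Q : (K → ℂ) → Prop} (h : ∀ θ, IsIrrCharacter K θ → P θ → Q θ) :
    seqInd f P ⊆ seqInd f Q := fun _ hφ => by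
  obtain ⟨θ, h1, h2, rfl⟩ := mem_seqInd.mp hφ
  exact ind_mem_seqInd h1 (h θ h1 h2)

section
variable {P Q : (K → ℂ) → Prop} {φ ψ : L → ℂ}

theorem seqInd_char (h : φ ∈ seqInd f P) : IsCharacter L φ := by
  obtain ⟨θ, h1, -, rfl⟩ := mem_seqInd.mp h
  exact IsChar.ind (IsIrr.isChar h1) f

theorem seqInd_zirr (h : φ ∈ seqInd f P) : φ ∈ ZIrr L := IsChar.mem_ZIrr (seqInd_char h)

theorem seqInd_CF (h : φ ∈ seqInd f P) : φ ∈ CF L := IsChar.mem_CF (seqInd_char h)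

theorem seqInd_ne_zero (h : φ ∈ seqInd f P) : φ ≠ 0 := by
  obtain ⟨θ, h1, -, rfl⟩ := mem_seqInd.mp h
  exact ind_ne_zero hf.inj (IsIrr.deg_ne_zero h1)

theorem seqInd_deg_ne_zero (h : φ ∈ seqInd f P) : φ 1 ≠ 0 := fun e =>
  seqInd_ne_zero h (IsChar.eq_zero_of_deg (seqInd_char h) e)

theorem seqInd_deg_pos (h : φ ∈ seqInd f P) : 0 < deg φ := by
  have := seqInd_deg_ne_zero h
  rw [← IsChar.coe_deg (seqInd_char h), Nat.cast_ne_zero] at this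
  omega

theorem seqInd_orth (h : φ ∈ seqInd f P) (h' : ψ ∈ seqInd f Q) (hne : φ ≠ ψ) : ⟪φ, ψ⟫ = 0 := by
  obtain ⟨θ, h1, -, rfl⟩ := mem_seqInd.mp h
  obtain ⟨θ', h1', -, rfl⟩ := mem_seqInd.mp h'
  exact dot_ind_of_ne f h1 h1' hne

theorem seqInd_eq_zero (h : φ ∈ seqInd f P) {g : L} (hg : g ∉ f.range) : φ g = 0 := by
  obtain ⟨θ, -, -, rfl⟩ := mem_seqInd.mp h
  exact ind_eq_zero_of_not_mem f θ hg

theorem seqInd_index_dvd (h : φ ∈ seqInd f P) : f.range.index ∣ deg φ := by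
  obtain ⟨θ, h1, -, rfl⟩ := mem_seqInd.mp h
  exact Dvd.intro _ (deg_ind hf.inj (IsIrr.isChar h1)).symm

theorem seqInd_conj (hP : ∀ θ, IsIrrCharacter K θ → P θ → P (conjFun θ)) (h : φ ∈ seqInd f P) :
    conjFun φ ∈ seqInd f P := by
  obtain ⟨θ, h1, h2, rfl⟩ := mem_seqInd.mp h
  rw [← ind_conjFun]
  exact ind_mem_seqInd (IsIrr.conjFun h1) (hP θ h1 h2)

theorem seqInd_map (σ : ℂ →+* ℂ) (hP : ∀ θ, IsIrrCharacter K θ → P θ → P (σ ∘ θ))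
    (h : φ ∈ seqInd f P) : σ ∘ φ ∈ seqInd f P := by
  obtain ⟨θ, h1, h2, rfl⟩ := mem_seqInd.mp h
  rw [← ind_map]
  exact ind_mem_seqInd (IsIrr.map h1 σ) (hP θ h1 h2)

theorem seqInd_conj_ne (hodd : Odd (Nat.card L)) (hP : ¬ P 1) (h : φ ∈ seqInd f P) :
    conjFun φ ≠ φ := by
  obtain ⟨θ, h1, h2, rfl⟩ := mem_seqInd.mp h
  intro e
  have := dot_ind_conjFun_of_odd f hodd h1 fun e => hP (e ▸ h2)
  rw [e, dot_self, Complex.ofReal_eq_zero, nrm_eq_zero] at this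
  exact seqInd_ne_zero h this

theorem seqInd_dot_one (hP : ¬ P 1) (h : φ ∈ seqInd f P) : ⟪φ, 1⟫ = 0 := by
  obtain ⟨θ, h1, h2, rfl⟩ := mem_seqInd.mp h
  rw [dot_ind_one]
  exact IsIrr.dot_ne h1 one_irr fun e => hP (e ▸ h2)

theorem seqInd_dot_ind_one (hP : ¬ P 1) (h : φ ∈ seqInd f P) : ⟪φ, ind f 1⟫ = 0 := by
  obtain ⟨θ, h1, h2, rfl⟩ := mem_seqInd.mp h
  refine dot_ind_of_not_mem f h1 one_irr fun hc => ?_
  obtain ⟨g, hg⟩ := (mem_cfclass f).mp hc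
  exact hP ((comp_cj_eq_one_iff f θ g).mp hg ▸ h2)

theorem mem_seqInd_ind (hP : ∀ θ g, IsIrrCharacter K θ → P θ → P (θ ∘ cj f g)) {θ : K → ℂ}
    (hθ : IsIrrCharacter K θ) : ind f θ ∈ seqInd f P ↔ P θ := by
  refine ⟨fun h => ?_, ind_mem_seqInd hθ⟩
  obtain ⟨θ', h1, h2, e⟩ := mem_seqInd.mp h
  obtain ⟨g, rfl⟩ := (mem_cfclass f).mp ((ind_eq_iff f h1 hθ).mp e.symm)
  exact hP θ' g h1 h2

open Classical in
/-- Peterfalvi (1.5)(d) -/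
theorem sum_seqInd (hP : ∀ θ g, IsIrrCharacter K θ → P θ → P (θ ∘ cj f g)) (k : K) :
    ∑ φ ∈ seqInd f P, φ 1 / nrm φ * φ (f k) =
      f.range.index * ∑ θ ∈ (irr K).filter P, θ 1 * θ k := by
  rw [← Finset.sum_fiberwise_of_maps_to (s := (irr K).filter P) (t := seqInd f P) (g := ind f)
    fun θ hθ => Finset.mem_image_of_mem _ hθ, Finset.mul_sum]
  refine Finset.sum_congr rfl fun φ hφ => ?_
  obtain ⟨θ, h1, h2, rfl⟩ := mem_seqInd.mp hφ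
  have e : ((irr K).filter P).filter (fun θ' => ind f θ' = ind f θ) = cfclass f θ := by
    ext θ'
    simp only [Finset.mem_filter, mem_irr]
    refine ⟨fun h => (ind_eq_iff f h1 h.1.1).mp h.2.symm, fun h => ⟨⟨irr_of_mem_cfclass f h1 h, ?_⟩,
      ind_eq_of_mem_cfclass f h⟩⟩
    obtain ⟨g, rfl⟩ := (mem_cfclass f).mp h
    exact hP θ g h1 h2
  have e2 := congrFun (res_ind f (IsIrr.mem_CF h1)) k
  simp only [Function.comp_apply, Pi.smul_apply, Finset.sum_apply, smul_eq_mul] at e2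
  rw [e, Finset.sum_congr rfl fun θ' h => by rw [apply_one_of_mem_cfclass f h], ← Finset.mul_sum,
    e2, nrm_ind f h1, ind_one hf.inj]
  have : (f.range.relIndex (inertia f θ) : ℂ) ≠ 0 := Nat.cast_ne_zero.mpr (CA.FG.relIndex_pos _ _).ne'
  push_cast
  field_simp

end

variable (f) in
/-- `𝒮(H - M)`: characters induced from those having `M` but not `H` in their kernel -/
noncomputable def seqIndD (H M : Subgroup L) : Finset (L → ℂ) :=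
  seqInd f fun θ => ¬ H.comap f ≤ cfker θ ∧ M.comap f ≤ cfker θ

theorem mem_seqIndD {H M : Subgroup L} {φ : L → ℂ} : φ ∈ seqIndD f H M ↔
    ∃ θ, IsIrrCharacter K θ ∧ ¬ H.comap f ≤ cfker θ ∧ M.comap f ≤ cfker θ ∧ φ = ind f θ := by
  simp only [seqIndD, mem_seqInd, and_assoc]

theorem comap_le_cfker_cj_iff {A : Subgroup L} [A.Normal] (θ : K → ℂ) (g : L) :
    A.comap f ≤ cfker (θ ∘ cj f g) ↔ A.comap f ≤ cfker θ :=
  ⟨fun h => by have := comap_le_cfker_cj f h g⁻¹; rwa [comp_cj_inv] at this,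
    fun h => comap_le_cfker_cj f h g⟩

theorem seqIndD_mono {H H' M M' : Subgroup L} (hH : H ≤ H') (hM : M' ≤ M) :
    seqIndD f H M ⊆ seqIndD f H' M' :=
  seqInd_mono fun _ _ h => ⟨fun h1 => h.1 ((Subgroup.comap_mono hH).trans h1),
    (Subgroup.comap_mono hM).trans h.2⟩

theorem seqIndD_conj {H M : Subgroup L} : ∀ φ ∈ seqIndD f H M, conjFun φ ∈ seqIndD f H M :=
  fun _ => seqInd_conj fun _ _ h => by rwa [cfker_conjFun]

theorem seqIndD_map {H M : Subgroup L} (σ : ℂ →+* ℂ) : ∀ φ ∈ seqIndD f H M, σ ∘ φ ∈ seqIndD f H M :=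
  fun _ => seqInd_map σ fun _ _ h => by rwa [cfker_map]

theorem not_seqIndD_one (H M : Subgroup L) :
    ¬ (¬ H.comap f ≤ cfker (1 : K → ℂ) ∧ M.comap f ≤ cfker (1 : K → ℂ)) :=
  fun h => h.1 fun _ _ _ => rfl

theorem seqIndD_conj_ne (hodd : Odd (Nat.card L)) {H M : Subgroup L} :
    ∀ φ ∈ seqIndD f H M, conjFun φ ≠ φ := fun _ => seqInd_conj_ne hodd (not_seqIndD_one H M)

theorem mem_seqIndD_ind {H M : Subgroup L} [H.Normal] [M.Normal] {θ : K → ℂ}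
    (hθ : IsIrrCharacter K θ) :
    ind f θ ∈ seqIndD f H M ↔ ¬ H.comap f ≤ cfker θ ∧ M.comap f ≤ cfker θ :=
  mem_seqInd_ind (fun θ g _ h => by simpa only [comap_le_cfker_cj_iff] using h) hθ

theorem mem_seqIndD_iff_cfker {H M : Subgroup L} [H.Normal] [M.Normal] (hH : H ≤ f.range)
    (hM : M ≤ f.range) {P : (K → ℂ) → Prop} {φ : L → ℂ} (h : φ ∈ seqInd f P) :
    φ ∈ seqIndD f H M ↔ ¬ H ≤ cfker φ ∧ M ≤ cfker φ := by
  obtain ⟨θ, h1, -, rfl⟩ := mem_seqInd.mp h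
  rw [mem_seqIndD_ind h1, le_cfker_ind_iff f hH h1, le_cfker_ind_iff f hM h1]

theorem seqIndD_supp {H M : Subgroup L} [H.Normal] (hH : H ≤ f.range) {φ : L → ℂ}
    (h : φ ∈ seqIndD f H M) {g : L} (hg : φ g ≠ 0) : g ∈ f.range ∧ g ∈ centSupp H := by
  obtain ⟨θ, h1, h2, -, rfl⟩ := mem_seqIndD.mp h
  exact ind_supp f hH h1 h2 hg

theorem index_comap_mul {A : Subgroup L} (hA : A ≤ f.range) :
    f.range.index * (A.comap f).index = A.index := by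
  rw [Subgroup.index_comap, mul_comm, Subgroup.relIndex_mul_index hA]

open Classical in
theorem sum_seqIndD {H M : Subgroup L} [H.Normal] [M.Normal] (hMH : M ≤ H) (hH : H ≤ f.range)
    (g : L) : ∑ φ ∈ seqIndD f H M, φ 1 / nrm φ * φ g =
      (if g ∈ M then (M.index : ℂ) else 0) - if g ∈ H then (H.index : ℂ) else 0 := by
  by_cases hg : g ∈ f.range
  swap
  · rw [if_neg fun h => hg (hH (hMH h)), if_neg fun h => hg (hH h), sub_self]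
    exact Finset.sum_eq_zero fun φ hφ => by rw [seqInd_eq_zero hφ hg, mul_zero]
  obtain ⟨k, rfl⟩ := hg
  rw [seqIndD, sum_seqInd (fun θ g _ h => by simpa only [comap_le_cfker_cj_iff] using h),
    ← index_comap_mul hH, ← index_comap_mul (hMH.trans hH)]
  have e1 := sum_deg_mul_irr_ker (H.comap f) k
  have e2 := sum_deg_mul_irr_ker (M.comap f) k
  rw [← Finset.sum_filter_add_sum_filter_not _ (fun θ => H.comap f ≤ cfker θ), Finset.filter_filter,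
    Finset.filter_filter, Finset.filter_congr (q := fun θ => H.comap f ≤ cfker θ)
      fun θ _ => ⟨fun h => h.2, fun h => ⟨(Subgroup.comap_mono hMH).trans h, h⟩⟩, e1] at e2
  simp only [Subgroup.mem_comap, and_comm (a := M.comap f ≤ _)] at e2
  have e3 := eq_sub_of_add_eq' e2
  refine (congrArg _ ((Finset.sum_congr (by congr) fun _ _ => rfl).trans e3)).trans ?_
  split_ifs <;> simp [mul_sub]

theorem sum_seqIndD_sq {H M : Subgroup L} [H.Normal] [M.Normal] (hMH : M ≤ H) (hH : H ≤ f.range) :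
    ∑ φ ∈ seqIndD f H M, (deg φ : ℝ) ^ 2 / nrm φ = M.index - H.index := by
  have := sum_seqIndD hMH hH 1
  rw [if_pos M.one_mem, if_pos H.one_mem, Finset.sum_congr rfl fun φ hφ => by
    rw [← IsChar.coe_deg (seqInd_char hφ), div_mul_eq_mul_div, ← sq]] at this
  exact_mod_cast this

theorem exists_lin_seqIndD {M : Subgroup L} (hM : M.comap f ⊔ commutator K ≠ ⊤) :
    ∃ φ ∈ seqIndD f f.range M, deg φ = f.range.index ∧
      ∃ l : K →* ℂˣ, l ≠ 1 ∧ M.comap f ≤ l.ker ∧ φ = ind f (lin l) := by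
  obtain ⟨l, h1, h2⟩ := exists_lin_ne_one_of_ne_top le_sup_right hM
  refine ⟨_, mem_seqIndD.mpr ⟨lin l, lin_irr l, fun h => h1 ?_, ?_, rfl⟩, ?_, l, h1,
    le_sup_left.trans h2, rfl⟩
  · rw [MonoidHom.comap_range_self, cfker_lin] at h
    exact MonoidHom.ext fun x => h (Subgroup.mem_top x)
  · rw [cfker_lin]; exact le_sup_left.trans h2
  · rw [deg_ind hf.inj (IsIrr.isChar (lin_irr l)), deg_lin, mul_one]

end SeqInd

namespace PrimeDade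

variable {K W₁ W₂ : Type*} [Group K] [Finite K] [Group W₁] [Finite W₁] [Group W₂] [Finite W₂]
  {L : Subgroup G} {f : K →* L} [hf : NormalInj f] {e : W₁ × W₂ →* L} {H : Subgroup L}
  {A : Set G} {R : G → Subgroup G} (h : PrimeDade L f e H A R)
include h

theorem isoOn : IsoOn (seqIndD f H ⊥) (Chr.dade A L R) :=
  have := h.normal
  Dade.isoOn h.dade (fun _ => seqInd_zirr) fun φ hφ a ha hA => by_contra fun hc =>
    hA (h.memA a (seqIndD_supp h.le2 hφ hc).1 ha (seqIndD_supp h.le2 hφ hc).2)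

theorem muS_mem {j : W₂ →* ℂˣ} (hj : j ≠ 1) : muS e j ∈ seqIndD f H ⊥ :=
  mem_seqIndD.mpr ⟨_, h.res_mu_irr 1 j, h.not_le_cfker_res 1 hj,
    by rw [MonoidHom.comap_bot, (MonoidHom.ker_eq_bot_iff f).mpr hf.inj]; exact bot_le,
    (h.ind_res_mu 1 j).symm⟩

theorem seqIndD_cases {M : Subgroup L} {φ : L → ℂ} (hφ : φ ∈ seqIndD f H M) :
    (∃ j, j ≠ 1 ∧ φ = muS e j) ∨ (IsIrrCharacter L φ ∧ ∀ i j, ⟪φ, mu e i j⟫ = 0) := by
  obtain ⟨θ, h1, h2, -, rfl⟩ := mem_seqIndD.mp hφ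
  refine (h.ind_cases h1).imp (fun ⟨j, a, b⟩ => ⟨j, ?_, b⟩) id
  rintro rfl
  rw [a, h.res_mu_one] at h2
  exact h2 fun _ _ _ => rfl

theorem ne_one_of_muS_mem {M : Subgroup L} {j : W₂ →* ℂˣ} (hj : muS e j ∈ seqIndD f H M) : j ≠ 1 := by
  rcases h.seqIndD_cases hj with ⟨k, hk, e⟩ | ⟨a, -⟩
  · exact h.muS_inj e ▸ hk
  · exact absurd a (h.muS_not_irr j)

theorem dade_vanish_V {α : L → ℂ} (hα : α ∈ CF L) (hK : ∀ g, g ∉ f.range → α g = 0) (x : W₁) (y : W₂)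
    (hx : x ≠ 1) (hy : y ≠ 1) : Chr.dade A L R α ((L.subtype.comp e) (x, y)) = 0 := by
  rw [h.dade_V hα hx hy, hK _ (mt (h.mem_range_iff x y).mp hx)]

theorem orth_eta_of_sub {α : L → ℂ} (hα : α ∈ CF L) (hK : ∀ g, g ∉ f.range → α g = 0)
    {x y : G → ℂ} (hx : Dirr x) (hy : Dirr y) (hxy : ⟪x, y⟫ = 0) {a b : ℂ} (ha : a ≠ 0) (hb : b ≠ 0)
    (e1 : Chr.dade A L R α = a • x - b • y) (i j) :
    ⟪x, eta (L.subtype.comp e) i j⟫ = 0 ∧ ⟪y, eta (L.subtype.comp e) i j⟫ = 0 := by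
  have h1 := h.famG.orth_of_NC_le_two (Dade.dade_mem_CF h.dade hα) (h.dade_vanish_V hα hK) (by
    rw [e1]
    exact (NC_sub_le _ _).trans (add_le_add ((NC_smul_le _ _).trans (h.famG.NC_dirr hx))
      ((NC_smul_le _ _).trans (h.famG.NC_dirr hy)))) i j
  rw [e1, dot_sub_left, dot_smul_left, dot_smul_left] at h1
  have hη := h.famG.dirr i j
  by_cases h2 : ⟪x, eta (L.subtype.comp e) i j⟫ = 0
  · exact ⟨h2, by simpa [h2, hb] using h1⟩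
  · have := hy.dot_eq_zero_of_dot hη hxy h2
    exact absurd (by simpa [this, ha] using h1) h2

/-- the orthonormal set attached to `μ_j` -/
noncomputable def Rmu (η : (W₁ →* ℂˣ) → (W₂ →* ℂˣ) → G → ℂ) (d : ℂ) (j : W₂ →* ℂˣ) :
    Finset (G → ℂ) :=
  Finset.univ.image (fun i => d • η i j) ∪ Finset.univ.image fun i => -(d • η i j⁻¹)

omit h in
theorem mem_Rmu {η : (W₁ →* ℂˣ) → (W₂ →* ℂˣ) → G → ℂ} {d : ℂ} {j : W₂ →* ℂˣ} {α : G → ℂ} :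
    α ∈ Rmu η d j ↔ (∃ i, α = d • η i j) ∨ ∃ i, α = -(d • η i j⁻¹) := by
  simp [Rmu, eq_comm]

/-- Peterfalvi (5.3)(b) -/
theorem subcoh {S : Finset (L → ℂ)} (hS : S ⊆ seqIndD f H ⊥) (hc : ∀ χ ∈ S, conjFun χ ∈ S)
    (hn : ∀ χ ∈ S, conjFun χ ≠ χ) : ∃ R', Subcoh S (Chr.dade A L R) R' ∧
      (∀ j, muS e j ∈ S → R' (muS e j) = Rmu (eta (L.subtype.comp e)) (del e j) j) ∧
      ∀ φ ∈ S, IsIrrCharacter L φ → ∀ α ∈ R' φ, ∀ i j, ⟪α, eta (L.subtype.comp e) i j⟫ = 0 := by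
  classical
  have hI := h.isoOn.mono hS
  have ho : ∀ χ ∈ S, ∀ φ ∈ S, χ ≠ φ → ⟪χ, φ⟫ = 0 := fun χ hχ φ hφ => seqInd_orth (hS hχ) (hS hφ)
  have hd : ∀ χ ∈ S, χ 1 = conjFun χ 1 := fun χ hχ => (IsChar.conj_deg (seqInd_char (hS hχ))).symm
  choose! x y hx hy hxy e1 using fun χ hχ (hi : IsIrrCharacter L χ) =>
    hI.exists_pair hχ (hc χ hχ) hi (IsIrr.conjFun hi) (hn χ hχ).symm (hd χ hχ)
  set η := eta (L.subtype.comp e)
  let R' : (L → ℂ) → Finset (G → ℂ) := fun φ =>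
    if hφ : ∃ j, φ = muS e j then Rmu η (del e hφ.choose) hφ.choose else {x φ, -y φ}
  have r1 : ∀ j, R' (muS e j) = Rmu η (del e j) j := fun j => by
    have : ∃ k, muS e j = muS e k := ⟨j, rfl⟩
    simp only [R', dif_pos this, ← h.muS_inj this.choose_spec]
  have r2 : ∀ φ, IsIrrCharacter L φ → R' φ = {x φ, -y φ} := fun φ hφ =>
    dif_neg fun ⟨j, hj⟩ => h.muS_not_irr j (hj ▸ hφ)
  have r3 : ∀ φ ∈ S, IsIrrCharacter L φ → ∀ α ∈ R' φ, ∀ i j, ⟪α, η i j⟫ = 0 := by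
    intro φ hφ hi α hα i j
    have := h.orth_eta_of_sub (sub_mem (IsIrr.mem_CF hi) (CF_conjFun (IsIrr.mem_CF hi)))
      (fun g hg => by rw [Pi.sub_apply, seqInd_eq_zero (hS hφ) hg, seqInd_eq_zero (hS (hc φ hφ)) hg,
        sub_self]) (IsIrr.dirr (hx φ hφ hi)) (IsIrr.dirr (hy φ hφ hi))
      (IsIrr.dot_ne (hx φ hφ hi) (hy φ hφ hi) (hxy φ hφ hi)) one_ne_zero one_ne_zero
      (by rw [e1 φ hφ hi, one_smul, one_smul]) i j
    rw [r2 φ hi] at hα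
    rcases Finset.mem_insert.mp hα with rfl | hα
    · exact this.1
    · rw [Finset.mem_singleton.mp hα, dot_neg_left, this.2, neg_zero]
  have hdη : ∀ j i k, Dirr ((del e j : ℂ) • η i k) := fun j i k => by
    rcases del_cases' e j with a | a
    · simpa [a] using h.famG.dirr i k
    · simpa [a] using (h.famG.dirr i k).neg
  refine ⟨R', ⟨hI, fun χ hχ => seqInd_char (hS hχ), hc, hn, ho, fun χ hχ => ?_, fun χ hχ => ?_,
    fun χ hχ φ hφ h1 h2 α hα β hβ => ?_⟩, fun j _ => r1 j, r3⟩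
  · rcases h.seqIndD_cases (hS hχ) with ⟨j, hj, rfl⟩ | ⟨hi, -⟩
    · have hj' := PrimeTI.inv_ne_self_of_odd h.odd2 hj
      rw [r1]
      refine ⟨fun α hα => ?_, fun α hα β hβ hne => ?_⟩
      · rcases mem_Rmu.mp hα with ⟨i, rfl⟩ | ⟨i, rfl⟩
        exacts [hdη _ _ _, (hdη _ _ _).neg]
      · rcases mem_Rmu.mp hα with ⟨i, rfl⟩ | ⟨i, rfl⟩ <;>
          rcases mem_Rmu.mp hβ with ⟨k, rfl⟩ | ⟨k, rfl⟩ <;>
          simp only [dot_neg_left, dot_neg_right, dot_smul_left, dot_smul_right, h.famG.orth, η]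
        · rw [if_neg fun a => hne (by rw [a.1])]; simp
        · simp [hj'.symm]
        · simp [hj']
        · rw [if_neg fun a => hne (by rw [a.1])]; simp
    · rw [r2 χ hi]
      exact ONS.pair (IsIrr.dirr (hx χ hχ hi)) (IsIrr.dirr (hy χ hχ hi)).neg
        (by rw [dot_neg_right, IsIrr.dot_ne (hx χ hχ hi) (hy χ hχ hi) (hxy χ hχ hi), neg_zero])
  · rcases h.seqIndD_cases (hS hχ) with ⟨j, hj, rfl⟩ | ⟨hi, -⟩
    · have hj' := PrimeTI.inv_ne_self_of_odd h.odd2 hj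
      have hinj : ∀ k, Function.Injective fun i => (del e j : ℂ) • η i k := fun k a b hab =>
        (h.famG.eq_iff.mp (smul_right_injective _ (del_ne_zero e j) hab)).1
      rw [r1, h.muS_conj, h.dade_muS_sub hj (inv_ne_one.mpr hj) (by rw [← h.muS_conj]; exact hd _ hχ),
        Rmu, Finset.sum_union, Finset.sum_image (hinj j).injOn,
        Finset.sum_image (fun a _ b _ hab => hinj j⁻¹ (neg_injective hab)), smul_sub, Finset.smul_sum,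
        Finset.smul_sum, Finset.sum_neg_distrib, sub_eq_add_neg]
      rw [Finset.disjoint_left]
      intro α h1 h2
      obtain ⟨i, -, rfl⟩ := Finset.mem_image.mp h1
      obtain ⟨k, -, e2⟩ := Finset.mem_image.mp h2
      have := congrArg (⟪·, η i j⟫) e2
      simp [dot_neg_left, dot_smul_left, h.famG.orth, η, hj'] at this
      exact del_ne_zero e j this.symm
    · rw [r2 χ hi, e1 χ hχ hi, sum_pair_neg (hx χ hχ hi) (hy χ hχ hi)]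
  · rcases h.seqIndD_cases (hS hχ) with ⟨j, hj, rfl⟩ | ⟨hi, -⟩ <;>
      rcases h.seqIndD_cases (hS hφ) with ⟨k, hk, rfl⟩ | ⟨hi', -⟩
    · rw [r1] at hα hβ
      have a1 : k ≠ j := fun a => h1 (by rw [a])
      have a2 : k ≠ j⁻¹ := fun a => h2 (by rw [a, h.muS_conj])
      have a3 : k⁻¹ ≠ j := fun a => a2 (by rw [← a, inv_inv])
      rcases mem_Rmu.mp hα with ⟨i, rfl⟩ | ⟨i, rfl⟩ <;>
        rcases mem_Rmu.mp hβ with ⟨k, rfl⟩ | ⟨k, rfl⟩ <;>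
        simp [dot_neg_left, dot_neg_right, dot_smul_left, dot_smul_right, h.famG.orth, η, a1, a2, a3]
    · rw [r1] at hβ
      rcases mem_Rmu.mp hβ with ⟨k, rfl⟩ | ⟨k, rfl⟩ <;>
        simp [dot_neg_right, dot_smul_right, r3 φ hφ hi' α hα]
    · rw [r1] at hα
      refine dot_comm_zero ?_
      rcases mem_Rmu.mp hα with ⟨k, rfl⟩ | ⟨k, rfl⟩ <;>
        simp [dot_neg_right, dot_smul_right, r3 χ hχ hi β hβ]
    · rw [r2 _ hi'] at hα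
      rw [r2 _ hi] at hβ
      exact hI.pair_orth (sub_mem (mem_CS hφ) (mem_CS (hc _ hφ)))
        (sub_mem (mem_CS hχ) (mem_CS (hc _ hχ))) (sub_eq_zero.mpr (hd φ hφ))
        (sub_eq_zero.mpr (hd χ hχ)) (dot_sub_conj_eq_zero hc ho hχ hφ h1 h2) (hx _ hφ hi')
        (hy _ hφ hi') (hxy _ hφ hi') (hx _ hχ hi) (hy _ hχ hi) (hxy _ hχ hi) (e1 _ hφ hi')
        (e1 _ hχ hi) α hα β hβ

theorem coh_orth_eta {S : Finset (L → ℂ)} (hS : S ⊆ seqIndD f H ⊥) (hc : ∀ χ ∈ S, conjFun χ ∈ S)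
    (hn : ∀ χ ∈ S, conjFun χ ≠ χ) {ν : (L → ℂ) →ₗ[ℂ] (G → ℂ)} (hν : CohWith S (Chr.dade A L R) ν)
    {ζ : L → ℂ} (hζ : ζ ∈ S) (hi : IsIrrCharacter L ζ) (i j) :
    ⟪ν ζ, eta (L.subtype.comp e) i j⟫ = 0 := by
  obtain ⟨R', h1, -, h3⟩ := h.subcoh hS hc hn
  obtain ⟨E, hE, e1⟩ := h1.coh_sum hν hζ hζ (hc ζ hζ)
  rw [e1, dot_sum_left]
  exact Finset.sum_eq_zero fun α hα => h3 ζ hζ hi α (hE hα) i j

/-- Peterfalvi (5.8) -/
theorem coh_muS {S : Finset (L → ℂ)} (hS : S ⊆ seqIndD f H ⊥) (hc : ∀ χ ∈ S, conjFun χ ∈ S)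
    (hn : ∀ χ ∈ S, conjFun χ ≠ χ) {ν : (L → ℂ) →ₗ[ℂ] (G → ℂ)} (hν : CohWith S (Chr.dade A L R) ν)
    {ζ : L → ℂ} (hζ : ζ ∈ S) (hi : IsIrrCharacter L ζ) {k} (hk : muS e k ∈ S) :
    ν (muS e k) = (del e k : ℂ) • ∑ i, eta (L.subtype.comp e) i k ∨
      (ν (muS e k) = -((del e k : ℂ) • ∑ i, eta (L.subtype.comp e) i k⁻¹) ∧
        ∀ l, muS e l ∈ S → muS e l 1 = muS e k 1 → l = k ∨ l = k⁻¹) := by
  classical
  obtain ⟨R', h1, h2, -⟩ := h.subcoh hS hc hn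
  obtain ⟨E, hE, e1⟩ := h1.coh_sum hν hk hk (hc _ hk)
  have hO := h1.ons _ hk
  rw [h2 k hk] at hE hO
  set η := eta (L.subtype.comp e) with hη
  have hk1 := h.ne_one_of_muS_mem (hS hk)
  have hk' := PrimeTI.inv_ne_self_of_odd h.odd2 hk1
  have hm : ζ 1 • muS e k - muS e k 1 • ζ ∈ CS S :=
    sub_mem (CS_smul _ (mem_CS hk)) (CS_smul _ (mem_CS hζ))
  have hcf : ζ 1 • muS e k - muS e k 1 • ζ ∈ CF L := CS_le_CF (fun φ hφ => seqInd_CF (hS hφ)) hm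
  have hx := h.famG.exchange (Dade.dade_mem_CF h.dade hcf) (h.dade_vanish_V hcf fun g hg =>
    CS_apply_eq_zero (fun φ hφ => seqInd_eq_zero (hS hφ) hg) hm)
  rw [← hν.agree _ hm (by simp [mul_comm])] at hx
  simp only [map_sub, map_smul, dot_sub_left, dot_smul_left, h.coh_orth_eta hS hc hn hν hζ hi,
    mul_zero, sub_zero, ← mul_add, mul_right_inj' (IsIrr.deg_ne_zero hi)] at hx
  have h0 : ∀ i, ⟪ν (muS e k), η i 1⟫ = 0 := fun i => by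
    rw [e1, dot_sum_left]
    refine Finset.sum_eq_zero fun α hα => ?_
    rcases mem_Rmu.mp (hE hα) with ⟨i, rfl⟩ | ⟨i, rfl⟩ <;>
      simp [dot_neg_left, dot_smul_left, h.famG.orth, hη, hk1]
  have h3 : ∀ i j, ⟪ν (muS e k), η i j⟫ = ⟪ν (muS e k), η 1 j⟫ := fun i j => by
    simpa [← hη, h0] using hx i 1 j 1
  have key : ∀ (c : ℂ) (j), (c = 1 ∨ c = -1) → (∀ i, c • η i j ∈ Rmu η (del e k) k) →
      ∀ i, c • η i j ∈ E → ν (muS e k) = c • ∑ i, η i j := by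
    intro c j hc hR i hi
    have h4 : ∀ i, ⟪ν (muS e k), c • η i j⟫ = 1 := fun l => by
      rw [dot_smul_right, h3, ← h3 i, ← dot_smul_right, e1, hO.dot_sum hE (hR i), if_pos hi]
    have h5 : ⟪ν (muS e k), c • ∑ i, η i j⟫ = Nat.card W₁ := by
      rw [Finset.smul_sum, dot_sum_right]; simp [h4, h.famG.card_lin1]
    have h6 : nrm (c • ∑ i, η i j) = Nat.card W₁ := by
      rw [nrm_smul, nrm_sum_of_orth _ _ fun a _ b _ hab => by simp [hη, h.famG.orth, hab]]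
      rcases hc with rfl | rfl <;> simp [hη, (h.famG.dirr _ _).nrm, h.famG.card_lin1]
    refine sub_eq_zero.mp (nrm_eq_zero.mp ?_)
    rw [nrm_sub, h5, h6, hν.nrm (mem_CS hk), h.nrm_muS]
    simp; ring
  obtain ⟨α, hα⟩ : E.Nonempty := by
    rw [Finset.nonempty_iff_ne_empty]
    rintro rfl
    have := hν.nrm (mem_CS hk)
    rw [e1, h.nrm_muS] at this
    simp [eq_comm (a := (0 : ℝ)), Nat.card_pos.ne'] at this
  rcases mem_Rmu.mp (hE hα) with ⟨i, rfl⟩ | ⟨i, rfl⟩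
  · exact Or.inl (key _ k (del_cases' e k) (fun i => mem_Rmu.mpr (Or.inl ⟨i, rfl⟩)) i hα)
  have e2 := key (-(del e k : ℂ)) k⁻¹ (by rcases del_cases' e k with a | a <;> simp [a])
    (fun i => mem_Rmu.mpr (Or.inr ⟨i, neg_smul _ _⟩)) i (by rwa [neg_smul])
  rw [neg_smul] at e2
  refine Or.inr ⟨e2, fun l hl hd => by_contra fun hne => ?_⟩
  push Not at hne
  have e3 := h.dade_muS_sub hk1 (h.ne_one_of_muS_mem (hS hl)) hd.symm
  rw [hν.agree_sub hk hl hd.symm, e2] at e3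
  have e4 := hν.iso _ hl _ hk
  rw [h.dot_muS, if_neg hne.1, show ν (muS e l) = -((del e k : ℂ) • ∑ i, η i k⁻¹) -
    (del e k : ℂ) • (∑ i, η i k - ∑ i, η i l) by rw [← e3]; abel, e2] at e4
  simp [dot_sub_left, dot_neg_left, dot_neg_right, dot_smul_left, dot_smul_right, dot_sum_left,
    dot_sum_right, hη, h.famG.orth, hk'.symm, hne.2, del_ne_zero', ite_and] at e4

end PrimeDade

theorem realizeEqns_PF_S05b : True := by
  have := @CA.Chr.seqIndD.eq_1.{0,0}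
  have := @CA.Chr.seqIndD.eq_def.{0,0}
  have := @CA.Chr.seqIndD.congr_simp.{0,0}
  have := @CA.Chr.PrimeDade.Rmu.eq_1.{0,0,0}
  have := @CA.Chr.PrimeDade.Rmu.eq_def.{0,0,0}
  have := @CA.Chr.PrimeDade.Rmu.congr_simp.{0,0,0}
  have := @CA.Chr.seqInd.eq_1.{0,0}
  have := @CA.Chr.seqInd.eq_def.{0,0}
  have := @CA.Chr.seqInd.congr_simp.{0,0}
  trivial

end CA.Chr
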