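import Cfsg.Agent.PF.I07
import Cfsg.Agent.BG.I16

/-!
# Peterfalvi, section 8: the character-theoretic set-up for a maximal subgroup

For `hP : IsTypePWith M W₁ U W₂`:  `wM hP : W₁ × W₂ →* M` is the multiplication map, `etaP hP i j` is
`η_{ij}` (`cyclicTIiso` of `ω_{ij} = om i j`), `muP hP i j = μ_{ij}`, `muS (wM hP) j = μ_j`,
`del (wM hP) j = δ_j`; the indices are linear characters `i : W₁ →* ℂˣ`, `j : W₂ →* ℂˣ` (index `0` is `1`).
`tau0 M` is the Dade isometry of `A₀(M)`, used for *all* coherence statements.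
-/

set_option autoImplicit false
set_option linter.unusedSectionVars false

open scoped ComplexConjugate

open Cfsg CA.FG CA.BG CA.Chr

namespace CA.PF

universe u

variable {G : Type u} [Group G]

section General

variable [Finite G] {M W₁ U W₂ : Subgroup G}

theorem der_le (M : Subgroup G) : ⁅M, M⁆ ≤ M := (der_normalIn M).1

/-- the inclusion `M' → M` -/
abbrev iD (M : Subgroup G) : ↥⁅M, M⁆ →* M := Subgroup.inclusion (der_normalIn M).1

instance instNormalInjD (M : Subgroup G) : NormalInj (iD M) := nInj (der_normalIn M)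

instance instNormalInjF (M : Subgroup G) : NormalInj (Subgroup.inclusion (Fcore_normal M).1) :=
  nInj (Fcore_normal M)

instance instNormalInjFit (M : Subgroup G) : NormalInj (Subgroup.inclusion (fitting_normal M).1) :=
  nInj (fitting_normal M)

/-- `seqIndD M' M H N` -/
noncomputable abbrev SP (M H N : Subgroup G) : Finset (M → ℂ) := SD (der_normalIn M).1 H N

/-- `seqIndD M_F M M_F 1` -/
noncomputable abbrev SF (M : Subgroup G) : Finset (M → ℂ) := SD (Fcore_normal M).1 (fittingHallOf M) ⊥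

/-- the Dade isometry of `A₀(M)` -/
noncomputable abbrev tau0 (M : Subgroup G) : (M → ℂ) →ₗ[ℂ] (G → ℂ) := dade (FTsupp0 M) M (FTsig M)

theorem FTDadeSupp_eq (M : Subgroup G) (A : Set G) : FTDadeSupp M A = dsupp A (FTsig M) := by
  ext g
  exact ⟨fun ⟨a, ha, r, hr, y, e⟩ => ⟨a, ha, r, hr, y⁻¹, by rw [e]; group⟩,
    fun ⟨a, ha, r, hr, y, e⟩ => ⟨a, ha, r, hr, y⁻¹, by rw [← e]; group⟩⟩

theorem typeP_W1_le (hP : IsTypePWith M W₁ U W₂) : W₁ ≤ M := (typeP_sdprod_M hP).right_le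

theorem typeP_W2_le_F (hP : IsTypePWith M W₁ U W₂) : W₂ ≤ fittingHallOf M := hP.W₂_le.trans inf_le_left

theorem typeP_F_le_der (hP : IsTypePWith M W₁ U W₂) : fittingHallOf M ≤ ⁅M, M⁆ :=
  (typeP_sdprod_der hP).left_le

theorem typeP_U_le_der (hP : IsTypePWith M W₁ U W₂) : U ≤ ⁅M, M⁆ := (typeP_sdprod_der hP).right_le

theorem typeP_W2_le_der (hP : IsTypePWith M W₁ U W₂) : W₂ ≤ ⁅M, M⁆ :=
  (typeP_W2_le_F hP).trans (typeP_F_le_der hP)

theorem typeP_W2_le (hP : IsTypePWith M W₁ U W₂) : W₂ ≤ M := (typeP_W2_le_der hP).trans (der_le M)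

theorem typeP_relIndex_der (hP : IsTypePWith M W₁ U W₂) : ⁅M, M⁆.relIndex M = Nat.card W₁ :=
  hP.W₁_compl.relIndex_left

/-- the multiplication map `W₁ × W₂ → M` -/
def wM (hP : IsTypePWith M W₁ U W₂) : W₁ × W₂ →* M :=
  (mulHom hP.selfNormalizing.2.2.2.1).codRestrict M fun w =>
    mul_mem (typeP_W1_le hP w.1.2) (typeP_W2_le hP w.2.2)

/-- the multiplication map `W₁ × W₂ → G` -/
abbrev wG (hP : IsTypePWith M W₁ U W₂) : W₁ × W₂ →* G := M.subtype.comp (wM hP)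

@[simp] theorem coe_wM (hP : IsTypePWith M W₁ U W₂) (x : W₁) (y : W₂) :
    (wM hP (x, y) : G) = x * y := rfl

theorem wG_apply (hP : IsTypePWith M W₁ U W₂) (x : W₁) (y : W₂) : wG hP (x, y) = x * y := rfl

theorem wG_eq (hP : IsTypePWith M W₁ U W₂) : wG hP = mulHom hP.selfNormalizing.2.2.2.1 := rfl

theorem wG_range (hP : IsTypePWith M W₁ U W₂) : (wG hP).range = W₁ ⊔ W₂ :=
  mulHom_range hP.selfNormalizing.2.2.2.1

/-- `η_{ij}` -/
noncomputable abbrev etaP (hP : IsTypePWith M W₁ U W₂) : (W₁ →* ℂˣ) → (W₂ →* ℂˣ) → G → ℂ :=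
  eta (wG hP)

/-- `μ_{ij}` -/
noncomputable abbrev muP (hP : IsTypePWith M W₁ U W₂) : (W₁ →* ℂˣ) → (W₂ →* ℂˣ) → M → ℂ :=
  mu (wM hP)

/-- `η` only depends on `W₁`, `W₂` -/
theorem etaP_congr {M' U' : Subgroup G} (hP : IsTypePWith M W₁ U W₂) (hP' : IsTypePWith M' W₁ U' W₂) :
    etaP hP' = etaP hP := rfl

theorem exists_of_mem_zHat (hP : IsTypePWith M W₁ U W₂) {v : G} :
    v ∈ zHat W₁ W₂ ↔ ∃ (x : W₁) (y : W₂), x ≠ 1 ∧ y ≠ 1 ∧ v = wG hP (x, y) := by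
  have hd := hP.selfNormalizing.2.2.1
  constructor
  · rintro ⟨h1, h2⟩
    obtain ⟨⟨x, y⟩, rfl⟩ : v ∈ (wG hP).range := by rwa [wG_range]
    exact ⟨x, y, (mul_not_mem_iff hd x y).2.mp fun h => h2 (Or.inr h),
      (mul_not_mem_iff hd x y).1.mp fun h => h2 (Or.inl h), rfl⟩
  · rintro ⟨x, y, hx, hy, rfl⟩
    exact ⟨Subgroup.mul_mem_sup x.2 y.2, not_or.mpr
      ⟨(mul_not_mem_iff hd x y).1.mpr hy, (mul_not_mem_iff hd x y).2.mpr hx⟩⟩

end General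

variable [MinSimpleOdd G] {M W₁ U W₂ : Subgroup G}

/-- `FT_primeTI_hyp` -/
theorem FT_primeTI (hP : IsTypePWith M W₁ U W₂) : PrimeTI (iD M) (wM hP) where
  toOddCop := snc_oddCop hP.selfNormalizing (mFT_odd _)
  inj := Function.Injective.of_comp (f := M.subtype) 
    (mulHom_inj hP.selfNormalizing.2.2.2.1 hP.selfNormalizing.2.2.1)
  cyc1 := hP.W₁_cyclic
  cyc2 := typeP_W2_cyclic hP
  disj x hx := by
    rw [mem_range_incl] at hx
    exact Subtype.ext (Subgroup.mem_bot.mp ((typeP_sdprod_M hP).inf_eq ▸ ⟨by simpa using hx, x.2⟩))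
  gen l := by
    obtain ⟨k, hk, x, hx, e⟩ := (mem_sup_of_right_le_norm (typeP_sdprod_M hP).norm).mp
      ((typeP_sdprod_M hP).sup_eq.ge l.2)
    exact ⟨⟨k, hk⟩, ⟨x, hx⟩, Subtype.ext (by simpa using e.symm)⟩
  hall := by
    have := (typeP_der_Hall hP).2
    rw [typeP_relIndex_der hP] at this
    exact this.symm
  mem2 y := (mem_range_incl _).mpr (by simpa using typeP_W2_le_der hP y.2)
  cent x hx k hk := by
    have : (k : G) ∈ W₂ := hP.W₂_centralizer x x.2 (fun h => hx (Subtype.ext h)) ▸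
      ⟨k.2, Subgroup.mem_centralizer_singleton_iff.mpr (by simpa using congrArg Subtype.val hk)⟩
    exact ⟨⟨k, this⟩, Subtype.ext (by simp)⟩

/-- `FT_cyclicTI_hyp` -/
theorem FT_fam (hP : IsTypePWith M W₁ U W₂) : TIFam (wG hP) (etaP hP) :=
  (snc_TIHyp hP.selfNormalizing).fam (snc_oddCop hP.selfNormalizing (mFT_odd _))

/-- the two members of a type `P` pair have the same `η` -/
theorem etaP_swap {T V : Subgroup G} (hP : IsTypePWith M W₁ U W₂) (hT : IsTypePWith T W₂ V W₁) (i j) :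
    etaP hT j i = etaP hP i j := by
  have : wG hT = swapHom (wG hP) := by
    refine MonoidHom.ext fun ⟨y, x⟩ => ?_
    exact (hP.selfNormalizing.2.2.2.1 x x.2 y y.2).symm
  rw [etaP, this]
  exact (FT_fam hP).eta_swap i j

theorem Fcore_le_FTcore (maxM : IsCoatom M) : fittingHallOf M ≤ sigmaCore M := fun x hx => by
  by_cases h : x = 1
  · exact h ▸ one_mem _
  · exact (Fcore_sub_FTsupp1 maxM ⟨hx, h⟩).1

theorem FTcore_normal (M : Subgroup G) : sigmaCore M ⊲ M := pcore_normal _ M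

theorem FT_prDade_gen (maxM : IsCoatom M) (hP : IsTypePWith M W₁ U W₂) {H : Subgroup G}
    (nH : M ≤ 𝒩(H)) (h1 : W₂ ≤ H) (h2 : H ≤ sigmaCore M) :
    PrimeDade M (iD M) (wM hP) (H.subgroupOf M) (FTsupp0 M) (FTsig M) where
  toPrimeTI := FT_primeTI hP
  ti := snc_TIHyp hP.selfNormalizing
  normal := normalSub nH
  le1 y := Subgroup.mem_subgroupOf.mpr (by simpa using h1 y.2)
  le2 := subOf_le_range _ (h2.trans (FTcore_sub_der1 maxM))
  dade := FT_Dade0_hyp maxM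
  memA k hk h1 := by
    rintro ⟨x, hx, hx1, e⟩
    refine FTsupp_sub0 M ⟨?_, fun e => h1 (Subtype.ext e), x, h2 hx, fun e => hx1 (Subtype.ext e),
      Subgroup.mem_centralizer_singleton_iff.mpr (congrArg Subtype.val e).symm⟩
    rw [FTder_typeP (FTtypeP_neq1 maxM hP)]
    exact (mem_range_incl _).mp hk
  memV x y hx hy := by
    rw [FTtypeP_supp0_def maxM hP]
    exact Or.inr ⟨_, (exists_of_mem_zHat hP).mpr ⟨x, y, hx, hy, rfl⟩, 1, one_mem _, by simp⟩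

/-- `FT_prDade_hyp` -/
theorem FT_prDade (maxM : IsCoatom M) (hP : IsTypePWith M W₁ U W₂) :
    PrimeDade M (iD M) (wM hP) ((sigmaCore M).subgroupOf M) (FTsupp0 M) (FTsig M) :=
  FT_prDade_gen maxM hP (FTcore_normal M).2 ((typeP_W2_le_F hP).trans (Fcore_le_FTcore maxM)) le_rfl

/-- `FT_prDade_hypF` -/
theorem FT_prDadeF (maxM : IsCoatom M) (hP : IsTypePWith M W₁ U W₂) :
    PrimeDade M (iD M) (wM hP) ((fittingHallOf M).subgroupOf M) (FTsupp0 M) (FTsig M) :=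
  FT_prDade_gen maxM hP (Fcore_norm M) (typeP_W2_le_F hP) (Fcore_le_FTcore maxM)

theorem FT_DadeInd_core (maxM : IsCoatom M) : DadeInd M (sigmaCore M) (FTsupp0 M) (FTsig M) :=
  ⟨FTcore_normal M, FT_Dade0_hyp maxM, FTsupp1_sub0 maxM⟩

theorem FT_DadeInd_F (maxM : IsCoatom M) : DadeInd M (fittingHallOf M) (FTsupp0 M) (FTsig M) :=
  ⟨Fcore_normal M, FT_Dade0_hyp maxM, (Fcore_sub_FTsupp1 maxM).trans (FTsupp1_sub0 maxM)⟩

theorem FT_DadeInd_Fit (maxM : IsCoatom M) : DadeInd M (fittingOf M) (FTsupp0 M) (FTsig M) :=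
  ⟨fitting_normal M, FT_Dade0_hyp maxM, (Fitting_sub_FTsupp maxM).trans (FTsupp_sub0 M)⟩

theorem FT_DadeInd_der (maxM : IsCoatom M) (h : 2 < FTtype M) :
    DadeInd M ⁅M, M⁆ (FTsupp0 M) (FTsig M) :=
  ⟨der_normalIn M, FT_Dade0_hyp maxM, FTcore_type_gt2 maxM h ▸ FTsupp1_sub0 maxM⟩

/-- the image of a function supported by an `M`-invariant `A ⊆ A₀(M)` is supported by `A~(M, A)` -/
theorem tau0_eq_zero (maxM : IsCoatom M) {A : Set G} {α : M → ℂ} (hα : α ∈ CF M)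
    (hA : ∀ a : M, (a : G) ∉ A → α a = 0) {g : G} (hg : g ∉ FTDadeSupp M A) : tau0 M α g = 0 :=
  Dade.dade_eq_zero_of_supp (FT_Dade0_hyp maxM) hα hA (FTDadeSupp_eq M A ▸ hg)

/-- `FTtypeP_subcoherent` with `FTtypeP_base_TIred`, `FTtypeP_base_ortho`; restrict to a conjugation-closed
subset with `Subcoh.mono`. -/
theorem FTtypeP_subcoh (maxM : IsCoatom M) (hP : IsTypePWith M W₁ U W₂) :
    ∃ R, Subcoh (SP M (sigmaCore M) ⊥) (tau0 M) R ∧
      (∀ j, j ≠ 1 → R (muS (wM hP) j) = PrimeDade.Rmu (etaP hP) (del (wM hP) j) j) ∧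
      ∀ φ ∈ SP M (sigmaCore M) ⊥, IsIrrCharacter M φ → ∀ α ∈ R φ, ∀ i j, ⟪α, etaP hP i j⟫ = 0 := by
  have h := FT_prDade maxM hP
  have e : SP M (sigmaCore M) ⊥ = seqIndD (iD M) ((sigmaCore M).subgroupOf M) ⊥ := by
    rw [SP, SD, Subgroup.bot_subgroupOf]
  obtain ⟨R, h1, h2, h3⟩ := h.subcoh e.subset (SD_conj (der_normalIn M))
    (SD_conj_ne (der_normalIn M) (mFT_odd M))
  exact ⟨R, h1, fun j hj => h2 j (e ▸ h.muS_mem hj), h3⟩

theorem SP_sub_core (maxM : IsCoatom M) {H N : Subgroup G} (hH : H ≤ sigmaCore M) :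
    SP M H N ⊆ seqIndD (iD M) ((sigmaCore M).subgroupOf M) ⊥ :=
  (SD_mono hH bot_le).trans (by rw [SD, Subgroup.bot_subgroupOf])

theorem muS_mem_SP (maxM : IsCoatom M) (hP : IsTypePWith M W₁ U W₂) {j : W₂ →* ℂˣ} (hj : j ≠ 1) :
    muS (wM hP) j ∈ SP M (fittingHallOf M) ⊥ := by
  rw [SP, SD, Subgroup.bot_subgroupOf]; exact (FT_prDadeF maxM hP).muS_mem hj

theorem SP_cases (maxM : IsCoatom M) (hP : IsTypePWith M W₁ U W₂) {H N : Subgroup G} {φ : M → ℂ}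
    (hφ : φ ∈ SP M H N) : (∃ j, j ≠ 1 ∧ φ = muS (wM hP) j) ∨
      (IsIrrCharacter M φ ∧ ∀ i j, ⟪φ, muP hP i j⟫ = 0) := by
  obtain ⟨θ, h1, h2, -, rfl⟩ := mem_SD.mp hφ
  refine ((FT_primeTI hP).ind_cases h1).imp (fun ⟨j, a, b⟩ => ⟨j, ?_, b⟩) id
  rintro rfl
  rw [a, (FT_primeTI hP).res_mu_one] at h2
  exact h2 fun _ _ _ => rfl

/-- `coherent_ortho_cycTIiso` -/
theorem coherent_ortho_cycTIiso (maxM : IsCoatom M) (hP : IsTypePWith M W₁ U W₂) {S : Finset (M → ℂ)}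
    (hS : S ⊆ SP M (sigmaCore M) ⊥) (hc : ∀ χ ∈ S, conjFun χ ∈ S) {ν : (M → ℂ) →ₗ[ℂ] (G → ℂ)}
    (hν : CohWith S (tau0 M) ν) {ζ : M → ℂ} (hζ : ζ ∈ S) (hi : IsIrrCharacter M ζ) (i j) :
    ⟪ν ζ, etaP hP i j⟫ = 0 :=
  (FT_prDade maxM hP).coh_orth_eta (hS.trans (SP_sub_core maxM le_rfl)) hc
    (fun χ hχ => SD_conj_ne (der_normalIn M) (mFT_odd M) χ (hS hχ)) hν hζ hi i j

/-- Peterfalvi (5.8) for a maximal subgroup of type `P` -/
theorem coherent_TIred (maxM : IsCoatom M) (hP : IsTypePWith M W₁ U W₂) {S : Finset (M → ℂ)}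
    (hS : S ⊆ SP M (sigmaCore M) ⊥) (hc : ∀ χ ∈ S, conjFun χ ∈ S) {ν : (M → ℂ) →ₗ[ℂ] (G → ℂ)}
    (hν : CohWith S (tau0 M) ν) {ζ : M → ℂ} (hζ : ζ ∈ S) (hi : IsIrrCharacter M ζ) {k}
    (hk : muS (wM hP) k ∈ S) :
    ν (muS (wM hP) k) = (del (wM hP) k : ℂ) • ∑ i, etaP hP i k ∨
      (ν (muS (wM hP) k) = -((del (wM hP) k : ℂ) • ∑ i, etaP hP i k⁻¹) ∧
        ∀ l, muS (wM hP) l ∈ S → muS (wM hP) l 1 = muS (wM hP) k 1 → l = k ∨ l = k⁻¹) :=
  (FT_prDade maxM hP).coh_muS (hS.trans (SP_sub_core maxM le_rfl)) hc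
    (fun χ hχ => SD_conj_ne (der_normalIn M) (mFT_odd M) χ (hS hχ)) hν hζ hi hk

/-- `FTtypeP_ref_irr` -/
theorem FTtypeP_ref_irr (maxM : IsCoatom M) (hP : IsTypePWith M W₁ U W₂) :
    ∃ ζ ∈ SP M ⁅M, M⁆ ⁅⁅M, M⁆, ⁅M, M⁆⁆, IsIrrCharacter M ζ ∧ ζ 1 = Nat.card W₁ := by
  have h := FT_primeTI hP
  have sol : Group.IsSolvable ↥⁅M, M⁆ := mFT_sol (sub_mmax_proper maxM (der_le M))
  have nt : ⁅M, M⁆ ≠ ⊥ := ne_bot_mono (typeP_W2_le_der hP) (typeP_W2_ne_bot hP)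
  obtain ⟨ζ, h1, h2, l, h3, h4, rfl⟩ := exists_lin_SD_of_sol (der_normalIn M) sol
    (N := ⁅⁅M, M⁆, ⁅M, M⁆⁆) (der_lt_of_sol sol nt) (der_normalIn _).2
  refine ⟨_, h1, ?_, by rw [indA_one, typeP_relIndex_der hP]; simp⟩
  rcases h.ind_cases (lin_irr l) with ⟨j, e, -⟩ | h5
  · refine absurd (lin_injective ?_) h3
    have : j = 1 := MonoidHom.ext fun y => h.eq_one_of_mem_cfker (i := 1) <| by
      have hy : (⟨y, typeP_W2_le_der hP y.2⟩ : ↥⁅M, M⁆) ∈ cfker (lin l) := by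
        rw [cfker_lin]; exact h4 (hP.W₂_le y.2).2
      rw [e, IsChar.cfker_comp (h.mu_char _ _)] at hy
      have e2 : wM hP (1, y) = iD M ⟨y, typeP_W2_le_der hP y.2⟩ := Subtype.ext (one_mul _)
      rw [e2]; exact hy
    rw [e, this, h.res_mu_one]; rfl
  · exact h5.1

theorem realizeEqns_PF_S08 : True := by
  have := @CA.PF.SF.eq_1.{0}
  have := @CA.PF.SF.eq_def.{0}
  have := @CA.PF.SF.congr_simp.{0}
  have := @CA.PF.SP.eq_1.{0}
  have := @CA.PF.SP.eq_def.{0}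
  have := @CA.PF.SP.congr_simp.{0}
  have := @CA.PF.iD.eq_1.{0}
  have := @CA.PF.iD.eq_def.{0}
  have := @CA.PF.iD.congr_simp.{0}
  have := @CA.PF.wG.eq_1.{0}
  have := @CA.PF.wG.eq_def.{0}
  have := @CA.PF.wG.congr_simp.{0}
  have := @CA.PF.wM.eq_1.{0}
  have := @CA.PF.wM.eq_def.{0}
  have := @CA.PF.wM.congr_simp.{0}
  have := @CA.PF.tau0.eq_1.{0}
  have := @CA.PF.tau0.eq_def.{0}
  have := @CA.PF.tau0.congr_simp.{0}
  have := @CA.PF.etaP.eq_1.{0}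
  have := @CA.PF.etaP.eq_def.{0}
  have := @CA.PF.etaP.congr_simp.{0}
  have := @CA.PF.muP.eq_1.{0}
  have := @CA.PF.muP.eq_def.{0}
  have := @CA.PF.muP.congr_simp.{0}
  trivial

end CA.PF
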